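import Groth.Agent.PropsBasic.FPSections
import Groth.Agent.Misc15.RankLe

/-!
# Finite locally free modules through sections on affine opens
-/

universe u

open CategoryTheory Limits AlgebraicGeometry Opposite TopologicalSpace

namespace Groth.PropsBasic.LocFree

open Groth.QCohMod Groth.PropsBasic.FPSections

variable {X : Scheme.{u}}

set_option backward.isDefEq.respectTransparency false in
/-- The free module on `Spec R` is associated to the free module. -/
noncomputable def freeTildeIso (R : CommRingCat.{u}) (n : ℕ) :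
    FlatMod.freeMod (Spec R) n ≅ tilde (ModuleCat.of R (ULift.{u} (Fin n) →₀ R)) :=
  Sigma.whiskerEquiv (f := fun _ : Fin n => Coh.structureModule (Spec R))
      (g := fun _ : ULift.{u} (Fin n) => Coh.structureModule (Spec R))
      Equiv.ulift.symm (fun _ => Iso.refl _) ≪≫ (tildeFinsupp (ULift.{u} (Fin n))).symm

/-- The restriction of `M` to an affine open `D` from that to `Spec Γ(X, D)`. -/
noncomputable def restrictIsoOfFromSpec (M : X.Modules) {D : X.Opens} (hD : IsAffineOpen D) :
    M.restrict D.ι ≅ (M.restrict hD.fromSpec).restrict hD.isoSpec.hom :=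
  (Scheme.Modules.restrictFunctorCongr hD.isoSpec_hom_fromSpec).symm.app M ≪≫
    (Scheme.Modules.restrictFunctorComp hD.isoSpec.hom hD.fromSpec).app M

/-- On an affine open where `M` is free, `M` comes from a free module. -/
theorem exists_free_iso_of_le (M : X.Modules) {U : X.Opens} {n : ℕ}
    (e : M.restrict U.ι ≅ FlatMod.freeMod (↑U) n) {D : X.Opens} (hD : IsAffineOpen D)
    (hDU : D ≤ U) : Nonempty (M.restrict hD.fromSpec ≅
      tilde (ModuleCat.of Γ(X, D) (ULift.{u} (Fin n) →₀ Γ(X, D)))) := by
  obtain ⟨a⟩ := Misc15.nonempty_restrict_free hDU e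
  exact ⟨(Scheme.Modules.restrictFunctorCongr hD.isoSpec_inv_ι).symm.app M ≪≫
    (Scheme.Modules.restrictFunctorComp hD.isoSpec.inv D.ι).app M ≪≫
    (Scheme.Modules.restrictFunctor hD.isoSpec.inv).mapIso a ≪≫
    Misc15.restrictFreeIso hD.isoSpec.inv n ≪≫ freeTildeIso Γ(X, D) n⟩

set_option backward.isDefEq.respectTransparency false in
/-- A finite locally free module has local presentations with finitely many generators and
relations. -/
theorem exists_presentation (M : X.Modules) (hM : FlatMod.IsFinLocFree M) (x : X) :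
    ∃ (V : X.Opens) (_ : x ∈ V) (P : (M.restrict V.ι).Presentation), P.IsFinite := by
  obtain ⟨U, n, hxU, ⟨e⟩⟩ := hM x
  obtain ⟨D, hD, hxD, hDU⟩ := TopologicalSpace.Opens.isBasis_iff_nbhd.mp X.isBasis_affineOpens hxU
  obtain ⟨c⟩ := exists_free_iso_of_le M e hD hDU
  let F := ModuleCat.of Γ(X, D) (ULift.{u} (Fin n) →₀ Γ(X, D))
  haveI : Module.FinitePresentation Γ(X, D) F := Module.finitePresentation_of_projective _ _
  obtain ⟨s, hs, hk⟩ := Module.FinitePresentation.out (R := Γ(X, D)) (M := F)
  obtain ⟨t, ht⟩ := hk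
  let P := presentationTilde (R := Γ(X, D)) (M := F) (s : Set F) hs
    (t : Set ((s : Set F) →₀ Γ(X, D))) ht
  let i : (tilde F).restrict hD.isoSpec.hom ≅ M.restrict (Scheme.Opens.ι D) :=
    (Scheme.Modules.restrictFunctor hD.isoSpec.hom).mapIso c.symm ≪≫
      (restrictIsoOfFromSpec M hD).symm
  haveI : IsIso (C := SheafOfModules.{u} _) i.hom := inferInstanceAs (IsIso i.hom)
  refine ⟨D, hxD, SheafOfModules.Presentation.ofIsIso.{u, u, u} i.hom
    (Scheme.Modules.presentationRestrict hD.isoSpec.hom P), ?_⟩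
  exact ⟨⟨(inferInstance : Finite (s : Set F))⟩,
    ⟨(inferInstance : Finite (t : Set ((s : Set F) →₀ Γ(X, D))))⟩⟩

/-- Finite locally free modules are quasi-coherent. -/
theorem isQuasicoherent_of_isFinLocFree (M : X.Modules) (hM : FlatMod.IsFinLocFree M) :
    M.IsQuasicoherent := by
  choose V hV P _ using exists_presentation M hM
  exact isQCoh_of_cover M V (fun x => ⟨x, hV x⟩) P

/-- Finite locally free modules are of finite presentation. -/
theorem isFP_of_isFinLocFree (M : X.Modules) (hM : FlatMod.IsFinLocFree M) : CohB1.IsFP M := by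
  choose V hV P hP using exists_presentation M hM
  exact isFP_of_cover M V (fun x => ⟨x, hV x⟩) P hP

/-- Sections of a finite locally free module on small affine opens are finite free. -/
theorem free_sections (M : X.Modules) {U : X.Opens} {n : ℕ}
    (e : M.restrict U.ι ≅ FlatMod.freeMod (↑U) n) {D : X.Opens} (hD : IsAffineOpen D)
    (hDU : D ≤ U) : Module.Free Γ(X, D) Γ(M, D) := by
  obtain ⟨c⟩ := exists_free_iso_of_le M e hD hDU
  let F := ModuleCat.of Γ(X, D) (ULift.{u} (Fin n) →₀ Γ(X, D))
  let e₁ : F ≃ₗ[Γ(X, D)] (moduleSpecΓFunctor (R := Γ(X, D))).obj (M.restrict hD.fromSpec) :=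
    (tilde.toTildeΓNatIso.app F ≪≫ (moduleSpecΓFunctor (R := Γ(X, D))).mapIso c.symm).toLinearEquiv
  let e₂ : (moduleSpecΓFunctor (R := Γ(X, D))).obj (M.restrict hD.fromSpec) ≃ₗ[Γ(X, D)] Γ(M, D) :=
    { topEquiv hD M with
      map_smul' := fun r x => by
        have := secEquiv_smul hD M ⊤ (image_top_fromSpec hD) le_rfl r x
        rw [resFun_self] at this
        exact this }
  haveI : Module.Free Γ(X, D) F := Module.Free.finsupp _ _ _
  exact Module.Free.of_equiv (e₁.trans e₂)

set_option backward.isDefEq.respectTransparency false in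
/-- Free sections on an affine open give a free restriction. -/
theorem nonempty_iso_free_of_basis (M : X.Modules) [M.IsQuasicoherent] {D : X.Opens}
    (hD : IsAffineOpen D) {n : ℕ} (b : Module.Basis (ULift.{u} (Fin n)) Γ(X, D) Γ(M, D)) :
    Nonempty (M.restrict D.ι ≅ FlatMod.freeMod (↑D) n) := by
  let N := M.restrict hD.fromSpec
  let e₂ : (moduleSpecΓFunctor (R := Γ(X, D))).obj N ≃ₗ[Γ(X, D)] Γ(M, D) :=
    { topEquiv hD M with
      map_smul' := fun r x => by
        have := secEquiv_smul hD M ⊤ (image_top_fromSpec hD) le_rfl r x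
        rw [resFun_self] at this
        exact this }
  have hN : IsIso N.fromTildeΓ := inferInstance
  let c : N ≅ FlatMod.freeMod (Spec Γ(X, D)) n :=
    (asIso N.fromTildeΓ).symm ≪≫
      (tilde.functor Γ(X, D)).mapIso (e₂.trans b.repr).toModuleIso ≪≫ (freeTildeIso _ n).symm
  exact ⟨restrictIsoOfFromSpec M hD ≪≫ (Scheme.Modules.restrictFunctor hD.isoSpec.hom).mapIso c ≪≫
    Misc15.restrictFreeIso hD.isoSpec.hom n⟩

/-- The stalk of a quasi-coherent module is free exactly at the free locus. -/
theorem free_stalk_iff (M : X.Modules) [M.IsQuasicoherent] {U : X.Opens} (hU : IsAffineOpen U)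
    (x : X) (hx : x ∈ U) :
    Module.Free (X.presheaf.stalk x) (M.presheaf.stalk x) ↔
      hU.primeIdealOf ⟨x, hx⟩ ∈ Module.freeLocus Γ(X, U) Γ(M, U) := by
  letI := stalkModule M x hx
  letI : Algebra Γ(X, U) (X.presheaf.stalk x) :=
    TopCat.Presheaf.algebra_section_stalk X.presheaf ⟨x, hx⟩
  haveI : IsLocalization.AtPrime (X.presheaf.stalk x) (hU.primeIdealOf ⟨x, hx⟩).asIdeal :=
    hU.isLocalization_stalk ⟨x, hx⟩
  haveI : IsScalarTower Γ(X, U) (X.presheaf.stalk x) (M.presheaf.stalk x) := ⟨fun r a m => by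
    change (X.presheaf.germ U x hx r * a) • m = _
    rw [mul_smul]; rfl⟩
  haveI := isLocalizedModule_germ M hU x hx
  exact (Module.mem_freeLocus_of_isLocalization (hU.primeIdealOf ⟨x, hx⟩) (X.presheaf.stalk x)
    (M.presheaf.stalk x) (germₗ M x hx)).symm

/-- Stalks of finite locally free modules are free. -/
theorem free_stalk (M : X.Modules) (hM : FlatMod.IsFinLocFree M) (x : X) :
    Module.Free (X.presheaf.stalk x) (M.presheaf.stalk x) := by
  haveI := isQuasicoherent_of_isFinLocFree M hM
  obtain ⟨U, n, hxU, ⟨e⟩⟩ := hM x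
  obtain ⟨D, hD, hxD, hDU⟩ := TopologicalSpace.Opens.isBasis_iff_nbhd.mp X.isBasis_affineOpens hxU
  haveI := free_sections M e hD hDU
  haveI := finitePresentation_sections M (isFP_of_isFinLocFree M hM) hD
  refine (free_stalk_iff M hD x hxD).mpr ?_
  rw [Module.freeLocus_eq_univ]
  trivial

attribute [local instance] RingHomInvPair.of_ringEquiv in
/-- Free localized sections give a free restriction near a point. -/
theorem exists_free_nhd_of_away (M : X.Modules) [M.IsQuasicoherent] {U : X.Opens}
    (hU : IsAffineOpen U) [Module.Finite Γ(X, U) Γ(M, U)] (r : Γ(X, U)) (x : X)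
    (hxr : x ∈ X.basicOpen r)
    (hfr : Module.Free (Localization.Away r) (LocalizedModule.Away r Γ(M, U))) :
    ∃ (D : X.Opens) (n : ℕ), x ∈ D ∧ Nonempty (M.restrict D.ι ≅ FlatMod.freeMod (↑D) n) := by
  letI := resModule M r
  haveI := isScalarTower_resModule M r
  haveI := IsAffineOpen.isLocalization_basicOpen hU r
  haveI := isLocalizedModule_resₗ M hU r
  let σ := (IsLocalization.algEquiv (Submonoid.powers r) (Localization.Away r)
    Γ(X, X.basicOpen r)).toRingEquiv
  let g : LocalizedModule.Away r Γ(M, U) ≃ₛₗ[(σ : Localization.Away r →+* Γ(X, X.basicOpen r))]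
      Γ(M, X.basicOpen r) :=
    { IsLocalizedModule.iso (Submonoid.powers r) (resₗ M r) with
      map_smul' := fun a y => by
        obtain ⟨a, s, rfl⟩ := IsLocalization.exists_mk'_eq (Submonoid.powers r) a
        apply ((Module.End.isUnit_iff _).mp (IsLocalizedModule.map_units (resₗ M r) s)).1
        simp [σ, ← map_smul, ← smul_assoc] }
  haveI : Module.Free Γ(X, X.basicOpen r) Γ(M, X.basicOpen r) :=
    (Module.Free.iff_of_equiv g).mp hfr
  haveI : Module.Finite Γ(X, X.basicOpen r) Γ(M, X.basicOpen r) :=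
    Module.Finite.of_isLocalizedModule (Submonoid.powers r) (resₗ M r)
  rcases subsingleton_or_nontrivial Γ(X, X.basicOpen r) with hsub | hnt
  · exfalso
    exact not_subsingleton_iff_nontrivial.mpr
      (X.presheaf.germ (X.basicOpen r) x hxr).hom.domain_nontrivial hsub
  refine ⟨X.basicOpen r, Module.finrank Γ(X, X.basicOpen r) Γ(M, X.basicOpen r),
    hxr, ?_⟩
  exact nonempty_iso_free_of_basis M (hU.basicOpen r)
    ((Module.finBasis Γ(X, X.basicOpen r) Γ(M, X.basicOpen r)).reindex Equiv.ulift.symm)

/-- A module of finite presentation is free near a point with free stalk. -/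
theorem exists_free_nhd (M : X.Modules) [M.IsQuasicoherent] (hM : CohB1.IsFP M) (x : X)
    (hx : Module.Free (X.presheaf.stalk x) (M.presheaf.stalk x)) :
    ∃ (D : X.Opens) (n : ℕ), x ∈ D ∧ Nonempty (M.restrict D.ι ≅ FlatMod.freeMod (↑D) n) := by
  obtain ⟨U, hU, hxU, -⟩ := TopologicalSpace.Opens.isBasis_iff_nbhd.mp X.isBasis_affineOpens
    (TopologicalSpace.Opens.mem_top x)
  let p := hU.primeIdealOf ⟨x, hxU⟩
  haveI := finitePresentation_sections M hM hU
  haveI hfree : Module.Free (Localization.AtPrime p.asIdeal)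
      (LocalizedModule p.asIdeal.primeCompl Γ(M, U)) := (free_stalk_iff M hU x hxU).mp hx
  obtain ⟨r, hr, hfr, -⟩ := Module.FinitePresentation.exists_free_localizedModule_powers
    p.asIdeal.primeCompl (LocalizedModule.mkLinearMap p.asIdeal.primeCompl Γ(M, U))
    (Localization.AtPrime p.asIdeal)
  exact exists_free_nhd_of_away M hU r x ((mem_basicOpen_iff_notMem_primeIdealOf hU r x hxU).mpr hr) hfr

/-- Finite presentation implies finite type. -/
theorem isFT_of_isFP (M : X.Modules) (hM : CohB1.IsFP M) : CohB1.IsFT M := by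
  choose V hV P hP using exists_presentation_of_isFP M hM
  exact isFT_of_cover M V (fun x => ⟨x, hV x⟩) (fun x => (P x).generators)
    fun x => (hP x).isFiniteType_generators.finite

/-- Finite locally free is finite presentation plus free stalks. -/
theorem isFinLocFree_iff (M : X.Modules) [M.IsQuasicoherent] :
    FlatMod.IsFinLocFree M ↔
      CohB1.IsFP M ∧ ∀ x, Module.Free (X.presheaf.stalk x) (M.presheaf.stalk x) :=
  ⟨fun h => ⟨isFP_of_isFinLocFree M h, free_stalk M h⟩,
    fun ⟨h, h'⟩ x => exists_free_nhd M h x (h' x)⟩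

end Groth.PropsBasic.LocFree
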