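import Mathlib
import Groth.Agent.PicAux.GenLocusAffine
import Groth.Agent.PicAux.PullTensor
import Groth.Agent.PicAux.Powers

/-!
# Loci of sections of powers of an invertible module

Lemmas for ample invertible modules: powers, products and transports of global sections, extension
of functions on `X_s` to sections of a power.
-/

universe u

open CategoryTheory AlgebraicGeometry Opposite TopologicalSpace

namespace Groth.PropsBasic.Ample

open Groth.PicAux

variable {X : Scheme.{u}} {L M : X.Modules}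

/-- The locus where a global section generates. -/
noncomputable abbrev gloc (t : Γ(L, ⊤)) : X.Opens := CohB1.genLocus L (homOfSection t)

theorem genLocus_eq_gloc (s : Coh.structureModule X ⟶ L) :
    CohB1.genLocus L s = gloc (gsec s) := by
  have h : homOfSection (gsec s) = s := hom_structure_ext (homOfSection_one _)
  rw [gloc, h]

theorem gloc_inf_eq_basicOpen {t : Γ(L, ⊤)} {U : X.Opens} {e : Γ(L, U)}
    (he : Gen L U e) {c : Γ(X, U)} (hc : res L le_top t = c • e) :
    gloc t ⊓ U = X.basicOpen c :=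
  genLocus_inf_eq_basicOpen he (by rwa [gsec_homOfSection])

theorem gen_gloc (t : Γ(L, ⊤)) {V : X.Opens} (h : V ≤ gloc t) : Gen L V (res L le_top t) := by
  have := (le_genLocus_iff (homOfSection t) V).1 h
  rwa [gsec_homOfSection] at this

theorem le_gloc {t : Γ(L, ⊤)} {V : X.Opens} (h : Gen L V (res L le_top t)) : V ≤ gloc t := by
  rw [gloc, le_genLocus_iff, gsec_homOfSection]
  exact h

theorem gloc_map (φ : L ⟶ M) [IsIso φ] (t : Γ(L, ⊤)) : gloc (φ.app ⊤ t) = gloc t := by
  refine le_antisymm (le_gloc ?_) (le_gloc ?_)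
  · have h := (gen_gloc (φ.app ⊤ t) le_rfl).map (inv φ)
    rw [app_res] at h
    have e : (inv φ).app ⊤ (φ.app ⊤ t) = t :=
      congr(($(IsIso.hom_inv_id φ)).app ⊤ t)
    rwa [e] at h
  · have h := (gen_gloc t le_rfl).map φ
    rwa [app_res] at h

theorem exists_gen_cover (hL : PicF.IsInvertible L) :
    ∃ (U : X → X.Opens) (e : ∀ x, Γ(L, U x)),
      (∀ x, IsAffineOpen (U x)) ∧ (∀ x, x ∈ U x) ∧ (∀ x, Gen L (U x) (e x)) ∧ iSup U = ⊤ := by
  choose U e hU hx he using fun x => exists_affine_gen_mem hL x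
  exact ⟨U, e, hU, hx, he, eq_top_iff.2 fun x _ => Opens.mem_iSup.2 ⟨x, hx x⟩⟩

theorem gloc_powSec (hL : PicF.IsInvertible L) (t : Γ(L, ⊤)) {n : ℕ} (hn : 0 < n) :
    gloc (powSec t n) = gloc t := by
  obtain ⟨U, e, -, -, he, hcov⟩ := exists_gen_cover hL
  refine opens_ext_cover hcov fun x => ?_
  obtain ⟨c, hc⟩ := (he x).exists_coeff le_rfl (res L le_top t)
  rw [res_self] at hc
  rw [gloc_inf_eq_basicOpen ((he x).pow n) (c := c ^ n) (by rw [res_powSec, hc, powSec_smul]),
    gloc_inf_eq_basicOpen (he x) hc, X.basicOpen_pow _ hn]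

theorem gloc_tmulSec (hL : PicF.IsInvertible L) (hM : PicF.IsInvertible M) (a : Γ(L, ⊤))
    (b : Γ(M, ⊤)) : gloc (tmulSec a b) = gloc a ⊓ gloc b := by
  obtain ⟨U, e, -, hx, he, -⟩ := exists_gen_cover hL
  obtain ⟨V, f, -, hy, hf, -⟩ := exists_gen_cover hM
  have hcov : iSup (fun x => U x ⊓ V x) = ⊤ :=
    eq_top_iff.2 fun x _ => Opens.mem_iSup.2 ⟨x, hx x, hy x⟩
  refine opens_ext_cover hcov fun x => ?_
  have he' := (he x).res (inf_le_left : U x ⊓ V x ≤ U x)
  have hf' := (hf x).res (inf_le_right : U x ⊓ V x ≤ V x)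
  obtain ⟨c, hc⟩ := he'.exists_coeff le_rfl (res L le_top a)
  obtain ⟨d, hd⟩ := hf'.exists_coeff le_rfl (res M le_top b)
  rw [res_self] at hc hd
  rw [gloc_inf_eq_basicOpen (he'.tensor hf') (c := c * d)
      (by rw [res_tmulSec, hc, hd, tmulSec_smul_left, tmulSec_smul_right, mul_smul]),
    Scheme.basicOpen_mul, ← gloc_inf_eq_basicOpen he' hc, ← gloc_inf_eq_basicOpen hf' hd]
  ac_rfl

theorem isAffineOpen_gloc_inf (hL : PicF.IsInvertible L) (s : Coh.structureModule X ⟶ L)
    {V : X.Opens} (hV : IsAffineOpen V) : IsAffineOpen (CohB1.genLocus L s ⊓ V) := by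
  have := isAffineHom_genLocus hL s
  have h := hV.preimage (CohB1.genLocus L s).ι
  rw [← (CohB1.genLocus L s).ι.isAffineOpen_iff_of_isOpenImmersion,
    Scheme.Hom.image_preimage_eq_opensRange_inf, Scheme.Opens.opensRange_ι] at h
  exact h

/-- A section of a power, seen in a single power. -/
theorem exists_gloc_transport (n m : ℕ) (b : Γ(CohB1.tensorPow (CohB1.tensorPow L n) m, ⊤)) :
    ∃ c : Γ(CohB1.tensorPow L (n * m), ⊤), gloc c = gloc b := by
  obtain ⟨e⟩ := tensorPow_mul L n m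
  exact ⟨e.inv.app ⊤ b, gloc_map e.inv b⟩

/-- Two loci of sections of powers are loci of sections of the same power. -/
theorem exists_common_power (hL : PicF.IsInvertible L) {n m : ℕ}
    (s : Γ(CohB1.tensorPow L (n + 1), ⊤)) (t : Γ(CohB1.tensorPow L (m + 1), ⊤)) :
    ∃ (s' t' : Γ(CohB1.tensorPow L ((n + 1) * (m + 1)), ⊤)),
      gloc s' = gloc s ∧ gloc t' = gloc t := by
  obtain ⟨s', hs'⟩ := exists_gloc_transport (n + 1) (m + 1) (powSec s (m + 1))
  obtain ⟨t', ht'⟩ := exists_gloc_transport (m + 1) (n + 1) (powSec t (n + 1))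
  rw [gloc_powSec (isInvertible_tensorPow hL _) s (Nat.succ_pos _)] at hs'
  rw [gloc_powSec (isInvertible_tensorPow hL _) t (Nat.succ_pos _)] at ht'
  have key : ∀ N N' : ℕ, N = N' → ∀ c : Γ(CohB1.tensorPow L N, ⊤),
      ∃ c' : Γ(CohB1.tensorPow L N', ⊤), gloc c' = gloc c := by
    rintro N _ rfl c
    exact ⟨c, rfl⟩
  obtain ⟨t'', ht''⟩ := key _ _ (mul_comm (m + 1) (n + 1)) t'
  exact ⟨s', t'', hs', ht''.trans ht'⟩

end Groth.PropsBasic.Ample
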