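import Mathlib
import Groth.Agent.PropsBasic.AmpleSec
import Groth.Agent.PropsBasic2.SepGen

/-!
# Separatedness from loci of sections
-/

universe u

open CategoryTheory CategoryTheory.Limits AlgebraicGeometry Opposite TopologicalSpace

set_option backward.isDefEq.respectTransparency.types false

namespace Groth.PropsBasic.Ample

open Groth.PicAux Groth.PropsBasic2

variable {X : Scheme.{u}}

/-- A cover by affines with affine pairwise intersections gives an affine diagonal. -/
theorem isAffineHom_diagonal_of_cover {Y : Scheme.{u}} [IsAffine Y] (f : X ⟶ Y) {ι : Type u}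
    (U : ι → X.Opens) (hU : ∀ i, IsAffineOpen (U i)) (hcov : ⨆ i, U i = ⊤)
    (h : ∀ i j, IsAffineOpen (U i ⊓ U j)) : IsAffineHom (pullback.diagonal f) := by
  let 𝒰 := X.openCoverOfIsOpenCover U hcov
  have : ∀ i, IsAffine (U i).toScheme := hU
  rw [IsZariskiLocalAtTarget.iff_of_openCover (P := @IsAffineHom)
    (Scheme.Pullback.openCoverOfLeftRight 𝒰 𝒰 f f)]
  rintro ⟨i, j⟩
  have e := SepGen.isPullback_diag f (U i) (U j)
  have : IsAffine (U i ⊓ U j).toScheme := h i j
  have hd : IsAffineHom (SepGen.diag f (U i) (U j)) := inferInstance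
  rw [← e.flip.isoPullback_hom_snd,
    MorphismProperty.cancel_left_of_respectsIso (P := @IsAffineHom)] at hd
  exact hd

/-- If the affine loci of sections of positive powers of `L` cover `X`, then `X` is separated. -/
theorem isSeparated_of_cover {L : X.Modules} (hL : PicF.IsInvertible L)
    (h : ∀ x : X, ∃ (n : ℕ) (s : Coh.structureModule X ⟶ CohB1.tensorPow L (n + 1)),
      x ∈ CohB1.genLocus _ s ∧ IsAffineOpen (CohB1.genLocus _ s)) :
    X.IsSeparated := by
  choose n s hx hs using h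
  refine ⟨?_⟩
  let U : X → X.Opens := fun x => CohB1.genLocus _ (s x)
  have hcov : ⨆ x, U x = ⊤ := eq_top_iff.2 fun x _ => Opens.mem_iSup.2 ⟨x, hx x⟩
  let f := terminal.from X
  let 𝒰 := X.openCoverOfIsOpenCover U hcov
  have : ∀ i, IsAffine (U i).toScheme := hs
  rw [isSeparated_iff, IsZariskiLocalAtTarget.iff_of_openCover (P := @IsClosedImmersion)
    (Scheme.Pullback.openCoverOfLeftRight 𝒰 𝒰 f f)]
  rintro ⟨i, j⟩
  refine (SepGen.pullbackHom_iff f U i j).mpr ((SepGen.key f (hs i) (hs j)).mpr ?_)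
  obtain ⟨a, b, ha, hb⟩ := exists_common_power hL (gsec (s i)) (gsec (s j))
  rw [← genLocus_eq_gloc] at ha hb
  have hA : Gen _ (U i) (res _ le_top a) := gen_gloc a ha.ge
  have hB : Gen _ (U j) (res _ le_top b) := gen_gloc b hb.ge
  obtain ⟨c, hc⟩ := hA.exists_coeff le_rfl (res _ le_top b)
  obtain ⟨d, hd⟩ := hB.exists_coeff le_rfl (res _ le_top a)
  rw [res_self] at hc hd
  have hD : U i ⊓ U j = X.basicOpen c := by
    rw [← gloc_inf_eq_basicOpen hA hc, hb, inf_comm]
  refine ⟨hD ▸ (hs i).basicOpen c, eq_top_iff.2 fun z _ => ?_⟩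
  set S := Subring.closure (Set.range (X.presheaf.map (homOfLE
      (inf_le_left : U i ⊓ U j ≤ U i)).op).hom ∪
    Set.range (X.presheaf.map (homOfLE (inf_le_right : U i ⊓ U j ≤ U j)).op).hom)
  have hcd : resX X (inf_le_right : U i ⊓ U j ≤ U j) d *
      resX X (inf_le_left : U i ⊓ U j ≤ U i) c = 1 := by
    refine hA.smul_inj (inf_le_left : U i ⊓ U j ≤ U i) ?_
    have h1 := congrArg (res _ (inf_le_left : U i ⊓ U j ≤ U i)) hc
    have h2 := congrArg (res _ (inf_le_right : U i ⊓ U j ≤ U j)) hd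
    simp only [res_smul, res_res] at h1 h2 ⊢
    rw [mul_smul, ← h1, ← h2, one_smul]
  have := (hs i).isLocalization_basicOpen c
  obtain ⟨⟨p, q⟩, hpq⟩ := IsLocalization.surj (Submonoid.powers c)
    (resX X hD.ge z)
  obtain ⟨k, hk⟩ := q.2
  have hpq' : z * resX X (inf_le_left : U i ⊓ U j ≤ U i) c ^ k =
      resX X (inf_le_left : U i ⊓ U j ≤ U i) p := by
    have h1 := congrArg (resX X hD.le) hpq
    have e : ∀ r : Γ(X, U i), algebraMap Γ(X, U i) Γ(X, X.basicOpen c) r =
        resX X (X.basicOpen_le c) r := fun _ => rfl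
    dsimp only at h1
    rw [e, e, map_mul, resX_resX, resX_resX, resX_resX, resX_self, ← hk, map_pow] at h1
    exact h1
  have : z = resX X (inf_le_left : U i ⊓ U j ≤ U i) p *
      resX X (inf_le_right : U i ⊓ U j ≤ U j) d ^ k := by
    rw [← hpq', mul_assoc, ← mul_pow, mul_comm (resX X _ c), hcd, one_pow, mul_one]
  rw [this]
  have h3 : resX X (inf_le_left : U i ⊓ U j ≤ U i) p ∈ S :=
    Subring.subset_closure (Set.mem_union_left _ ⟨p, rfl⟩)
  have h4 : resX X (inf_le_right : U i ⊓ U j ≤ U j) d ∈ S :=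
    Subring.subset_closure (Set.mem_union_right _ ⟨d, rfl⟩)
  exact mul_mem h3 (pow_mem h4 k)

end Groth.PropsBasic.Ample
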