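import Mathlib
import Groth.Agent.PropsBasic.AmpleSec

/-!
# Extending functions on `X_s` to sections of a power of `L`
-/

universe u

open CategoryTheory AlgebraicGeometry Opposite TopologicalSpace

set_option backward.isDefEq.respectTransparency.types false

namespace Groth.PropsBasic.Ample

open Groth.PicAux

variable {X : Scheme.{u}} {L : X.Modules}

/-- On a qcqs scheme, `f ⊗ s^k` extends for some `k` when `f` is a function on `X_s`. -/
theorem exists_extend [CompactSpace X] [QuasiSeparatedSpace X] (hL : PicF.IsInvertible L)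
    (s : Γ(L, ⊤)) (f : Γ(X, gloc s)) :
    ∃ (k : ℕ) (b : Γ(CohB1.tensorPow L k, ⊤)),
      res _ le_top b = f • powSec (res L (le_top : gloc s ≤ ⊤) s) k := by
  classical
  obtain ⟨U₀, e₀, hU₀, -, he₀, hcov₀⟩ := exists_gen_cover hL
  obtain ⟨t, ht⟩ := isCompact_univ.elim_finite_subcover (fun x => (U₀ x : Set X))
    (fun x => (U₀ x).isOpen) (fun x _ => by
      simpa using Opens.mem_iSup.1 (hcov₀.ge (trivial : x ∈ (⊤ : X.Opens))))
  let U : t → X.Opens := fun i => U₀ i
  have hU : ∀ i, IsAffineOpen (U i) := fun i => hU₀ i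
  let e : ∀ i, Γ(L, U i) := fun i => e₀ i
  have he : ∀ i, Gen L (U i) (e i) := fun i => he₀ i
  have hcov : (⊤ : X.Opens) ≤ iSup U := fun x _ => by
    obtain ⟨i, hi⟩ := Set.mem_iUnion₂.1 (ht (Set.mem_univ x))
    exact Opens.mem_iSup.2 ⟨⟨i, hi.1⟩, hi.2⟩
  choose c hc using fun i => (he i).exists_coeff le_rfl (res L le_top s)
  replace hc : ∀ i, res L (le_top : U i ≤ ⊤) s = c i • e i := fun i => by simpa using hc i
  have hD : ∀ i, gloc s ⊓ U i = X.basicOpen (c i) := fun i => gloc_inf_eq_basicOpen (he i) (hc i)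
  have hDs : ∀ i, X.basicOpen (c i) ≤ gloc s := fun i => (hD i).ge.trans inf_le_left
  -- on each chart
  have hloc : ∀ i, ∃ (n : ℕ) (a : Γ(X, U i)), resX X (X.basicOpen_le (c i)) a =
      resX X (X.basicOpen_le (c i)) (c i) ^ n * resX X (hDs i) f := by
    intro i
    have := (hU i).isLocalization_basicOpen (c i)
    obtain ⟨⟨a, _, n, rfl⟩, ha⟩ :=
      IsLocalization.surj (M := Submonoid.powers (c i)) (resX X (hDs i) f)
    refine ⟨n, a, ?_⟩
    rw [RingHom.algebraMap_toAlgebra, map_pow] at ha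
    rw [mul_comm]
    exact ha.symm
  choose n a ha using hloc
  obtain ⟨N, hN⟩ : ∃ N, ∀ i, n i ≤ N :=
    ⟨Finset.univ.sup n, fun i => Finset.le_sup (Finset.mem_univ i)⟩
  let a' : ∀ i, Γ(X, U i) := fun i => a i * c i ^ (N - n i)
  have ha' : ∀ i, resX X (X.basicOpen_le (c i)) (a' i) =
      resX X (X.basicOpen_le (c i)) (c i) ^ N * resX X (hDs i) f := by
    intro i
    rw [map_mul, map_pow, ha, mul_right_comm, ← pow_add, Nat.add_sub_of_le (hN i)]
  -- comparison on overlaps
  have hu : ∀ i j, ∃ u : Γ(X, U i ⊓ U j),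
      res L (inf_le_right : U i ⊓ U j ≤ U j) (e j) = u • res L (inf_le_left : U i ⊓ U j ≤ U i) (e i) :=
    fun i j => (he i).exists_coeff inf_le_left _
  choose u hu using hu
  have hcu : ∀ i j, resX X (inf_le_left : U i ⊓ U j ≤ U i) (c i) =
      resX X (inf_le_right : U i ⊓ U j ≤ U j) (c j) * u i j := by
    intro i j
    refine (he i).smul_inj inf_le_left ?_
    have h1 := congrArg (res L (inf_le_left : U i ⊓ U j ≤ U i)) (hc i)
    have h2 := congrArg (res L (inf_le_right : U i ⊓ U j ≤ U j)) (hc j)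
    simp only [res_smul, res_res] at h1 h2
    rw [mul_smul, ← hu, ← h1, ← h2]
  have hM : ∀ i j, ∃ m : ℕ, resX X (inf_le_left : U i ⊓ U j ≤ U i) (c i) ^ m *
      (resX X (inf_le_left : U i ⊓ U j ≤ U i) (a' i) -
        resX X (inf_le_right : U i ⊓ U j ≤ U j) (a' j) * u i j ^ N) = 0 := by
    intro i j
    have hle1 : X.basicOpen (resX X (inf_le_left : U i ⊓ U j ≤ U i) (c i)) ≤ X.basicOpen (c i) :=
      (X.basicOpen_res (c i) (homOfLE (inf_le_left : U i ⊓ U j ≤ U i)).op).le.trans inf_le_right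
    have hle2 : X.basicOpen (resX X (inf_le_left : U i ⊓ U j ≤ U i) (c i)) ≤ X.basicOpen (c j) := by
      rw [← hD j]
      exact le_inf (hle1.trans (hDs i)) ((X.basicOpen_le _).trans inf_le_right)
    refine exists_pow_mul_eq_zero_of_res_basicOpen_eq_zero_of_isCompact X
      (QuasiSeparatedSpace.inter_isCompact _ _ (U i).isOpen (hU i).isCompact (U j).isOpen
        (hU j).isCompact) _ _ ?_
    change resX X (X.basicOpen_le _) _ = 0
    have h1 := congrArg (resX X hle1) (ha' i)
    have h2 := congrArg (resX X hle2) (ha' j)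
    simp only [map_mul, map_pow, resX_resX] at h1 h2
    have h3 := congrArg (resX X (X.basicOpen_le (resX X (inf_le_left : U i ⊓ U j ≤ U i) (c i))))
      (hcu i j)
    simp only [map_mul, resX_resX] at h3
    simp only [map_sub, map_mul, map_pow, resX_resX]
    rw [h1, h2, h3, mul_pow]
    ring
  choose m hm using hM
  obtain ⟨K, hK⟩ : ∃ K, ∀ i j, m i j ≤ K :=
    ⟨Finset.univ.sup fun p : t × t => m p.1 p.2, fun i j =>
      Finset.le_sup (f := fun p : t × t => m p.1 p.2) (Finset.mem_univ (i, j))⟩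
  -- gluing
  obtain ⟨b, hb, -⟩ := res_glue (M := CohB1.tensorPow L (N + K)) U (fun _ => le_top) hcov
    (fun i => (a' i * c i ^ K) • powSec (e i) (N + K)) (fun i j => by
      simp only [res_smul, res_powSec, hu, powSec_smul, ← mul_smul, map_mul, map_pow]
      congr 1
      have h1 := hm i j
      have h2 : resX X (inf_le_left : U i ⊓ U j ≤ U i) (c i) ^ K *
          (resX X (inf_le_left : U i ⊓ U j ≤ U i) (a' i) -
            resX X (inf_le_right : U i ⊓ U j ≤ U j) (a' j) * u i j ^ N) = 0 := by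
        rw [← Nat.sub_add_cancel (hK i j), pow_add, mul_assoc, h1, mul_zero]
      rw [hcu, mul_pow] at h2 ⊢
      linear_combination h2)
  refine ⟨N + K, b, res_ext (fun i => X.basicOpen (c i)) hDs (fun x hx => ?_) fun i => ?_⟩
  · obtain ⟨i, hi⟩ := Opens.mem_iSup.1 (hcov (trivial : x ∈ (⊤ : X.Opens)))
    exact Opens.mem_iSup.2 ⟨i, (hD i).le ⟨hx, hi⟩⟩
  · have h1 := congrArg (res _ (X.basicOpen_le (c i))) (hb i)
    simp only [res_smul, res_powSec, res_res] at h1
    have h2 := congrArg (res L (X.basicOpen_le (c i))) (hc i)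
    simp only [res_smul, res_res] at h2
    simp only [res_smul, res_powSec, res_res]
    rw [h1, h2, powSec_smul, ← mul_smul, map_mul, map_pow, ha']
    congr 1
    ring

/-- On a qcqs scheme every basic open of an `X_s` is the locus of a section of a positive power. -/
theorem exists_gloc_eq_basicOpen [CompactSpace X] [QuasiSeparatedSpace X]
    (hL : PicF.IsInvertible L) {n : ℕ} (s : Γ(CohB1.tensorPow L (n + 1), ⊤))
    (f : Γ(X, gloc s)) :
    ∃ (N : ℕ) (t : Γ(CohB1.tensorPow L (N + 1), ⊤)), gloc t = X.basicOpen f := by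
  have hLn := isInvertible_tensorPow hL (n + 1)
  obtain ⟨k, b, hb⟩ := exists_extend hLn s f
  have h : gloc (L := CohB1.tensorPow (CohB1.tensorPow L (n + 1)) (k + 1)) (tmulSec b s) =
      X.basicOpen f := by
    rw [show gloc (L := CohB1.tensorPow (CohB1.tensorPow L (n + 1)) (k + 1)) (tmulSec b s) =
      gloc b ⊓ gloc s from gloc_tmulSec (isInvertible_tensorPow hLn k) hLn b s]
    exact gloc_inf_eq_basicOpen ((gen_gloc s le_rfl).pow k) hb
  obtain ⟨t, ht⟩ := exists_gloc_transport (n + 1) (k + 1) (tmulSec b s)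
  refine ⟨(n + 1) * k + n, ?_⟩
  have key : ∀ N N' : ℕ, N = N' → ∀ c : Γ(CohB1.tensorPow L N, ⊤),
      ∃ c' : Γ(CohB1.tensorPow L N', ⊤), gloc c' = gloc c := by
    rintro N _ rfl c
    exact ⟨c, rfl⟩
  obtain ⟨t', ht'⟩ := key _ ((n + 1) * k + n + 1) (by ring) t
  exact ⟨t', ht'.trans (ht.trans h)⟩

end Groth.PropsBasic.Ample
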