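import Mathlib
import Groth.Agent.PropsBasic.AmpleExtend
import Groth.Agent.PropsBasic.AmpleSep

/-!
# Ample iff the loci of sections of positive powers form a basis
-/

universe u

open CategoryTheory AlgebraicGeometry Opposite TopologicalSpace

set_option backward.isDefEq.respectTransparency.types false

namespace Groth.PropsBasic.Ample

open Groth.PicAux

variable {X : Scheme.{u}} {L : X.Modules}

theorem isBasis_of_isAmple (hA : CohB1.IsAmple L) :
    Opens.IsBasis {U : X.Opens | ∃ (n : ℕ) (s : Coh.structureModule X ⟶ CohB1.tensorPow L (n + 1)),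
      U = CohB1.genLocus _ s} := by
  obtain ⟨hL, hc, hcov⟩ := hA
  have := isSeparated_of_cover hL hcov
  rw [Opens.isBasis_iff_nbhd]
  intro O x hx
  obtain ⟨n, s, hxs, hs⟩ := hcov x
  rw [genLocus_eq_gloc] at hxs hs
  obtain ⟨f, hf, hxf⟩ := hs.exists_basicOpen_le (V := O) ⟨x, hx⟩ hxs
  obtain ⟨N, t, ht⟩ := exists_gloc_eq_basicOpen hL (gsec s) f
  exact ⟨X.basicOpen f, ⟨N, homOfSection t, ht.symm⟩, hxf, hf⟩

theorem isAmple_of_isBasis [CompactSpace X] (hL : PicF.IsInvertible L)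
    (hB : Opens.IsBasis {U : X.Opens | ∃ (n : ℕ)
      (s : Coh.structureModule X ⟶ CohB1.tensorPow L (n + 1)), U = CohB1.genLocus _ s}) :
    CohB1.IsAmple L := by
  refine ⟨hL, inferInstance, fun x => ?_⟩
  obtain ⟨_, ⟨W, hW, rfl⟩, hxW, -⟩ :=
    X.isBasis_affineOpens.exists_subset_of_mem_open (Set.mem_univ x) isOpen_univ
  obtain ⟨_, ⟨n, s, rfl⟩, hxs, hsW⟩ :=
    Opens.isBasis_iff_nbhd.1 hB (show x ∈ (W : X.Opens) from hxW)
  refine ⟨n, s, hxs, ?_⟩
  have h := isAffineOpen_gloc_inf (isInvertible_tensorPow hL (n + 1)) s hW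
  rwa [inf_eq_left.2 hsW] at h

theorem gloc_pullSec {X' : Scheme.{u}} (i : X' ⟶ X) {M : X.Modules} (hM : PicF.IsInvertible M)
    (t : Γ(M, ⊤)) :
    gloc (X := X') (L := (Scheme.Modules.pullback i).obj M) (pullSec i M t) = i ⁻¹ᵁ gloc t := by
  obtain ⟨U, e, -, hx, he, -⟩ := exists_gen_cover hM
  have hcov : iSup (fun y => i ⁻¹ᵁ U y) = ⊤ :=
    eq_top_iff.2 fun z _ => Opens.mem_iSup.2 ⟨i z, hx (i z)⟩
  refine opens_ext_cover hcov fun y => ?_
  obtain ⟨c, hc⟩ := (he y).exists_coeff le_rfl (res M le_top t)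
  rw [res_self] at hc
  have h : res ((Scheme.Modules.pullback i).obj M) (le_top : i ⁻¹ᵁ U y ≤ i ⁻¹ᵁ ⊤) (pullSec i M t) =
      i.app (U y) c • pullSec i M (e y) := by
    rw [← pullSec_smul, ← hc]
    exact res_pullSec i M le_top t
  rw [gloc_inf_eq_basicOpen ((he y).pull i) h, ← Scheme.preimage_basicOpen,
    ← gloc_inf_eq_basicOpen (he y) hc]
  rfl

theorem isBasis_pullback {X' : Scheme.{u}} (i : X' ⟶ X) (hi : Topology.IsInducing i)
    (hL : PicF.IsInvertible L)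
    (hB : Opens.IsBasis {U : X.Opens | ∃ (n : ℕ)
      (s : Coh.structureModule X ⟶ CohB1.tensorPow L (n + 1)), U = CohB1.genLocus _ s}) :
    Opens.IsBasis {U : X'.Opens | ∃ (n : ℕ)
      (s : Coh.structureModule X' ⟶ CohB1.tensorPow ((Scheme.Modules.pullback i).obj L) (n + 1)),
      U = CohB1.genLocus _ s} := by
  rw [Opens.isBasis_iff_nbhd]
  intro O x hx
  obtain ⟨O₁, hO₁, hO⟩ := hi.isOpen_iff.1 O.isOpen
  have hx₁ : i x ∈ (⟨O₁, hO₁⟩ : X.Opens) := by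
    have h : x ∈ (O : Set X') := hx
    rwa [← hO] at h
  obtain ⟨_, ⟨n, s, rfl⟩, hxs, hsO⟩ := Opens.isBasis_iff_nbhd.1 hB hx₁
  obtain ⟨φ⟩ := pullback_tensorPow i L (n + 1)
  refine ⟨_, ⟨n, homOfSection (φ.hom.app ⊤ (pullSec i _ (gsec s))), rfl⟩, ?_⟩
  have h : gloc (φ.hom.app ⊤ (pullSec i _ (gsec s))) = i ⁻¹ᵁ CohB1.genLocus _ s :=
    ((gloc_map φ.hom _).trans (gloc_pullSec i (isInvertible_tensorPow hL _) _)).trans
      (congrArg _ (genLocus_eq_gloc s).symm)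
  change x ∈ gloc (φ.hom.app ⊤ (pullSec i _ (gsec s))) ∧
    gloc (φ.hom.app ⊤ (pullSec i _ (gsec s))) ≤ O
  rw [h]
  refine ⟨hxs, fun y hy => ?_⟩
  have h' : y ∈ i ⁻¹' O₁ := hsO hy
  rwa [hO] at h'

end Groth.PropsBasic.Ample
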