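import Mathlib
import Groth.Agent.PropsBasic.AmpleSec
import Groth.Agent.QCohMod.QCQS

/-!
# Sections of invertible modules on quasi-affine schemes
-/

universe u

open CategoryTheory AlgebraicGeometry Opposite TopologicalSpace

set_option backward.isDefEq.respectTransparency.types false

namespace Groth.PropsBasic.Ample

open Groth.PicAux

variable {X : Scheme.{u}}

theorem mem_basicOpen_iff_notMem_toSpecΓ (a : Γ(X, ⊤)) (x : X) :
    x ∈ X.basicOpen a ↔ a ∉ (X.toSpecΓ x).asIdeal := by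
  rw [← X.toSpecΓ_preimage_basicOpen a]
  rfl

/-- Finitely many points in an open of a quasi-affine scheme lie in an affine `D(g)` inside it. -/
theorem exists_affine_basicOpen_of_finite [X.IsQuasiAffine] (W : X.Opens) (E : Finset X)
    (hE : ∀ x ∈ E, x ∈ W) :
    ∃ g : Γ(X, ⊤), IsAffineOpen (X.basicOpen g) ∧ (∀ x ∈ E, x ∈ X.basicOpen g) ∧
      X.basicOpen g ≤ W := by
  classical
  obtain ⟨I, hI⟩ := (PrimeSpectrum.isClosed_iff_zeroLocus_ideal
    (((X.toSpecΓ ''ᵁ W : (Spec Γ(X, ⊤)).Opens) : Set (Spec Γ(X, ⊤)))ᶜ)).1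
    (X.toSpecΓ ''ᵁ W).isOpen.isClosed_compl
  have hnot : ¬ ((I : Set Γ(X, ⊤)) ⊆ ⋃ x ∈ (↑E : Set X), ((X.toSpecΓ x).asIdeal : Set Γ(X, ⊤))) := by
    rintro h
    rcases E.eq_empty_or_nonempty with rfl | ⟨x₀, hx₀⟩
    · simpa using h I.zero_mem
    obtain ⟨x, hx, hle⟩ := (Ideal.subset_union_prime (f := fun x => (X.toSpecΓ x).asIdeal) x₀ x₀
      (fun i _ _ _ => (X.toSpecΓ i).isPrime)).1 h
    have h1 : X.toSpecΓ x ∈ PrimeSpectrum.zeroLocus (I : Set Γ(X, ⊤)) := hle
    rw [← hI] at h1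
    exact h1 ⟨x, hE x hx, rfl⟩
  obtain ⟨g, hgI, hg⟩ := Set.not_subset.1 hnot
  simp only [Set.mem_iUnion, SetLike.mem_coe, not_exists] at hg
  have hsub : ∀ q : Spec Γ(X, ⊤), q ∈ PrimeSpectrum.basicOpen g → q ∈ X.toSpecΓ ''ᵁ W := by
    intro q hq
    by_contra h
    have h' : q ∈ PrimeSpectrum.zeroLocus (I : Set Γ(X, ⊤)) := hI ▸ h
    exact hq (h' hgI)
  refine ⟨g, ?_, fun x hx => (mem_basicOpen_iff_notMem_toSpecΓ g x).2 (hg x hx), ?_⟩
  · rw [← X.toSpecΓ_preimage_basicOpen, ← Scheme.Hom.isAffineOpen_iff_of_isOpenImmersion X.toSpecΓ]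
    convert! IsAffineOpen.Spec_basicOpen g
    exact SetLike.coe_injective (Set.image_preimage_eq_of_subset
      (fun q hq => Set.image_subset_range _ _ (hsub q hq)))
  · rw [← X.toSpecΓ_preimage_basicOpen]
    intro x hx
    obtain ⟨y, hy, hyx⟩ := hsub _ hx
    exact X.toSpecΓ.isEmbedding.injective hyx ▸ hy

variable {L : X.Modules}

theorem exists_section_mem_gloc [X.IsQuasiAffine] (hL : PicF.IsInvertible L) (x : X) :
    ∃ t : Γ(L, ⊤), x ∈ gloc t := by
  have := isQCoh_of_isInvertible hL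
  obtain ⟨U, e, -, hxU, he⟩ := exists_affine_gen_mem hL x
  obtain ⟨h, -, hx, hle⟩ := exists_affine_basicOpen_of_finite U {x} (by simpa using hxU)
  obtain ⟨n, t, ht⟩ := Groth.QCohMod.exists_pow_smul_eq_res_of_qcqs L
    (W := (⊤ : X.Opens)) isCompact_univ isQuasiSeparated_univ h (res L hle e)
  refine ⟨t, le_gloc ?_ (hx x (by simp))⟩
  have ht' : res L (X.basicOpen_le h) t = resX X (X.basicOpen_le h) h ^ n • res L hle e := ht
  rw [ht']
  exact (he.res hle).smul_unit ((RingedSpace.isUnit_res_basicOpen _ h).pow n)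

theorem exists_section_finset_subset_gloc [X.IsQuasiAffine] (hL : PicF.IsInvertible L)
    (E : Finset X) : ∃ s : Γ(L, ⊤), ∀ x ∈ E, x ∈ gloc s := by
  classical
  induction E using Finset.strongInduction with
  | _ E ih =>
    rcases E.eq_empty_or_nonempty with rfl | hne
    · exact ⟨0, by simp⟩
    obtain ⟨x, hx, hmin⟩ := (E.finite_toSet).exists_minimalFor (fun x => (X.toSpecΓ x).asIdeal)
      (↑E) hne
    have hxE : x ∈ E := hx
    obtain ⟨s, hs⟩ := ih (E.erase x) (Finset.erase_ssubset hxE)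
    by_cases hxs : x ∈ gloc s
    · refine ⟨s, fun y hy => ?_⟩
      rcases eq_or_ne y x with rfl | hyx
      exacts [hxs, hs y (Finset.mem_erase.2 ⟨hyx, hy⟩)]
    obtain ⟨t, hxt⟩ := exists_section_mem_gloc hL x
    have hP : ¬ (E.erase x).inf (fun y => (X.toSpecΓ y).asIdeal) ≤ (X.toSpecΓ x).asIdeal := by
      rw [(X.toSpecΓ x).isPrime.inf_le']
      rintro ⟨y, hy, hle⟩
      obtain ⟨hyx, hyE⟩ := Finset.mem_erase.1 hy
      exact hyx (X.toSpecΓ.isEmbedding.injective
        (PrimeSpectrum.ext (le_antisymm hle (hmin hyE hle))))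
    obtain ⟨a, ha, hax⟩ := SetLike.not_le_iff_exists.1 hP
    rw [Submodule.mem_finsetInf] at ha
    refine ⟨s + a • t, fun y hy => ?_⟩
    obtain ⟨U, e, -, hyU, he⟩ := exists_affine_gen_mem hL y
    obtain ⟨c, hc⟩ := he.exists_coeff le_rfl (res L le_top s)
    obtain ⟨d, hd⟩ := he.exists_coeff le_rfl (res L le_top t)
    rw [res_self] at hc hd
    let a' : Γ(X, U) := resX X le_top a
    have hcd : res L (le_top : U ≤ ⊤) (s + a • t) = (c + a' * d) • e := by
      rw [res_add, res_smul, hc, hd, add_smul, mul_smul]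
    have hg : ∀ (r : Γ(X, U)), y ∈ X.basicOpen r ↔ IsUnit (X.presheaf.germ U y hyU r) :=
      fun r => X.mem_basicOpen r y hyU
    have ha' : y ∈ X.basicOpen a' ↔ y ∈ X.basicOpen a := by
      rw [show X.basicOpen a' = U ⊓ X.basicOpen a from X.basicOpen_res a (homOfLE le_top).op]
      exact ⟨fun h => h.2, fun h => ⟨hyU, h⟩⟩
    suffices h : y ∈ X.basicOpen (c + a' * d) from ((gloc_inf_eq_basicOpen he hcd).ge h).1
    rw [hg, map_add, map_mul]
    have hnu : ∀ {r r' : X.presheaf.stalk y}, IsUnit r → ¬ IsUnit r' → IsUnit (r + r') := by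
      intro r r' hr hr'
      by_contra h
      have h1 : r = (r + r') + -r' := by abel
      exact IsLocalRing.nonunits_add h (by simpa using hr') (h1 ▸ hr)
    rcases eq_or_ne y x with rfl | hyx
    · have hcn : ¬ IsUnit (X.presheaf.germ U y hyU c) := fun h =>
        hxs ((gloc_inf_eq_basicOpen he hc).ge ((hg c).2 h)).1
      have hau : IsUnit (X.presheaf.germ U y hyU a') :=
        (hg a').1 (ha'.2 ((mem_basicOpen_iff_notMem_toSpecΓ a y).2 hax))
      have hdu : IsUnit (X.presheaf.germ U y hyU d) :=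
        (hg d).1 ((gloc_inf_eq_basicOpen he hd).le ⟨hxt, hyU⟩)
      rw [add_comm]
      exact hnu (hau.mul hdu) hcn
    · have hy' : y ∈ E.erase x := Finset.mem_erase.2 ⟨hyx, hy⟩
      have han : ¬ IsUnit (X.presheaf.germ U y hyU a') := fun h =>
        (mem_basicOpen_iff_notMem_toSpecΓ a y).1 (ha'.1 ((hg a').2 h)) (ha y hy')
      exact hnu ((hg c).1 ((gloc_inf_eq_basicOpen he hc).le ⟨hs y hy', hyU⟩))
        (fun h => han (isUnit_of_mul_isUnit_left h))

theorem exists_affine_gloc_between [X.IsQuasiAffine] (hL : PicF.IsInvertible L) (W : X.Opens)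
    (E : Finset X) (hE : ∀ x ∈ E, x ∈ W) :
    ∃ s : Γ(L, ⊤), IsAffineOpen (gloc s) ∧ (∀ x ∈ E, x ∈ gloc s) ∧ gloc s ≤ W := by
  obtain ⟨g, hga, hgE, hgW⟩ := exists_affine_basicOpen_of_finite W E hE
  obtain ⟨s, hs⟩ := exists_section_finset_subset_gloc hL E
  have h : gloc (g • s) = gloc s ⊓ X.basicOpen g := by
    obtain ⟨U, e, -, -, he, hcov⟩ := exists_gen_cover hL
    refine opens_ext_cover hcov fun x => ?_
    obtain ⟨c, hc⟩ := (he x).exists_coeff le_rfl (res L le_top s)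
    rw [res_self] at hc
    rw [gloc_inf_eq_basicOpen (he x) (c := resX X le_top g * c)
        (by rw [res_smul, hc, mul_smul]), Scheme.basicOpen_mul,
      show X.basicOpen (resX X (le_top : U x ≤ ⊤) g) = U x ⊓ X.basicOpen g from
        X.basicOpen_res g (homOfLE le_top).op,
      ← gloc_inf_eq_basicOpen (he x) hc]
    apply SetLike.coe_injective
    ext z
    simp only [Opens.coe_inf, Set.mem_inter_iff, SetLike.mem_coe]
    tauto
  refine ⟨g • s, ?_, fun x hx => ?_, ?_⟩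
  · rw [h]
    exact isAffineOpen_gloc_inf hL _ hga
  · rw [h]
    exact ⟨hs x hx, hgE x hx⟩
  · rw [h]
    exact inf_le_right.trans hgW

end Groth.PropsBasic.Ample
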