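import Groth.Agent.QCohMod.FTCriterion
import Groth.Agent.QCohMod.PullbackQCoh
import Mathlib

/-!
# Quasi-coherent modules of finite presentation have finitely presented sections on affine opens
-/

universe u

open CategoryTheory Limits AlgebraicGeometry Opposite TopologicalSpace

namespace Groth.PropsBasic.FPSections

open Groth.QCohMod

/-- Finite presentation of modules is local for a covering by principal opens. -/
theorem finitePresentation_of_span {R : Type u} [CommRing R] {A : Type u} [AddCommGroup A]
    [Module R A] [Module.Finite R A] (s : Set R) (hs : Ideal.span s = ⊤)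
    (Rₚ : s → Type u) [∀ g, CommRing (Rₚ g)] [∀ g, Algebra R (Rₚ g)]
    [∀ g : s, IsLocalization.Away g.1 (Rₚ g)]
    (Aₚ : s → Type u) [∀ g, AddCommGroup (Aₚ g)] [∀ g, Module R (Aₚ g)]
    [∀ g, Module (Rₚ g) (Aₚ g)] [∀ g, IsScalarTower R (Rₚ g) (Aₚ g)]
    (l : ∀ g : s, A →ₗ[R] Aₚ g) [∀ g : s, IsLocalizedModule (Submonoid.powers g.1) (l g)]
    (H : ∀ g : s, Module.FinitePresentation (Rₚ g) (Aₚ g)) : Module.FinitePresentation R A := by
  obtain ⟨n, φ, hφ⟩ := Module.Finite.exists_fin' R A
  refine Module.finitePresentation_of_surjective φ hφ ?_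
  let f : ∀ g : s, (Fin n → R) →ₗ[R] (Fin n → Rₚ g) := fun g =>
    (Algebra.linearMap R (Rₚ g)).compLeft (Fin n)
  haveI : ∀ g : s, IsLocalizedModule (Submonoid.powers g.1) (f g) := fun g =>
    IsLocalizedModule.pi (Submonoid.powers g.1) fun _ => Algebra.linearMap R (Rₚ g)
  refine Submodule.of_localizationSpan' s hs (Rₚ := Rₚ) f fun g => ?_
  rw [LinearMap.localized'_ker_eq_ker_localizedMap (Rₚ g) (Submonoid.powers g.1) (f g) (l g)]
  exact Module.FinitePresentation.fg_ker (h := H g) _
    (IsLocalizedModule.map_surjective (Submonoid.powers g.1) (f g) (l g) φ hφ)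

set_option backward.isDefEq.respectTransparency false in
/-- A presentation with finitely many generators and relations on `Spec R` gives a finitely
presented module of global sections. -/
theorem finitePresentation_of_presentation {R : CommRingCat.{u}} (N : (Spec R).Modules)
    (P : N.Presentation) (hP : P.IsFinite) :
    Module.FinitePresentation R ((moduleSpecΓFunctor (R := R)).obj N) := by
  haveI := hP
  let g := (tilde.functor R).preimage <| (tildeFinsupp P.relations.I).hom ≫ P.relations.π ≫
    kernel.ι _ ≫ (tildeFinsupp P.generators.I).inv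
  let iso : cokernel ((tilde.functor R).map g) ≅ cokernel (P.relations.π ≫ kernel.ι _) := by
    refine cokernel.mapIso _ _ (tildeFinsupp _) (tildeFinsupp _) ?_
    simp only [g, (tilde.functor R).map_preimage]
    simp
  let e : (tilde.functor R).obj (cokernel g) ≅ N := PreservesCokernel.iso (tilde.functor R) g ≪≫
    iso ≪≫ IsColimit.coconePointUniqueUpToIso (colimit.isColimit _) P.isColimit
  let e' : cokernel g ≅ (moduleSpecΓFunctor (R := R)).obj N :=
    tilde.toTildeΓNatIso.app (cokernel g) ≪≫ (moduleSpecΓFunctor (R := R)).mapIso e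
  haveI : Finite P.generators.I := hP.isFiniteType_generators.finite
  haveI : Finite P.relations.I := hP.isFiniteType_relations.finite
  haveI : Module.Finite R (P.generators.I →₀ R) := Module.Finite.finsupp
  haveI : Module.Finite R (P.relations.I →₀ R) := Module.Finite.finsupp
  haveI : Module.FinitePresentation R (P.generators.I →₀ R) :=
    Module.finitePresentation_of_projective _ _
  haveI hq : Module.FinitePresentation R ((P.generators.I →₀ R) ⧸ LinearMap.range g.hom) :=
    Module.finitePresentation_of_surjective (Submodule.mkQ _)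
      (Submodule.mkQ_surjective _) (by
        rw [Submodule.ker_mkQ, LinearMap.range_eq_map]
        exact Submodule.FG.map _ Module.Finite.fg_top)
  haveI : Module.FinitePresentation R (cokernel g : ModuleCat R) :=
    Module.FinitePresentation.of_equiv
      (ModuleCat.cokernelIsoRangeQuotient g).toLinearEquiv.symm
  exact Module.FinitePresentation.of_equiv e'.toLinearEquiv

variable {X : Scheme.{u}}

set_option backward.isDefEq.respectTransparency false in
/-- A presentation near an affine open gives finitely presented sections on it. -/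
theorem finitePresentation_sections_of_presentation (M : X.Modules) {W : X.Opens}
    (P : (M.restrict W.ι).Presentation) (hP : P.IsFinite) {D : X.Opens} (hD : IsAffineOpen D)
    (hDW : D ≤ W) : Module.FinitePresentation Γ(X, D) Γ(M, D) := by
  haveI := IsAffineOpen.isOpenImmersion_fromSpec hD
  let j : Spec Γ(X, D) ⟶ W := IsOpenImmersion.lift W.ι hD.fromSpec (by
    rw [Scheme.Opens.range_ι, hD.range_fromSpec]; exact hDW)
  have hj : j ≫ W.ι = hD.fromSpec := IsOpenImmersion.lift_fac _ _ _
  haveI : IsOpenImmersion (j ≫ W.ι) := hj ▸ inferInstance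
  haveI : IsOpenImmersion j := IsOpenImmersion.of_comp j W.ι
  let i : (Scheme.Modules.restrictFunctor j).obj ((Scheme.Modules.restrictFunctor W.ι).obj M) ≅
      (Scheme.Modules.restrictFunctor hD.fromSpec).obj M :=
    (Scheme.Modules.restrictFunctorComp j W.ι).symm.app M ≪≫
      (Scheme.Modules.restrictFunctorCongr hj).app M
  haveI : IsIso (C := SheafOfModules.{u} _) i.hom := inferInstanceAs (IsIso i.hom)
  let Q : (M.restrict hD.fromSpec).Presentation :=
    SheafOfModules.Presentation.ofIsIso.{u, u, u} i.hom (Scheme.Modules.presentationRestrict j P)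
  have hQ : Q.IsFinite :=
    ⟨⟨(hP.isFiniteType_generators.finite : Finite P.generators.I)⟩,
      ⟨(hP.isFiniteType_relations.finite : Finite P.relations.I)⟩⟩
  haveI := finitePresentation_of_presentation _ Q hQ
  let e : (moduleSpecΓFunctor (R := Γ(X, D))).obj (M.restrict hD.fromSpec) ≃ₗ[Γ(X, D)] Γ(M, D) :=
    { topEquiv hD M with
      map_smul' := fun r x => by
        have := secEquiv_smul hD M ⊤ (image_top_fromSpec hD) le_rfl r x
        rw [resFun_self] at this
        exact this }
  exact Module.FinitePresentation.of_equiv e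

/-- Sections on `D(g)` as a module over the sections on `U`. -/
@[reducible]
noncomputable def resModule (M : X.Modules) {U : X.Opens} (g : Γ(X, U)) :
    Module Γ(X, U) Γ(M, X.basicOpen g) :=
  Module.compHom _ (resFun X (X.basicOpen_le g))

theorem isScalarTower_resModule (M : X.Modules) {U : X.Opens} (g : Γ(X, U)) :
    letI := resModule M g
    IsScalarTower Γ(X, U) Γ(X, X.basicOpen g) Γ(M, X.basicOpen g) :=
  letI := resModule M g
  ⟨fun r a m => by
    change (resFun X (X.basicOpen_le g) r * a) • m = _
    rw [mul_smul]; rfl⟩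

/-- Restriction to `D(g)` as a linear map. -/
noncomputable def resₗ (M : X.Modules) {U : X.Opens} (g : Γ(X, U)) :
    letI := resModule M g
    Γ(M, U) →ₗ[Γ(X, U)] Γ(M, X.basicOpen g) :=
  letI := resModule M g
  { res M (X.basicOpen_le g) with map_smul' := fun r m => res_smul M _ r m }

/-- Restriction to a principal open of an affine open is the localization. -/
theorem isLocalizedModule_resₗ (M : X.Modules) [M.IsQuasicoherent] {U : X.Opens}
    (hU : IsAffineOpen U) (g : Γ(X, U)) :
    letI := resModule M g
    IsLocalizedModule (Submonoid.powers g) (resₗ M g) := by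
  let _ := resModule M g
  refine IsLocalizedModule.Away.mk_of_addCommGroup ?_ (fun y => ?_) fun x hx => ?_
  · have hu : IsUnit (resFun X (X.basicOpen_le g) g) :=
      RingedSpace.isUnit_res_basicOpen X.toRingedSpace g
    rw [Module.End.isUnit_iff]
    exact hu.smul_bijective
  · obtain ⟨n, t, ht⟩ := exists_pow_smul_eq_res M hU g y
    refine ⟨n, t, ?_⟩
    change resFun X (X.basicOpen_le g) (g ^ n) • y = _
    rw [map_pow]
    exact ht.symm
  · exact exists_pow_smul_eq_zero M hU g x hx

/-- The sections of a quasi-coherent module of finite presentation over an affine open are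
finitely presented. -/
theorem finitePresentation_sections (M : X.Modules) [M.IsQuasicoherent] (hM : CohB1.IsFP M)
    {U : X.Opens} (hU : IsAffineOpen U) : Module.FinitePresentation Γ(X, U) Γ(M, U) := by
  choose V hV P hP using exists_presentation_of_isFP M hM
  have hft : CohB1.IsFT M := isFT_of_cover M V (fun x => ⟨x, hV x⟩) (fun x => (P x).generators)
    fun x => (hP x).isFiniteType_generators.finite
  haveI := finite_sections M hft hU
  let s : Set Γ(X, U) := {g | ∃ x, X.basicOpen g ≤ V x}
  have hs : Ideal.span s = ⊤ := by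
    rw [← hU.iSup_basicOpen_eq_self_iff]
    refine le_antisymm (iSup_le fun g => X.basicOpen_le _) fun x hx => ?_
    obtain ⟨g, hxg, hg⟩ := exists_basicOpen_mem hU hx (hV x)
    exact Opens.mem_iSup.mpr ⟨⟨g, x, hg⟩, hxg⟩
  letI : ∀ g : s, Module Γ(X, U) Γ(M, X.basicOpen g.1) := fun g => resModule M g.1
  haveI : ∀ g : s, IsScalarTower Γ(X, U) Γ(X, X.basicOpen g.1) Γ(M, X.basicOpen g.1) := fun g =>
    isScalarTower_resModule M g.1
  let l : ∀ g : s, Γ(M, U) →ₗ[Γ(X, U)] Γ(M, X.basicOpen g.1) := fun g => resₗ M g.1
  haveI : ∀ g : s, IsLocalization.Away g.1 Γ(X, X.basicOpen g.1) := fun g =>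
    IsAffineOpen.isLocalization_basicOpen hU g.1
  haveI : ∀ g : s, IsLocalizedModule (Submonoid.powers g.1) (l g) := fun g =>
    isLocalizedModule_resₗ M hU g.1
  refine finitePresentation_of_span s hs (fun g : s => Γ(X, X.basicOpen g.1))
    (fun g : s => Γ(M, X.basicOpen g.1)) l fun g => ?_
  obtain ⟨x, hgx⟩ := g.2
  exact finitePresentation_sections_of_presentation M (P x) (hP x) (hU.basicOpen g.1) hgx

/-- The module associated to a finitely presented module is of finite presentation. -/
theorem isFP_tilde {R : CommRingCat.{u}} (M : ModuleCat.{u} R) [Module.FinitePresentation R M] :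
    CohB1.IsFP (tilde M) := by
  obtain ⟨s, hs, hk⟩ := Module.FinitePresentation.out (R := R) (M := M)
  obtain ⟨t, ht⟩ := hk
  let P := presentationTilde (R := R) (M := M) (s : Set M) hs (t : Set ((s : Set M) →₀ R)) ht
  have hP : P.IsFinite := ⟨⟨(inferInstance : Finite (s : Set M))⟩,
    ⟨(inferInstance : Finite (t : Set ((s : Set M) →₀ R)))⟩⟩
  refine isFP_of_cover (tilde M) (fun _ : PUnit.{u + 1} => (⊤ : (Spec R).Opens))
    (fun x => ⟨⟨⟩, trivial⟩) (fun _ => Scheme.Modules.presentationRestrict _ P) fun _ => ?_
  exact ⟨⟨hP.isFiniteType_generators.finite⟩, ⟨hP.isFiniteType_relations.finite⟩⟩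

/-- `Γ(Spec R, O) = R`. -/
theorem bijective_algebraMap_Γ (R : CommRingCat.{u}) :
    Function.Bijective (algebraMap R Γ(Spec R, (⊤ : (Spec R).Opens))) := by
  have h : Function.Bijective (Scheme.ΓSpecIso R).inv :=
    ConcreteCategory.bijective_of_isIso (Scheme.ΓSpecIso R).inv
  exact h

/-- `M ≅ Γ(tilde M)`. -/
noncomputable def topLinearEquiv {R : CommRingCat.{u}} (M : ModuleCat.{u} R) :
    M ≃ₗ[R] Γ(tilde M, (⊤ : (Spec R).Opens)) :=
  (tilde.isoTop M).toLinearEquiv

/-- The module associated to a module is of finite type exactly when the module is finite. -/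
theorem isFT_tilde_iff {R : CommRingCat.{u}} (M : ModuleCat.{u} R) :
    CohB1.IsFT (tilde M) ↔ Module.Finite R M := by
  haveI : Module.Finite R Γ(Spec R, (⊤ : (Spec R).Opens)) :=
    Module.Finite.of_surjective (Algebra.linearMap R _) (bijective_algebraMap_Γ R).2
  constructor
  · intro h
    haveI := finite_sections (tilde M) h (isAffineOpen_top (Spec R))
    haveI : Module.Finite R Γ(tilde M, (⊤ : (Spec R).Opens)) :=
      Module.Finite.trans Γ(Spec R, (⊤ : (Spec R).Opens)) _
    exact Module.Finite.equiv (topLinearEquiv M).symm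
  · intro h
    haveI : Module.Finite R Γ(tilde M, (⊤ : (Spec R).Opens)) :=
      Module.Finite.equiv (topLinearEquiv M)
    exact isFT_of_affine_cover _ fun x =>
      ⟨⊤, isAffineOpen_top _, trivial, Module.Finite.of_restrictScalars_finite R _ _⟩

/-- The module associated to a module is of finite presentation exactly when the module is. -/
theorem isFP_tilde_iff {R : CommRingCat.{u}} (M : ModuleCat.{u} R) :
    CohB1.IsFP (tilde M) ↔ Module.FinitePresentation R M := by
  refine ⟨fun h => ?_, fun h => isFP_tilde M⟩
  haveI : Module.FinitePresentation R Γ(Spec R, (⊤ : (Spec R).Opens)) :=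
    Module.FinitePresentation.of_equiv
      (LinearEquiv.ofBijective (Algebra.linearMap R _) (bijective_algebraMap_Γ R))
  haveI := finitePresentation_sections (tilde M) h (isAffineOpen_top (Spec R))
  haveI : Module.FinitePresentation R Γ(tilde M, (⊤ : (Spec R).Opens)) :=
    Module.FinitePresentation.trans R _ Γ(Spec R, (⊤ : (Spec R).Opens))
  exact Module.FinitePresentation.of_equiv (topLinearEquiv M).symm

end Groth.PropsBasic.FPSections
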