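import Mathlib
import Groth.Prelude.Def_Curv2
import Groth.Prelude.Def_Pi1
import Groth.Agent.PropsBasic2.SchTop

/-! Morphisms from normal schemes factor through the normalization. -/

universe u

open CategoryTheory Limits AlgebraicGeometry TopologicalSpace Polynomial

set_option backward.isDefEq.respectTransparency.types false

namespace Groth.PropsBasic.NormalizationFac

variable (X : Scheme.{u}) [IsIntegral X] [QuasiCompact (X.fromSpecStalk (genericPoint X))]
  [QuasiSeparated (X.fromSpecStalk (genericPoint X))]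

local notation "ν" => Curv2.normalizationι X

instance : IsIntegralHom ν :=
  inferInstanceAs (IsIntegralHom (X.fromSpecStalk (genericPoint X)).fromNormalization)

section Sections

variable {X} {U : X.Opens} (hU : IsAffineOpen U) [hne : Nonempty U]

include hU

/-- The sections of the normalization over an affine open form a ring of fractions `r/s`, integral
over the sections downstairs, which inject. -/
lemma exists_fraction :
    Function.Injective ((Curv2.normalizationι X).app U) ∧ ∀ b : Γ(Curv2.normalization X, ν ⁻¹ᵁ U),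
      ∃ r s : Γ(X, U), s ≠ 0 ∧ b * (Curv2.normalizationι X).app U s = (Curv2.normalizationι X).app U r := by
  set ξ := genericPoint X
  set f := X.fromSpecStalk ξ
  have hξ : ξ ∈ U := ((genericPoint_spec X).mem_open_set_iff U.isOpen).mpr (by simpa using hne)
  letI := (f.app U).hom.toAlgebra
  have htop : f ⁻¹ᵁ U = ⊤ := top_le_iff.mp fun p _ => by
    have : f p ∈ Set.range f := ⟨p, rfl⟩
    rw [Scheme.range_fromSpecStalk] at this
    exact (this : f p ⤳ ξ).mem_open U.2 hξ
  let k : Γ(Curv2.normalization X, ν ⁻¹ᵁ U) ⟶ Γ(Spec (X.presheaf.stalk ξ), f ⁻¹ᵁ U) :=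
    f.toNormalization.appLE (ν ⁻¹ᵁ U) (f ⁻¹ᵁ U)
    (by show f ⁻¹ᵁ U ≤ f.toNormalization ⁻¹ᵁ f.fromNormalization ⁻¹ᵁ U
        rw [← Scheme.Hom.comp_preimage, Scheme.Hom.toNormalization_fromNormalization])
  have hk : Function.Injective k := by
    have : k = (f.normalizationObjIso hU).hom ≫ CommRingCat.ofHom (Subalgebra.val _).toRingHom :=
      (f.normalizationObjIso_hom_val hU).symm
    rw [this]
    exact Subtype.val_injective.comp
      (ConcreteCategory.bijective_of_isIso (f.normalizationObjIso hU).hom).1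
  have hkν : (Curv2.normalizationι X).app U ≫ k = f.app U := by
    show f.fromNormalization.app U ≫ f.toNormalization.appLE _ _ _ = _
    simp only [Scheme.Hom.app_eq_appLE, Scheme.Hom.appLE_comp_appLE,
      Scheme.Hom.toNormalization_fromNormalization]
  have hfU : f.app U = X.germToFunctionField U ≫ (Scheme.ΓSpecIso _).inv ≫
      (Spec _).presheaf.map (homOfLE le_top).op := Scheme.fromSpecStalk_app hξ
  have hiso : IsIso ((Spec (X.presheaf.stalk ξ)).presheaf.map
      (homOfLE (le_top : f ⁻¹ᵁ U ≤ ⊤)).op) := by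
    have : IsIso (homOfLE (le_top : f ⁻¹ᵁ U ≤ ⊤)) :=
      ⟨⟨homOfLE htop.ge, Subsingleton.elim _ _, Subsingleton.elim _ _⟩⟩
    infer_instance
  let e := (Scheme.ΓSpecIso (X.presheaf.stalk ξ)).inv ≫
      (Spec _).presheaf.map (homOfLE (le_top : f ⁻¹ᵁ U ≤ ⊤)).op
  have he : Function.Bijective e := ConcreteCategory.bijective_of_isIso e
  have hfe : ∀ a, f.app U a = e (X.germToFunctionField U a) := fun a => by rw [hfU]; rfl
  refine ⟨fun a b hab => X.germToFunctionField_injective U (he.1 ?_), fun b => ?_⟩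
  · rw [← hfe, ← hfe, ← hkν, CommRingCat.comp_apply, CommRingCat.comp_apply, hab]
  · obtain ⟨c, hc⟩ := he.2 (k b)
    have := functionField_isFractionRing_of_isAffineOpen X U hU
    obtain ⟨⟨r, s⟩, hrs⟩ := IsLocalization.surj (nonZeroDivisors Γ(X, U)) (S := X.functionField) c
    refine ⟨r, s, nonZeroDivisors.ne_zero s.2, hk ?_⟩
    rw [map_mul, ← CommRingCat.comp_apply, ← CommRingCat.comp_apply, hkν, hfe, hfe, ← hc,
      ← map_mul]
    exact congrArg e hrs

lemma exists_monic (r s : Γ(X, U)) (b : Γ(Curv2.normalization X, ν ⁻¹ᵁ U))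
    (h : b * (Curv2.normalizationι X).app U s = (Curv2.normalizationι X).app U r) :
    ∃ P : Γ(X, U)[X], P.Monic ∧ (scaleRoots P s).eval r = 0 := by
  obtain ⟨P, hP, hPb⟩ := IsIntegralHom.isIntegral_app ν U hU b
  refine ⟨P, hP, (exists_fraction hU).1 ?_⟩
  rw [map_zero, ← eval₂_at_apply ((Curv2.normalizationι X).app U).hom r, ← h, mul_comm]
  exact scaleRoots_eval₂_eq_zero _ hPb

end Sections

variable {X} {Z : Scheme.{u}} {g : Z ⟶ X}

/-- An element of an integrally closed domain which is integral after division is divisible. -/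
lemma dvd_of_scaleRoots {A R : Type u} [CommRing A] [CommRing R] [IsDomain R] [IsIntegrallyClosed R]
    (φ : A →+* R) {r s : A} {P : A[X]} (hP : P.Monic) (h : (scaleRoots P s).eval r = 0)
    (hs : φ s ≠ 0) : ∃ q : R, q * φ s = φ r := by
  let K := FractionRing R
  let c : K := algebraMap R K (φ r) / algebraMap R K (φ s)
  have hs' : algebraMap R K (φ s) ≠ 0 := by simpa using hs
  have hc : eval₂ ((algebraMap R K).comp φ) c P = 0 := by
    have h1 := congrArg ((algebraMap R K).comp φ) h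
    rw [map_zero, ← eval₂_at_apply,
      show ((algebraMap R K).comp φ) r = ((algebraMap R K).comp φ) s * c by
        simp only [RingHom.comp_apply, c]; rw [mul_div_cancel₀ _ hs'],
      scaleRoots_eval₂_mul] at h1
    exact (mul_eq_zero.mp h1).resolve_left (pow_ne_zero _ hs')
  have hint : IsIntegral R c := ⟨P.map φ, hP.map φ, by rw [eval₂_map]; exact hc⟩
  obtain ⟨q, hq⟩ := IsIntegrallyClosed.isIntegral_iff.mp hint
  refine ⟨q, IsFractionRing.injective R K ?_⟩
  rw [map_mul, hq, div_mul_cancel₀ _ hs']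

section Local

variable {U : X.Opens} (hU : IsAffineOpen U) (hN : Pi1.IsNormalScheme Z)
  (hdom : ∀ z : Z, closure {z} ∈ irreducibleComponents ↥Z → g z = genericPoint ↥X)
  {V : Z.Opens} (hle : V ≤ g ⁻¹ᵁ U)

include hN hdom in
lemma germ_ne_zero {z : Z} (hz : z ∈ V) {s : Γ(X, U)} (hs : s ≠ 0) :
    Z.presheaf.germ V z hz (g.appLE U V hle s) ≠ 0 := by
  obtain ⟨z₀, hz₀, hsp⟩ := Groth.PropsBasic2.exists_genericPoint_specializes z
  have hz₀V : z₀ ∈ V := hsp.mem_open V.2 hz
  have : Nonempty U := ⟨⟨g z, hle hz⟩⟩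
  intro h
  have h2 : Z.presheaf.germ V z₀ hz₀V (g.appLE U V hle s) = 0 := by
    rw [← TopCat.Presheaf.germ_stalkSpecializes (F := Z.presheaf) hz hsp, CommRingCat.comp_apply, h,
      map_zero]
  have h3 : g.stalkMap z₀ (X.presheaf.germ U (g z₀) (hle hz₀V) s) = 0 := by
    rw [Scheme.Hom.germ_stalkMap_apply, ← h2, Scheme.Hom.appLE, CommRingCat.comp_apply,
      TopCat.Presheaf.germ_res_apply]
  have h4 : X.presheaf.germ U (g z₀) (hle hz₀V) s ≠ 0 := fun e =>
    hs (germ_injective_of_isIntegral X (g z₀) (hle hz₀V) (e.trans (map_zero _).symm))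
  have := (hN z₀).1
  have hu : IsUnit (X.presheaf.germ U (g z₀) (hle hz₀V) s) := by
    have : ∀ y : X, y = genericPoint X → IsField (X.presheaf.stalk y) := fun y hy => by
      subst hy; exact Field.toIsField X.functionField
    letI := (this _ (hdom z₀ hz₀)).toField
    exact isUnit_iff_ne_zero.mpr h4
  exact (hu.map (g.stalkMap z₀).hom).ne_zero h3

include hU hN hdom in
lemma existsUnique_section {r s : Γ(X, U)} (hs : s ≠ 0) {P : Γ(X, U)[X]} (hP : P.Monic)
    (h : (scaleRoots P s).eval r = 0) :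
    ∃ q : Γ(Z, V), q * g.appLE U V hle s = g.appLE U V hle r := by
  have hloc : ∀ z : V, ∃ (W : Z.Opens) (_ : z.1 ∈ W) (i : W ≤ V) (q : Γ(Z, W)),
      q * Z.presheaf.map (homOfLE i).op (g.appLE U V hle s) =
        Z.presheaf.map (homOfLE i).op (g.appLE U V hle r) := by
    rintro ⟨z, hz⟩
    obtain ⟨hdomz, hicz⟩ := hN z
    obtain ⟨qz, hqz⟩ := dvd_of_scaleRoots ((Z.presheaf.germ V z hz).hom.comp (g.appLE U V hle).hom)
      hP h (germ_ne_zero hN hdom hle hz hs)
    obtain ⟨W, hzW, q, rfl⟩ := Z.presheaf.exists_germ_eq qz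
    let W₀ : Z.Opens := W ⊓ V
    have hzW₀ : z ∈ W₀ := ⟨hzW, hz⟩
    have h2 : Z.presheaf.germ W₀ z hzW₀ (Z.presheaf.map (homOfLE inf_le_left).op q *
        Z.presheaf.map (homOfLE inf_le_right).op (g.appLE U V hle s)) =
        Z.presheaf.germ V z hz (g.appLE U V hle r) := by
      rw [map_mul, TopCat.Presheaf.germ_res_apply, TopCat.Presheaf.germ_res_apply]
      exact hqz
    obtain ⟨W₁, hzW₁, i₁, i₂, h3⟩ := Z.presheaf.germ_eq z hzW₀ hz _ _ h2
    refine ⟨W₁, hzW₁, i₂.le,
      Z.presheaf.map i₁.op (Z.presheaf.map (homOfLE inf_le_left).op q), ?_⟩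
    rw [show homOfLE i₂.le = i₂ from Subsingleton.elim _ _, ← h3, map_mul]
    congr 1
    simp only [← CommRingCat.comp_apply, Category.assoc, ← Functor.map_comp]
    rfl
  choose W hzW hWV q hq using hloc
  have hres : ∀ (O : Z.Opens) (i : V) (j : O ≤ W i),
      Z.presheaf.map (homOfLE j).op (q i) * Z.presheaf.map (homOfLE (j.trans (hWV i))).op (g.appLE U V hle s) =
        Z.presheaf.map (homOfLE (j.trans (hWV i))).op (g.appLE U V hle r) := fun O i j => by
    rw [show (homOfLE (j.trans (hWV i))).op = (homOfLE (hWV i)).op ≫ (homOfLE j).op from rfl,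
      Functor.map_comp, CommRingCat.comp_apply, CommRingCat.comp_apply, ← map_mul, hq]
  have hcancel : ∀ (O : Z.Opens) (i : O ≤ V) (a b : Γ(Z, O)),
      a * Z.presheaf.map (homOfLE i).op (g.appLE U V hle s) =
        b * Z.presheaf.map (homOfLE i).op (g.appLE U V hle s) → a = b := fun O i a b hab => by
    refine TopCat.Presheaf.section_ext Z.sheaf O a b fun z hz => ?_
    change Z.presheaf.germ O z hz a = Z.presheaf.germ O z hz b
    have := (hN z).1
    have h1 := congrArg (Z.presheaf.germ O z hz) hab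
    rw [map_mul, map_mul, TopCat.Presheaf.germ_res_apply] at h1
    exact mul_right_cancel₀ (germ_ne_zero hN hdom hle (i hz) hs) h1
  obtain ⟨Q, hQ, -⟩ := Z.sheaf.existsUnique_gluing' W V (fun z => homOfLE (hWV z))
    (fun z hz => Opens.mem_iSup.mpr ⟨⟨z, hz⟩, hzW _⟩) q (fun i j => by
      refine hcancel (W i ⊓ W j) (inf_le_left.trans (hWV i)) _ _ ?_
      exact (hres _ i inf_le_left).trans (hres _ j inf_le_right).symm)
  refine ⟨(show Γ(Z, V) from Q), Z.sheaf.eq_of_locally_eq' W V (fun z => homOfLE (hWV z))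
    (fun z hz => Opens.mem_iSup.mpr ⟨⟨z, hz⟩, hzW _⟩) _ _ fun z => ?_⟩
  change Z.presheaf.map (homOfLE (hWV z)).op ((show Γ(Z, V) from Q) * g.appLE U V hle s) = _
  rw [map_mul, show Z.presheaf.map (homOfLE (hWV z)).op (show Γ(Z, V) from Q) = q z from hQ z]
  exact hq z

include hN hdom in
lemma cancel {s : Γ(X, U)} (hs : s ≠ 0) {a b : Γ(Z, V)}
    (hab : a * g.appLE U V hle s = b * g.appLE U V hle s) : a = b := by
  refine TopCat.Presheaf.section_ext Z.sheaf V a b fun z hz => ?_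
  change Z.presheaf.germ V z hz a = Z.presheaf.germ V z hz b
  have := (hN z).1
  have h1 := congrArg (Z.presheaf.germ V z hz) hab
  rw [map_mul, map_mul] at h1
  exact mul_right_cancel₀ (germ_ne_zero hN hdom hle hz hs) h1

include hU hN hdom in
/-- The map on sections from the normalization to a normal scheme. -/
lemma exists_appHom [hne : Nonempty U] :
    ∃ φ : Γ(Curv2.normalization X, ν ⁻¹ᵁ U) ⟶ Γ(Z, V), (Curv2.normalizationι X).app U ≫ φ = g.appLE U V hle := by
  classical
  obtain ⟨hinj, hfrac⟩ := exists_fraction hU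
  choose r s hs hb using hfrac
  have hex : ∀ b, ∃ q : Γ(Z, V), q * g.appLE U V hle (s b) = g.appLE U V hle (r b) := fun b => by
    obtain ⟨P, hP, hPe⟩ := exists_monic hU _ _ b (hb b)
    exact existsUnique_section hU hN hdom hle (hs b) hP hPe
  choose q hq using hex
  have key : ∀ b r' s', b * (Curv2.normalizationι X).app U s' = (Curv2.normalizationι X).app U r' →
      q b * g.appLE U V hle s' = g.appLE U V hle r' := fun b r' s' h => by
    refine cancel hN hdom hle (hs b) ?_
    have h1 : r' * s b = r b * s' := hinj (by rw [map_mul, map_mul, ← h, ← hb b]; ring)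
    rw [mul_right_comm, hq, ← map_mul, ← h1, map_mul]
  refine ⟨CommRingCat.ofHom
    { toFun := q
      map_one' := ?_
      map_mul' := fun a b => ?_
      map_zero' := ?_
      map_add' := fun a b => ?_ }, ?_⟩
  · refine cancel hN hdom hle (s := 1) one_ne_zero ?_
    rw [one_mul, key 1 1 1 (by simp)]
  · refine cancel hN hdom hle (mul_ne_zero (hs a) (hs b)) ?_
    rw [key (a * b) (r a * r b) (s a * s b) (by rw [map_mul, map_mul, ← hb a, ← hb b]; ring),
      map_mul, map_mul, ← hq a, ← hq b]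
    ring
  · refine cancel hN hdom hle (s := 1) one_ne_zero ?_
    rw [key 0 0 1 (by simp), zero_mul, map_zero]
  · refine cancel hN hdom hle (mul_ne_zero (hs a) (hs b)) ?_
    rw [key (a + b) (r a * s b + r b * s a) (s a * s b)
      (by simp only [map_add, map_mul, ← hb a, ← hb b]; ring), map_add, map_mul, map_mul, map_mul,
      ← hq a, ← hq b]
    ring
  · ext a
    refine cancel hN hdom hle (s := 1) one_ne_zero ?_
    change q ((Curv2.normalizationι X).app U a) * _ = _
    rw [key _ a 1 (by simp), map_one, mul_one]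

include hU hN hdom in
lemma appHom_unique [hne : Nonempty U] (φ ψ : Γ(Curv2.normalization X, ν ⁻¹ᵁ U) ⟶ Γ(Z, V))
    (hφ : (Curv2.normalizationι X).app U ≫ φ = g.appLE U V hle) (hψ : (Curv2.normalizationι X).app U ≫ ψ = g.appLE U V hle) : φ = ψ := by
  ext b
  obtain ⟨r, s, hs, hb⟩ := (exists_fraction hU).2 b
  refine cancel hN hdom hle hs ?_
  have h1 := congrArg φ hb
  have h2 := congrArg ψ hb
  rw [map_mul, ← CommRingCat.comp_apply, ← CommRingCat.comp_apply, hφ] at h1
  rw [map_mul, ← CommRingCat.comp_apply, ← CommRingCat.comp_apply, hψ] at h2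
  exact h1.trans h2.symm

include hU hN hdom hle in
lemma exists_local_fac [Nonempty U] :
    ∃ h : V.toScheme ⟶ Curv2.normalization X, h ≫ ν = V.ι ≫ g := by
  obtain ⟨φ, hφ⟩ := exists_appHom hU hN hdom hle
  refine ⟨V.toSpecΓ ≫ Spec.map φ ≫ (hU.preimage ν).fromSpec, ?_⟩
  have h := IsAffineOpen.SpecMap_appLE_fromSpec ν hU (hU.preimage ν) le_rfl
  rw [← Scheme.Hom.app_eq_appLE] at h
  simp only [Category.assoc]
  rw [← h, ← Spec.map_comp_assoc, hφ, Scheme.Opens.toSpecΓ_SpecMap_appLE_assoc,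
    hU.toSpecΓ_fromSpec, Scheme.Hom.resLE_comp_ι]

include hU hN hdom hle in
lemma local_fac_unique [Nonempty U] (h₁ h₂ : V.toScheme ⟶ Curv2.normalization X)
    (e₁ : h₁ ≫ ν = V.ι ≫ g) (e₂ : h₂ ≫ ν = V.ι ≫ g) : h₁ = h₂ := by
  let P := ν ⁻¹ᵁ U
  have hP : ∀ h : V.toScheme ⟶ Curv2.normalization X, h ≫ ν = V.ι ≫ g → ⊤ ≤ h ⁻¹ᵁ P := fun h e => by
    rw [← Scheme.Hom.comp_preimage, e, Scheme.Hom.comp_preimage]
    exact fun p _ => hle p.2
  have hlift : ∀ h : V.toScheme ⟶ Curv2.normalization X, ∀ e : ⊤ ≤ h ⁻¹ᵁ P,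
      h.resLE P ⊤ e ≫ P.ι = V.toScheme.topIso.hom ≫ h := fun h e => h.resLE_comp_ι e
  have : IsAffine P := hU.preimage ν
  suffices h₁.resLE P ⊤ (hP _ e₁) = h₂.resLE P ⊤ (hP _ e₂) by
    rw [← cancel_epi V.toScheme.topIso.hom, ← hlift _ (hP _ e₁), ← hlift _ (hP _ e₂), this]
  have key : ∀ h : V.toScheme ⟶ Curv2.normalization X, ∀ (e : h ≫ ν = V.ι ≫ g),
      (Curv2.normalizationι X).app U ≫ h.appLE P ⊤ (hP h e) ≫ V.topIso.hom = g.appLE U V hle := fun h e => by
    have hc : ∀ (m m' : V.toScheme ⟶ X) (_ : m = m') (e₁ : ⊤ ≤ m ⁻¹ᵁ U) (e₂ : ⊤ ≤ m' ⁻¹ᵁ U),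
        m.appLE U ⊤ e₁ = m'.appLE U ⊤ e₂ := by rintro _ _ rfl _ _; rfl
    rw [← Category.assoc, ← Scheme.Hom.comp_appLE,
      hc _ _ e _ (fun p _ => hle p.2), Scheme.Hom.comp_appLE, Category.assoc]
    simp [Scheme.Opens.ι_app, Scheme.Opens.topIso_hom, Scheme.Hom.appLE]
    congr 1; erw [← Functor.map_comp, ← Functor.map_comp]; rfl
  have hu := appHom_unique hU hN hdom hle (h₁.appLE P ⊤ (hP _ e₁) ≫ V.topIso.hom)
    (h₂.appLE P ⊤ (hP _ e₂) ≫ V.topIso.hom) (key _ e₁) (key _ e₂)
  rw [cancel_mono] at hu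
  have : IsIso P.toSpecΓ := (inferInstance : IsIso (hU.preimage ν).isoSpec.hom)
  rw [← cancel_mono P.toSpecΓ, ← Scheme.Opens.toSpecΓ_SpecMap_appLE,
    ← Scheme.Opens.toSpecΓ_SpecMap_appLE, hu]

end Local

/-- EGA II 6.3.9 / Stacks 035Q. -/
lemma existsUnique_fac (hN : Pi1.IsNormalScheme Z)
    (hdom : ∀ z : Z, closure {z} ∈ irreducibleComponents ↥Z → g z = genericPoint ↥X) :
    ∃! h : Z ⟶ Curv2.normalization X, h ≫ ν = g := by
  have hcov : ∀ z : Z, ∃ (U : X.Opens) (V : Z.Opens),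
      IsAffineOpen U ∧ Nonempty U ∧ z ∈ V ∧ V ≤ g ⁻¹ᵁ U := fun z => by
    obtain ⟨_, ⟨U : X.Opens, hU, rfl⟩, hzU, -⟩ :=
      X.isBasis_affineOpens.exists_subset_of_mem_open (Set.mem_univ (g z)) isOpen_univ
    exact ⟨U, g ⁻¹ᵁ U, hU, ⟨⟨g z, hzU⟩⟩, hzU, le_rfl⟩
  choose U V hU hne hzV hle using hcov
  have hVtop : (⨆ z, V z) = ⊤ := top_le_iff.mp fun z _ => Opens.mem_iSup.mpr ⟨z, hzV z⟩
  let 𝒱 : Z.OpenCover := Z.openCoverOfIsOpenCover V hVtop
  have hglue := fun z => have := hne z; exists_local_fac (hU z) hN hdom (hle z)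
  choose k hk using hglue
  have hcomp : ∀ x y, pullback.fst (V x).ι (V y).ι ≫ k x = pullback.snd (V x).ι (V y).ι ≫ k y := by
    intro x y
    have := hne x
    let W : Z.Opens := (pullback.fst (V x).ι (V y).ι ≫ (V x).ι).opensRange
    have hW : W ≤ g ⁻¹ᵁ U x := by
      rintro _ ⟨p, rfl⟩
      exact hle x ((pullback.fst (V x).ι (V y).ι p).2)
    let e := (pullback.fst (V x).ι (V y).ι ≫ (V x).ι).isoOpensRange
    have he : e.hom ≫ W.ι = pullback.fst (V x).ι (V y).ι ≫ (V x).ι :=
      Scheme.Hom.isoOpensRange_hom_ι _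
    rw [← cancel_epi e.inv]
    refine local_fac_unique (hU x) hN hdom hW _ _ ?_ ?_
    · rw [Category.assoc, Category.assoc, hk, reassoc_of% (show e.inv ≫ pullback.fst (V x).ι (V y).ι ≫ (V x).ι = W.ι from by
        exact (congrArg (e.inv ≫ ·) he.symm).trans (Iso.inv_hom_id_assoc _ _))]
    · rw [Category.assoc, Category.assoc, hk, ← pullback.condition_assoc,
        reassoc_of% (show e.inv ≫ pullback.fst (V x).ι (V y).ι ≫ (V x).ι = W.ι from by
        exact (congrArg (e.inv ≫ ·) he.symm).trans (Iso.inv_hom_id_assoc _ _))]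
  refine ⟨𝒱.glueMorphisms k hcomp, 𝒱.hom_ext _ _ fun z => ?_, fun h hh => 𝒱.hom_ext _ _ fun z => ?_⟩
  · exact (Scheme.Cover.ι_glueMorphisms_assoc 𝒱 k hcomp z ν).trans (hk z)
  · rw [Scheme.Cover.ι_glueMorphisms]
    have := hne z
    exact local_fac_unique (hU z) hN hdom (hle z) _ _ (by show ((V z).ι ≫ h) ≫ ν = _; rw [Category.assoc, hh]) (hk z)

end Groth.PropsBasic.NormalizationFac
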