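import Groth.Agent.PropsBasic.IdempotentNormal
import Groth.Agent.PropsBasic.NormalizationFac
import Groth.Agent.PropsBasic2.SchTop
import Groth.Prelude.Def_Pi1

/-!
# Normalization in a normal scheme with locally finitely many components
-/

set_option autoImplicit false
set_option linter.style.haveILetI false
set_option backward.isDefEq.respectTransparency.types false

universe u

open CategoryTheory CategoryTheory.Limits AlgebraicGeometry TopologicalSpace Polynomial

namespace Groth.PropsBasic.NormalizationNormal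

variable {Y : Scheme.{u}}

lemma isReduced_of_isNormal (hY : Pi1.IsNormalScheme Y) : IsReduced Y :=
  haveI : ∀ y, _root_.IsReduced (Y.presheaf.stalk y) := fun y =>
    haveI := (hY y).1
    inferInstance
  isReduced_of_isReduced_stalk Y

lemma eq_zero_of_evaluation [IsReduced Y] {O : Y.Opens} (s : Γ(Y, O))
    (h : ∀ η : Y, ∀ hη : η ∈ O, closure {η} ∈ irreducibleComponents ↥Y →
      Y.evaluation O η hη s = 0) : s = 0 := by
  rw [← basicOpen_eq_bot_iff, eq_bot_iff]
  intro x hx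
  obtain ⟨η, hη, hηx⟩ := Groth.PropsBasic2.exists_genericPoint_specializes x
  have hη' := hηx.mem_open (Y.basicOpen s).isOpen hx
  exact absurd (h η (Y.basicOpen_le _ hη') hη)
    ((Y.evaluation_ne_zero_iff_mem_basicOpen η (Y.basicOpen_le _ hη') _).2 hη')

lemma genericPoint_unique (hY : Pi1.IsNormalScheme Y) {η η' y : Y}
    (hη : closure {η} ∈ irreducibleComponents ↥Y) (hη' : closure {η'} ∈ irreducibleComponents ↥Y)
    (h : η ⤳ y) (h' : η' ⤳ y) : η = η' := by
  obtain ⟨p, hp⟩ := Groth.PropsBasic2.mem_range_fromSpecStalk_iff.mpr h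
  obtain ⟨p', hp'⟩ := Groth.PropsBasic2.mem_range_fromSpecStalk_iff.mpr h'
  haveI := (hY y).1
  let b : PrimeSpectrum (Y.presheaf.stalk y) := ⟨⊥, Ideal.isPrime_bot⟩
  have hb : ∀ q, Y.fromSpecStalk y b ⤳ Y.fromSpecStalk y q := fun q =>
    ((PrimeSpectrum.le_iff_specializes b q).mp bot_le).map (Y.fromSpecStalk y).continuous
  exact ((Groth.PropsBasic2.closure_mem_irreducibleComponents_iff η).mp hη _ (hp ▸ hb p)).symm.trans
    ((Groth.PropsBasic2.closure_mem_irreducibleComponents_iff η').mp hη' _ (hp' ▸ hb p'))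

lemma evaluation_res {O O' : Y.Opens} (h : O' ≤ O) (η : Y) (hη : η ∈ O') (s : Γ(Y, O)) :
    Y.evaluation O' η hη ((Y.presheaf.map (homOfLE h).op).hom s) =
      Y.evaluation O η (h hη) s := by
  show Y.residue η (Y.presheaf.germ O' η hη _) = Y.residue η (Y.presheaf.germ O η (h hη) s)
  rw [TopCat.Presheaf.germ_res_apply]

/-- The generic points of components inside an open. -/
abbrev Gen (W : Y.Opens) : Type u :=
  {η : Y // η ∈ W ∧ closure {η} ∈ irreducibleComponents ↥Y}

lemma finite_gen (hfin : LocallyFinite (fun Z : ↥(irreducibleComponents ↥Y) => (Z : Set ↥Y)))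
    {W : Y.Opens} (hW : IsCompact (W : Set Y)) : Finite (Gen W) := by
  haveI := (hfin.finite_nonempty_inter_compact hW).to_subtype
  refine Finite.of_injective (fun x : Gen W =>
    (⟨⟨closure {x.1}, x.2.2⟩, x.1, subset_closure rfl, x.2.1⟩ :
      {Z : ↥(irreducibleComponents ↥Y) | ((Z : Set Y) ∩ (W : Set Y)).Nonempty})) ?_
  intro x y hxy
  have hcl : closure {x.1} = closure ({y.1} : Set Y) := congrArg (fun Z => (Z.1.1 : Set Y)) hxy
  exact Subtype.ext (isGenericPoint_closure.eq (hcl ▸ isGenericPoint_closure))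

variable {W : Y.Opens} [Finite (Gen W)]

/-- The part of `W` meeting only the component of `η`. -/
def piece (η : Gen W) : Y.Opens :=
  ⟨(W : Set Y) ∩ (⋃ η' : {η' : Gen W // η' ≠ η}, closure {η'.1.1})ᶜ,
    W.isOpen.inter (isClosed_iUnion_of_finite fun _ => isClosed_closure).isOpen_compl⟩

lemma piece_le (η : Gen W) : piece η ≤ W := fun _ h => h.1

lemma eq_of_mem_piece {η η' : Gen W} (h : η'.1 ∈ piece η) : η' = η := by
  by_contra hne
  exact h.2 (Set.mem_iUnion.mpr ⟨⟨η', hne⟩, subset_closure rfl⟩)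

lemma mem_piece (hY : Pi1.IsNormalScheme Y) {η : Gen W} {y : Y} (hy : y ∈ W) (h : η.1 ⤳ y) :
    y ∈ piece η := by
  refine ⟨hy, fun hmem => ?_⟩
  obtain ⟨⟨η', hne⟩, hη'⟩ := Set.mem_iUnion.mp hmem
  exact hne (Subtype.ext (genericPoint_unique hY η'.2.2 η.2.2
    (specializes_iff_mem_closure.mpr hη') h))

/-- A family of values at the generic points which lies in every local ring is a section. -/
lemma exists_glue (hY : Pi1.IsNormalScheme Y) (x : ∀ η : Gen W, Y.residueField η.1)
    (h : ∀ (η : Gen W) (y : Y), y ∈ W → ∀ hs : η.1 ⤳ y, ∃ (O : Y.Opens) (hyO : y ∈ O)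
      (s : Γ(Y, O)), Y.evaluation O η.1 (hs.mem_open O.isOpen hyO) s = x η) :
    ∃ c : Γ(Y, W), ∀ η : Gen W, Y.evaluation W η.1 η.2.1 c = x η := by
  haveI := isReduced_of_isNormal hY
  have key : ∀ y : W, ∃ (O : Y.Opens) (_ : O ≤ W) (_ : y.1 ∈ O) (s : Γ(Y, O)),
      ∀ (η : Gen W) (hη : η.1 ∈ O), Y.evaluation O η.1 hη s = x η := by
    intro y
    obtain ⟨η, hη, hs⟩ := Groth.PropsBasic2.exists_genericPoint_specializes y.1
    have hηW : η ∈ W := hs.mem_open W.isOpen y.2
    obtain ⟨O, hyO, s, hs'⟩ := h ⟨η, hηW, hη⟩ y.1 y.2 hs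
    refine ⟨O ⊓ piece ⟨η, hηW, hη⟩, inf_le_right.trans (piece_le _), ⟨hyO, mem_piece hY y.2 hs⟩,
      (Y.presheaf.map (homOfLE inf_le_left).op).hom s, fun η' hη' => ?_⟩
    obtain rfl := eq_of_mem_piece hη'.2
    rw [evaluation_res]
    exact hs'
  choose O hOW hyO s hs using key
  obtain ⟨c, hc, -⟩ := Y.sheaf.existsUnique_gluing' O W (fun y => homOfLE (hOW y))
    (fun y hy => TopologicalSpace.Opens.mem_iSup.mpr ⟨⟨y, hy⟩, hyO ⟨y, hy⟩⟩) s (by
      intro y y'
      let a : Γ(Y, O y ⊓ O y') := (Y.presheaf.map (homOfLE inf_le_left).op).hom (s y)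
      let b : Γ(Y, O y ⊓ O y') := (Y.presheaf.map (homOfLE inf_le_right).op).hom (s y')
      show a = b
      refine sub_eq_zero.mp (eq_zero_of_evaluation (a - b) fun η hη hgen => ?_)
      rw [map_sub, sub_eq_zero]
      simp only [a, b]
      rw [evaluation_res, evaluation_res, hs y ⟨η, hOW y hη.1, hgen⟩ hη.1,
        hs y' ⟨η, hOW y hη.1, hgen⟩ hη.2])
  refine ⟨c, fun η => ?_⟩
  have e := congrArg (Y.evaluation (O ⟨η.1, η.2.1⟩) η.1 (hyO ⟨η.1, η.2.1⟩)).hom
    (show (Y.presheaf.map (homOfLE (hOW ⟨η.1, η.2.1⟩)).op).hom c = s ⟨η.1, η.2.1⟩ from hc _)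
  rw [evaluation_res] at e
  exact e.trans (hs _ η _)

omit [Finite (Gen W)] in
lemma eq_zero_of_gen [IsReduced Y] (c : Γ(Y, W))
    (h : ∀ η : Gen W, Y.evaluation W η.1 η.2.1 c = 0) : c = 0 :=
  eq_zero_of_evaluation c fun η hη hgen => h ⟨η, hη, hgen⟩

variable {X : Scheme.{u}} (f : Y ⟶ X) [QuasiCompact f] [QuasiSeparated f]

/-- Local structure of the normalization over an affine open. -/
theorem local_structure (hY : Pi1.IsNormalScheme Y) {U : X.Opens} (hU : IsAffineOpen U)
    [Finite (Gen (f ⁻¹ᵁ U))] :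
    (∀ z, z ∈ f.fromNormalization ⁻¹ᵁ U →
      IsDomain (f.normalization.presheaf.stalk z) ∧
        IsIntegrallyClosed (f.normalization.presheaf.stalk z)) ∧
    (∀ η : Gen (f ⁻¹ᵁ U), ∀ z, z ⤳ f.toNormalization.base η.1 → z = f.toNormalization.base η.1) ∧
    (∀ z, z ∈ f.fromNormalization ⁻¹ᵁ U → ∃ η : Gen (f ⁻¹ᵁ U),
      f.toNormalization.base η.1 ⤳ z) ∧
    Function.Injective (fun η : Gen (f ⁻¹ᵁ U) => f.toNormalization.base η.1) := by
  classical
  haveI := isReduced_of_isNormal hY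
  letI := (f.app U).hom.toAlgebra
  let V := f.fromNormalization ⁻¹ᵁ U
  have hV : IsAffineOpen V := hU.preimage _
  have hle : f ⁻¹ᵁ U ≤ f.toNormalization ⁻¹ᵁ V := by
    simp [V, ← Scheme.Hom.comp_preimage]
  let e := (f.normalizationObjIso hU).commRingCatIsoToRingEquiv
  let ι := (f.toNormalization.appLE V (f ⁻¹ᵁ U) hle).hom
  have hι : ι = (integralClosure Γ(X, U) Γ(Y, f ⁻¹ᵁ U)).val.toRingHom.comp e.toRingHom := by
    simp only [ι, V]
    rw [← f.normalizationObjIso_hom_val hU]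
    rfl
  have hinj : Function.Injective ι := by
    rw [hι]; exact Subtype.val_injective.comp e.injective
  have hic : ∀ c, ι.IsIntegralElem c → c ∈ Set.range ι := by
    intro c hc
    have h1 : (integralClosure Γ(X, U) Γ(Y, f ⁻¹ᵁ U)).val.toRingHom.IsIntegralElem c := by
      rw [hι] at hc
      exact RingHom.IsIntegralElem.of_comp hc
    have h3 : IsIntegral Γ(X, U) c :=
      isIntegral_trans (A := integralClosure Γ(X, U) Γ(Y, f ⁻¹ᵁ U)) c h1
    refine ⟨e.symm ⟨c, h3⟩, ?_⟩
    rw [hι]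
    show (e (e.symm ⟨c, h3⟩)).1 = c
    rw [e.apply_symm_apply]
  let φ : ∀ η : Gen (f ⁻¹ᵁ U), Γ(Y, f ⁻¹ᵁ U) →+* Y.residueField η.1 := fun η =>
    (Y.evaluation (f ⁻¹ᵁ U) η.1 η.2.1).hom
  have hφ : ∀ c, (∀ η, φ η c = 0) → c = 0 := fun c hc => eq_zero_of_gen c hc
  have hsep : ∀ i, ∃ c, φ i c = 1 ∧ ∀ j, j ≠ i → φ j c = 0 := by
    intro i
    obtain ⟨c, hc⟩ := exists_glue hY (fun η => if η = i then 1 else 0) fun η y hy hs =>
      ⟨f ⁻¹ᵁ U, hy, if η = i then 1 else 0, by split_ifs <;> simp⟩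
    exact ⟨c, (hc i).trans (if_pos rfl), fun j hj => (hc j).trans (if_neg hj)⟩
  have hlift : ∀ (i : Gen (f ⁻¹ᵁ U)) (a b : Γ(f.normalization, V)) (P : Γ(f.normalization, V)[X]),
      P.Monic → φ i (ι b) ≠ 0 → φ i (ι ((P.scaleRoots b).eval a)) = 0 →
      ∃ c, φ i (ι b) * φ i c = φ i (ι a) ∧ ∀ j, j ≠ i → φ j c = 0 := by
    intro i a b P hP hb hrel
    obtain ⟨c, hc⟩ := exists_glue hY
      (Function.update (fun _ => 0) i (φ i (ι a) / φ i (ι b))) fun η y hy hs => by
      rcases eq_or_ne η i with rfl | hη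
      · haveI := (hY y).1
        haveI := (hY y).2
        have hb' : Y.presheaf.germ (f ⁻¹ᵁ U) y hy (ι b) ≠ 0 := fun h0 => hb <| by
          show Y.residue η.1 (Y.presheaf.germ (f ⁻¹ᵁ U) η.1 η.2.1 (ι b)) = 0
          rw [← TopCat.Presheaf.germ_stalkSpecializes (F := Y.presheaf) hy hs,
            CommRingCat.comp_apply, h0, map_zero, map_zero]
        have hrel' : Y.presheaf.germ (f ⁻¹ᵁ U) y hy (ι ((P.scaleRoots b).eval a)) = 0 := by
          have h1 : (Y.presheaf.map (homOfLE (piece_le η)).op).hom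
              (ι ((P.scaleRoots b).eval a)) = 0 := by
            refine eq_zero_of_evaluation _ fun η' hη' hgen => ?_
            have he : (⟨η', piece_le η hη', hgen⟩ : Gen (f ⁻¹ᵁ U)) = η := eq_of_mem_piece hη'
            rw [evaluation_res]
            obtain rfl : η' = η.1 := congrArg Subtype.val he
            exact hrel
          rw [← TopCat.Presheaf.germ_res_apply Y.presheaf (homOfLE (piece_le η)) y
            (mem_piece hY hy hs)]
          erw [h1]
          rw [map_zero]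
        have hevr : (P.map ((Y.presheaf.germ (f ⁻¹ᵁ U) y hy).hom.comp ι)).Monic := hP.map _
        obtain ⟨q, hq⟩ := Groth.PropsBasic.NormalizationFac.dvd_of_scaleRoots
          (R := Y.presheaf.stalk y) (RingHom.id _) (r := Y.presheaf.germ (f ⁻¹ᵁ U) y hy (ι a))
          (s := Y.presheaf.germ (f ⁻¹ᵁ U) y hy (ι b)) hevr (by
            rw [← show ((Y.presheaf.germ (f ⁻¹ᵁ U) y hy).hom.comp ι) ((P.scaleRoots b).eval a) = 0
                from hrel', ← eval₂_at_apply, ← Polynomial.eval_map,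
              Polynomial.map_scaleRoots _ _ _ (by rw [hP.leadingCoeff, map_one]; exact one_ne_zero)]
            rfl) hb'
        obtain ⟨O, hyO, s, rfl⟩ := Y.presheaf.exists_germ_eq q
        refine ⟨O, hyO, s, ?_⟩
        rw [Function.update_self, eq_div_iff hb]
        have h2 := congrArg (fun t => Y.residue η.1 (Y.presheaf.stalkSpecializes hs t)) hq
        simp only [RingHom.id_apply, map_mul] at h2
        rw [← CommRingCat.comp_apply _ (Y.presheaf.stalkSpecializes hs),
          ← CommRingCat.comp_apply _ (Y.presheaf.stalkSpecializes hs),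
          ← CommRingCat.comp_apply _ (Y.presheaf.stalkSpecializes hs),
          TopCat.Presheaf.germ_stalkSpecializes, TopCat.Presheaf.germ_stalkSpecializes] at h2
        exact h2
      · exact ⟨f ⁻¹ᵁ U, hy, 0, by rw [map_zero, Function.update_of_ne hη]⟩
    refine ⟨c, ?_, fun j hj => (hc j).trans (Function.update_of_ne hj _ _)⟩
    rw [show φ i c = φ i (ι a) / φ i (ι b) from (hc i).trans (Function.update_self ..),
      mul_div_cancel₀ _ hb]
  -- primes and points
  let pt : ∀ z, z ∈ V → PrimeSpectrum Γ(f.normalization, V) := fun z hz => hV.primeIdealOf ⟨z, hz⟩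
  have hmem : ∀ z (hz : z ∈ V) (s : Γ(f.normalization, V)),
      s ∈ (pt z hz).asIdeal ↔ z ∉ f.normalization.basicOpen s := by
    intro z hz s
    have h1 : pt z hz ∈ PrimeSpectrum.basicOpen s ↔ z ∈ f.normalization.basicOpen s := by
      rw [← hV.fromSpec_preimage_basicOpen]
      have h2 : hV.fromSpec.base (pt z hz) = z := hV.fromSpec_primeIdealOf ⟨z, hz⟩
      constructor
      · intro h; exact h2 ▸ h
      · intro h; exact (h2.symm ▸ h : hV.fromSpec.base (pt z hz) ∈ f.normalization.basicOpen s)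
    rw [← h1, PrimeSpectrum.mem_basicOpen, not_not]
  have htoV : ∀ η : Gen (f ⁻¹ᵁ U), f.toNormalization.base η.1 ∈ V := fun η => hle η.2.1
  have hq : ∀ η, (pt _ (htoV η)).asIdeal =
      Groth.PropsBasic.IdempotentNormal.q ι (fun η => Y.residueField η.1) φ η := by
    intro η
    ext s
    rw [hmem]
    show _ ↔ Y.evaluation (f ⁻¹ᵁ U) η.1 η.2.1 (ι s) = 0
    rw [Y.evaluation_eq_zero_iff_notMem_basicOpen]
    simp only [ι]
    rw [Scheme.basicOpen_appLE]
    exact not_congr ⟨fun h => ⟨η.2.1, h⟩, fun h => h.2⟩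
  have hspec : ∀ z z' (hz : z ∈ V) (hz' : z' ∈ V),
      z ⤳ z' ↔ (pt z hz).asIdeal ≤ (pt z' hz').asIdeal := by
    intro z z' hz hz'
    have h3 : hV.fromSpec.base (pt z hz) ⤳ hV.fromSpec.base (pt z' hz') ↔ pt z hz ⤳ pt z' hz' :=
      hV.fromSpec.isOpenEmbedding.isEmbedding.isInducing.specializes_iff
    rw [show hV.fromSpec.base (pt z hz) = z from hV.fromSpec_primeIdealOf ⟨z, hz⟩,
      show hV.fromSpec.base (pt z' hz') = z' from hV.fromSpec_primeIdealOf ⟨z', hz'⟩] at h3
    exact h3.trans (PrimeSpectrum.le_iff_specializes _ _).symm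
  refine ⟨fun z hz => ?_, fun η z hz => ?_, fun z hz => ?_, fun η η' h => ?_⟩
  · obtain ⟨h1, h2⟩ := Groth.PropsBasic.IdempotentNormal.isIntegrallyClosed_localization
      ι hinj hic (fun η : Gen (f ⁻¹ᵁ U) => Y.residueField η.1) φ hφ hsep hlift (pt z hz).asIdeal
    letI : Algebra Γ(f.normalization, V) (f.normalization.presheaf.stalk z) :=
      TopCat.Presheaf.algebra_section_stalk f.normalization.presheaf (U := V) ⟨z, hz⟩
    haveI : IsLocalization.AtPrime (f.normalization.presheaf.stalk z) (pt z hz).asIdeal :=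
      hV.isLocalization_stalk ⟨z, hz⟩
    let E := (IsLocalization.algEquiv (pt z hz).asIdeal.primeCompl
      (Localization.AtPrime (pt z hz).asIdeal) (f.normalization.presheaf.stalk z)).toRingEquiv
    exact ⟨E.symm.toMulEquiv.isDomain _, IsIntegrallyClosed.of_equiv E⟩
  · have hzV : z ∈ V := hz.mem_open V.isOpen (htoV η)
    have h1 := (hspec z _ hzV (htoV η)).mp hz
    rw [hq] at h1
    have h2 := Groth.PropsBasic.IdempotentNormal.eq_q_of_le ι hinj hic
      (fun η : Gen (f ⁻¹ᵁ U) => Y.residueField η.1) φ hφ hsep h1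
    refine (hz.antisymm ((hspec _ z (htoV η) hzV).mpr ?_)).eq
    rw [hq, h2]
  · obtain ⟨η, hη⟩ := Groth.PropsBasic.IdempotentNormal.exists_q_le ι hinj
      (fun η : Gen (f ⁻¹ᵁ U) => Y.residueField η.1) φ hφ (pt z hz).asIdeal
    refine ⟨η, (hspec _ z (htoV η) hz).mpr ?_⟩
    rw [hq]; exact hη
  · refine Groth.PropsBasic.IdempotentNormal.q_le_injective ι hinj hic
      (fun η : Gen (f ⁻¹ᵁ U) => Y.residueField η.1) φ hφ hsep ?_
    rw [← hq, ← hq]
    exact le_of_eq (congrArg PrimeSpectrum.asIdeal (by simp only [pt]; congr 1; exact Subtype.ext h))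

end Groth.PropsBasic.NormalizationNormal
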