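import Groth.Agent.Calg1.NagataIntegralClosure
import Mathlib.AlgebraicGeometry.Normalization
import Mathlib.AlgebraicGeometry.Morphisms.Finite
import Mathlib.AlgebraicGeometry.ResidueField
import Mathlib.AlgebraicGeometry.Morphisms.FiniteType

/-!
# Finiteness of the relative normalization over a Nagata base

* `finite_integralClosure_of_jointlyInjective`
* `isFinite_fromNormalization`: finiteness of the normalization is finiteness of the integral
  closures over the affine opens of the base.
* `finite_integralClosure_of_nagata_of_finiteType`: quasi-compact, locally of finite type,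
  reduced source.
* `finite_integralClosure_of_nagata`: finitely many generic points, residue extensions
  essentially of finite type.
-/

set_option autoImplicit false
set_option linter.style.haveILetI false
set_option backward.isDefEq.respectTransparency.types false

universe u

open CategoryTheory CategoryTheory.Limits AlgebraicGeometry TopologicalSpace

namespace Groth.PropsBasic

/-- An integral closure is finite if it embeds into a finite product of finite integral
closures. -/
theorem finite_integralClosure_of_jointlyInjective {R A : Type u} [CommRing R] [IsNoetherianRing R]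
    [CommRing A] [Algebra R A] {ι : Type u} [Finite ι] (T : ι → Type u) [∀ i, CommRing (T i)]
    [∀ i, Algebra R (T i)] (φ : ∀ i, A →ₐ[R] T i)
    (hφ : ∀ a b : A, (∀ i, φ i a = φ i b) → a = b)
    (h : ∀ i, Module.Finite R (integralClosure R (T i))) :
    Module.Finite R (integralClosure R A) := by
  classical
  haveI := Fintype.ofFinite ι
  haveI : IsNoetherian R (∀ i : ι, integralClosure R (T i)) :=
    haveI := h
    isNoetherian_of_isNoetherianRing_of_finite R _
  refine Module.Finite.of_injective (LinearMap.pi fun i : ι =>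
    ({ toFun := fun s => ⟨φ i s.1, (s.2 : IsIntegral R (s : A)).map (φ i)⟩
       map_add' := fun a b => Subtype.ext (map_add (φ i) a.1 b.1)
       map_smul' := fun r a => Subtype.ext (map_smul (φ i) r a.1) } :
      integralClosure R A →ₗ[R] integralClosure R (T i))) ?_
  exact fun a b hab => Subtype.ext (hφ _ _ fun i => congrArg Subtype.val (congrFun hab i))

/-- The normalization of `S` in `X` is finite if over every affine open of `S` the integral
closure of the base ring in the sections is a finite module. -/
theorem isFinite_fromNormalization {X S : Scheme.{u}} (f : X ⟶ S) [QuasiCompact f]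
    [QuasiSeparated f]
    (h : ∀ U : S.affineOpens, letI := (f.app U.1).hom.toAlgebra
      Module.Finite Γ(S, U.1) (integralClosure Γ(S, U.1) Γ(X, f ⁻¹ᵁ U.1))) :
    IsFinite f.fromNormalization := by
  refine ⟨fun U hU => ?_⟩
  letI := (f.app U).hom.toAlgebra
  rw [f.fromNormalization_app hU, CommRingCat.hom_comp]
  refine RingHom.Finite.comp (RingHom.Finite.of_surjective _ ?_) ?_
  · exact (f.normalizationObjIso hU).symm.commRingCatIsoToRingEquiv.surjective
  · haveI := h ⟨U, hU⟩
    exact RingHom.finite_algebraMap.mpr inferInstance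

/-- Over a Nagata affine open, the integral closure in the sections of a reduced quasi-compact
scheme locally of finite type is finite. -/
theorem finite_integralClosure_of_nagata_of_finiteType {X S : Scheme.{u}} (f : X ⟶ S)
    [LocallyOfFiniteType f] [QuasiCompact f] [IsReduced X] (U : S.affineOpens)
    (hU : CAlg.IsNagata Γ(S, U.1)) :
    letI := (f.app U.1).hom.toAlgebra
    Module.Finite Γ(S, U.1) (integralClosure Γ(S, U.1) Γ(X, f ⁻¹ᵁ U.1)) := by
  letI := (f.app U.1).hom.toAlgebra
  haveI := hU.1
  obtain ⟨s, hs, hUs⟩ :=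
    isCompact_iff_finite_and_eq_biUnion_affineOpens.mp (f.isCompact_preimage U.2.isCompact)
  haveI := hs.to_subtype
  have hle : ∀ W : s, (W.1.1 : X.Opens) ≤ f ⁻¹ᵁ U.1 := fun W =>
    hUs ▸ le_iSup₂ (f := fun (i : X.affineOpens) (_ : i ∈ s) => (i : X.Opens)) W.1 W.2
  letI : ∀ W : s, Algebra Γ(S, U.1) Γ(X, W.1.1) := fun W =>
    (f.appLE U.1 W.1.1 (hle W)).hom.toAlgebra
  refine finite_integralClosure_of_jointlyInjective (fun W : s => Γ(X, W.1.1))
    (fun W => { (X.presheaf.map (homOfLE (hle W)).op).hom with commutes' := fun r => ?_ }) ?_ ?_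
  · rw [RingHom.algebraMap_toAlgebra, RingHom.algebraMap_toAlgebra]
    simp [Scheme.Hom.app_eq_appLE, ← CommRingCat.comp_apply, Scheme.Hom.appLE_map]
  · intro a b hab
    refine X.sheaf.eq_of_locally_eq' (fun W : s => (W.1.1 : X.Opens)) (f ⁻¹ᵁ U.1)
      (fun W => homOfLE (hle W)) ?_ a b hab
    rw [hUs]
    exact iSup₂_le fun i hi => le_iSup (fun W : s => (W.1.1 : X.Opens)) ⟨i, hi⟩
  · intro W
    haveI : Algebra.FiniteType Γ(S, U.1) Γ(X, W.1.1) :=
      RingHom.finiteType_algebraMap.mp (f.finiteType_appLE U.2 W.1.2 (hle W))
    exact Groth.Calg1.finite_integralClosure_of_isReduced hU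

/-- Over a Nagata affine open, the integral closure in the sections of a reduced scheme with
locally finitely many components is finite, provided the residue field extensions at the generic
points are essentially of finite type. -/
theorem finite_integralClosure_of_nagata {X S : Scheme.{u}} (f : X ⟶ S)
    [QuasiCompact f] [IsReduced X]
    (hfin : LocallyFinite (fun Z : ↥(irreducibleComponents ↥X) => (Z : Set ↥X)))
    (hres : ∀ x : X, closure {x} ∈ irreducibleComponents ↥X →
      (f.residueFieldMap x).hom.EssFiniteType)
    (U : S.affineOpens) (hU : CAlg.IsNagata Γ(S, U.1)) :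
    letI := (f.app U.1).hom.toAlgebra
    Module.Finite Γ(S, U.1) (integralClosure Γ(S, U.1) Γ(X, f ⁻¹ᵁ U.1)) := by
  letI := (f.app U.1).hom.toAlgebra
  haveI := hU.1
  let G := {x : X // x ∈ f ⁻¹ᵁ U.1 ∧ closure {x} ∈ irreducibleComponents ↥X}
  haveI : Finite G := by
    have hfs := hfin.finite_nonempty_inter_compact (f.isCompact_preimage U.2.isCompact)
    haveI := hfs.to_subtype
    refine Finite.of_injective (fun x : G =>
      (⟨⟨closure {x.1}, x.2.2⟩, x.1, subset_closure rfl, x.2.1⟩ :
        {Z : ↥(irreducibleComponents ↥X) | ((Z : Set X) ∩ (f ⁻¹ᵁ U.1 : Set X)).Nonempty})) ?_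
    intro x y hxy
    have hcl : closure {x.1} = closure ({y.1} : Set X) := congrArg (fun Z => (Z.1.1 : Set X)) hxy
    exact Subtype.ext (isGenericPoint_closure.eq (hcl ▸ isGenericPoint_closure))
  letI : ∀ x : G, Algebra Γ(S, U.1) (X.residueField x.1) := fun x =>
    ((X.evaluation (f ⁻¹ᵁ U.1) x.1 x.2.1).hom.comp (f.app U.1).hom).toAlgebra
  refine finite_integralClosure_of_jointlyInjective (fun x : G => (X.residueField x.1 : Type u))
    (fun x => { (X.evaluation (f ⁻¹ᵁ U.1) x.1 x.2.1).hom with commutes' := fun r => rfl }) ?_ ?_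
  · intro a b hab
    rw [← sub_eq_zero]
    rw [← basicOpen_eq_bot_iff]
    rw [eq_bot_iff]
    intro x hx
    have hxU : x ∈ f ⁻¹ᵁ U.1 := X.basicOpen_le _ hx
    obtain ⟨Z, hZ, hxZ⟩ := exists_mem_irreducibleComponents_subset_of_isIrreducible
      ({x} : Set X) isIrreducible_singleton
    obtain ⟨η, hη⟩ := QuasiSober.sober hZ.1 (isClosed_of_mem_irreducibleComponents Z hZ)
    have hηx : η ⤳ x := hη.specializes (hxZ rfl)
    have hη' : η ∈ X.basicOpen (a - b) := hηx.mem_open (X.basicOpen _).isOpen hx
    refine absurd ?_ ((X.evaluation_ne_zero_iff_mem_basicOpen η (X.basicOpen_le _ hη') _).2 hη')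
    rw [map_sub, sub_eq_zero]
    exact hab ⟨η, X.basicOpen_le _ hη', hη.def.symm ▸ hZ⟩
  · intro x
    have h1 : (S.evaluation U.1 (f.base x.1) x.2.1).hom.EssFiniteType := by
      rw [← Scheme.germ_residue, CommRingCat.hom_comp]
      refine RingHom.EssFiniteType.comp ?_
        (RingHom.FiniteType.of_surjective _ (S.residue_surjective _)).essFiniteType
      letI := (S.presheaf.germ U.1 (f.base x.1) x.2.1).hom.toAlgebra
      haveI := U.2.isLocalization_stalk ⟨f.base x.1, x.2.1⟩
      exact Algebra.EssFiniteType.of_isLocalization (S.presheaf.stalk (f.base x.1))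
        (U.2.primeIdealOf ⟨f.base x.1, x.2.1⟩).asIdeal.primeCompl
    have h2 := h1.comp (hres x.1 x.2.2)
    have e : (f.residueFieldMap x.1).hom.comp (S.evaluation U.1 (f.base x.1) x.2.1).hom =
        algebraMap Γ(S, U.1) (X.residueField x.1) := by
      rw [← CommRingCat.hom_comp, Scheme.evaluation_naturality]
      rfl
    rw [e] at h2
    haveI : Algebra.EssFiniteType Γ(S, U.1) (X.residueField x.1) :=
      RingHom.essFiniteType_algebraMap.mp h2
    exact Groth.Calg1.finite_integralClosure_of_isDomain hU

end Groth.PropsBasic
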