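import Mathlib
import Groth.Agent.PropsBasic.AmpleSec
import Groth.Agent.PropsBasic.AmpleSep

/-!
# Universally closed + ample: every `X_s` is affine
-/

universe u

open CategoryTheory CategoryTheory.Limits AlgebraicGeometry Opposite TopologicalSpace

set_option backward.isDefEq.respectTransparency.types false

namespace Groth.PropsBasic.Ample

open Groth.PicAux

theorem isAffineOpen_gloc_of_universallyClosed {X V : Scheme.{u}} [IsAffine V] (p : X ⟶ V)
    [UniversallyClosed p] {M : X.Modules} (hM : CohB1.IsAmple M) (s : Γ(M, ⊤)) :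
    IsAffineOpen (gloc s) := by
  obtain ⟨hinv, hcpt, hcov⟩ := hM
  choose n t hxt ht using hcov
  let U : X.Opens := gloc s
  let T : Scheme.{u} := Spec Γ(U.toScheme, ⊤)
  let q : T ⟶ V := Spec.map (U.ι ≫ p).appTop ≫ V.isoSpec.inv
  have hq : U.toScheme.toSpecΓ ≫ q = U.ι ≫ p := by
    simp only [q, ← Category.assoc, ← Scheme.toSpecΓ_naturality, Iso.comp_inv_eq]
    rfl
  let g : U.toScheme ⟶ pullback p q := pullback.lift U.ι U.toScheme.toSpecΓ hq.symm
  have hg1 : g ≫ pullback.fst p q = U.ι := pullback.lift_fst _ _ _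
  have hg2 : g ≫ pullback.snd p q = U.toScheme.toSpecΓ := pullback.lift_snd _ _ _
  have hG : ∀ i, Gen _ U (res _ le_top (powSec s (n i + 1))) := fun i => by
    have := (gen_gloc s (le_rfl : U ≤ gloc s)).pow (n i + 1)
    rwa [← res_powSec] at this
  choose f hf using fun i => (hG i).exists_coeff le_rfl (res _ le_top (gsec (t i)))
  simp only [res_self] at hf
  let fh : X → Γ(U.toScheme, ⊤) := fun i => U.topIso.inv (f i)
  have hcompact : CompactSpace U.toScheme := by
    have := isAffineHom_genLocus hinv (homOfSection s)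
    exact QuasiCompact.compactSpace_of_compactSpace U.ι
  have hspan : Ideal.span (Set.range fh) = ⊤ := by
    rw [← PrimeSpectrum.iSup_basicOpen_eq_top_iff, eq_top_iff]
    have hdense : DenseRange U.toScheme.toSpecΓ := Scheme.Hom.denseRange U.toScheme.toSpecΓ
    have hclosed : IsClosed (pullback.snd p q '' closure (Set.range g)) :=
      (pullback.snd p q).isClosedMap _ isClosed_closure
    have hall : pullback.snd p q '' closure (Set.range g) = Set.univ := by
      refine eq_top_iff.2 (fun y _ => ?_)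
      refine (closure_minimal ?_ hclosed) (hdense y)
      rintro _ ⟨z, rfl⟩
      exact ⟨g z, subset_closure ⟨z, rfl⟩, (Scheme.Hom.comp_apply g _ z).symm.trans (by rw [hg2])⟩
    intro y _
    obtain ⟨z, hz, rfl⟩ := hall.ge (Set.mem_univ y)
    let i := pullback.fst p q z
    refine Opens.mem_iSup.2 ⟨i, ?_⟩

    have hxi : i ∈ gloc (gsec (t i)) := by rw [← genLocus_eq_gloc]; exact hxt i
    let Xt : X.Opens := gloc (gsec (t i))
    obtain ⟨a, ha⟩ := (gen_gloc (gsec (t i)) (le_rfl : Xt ≤ _)).exists_coeff le_rfl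
      (res _ le_top (powSec s (n i + 1)))
    rw [res_self] at ha
    have haf : resX X (inf_le_right : U ⊓ Xt ≤ Xt) a * resX X (inf_le_left : U ⊓ Xt ≤ U) (f i) =
        1 := by
      refine (hG i).smul_inj (inf_le_left : U ⊓ Xt ≤ U) ?_
      have h1 := congrArg (res _ (inf_le_left : U ⊓ Xt ≤ U)) (hf i)
      have h2 := congrArg (res _ (inf_le_right : U ⊓ Xt ≤ Xt)) ha
      simp only [res_smul, res_res, res_powSec] at h1 h2 ⊢
      rw [mul_smul, ← h1, ← h2, one_smul]
    let A : (pullback p q).Opens := pullback.fst p q ⁻¹ᵁ Xt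
    have hzA : z ∈ A := hxi
    let fT : Γ(T, ⊤) := (Scheme.ΓSpecIso Γ(U.toScheme, ⊤)).inv (fh i)
    have hfT : U.toScheme.toSpecΓ.appTop fT = fh i := by
      rw [Scheme.toSpecΓ_appTop]
      exact congr($((Scheme.ΓSpecIso Γ(U.toScheme, ⊤)).inv_hom_id) (fh i))
    let a₁ : Γ(pullback p q, A) := (pullback.fst p q).app Xt a
    let f₁ : Γ(pullback p q, A) := (pullback.snd p q).appLE ⊤ A le_top fT
    let W : U.toScheme.Opens := g ⁻¹ᵁ A
    have hW : W ≤ U.ι ⁻¹ᵁ Xt := fun w hw => by
      have h : (g ≫ pullback.fst p q) w ∈ Xt := hw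
      rwa [hg1] at h
    have hWX : U.ι ''ᵁ W ≤ U ⊓ Xt :=
      le_inf (Scheme.Opens.ι_image_le U W)
        ((U.ι.image_mono hW).trans (U.ι.image_preimage_le Xt))
    have h0 : g.app A (a₁ * f₁ - 1) = 0 := by
      have e1 : g.app A a₁ = U.ι.appLE Xt W hW a := by
        have h : U.ι.appLE Xt W hW = (g ≫ pullback.fst p q).appLE Xt W le_rfl := by
          simp only [hg1]
        rw [h, Scheme.Hom.appLE, Scheme.Hom.comp_app]
        simp [a₁, W, A]
        rfl
      have e2 : g.app A f₁ = U.toScheme.presheaf.map (homOfLE (le_top : W ≤ ⊤)).op (fh i) := by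
        have h : (g ≫ pullback.snd p q).appLE ⊤ W le_top =
            U.toScheme.toSpecΓ.appLE ⊤ W le_top := by
          simp only [hg2]
        rw [← hfT]
        have h3 : g.app A f₁ = (g ≫ pullback.snd p q).appLE ⊤ W le_top fT := by
          rw [← Scheme.Hom.appLE_comp_appLE g (pullback.snd p q) ⊤ A W le_top le_rfl,
            Scheme.Hom.app_eq_appLE]
          rfl
        rw [h3, h]
        rfl
      have e1' : U.ι.appLE Xt W hW a = resX X (hWX.trans inf_le_right) a := by
        rw [Scheme.Opens.ι_appLE]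
        rfl
      have e2' : (U.toScheme.presheaf.map (homOfLE (le_top : W ≤ ⊤)).op (fh i) :
          Γ(X, U.ι ''ᵁ W)) = resX X (hWX.trans inf_le_left) (f i) := by
        simp only [fh, Scheme.Opens.topIso_inv, Scheme.Opens.toScheme_presheaf_map]
        exact congr($((X.presheaf.map_comp _ _).symm) (f i))
      have h2 := congrArg (resX X hWX) haf
      rw [map_mul, map_one, resX_resX, resX_resX] at h2
      rw [map_sub, map_mul, map_one, e1, e2, sub_eq_zero, e1', e2']
      exact h2
    have hnot : z ∉ (pullback p q).basicOpen (a₁ * f₁ - 1) := fun hz' => by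
      obtain ⟨_, hy, w, rfl⟩ :=
        mem_closure_iff.1 hz _ ((pullback p q).basicOpen (a₁ * f₁ - 1)).isOpen hz'
      have hy' : w ∈ g ⁻¹ᵁ (pullback p q).basicOpen (a₁ * f₁ - 1) := hy
      rw [Scheme.preimage_basicOpen, h0, Scheme.basicOpen_zero] at hy'
      exact hy'
    rw [Scheme.mem_basicOpen _ _ _ hzA, map_sub, map_mul, map_one] at hnot
    have hu : IsUnit ((pullback p q).presheaf.germ A z hzA f₁) := by
      by_contra hf₁
      exact hnot (by
        by_contra hne
        refine IsLocalRing.nonunits_add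
          (a := (pullback p q).presheaf.germ A z hzA a₁ * (pullback p q).presheaf.germ A z hzA f₁)
          (b := 1 - (pullback p q).presheaf.germ A z hzA a₁ *
            (pullback p q).presheaf.germ A z hzA f₁)
          (fun h => hf₁ (isUnit_of_mul_isUnit_right h)) (fun h => hne (by simpa using h.neg)) ?_
        simp)
    have hu' := ((pullback p q).mem_basicOpen f₁ z hzA).2 hu
    have h5 : (pullback p q).basicOpen f₁ ≤ pullback.snd p q ⁻¹ᵁ T.basicOpen fT := by
      rw [Scheme.preimage_basicOpen]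
      exact le_of_eq_of_le ((pullback p q).basicOpen_res ((pullback.snd p q).app ⊤ fT)
        (homOfLE (le_top : A ≤ pullback.snd p q ⁻¹ᵁ ⊤)).op) inf_le_right
    have h6 : pullback.snd p q z ∈ T.basicOpen fT := h5 hu'
    rwa [show T.basicOpen fT = PrimeSpectrum.basicOpen (fh i) from
      basicOpen_eq_of_affine (fh i)] at h6
  refine isAffine_of_isAffineOpen_basicOpen (Set.range fh) hspan ?_
  rintro _ ⟨i, rfl⟩
  rw [← U.ι.isAffineOpen_iff_of_isOpenImmersion, Scheme.image_basicOpen]
  have h : X.basicOpen (f i) = U ⊓ CohB1.genLocus _ (t i) := by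
    rw [genLocus_eq_gloc, inf_comm]
    exact (gloc_inf_eq_basicOpen (hG i) (hf i)).symm
  have h' : IsAffineOpen (U ⊓ CohB1.genLocus _ (t i)) :=
    isAffineOpen_gloc_inf hinv (homOfSection s) (ht i)
  rw [← h] at h'
  simp only [fh, Scheme.Opens.ι_appIso, Iso.refl_inv, Scheme.Opens.topIso_inv]
  refine (congrArg IsAffineOpen ?_).mpr h'
  exact X.basicOpen_res_eq (f i) _

end Groth.PropsBasic.Ample
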