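import Mathlib

/-! Finiteness near a minimal prime of algebras of finite type with finite fibre. -/

universe u

open TensorProduct Polynomial

namespace Groth.PropsBasic.GenericFinite

variable {R B : Type u} [CommRing R] [CommRing B] [Algebra R B]

/-- If the fibre over a minimal prime `p` of an algebra of finite type is finite, then the
localization at `p` is integral. -/
lemma isIntegral_localization_of_finite_fibre [Algebra.FiniteType R B] (p : Ideal R) [hp' : p.IsPrime]
    (hp : p ∈ minimalPrimes R)
    (h : (PrimeSpectrum.comap (algebraMap R B) ⁻¹' {⟨p, hp'⟩}).Finite) (b : B) :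
    IsIntegral (Localization.AtPrime p)
      (algebraMap B (Localization (Algebra.algebraMapSubmonoid B p.primeCompl)) b) := by
  classical
  let R' := Localization.AtPrime p
  let B' := Localization (Algebra.algebraMapSubmonoid B p.primeCompl)
  have hfinF : Finite (PrimeSpectrum (p.Fiber B)) := by
    have : Finite (PrimeSpectrum.comap (algebraMap R B) ⁻¹' {⟨p, hp'⟩}) := h.to_subtype
    exact Finite.of_equiv _ (PrimeSpectrum.preimageEquivFiber R B ⟨p, hp'⟩)
  have : Algebra.QuasiFinite p.ResidueField (p.Fiber B) :=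
    Algebra.QuasiFinite.iff_finite_comap_preimage_singleton.mpr fun _ => Set.toFinite _
  have : Module.Finite p.ResidueField (p.Fiber B) := Module.Finite.of_quasiFinite
  obtain ⟨P, hPm, hP⟩ :=
    Algebra.IsIntegral.isIntegral (R := p.ResidueField) ((1 : p.ResidueField) ⊗ₜ[R] b : p.Fiber B)
  obtain ⟨Q, hQ, -, hQm⟩ := lifts_and_natDegree_eq_and_monic
    ((mem_lifts P).mpr ((map_surjective (algebraMap R' p.ResidueField)
      (IsLocalRing.residue_surjective)) P)) hPm
  have hnil : IsNilpotent (aeval (algebraMap B B' b) Q) := by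
    rw [nilpotent_iff_mem_prime]
    intro q hq
    have hq' : q.comap (algebraMap R' B') = IsLocalRing.maximalIdeal R' := by
      have hmin : ((q.comap (algebraMap R' B')).comap (algebraMap R R')) = p := by
        refine le_antisymm ?_ (hp.2 ⟨inferInstance, bot_le⟩ ?_)
        · exact ((IsLocalization.isPrime_iff_isPrime_disjoint p.primeCompl R' _).mp inferInstance).2
            |>.le_compl_left.trans (by simp [Ideal.primeCompl])
        · exact ((IsLocalization.isPrime_iff_isPrime_disjoint p.primeCompl R' _).mp inferInstance).2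
            |>.le_compl_left.trans (by simp [Ideal.primeCompl])
      change Ideal.under R (q.comap (algebraMap R' B')) = p at hmin
      rw [← IsLocalization.map_under p.primeCompl R' (q.comap (algebraMap R' B')), hmin,
        Localization.AtPrime.map_eq_maximalIdeal]
    let ψ : p.ResidueField →ₐ[R] B' ⧸ q :=
      Ideal.Quotient.liftₐ (IsLocalRing.maximalIdeal R') ((Ideal.Quotient.mkₐ R q).comp
        (IsScalarTower.toAlgHom R R' B')) fun x hx => by
          rw [← hq'] at hx
          exact Ideal.Quotient.eq_zero_iff_mem.mpr hx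
    let φ : p.Fiber B →ₐ[R] B' ⧸ q :=
      Algebra.TensorProduct.lift ψ ((Ideal.Quotient.mkₐ R q).comp (IsScalarTower.toAlgHom R B B'))
        fun _ _ => Commute.all _ _
    rw [← Ideal.Quotient.eq_zero_iff_mem]
    have h0 : φ (eval₂ (algebraMap p.ResidueField (p.Fiber B)) ((1 : p.ResidueField) ⊗ₜ[R] b) P) = 0 := by
      rw [hP, map_zero]
    rw [← hQ, eval₂_map, ← AlgHom.coe_toRingHom, hom_eval₂] at h0
    rw [aeval_def, hom_eval₂]
    have e1 : ((φ : p.Fiber B →+* B' ⧸ q).comp (algebraMap p.ResidueField (p.Fiber B))).comp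
        (algebraMap R' p.ResidueField) = (Ideal.Quotient.mk q).comp (algebraMap R' B') := by
      refine RingHom.ext fun x => ?_
      show φ ((algebraMap R' p.ResidueField x) ⊗ₜ[R] (1 : B)) = _
      simp only [φ, Algebra.TensorProduct.lift_tmul, map_one, mul_one]
      rfl
    have e2 : φ ((1 : p.ResidueField) ⊗ₜ[R] b) = Ideal.Quotient.mk q (algebraMap B B' b) := by
      simp [φ]
    rw [← e1, ← e2]
    exact h0
  obtain ⟨N, hN⟩ := hnil
  exact ⟨Q ^ N, hQm.pow N, by rw [← aeval_def, map_pow, hN]⟩

/-- If the fibre over a minimal prime `p` of an algebra of finite type is finite, then some principal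
localization at an element outside `p` is finite. -/
lemma exists_finite_away [Algebra.FiniteType R B] (p : Ideal R) [hp' : p.IsPrime]
    (hp : p ∈ minimalPrimes R)
    (h : (PrimeSpectrum.comap (algebraMap R B) ⁻¹' {⟨p, hp'⟩}).Finite) :
    ∃ s ∉ p, ∀ (Rs Bs : Type u) [CommRing Rs] [CommRing Bs] [Algebra R Rs] [Algebra B Bs]
      [Algebra R Bs] [Algebra Rs Bs] [IsScalarTower R B Bs] [IsScalarTower R Rs Bs],
      IsLocalization.Away s Rs → IsLocalization.Away (algebraMap R B s) Bs → Module.Finite Rs Bs := by
  classical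
  obtain ⟨T, hT⟩ := ‹Algebra.FiniteType R B›.out
  have hb : ∀ b : B, ∃ m, m ∉ p ∧ IsIntegral R (m • b) := fun b => by
    obtain ⟨⟨m, hm⟩, hmi⟩ := IsIntegral.exists_multiple_integral_of_isLocalization p.primeCompl _
      (isIntegral_localization_of_finite_fibre p hp h b)
    have hmi' : IsIntegral R (algebraMap B (Localization (Algebra.algebraMapSubmonoid B p.primeCompl))
        (m • b)) := by
      rw [Algebra.algebraMap_eq_smul_one, smul_assoc, ← Algebra.algebraMap_eq_smul_one]
      exact hmi
    obtain ⟨m', hm', hi⟩ := IsLocalization.exists_isIntegral_smul_of_isIntegral_map p.primeCompl hmi'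
    exact ⟨m' * m, p.primeCompl.mul_mem hm' hm, by rwa [mul_smul]⟩
  choose m hm hmi using hb
  refine ⟨∏ b ∈ T, m b, fun hmem => ?_, fun Rs Bs _ _ _ _ _ _ _ _ hRs hBs => ?_⟩
  · obtain ⟨b, -, hb⟩ := (Ideal.IsPrime.prod_mem_iff).mp hmem
    exact hm b hb
  · let T' : Set Bs := algebraMap B Bs '' T
    have hint : ∀ x ∈ T', IsIntegral Rs x := by
      rintro _ ⟨b, hb, rfl⟩
      have hu : IsUnit (algebraMap R Rs (m b)) := by
        refine isUnit_of_dvd_unit ?_ (IsLocalization.Away.algebraMap_isUnit (∏ b ∈ T, m b))
        exact map_dvd _ (Finset.dvd_prod_of_mem _ hb)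
      have h1 : IsIntegral Rs (algebraMap B Bs (m b • b)) :=
        ((hmi b).map (IsScalarTower.toAlgHom R B Bs)).tower_top
      rw [Algebra.smul_def, map_mul, ← IsScalarTower.algebraMap_apply,
        IsScalarTower.algebraMap_apply R Rs Bs, ← Algebra.smul_def] at h1
      have := h1.smul (R := Rs) (hu.unit⁻¹ : Rsˣ).1
      rwa [smul_smul, IsUnit.val_inv_mul, one_smul] at this
    have htop : Algebra.adjoin Rs T' = ⊤ := by
      refine top_le_iff.mp fun x _ => ?_
      obtain ⟨n, b, hnb⟩ : ∃ (n : ℕ) (b : B),
          x * algebraMap B Bs (algebraMap R B (∏ b ∈ T, m b)) ^ n = algebraMap B Bs b :=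
        IsLocalization.Away.surj (algebraMap R B (∏ b ∈ T, m b)) x
      have hbmem : algebraMap B Bs b ∈ Algebra.adjoin Rs T' := by
        have hbT : b ∈ Algebra.adjoin R (T : Set B) := by rw [hT]; trivial
        clear hnb
        induction hbT using Algebra.adjoin_induction with
        | mem c hc => exact Algebra.subset_adjoin ⟨c, hc, rfl⟩
        | algebraMap r =>
          rw [← IsScalarTower.algebraMap_apply, IsScalarTower.algebraMap_apply R Rs Bs]
          exact Subalgebra.algebraMap_mem _ _
        | add c d _ _ hc hd => rw [map_add]; exact add_mem hc hd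
        | mul c d _ _ hc hd => rw [map_mul]; exact mul_mem hc hd
      obtain ⟨u, hu⟩ := (IsLocalization.Away.algebraMap_isUnit (S := Rs) (∏ b ∈ T, m b)).pow n
      have hx : x = ((u⁻¹ : Rsˣ) : Rs) • algebraMap B Bs b := by
        rw [← hnb, Algebra.smul_def, ← IsScalarTower.algebraMap_apply R B Bs,
          IsScalarTower.algebraMap_apply R Rs Bs, ← map_pow, ← hu, mul_comm x, ← mul_assoc, ← map_mul]
        simp
      rw [hx]
      exact Subalgebra.smul_mem _ hbmem _
    constructor
    rw [← Algebra.top_toSubmodule, ← htop]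
    exact fg_adjoin_of_finite (T.finite_toSet.image _) hint

end Groth.PropsBasic.GenericFinite
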