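import Mathlib
import Groth.Agent.PropsBasic.GenericFiniteAlg
import Groth.Agent.PropsBasic2.SchTop
import Groth.Agent.Flatmor4.QuasiFiniteSplit

/-! Generic finiteness: a morphism of finite type with finite fibre over a maximal point is finite
over a neighbourhood. -/

universe u

open CategoryTheory Limits AlgebraicGeometry TopologicalSpace Groth.PropsBasic2

set_option backward.isDefEq.respectTransparency.types false

namespace Groth.PropsBasic.GenericFinite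

variable {X Y : Scheme.{u}}

/-- Finiteness over an open restricts to smaller opens. -/
lemma isFinite_restrict_of_le (g : X ⟶ Y) {V V' : Y.Opens} (hle : V' ≤ V)
    (h : IsFinite (g ∣_ V)) : IsFinite (g ∣_ V') := by
  have hout : IsPullback (X.homOfLE (g.preimage_mono hle) ≫ (g ⁻¹ᵁ V).ι) (g ∣_ V') g
      (Y.homOfLE hle ≫ V.ι) := by
    simpa using (isPullback_morphismRestrict g V').flip
  have hsq : X.homOfLE (g.preimage_mono hle) ≫ g ∣_ V = (g ∣_ V') ≫ Y.homOfLE hle := by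
    rw [← cancel_mono V.ι]; simp
  exact MorphismProperty.of_isPullback (IsPullback.of_right hout hsq
    (isPullback_morphismRestrict g V).flip) h

/-- Affine source: finite fibre over a maximal point gives finiteness over a basic open. -/
lemma exists_isFinite_of_isAffine (g : X ⟶ Y) [IsAffine X] [LocallyOfFiniteType g] {η : Y}
    (hη : closure {η} ∈ irreducibleComponents ↥Y) {V : Y.Opens} (hV : IsAffineOpen V) (hηV : η ∈ V)
    (hgV : g ⁻¹ᵁ V = ⊤) (hfin : (g ⁻¹' {η}).Finite) :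
    ∃ V' ≤ V, IsAffineOpen V' ∧ η ∈ V' ∧ IsFinite (g ∣_ V') := by
  let φ := g.appLE V ⊤ (hgV.ge)
  let := φ.hom.toAlgebra
  have : Algebra.FiniteType Γ(Y, V) Γ(X, ⊤) :=
    LocallyOfFiniteType.finiteType_appLE g hV (isAffineOpen_top X) hgV.ge
  let p := hV.primeIdealOf ⟨η, hηV⟩
  have hpη : hV.fromSpec p = η := hV.fromSpec_primeIdealOf ⟨η, hηV⟩
  have hpmin : p.asIdeal ∈ minimalPrimes Γ(Y, V) := by
    refine ⟨⟨p.isPrime, bot_le⟩, fun q hq hqp => ?_⟩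
    have h1 : (⟨q, hq.1⟩ : PrimeSpectrum Γ(Y, V)) ⤳ p := (PrimeSpectrum.le_iff_specializes _ _).mp hqp
    have h2 := h1.map hV.fromSpec.continuous
    rw [hpη] at h2
    have h3 := (closure_mem_irreducibleComponents_iff η).mp hη _ h2
    have h4 := hV.fromSpec.isOpenEmbedding.injective (h3.trans hpη.symm)
    exact le_of_eq (congrArg PrimeSpectrum.asIdeal h4).symm
  have hfin' : (PrimeSpectrum.comap (algebraMap Γ(Y, V) Γ(X, ⊤)) ⁻¹'
      {(⟨p.asIdeal, p.isPrime⟩ : PrimeSpectrum _)}).Finite := by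
    refine (hfin.preimage (isAffineOpen_top X).fromSpec.isOpenEmbedding.injective.injOn).subset
      fun Q hQ => ?_
    show g ((isAffineOpen_top X).fromSpec Q) = η
    rw [← Scheme.Hom.comp_apply, ← hV.SpecMap_appLE_fromSpec g (isAffineOpen_top X) hgV.ge,
      Scheme.Hom.comp_apply, ← hpη]
    exact congrArg _ (by exact hQ)
  obtain ⟨s, hsp, hs⟩ := exists_finite_away p.asIdeal hpmin hfin'
  have hηs : η ∈ Y.basicOpen s := by
    rw [← hpη]
    exact (show p ∈ hV.fromSpec ⁻¹ᵁ Y.basicOpen s by rw [hV.fromSpec_preimage_basicOpen s]; exact hsp)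
  have hpre : g ⁻¹ᵁ Y.basicOpen s = X.basicOpen (φ s) := by
    rw [Scheme.basicOpen_appLE, top_inf_eq]
  have haff : IsAffineOpen (g ⁻¹ᵁ Y.basicOpen s) := hpre ▸ (isAffineOpen_top X).basicOpen _
  refine ⟨Y.basicOpen s, Y.basicOpen_le s, hV.basicOpen s, hηs, ?_⟩
  have : IsAffine (Y.basicOpen s) := hV.basicOpen s
  refine (HasAffineProperty.iff_of_isAffine (P := @IsFinite)).mpr ⟨haff, ?_⟩
  rw [← Scheme.Hom.resLE_eq_morphismRestrict,
    RingHom.finite_respectsIso.arrow_mk_iso_iff (arrowResLEAppIso g _ _ _)]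
  let ψ := g.appLE (Y.basicOpen s) (g ⁻¹ᵁ Y.basicOpen s) le_rfl
  let ρY := Y.presheaf.map (homOfLE (Y.basicOpen_le s)).op
  let ρX := X.presheaf.map (homOfLE (le_top : g ⁻¹ᵁ Y.basicOpen s ≤ ⊤)).op
  let := ψ.hom.toAlgebra
  let := ρY.hom.toAlgebra
  let := ρX.hom.toAlgebra
  let := (φ ≫ ρX).hom.toAlgebra
  have hcomm : ρY ≫ ψ = φ ≫ ρX := by simp [ρY, ρX, ψ, φ]
  have : IsScalarTower Γ(Y, V) Γ(X, ⊤) Γ(X, g ⁻¹ᵁ Y.basicOpen s) :=
    IsScalarTower.of_algebraMap_eq fun _ => rfl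
  have : IsScalarTower Γ(Y, V) Γ(Y, Y.basicOpen s) Γ(X, g ⁻¹ᵁ Y.basicOpen s) :=
    IsScalarTower.of_algebraMap_eq fun a => congr($hcomm.symm a)
  exact hs Γ(Y, Y.basicOpen s) Γ(X, g ⁻¹ᵁ Y.basicOpen s)
    (hV.isLocalization_basicOpen s)
    ((isAffineOpen_top X).isLocalization_of_eq_basicOpen _ _ hpre)

variable (f : X ⟶ Y)

/-- A point of a finite fibre over a maximal point has an affine neighbourhood meeting the fibre
only there, and finite over a neighbourhood of the maximal point. -/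
lemma exists_chart [LocallyOfFiniteType f] {η : Y} (hη : closure {η} ∈ irreducibleComponents ↥Y)
    (hfin : (f ⁻¹' {η}).Finite) {V : Y.Opens} (hV : IsAffineOpen V) (hηV : η ∈ V)
    {x : X} (hx : f x = η) :
    ∃ (U : X.Opens) (V' : Y.Opens), x ∈ U ∧ IsAffineOpen U ∧ U ≤ f ⁻¹ᵁ V ∧
      (∀ z ∈ U, f z = η → z = x) ∧ V' ≤ V ∧ η ∈ V' ∧ IsFinite ((U.ι ≫ f) ∣_ V') := by
  have key : ∀ U : X.Opens, IsAffineOpen U → U ≤ f ⁻¹ᵁ V →
      ∃ V' ≤ V, η ∈ V' ∧ IsFinite ((U.ι ≫ f) ∣_ V') := fun U hU hUV => by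
    have : IsAffine U := hU
    obtain ⟨V', h1, -, h2, h3⟩ := exists_isFinite_of_isAffine (U.ι ≫ f) hη hV hηV
      (top_le_iff.mp fun u _ => hUV u.2) ((hfin.preimage U.ι.isOpenEmbedding.injective.injOn).subset
        fun u hu => hu)
    exact ⟨V', h1, h2, h3⟩
  obtain ⟨_, ⟨U₀ : X.Opens, hU₀, rfl⟩, hxU₀, hU₀V⟩ := X.isBasis_affineOpens.exists_subset_of_mem_open
    (show x ∈ f ⁻¹ᵁ V by simpa [hx] using hηV) (f ⁻¹ᵁ V).2
  obtain ⟨V₀, -, hηV₀, hfin₀⟩ := key U₀ hU₀ hU₀V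
  let g₀ := (U₀.ι ≫ f) ∣_ V₀
  let x₀ : ((U₀.ι ≫ f) ⁻¹ᵁ V₀).toScheme := ⟨⟨x, hxU₀⟩, show f x ∈ V₀ by rw [hx]; exact hηV₀⟩
  obtain ⟨O, hO, hOx⟩ := isDiscrete_iff_forall_mem_exists_isOpen.mp
    (g₀.isDiscrete_preimage_singleton ⟨η, hηV₀⟩) x₀
    (Subtype.ext (by rw [morphismRestrict_base]; exact hx))
  let emb := ((U₀.ι ≫ f) ⁻¹ᵁ V₀).ι ≫ U₀.ι
  let U₁ : X.Opens := emb ''ᵁ ⟨O, hO⟩
  have hxU₁ : x ∈ U₁ := ⟨x₀, ((Set.ext_iff.mp hOx x₀).mpr rfl).1, rfl⟩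
  obtain ⟨_, ⟨U : X.Opens, hU, rfl⟩, hxU, hUU⟩ := X.isBasis_affineOpens.exists_subset_of_mem_open
    hxU₁ U₁.2
  have hUV : U ≤ f ⁻¹ᵁ V := fun z hz => by
    obtain ⟨w, -, rfl⟩ := hUU hz
    exact hU₀V w.1.2
  obtain ⟨V', hV'V, hηV', hfinU⟩ := key U hU hUV
  refine ⟨U, V', hxU, hU, hUV, fun z hz hfz => ?_, hV'V, hηV', hfinU⟩
  obtain ⟨w, hw, rfl⟩ := hUU hz
  have : w ∈ ({x₀} : Set _) := hOx ▸ ⟨hw, Subtype.ext (by rw [morphismRestrict_base]; exact hfz)⟩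
  rw [Set.mem_singleton_iff.mp this]
  rfl

/-- Generic finiteness: EGA I / Stacks 02NW. -/
lemma exists_affine_nhd_isFinite' [LocallyOfFiniteType f] [QuasiCompact f] {η : Y}
    (hη : closure {η} ∈ irreducibleComponents ↥Y) (hfin : (f ⁻¹' {η}).Finite) {V : Y.Opens}
    (hV : IsAffineOpen V) (hηV : η ∈ V)
    (hsep : ∀ U₁ U₂ : X.Opens, IsAffineOpen U₁ → IsAffineOpen U₂ → U₁ ≤ f ⁻¹ᵁ V → U₂ ≤ f ⁻¹ᵁ V →
      η ∈ closure (f '' ((U₁ ⊓ U₂ : X.Opens) : Set X)) → ∃ z ∈ U₁ ⊓ U₂, f z = η) :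
    ∃ V : Y.Opens, IsAffineOpen V ∧ η ∈ V ∧ IsFinite (f ∣_ V) := by
  classical
  have := hfin.to_subtype
  choose U V' hxU hU hUV hUone hV'V hηV' hfinU using fun x : f ⁻¹' {η} =>
    exists_chart f hη hfin hV hηV x.2
  -- closed sets whose images must be avoided
  let Z : Closeds X := ⟨((⨆ x, U x : X.Opens) : Set X)ᶜ, (⨆ x, U x : X.Opens).2.isClosed_compl⟩
  let I := Scheme.IdealSheafData.vanishingIdeal Z
  have hrange : Set.range I.subschemeι = ((⨆ x, U x : X.Opens) : Set X)ᶜ := by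
    rw [I.range_subschemeι]; rfl
  have hbad₁ : η ∉ closure (Set.range (I.subschemeι ≫ f)) := fun h => by
    obtain ⟨z, hz⟩ := exists_specializes_of_mem_closure_range _ h
    have hfz : f (I.subschemeι z) = η := (closure_mem_irreducibleComponents_iff η).mp hη _ hz
    have : I.subschemeι z ∈ ((⨆ x, U x : X.Opens) : Set X)ᶜ := hrange ▸ ⟨z, rfl⟩
    exact this (Opens.mem_iSup.mpr ⟨⟨_, hfz⟩, hxU ⟨_, hfz⟩⟩)
  have hbad₂ : ∀ a : {q : (f ⁻¹' {η}) × (f ⁻¹' {η}) // q.1 ≠ q.2},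
      η ∉ closure (f '' ((U a.1.1 ⊓ U a.1.2 : X.Opens) : Set X)) := fun ⟨⟨i, j⟩, hij⟩ h => by
    obtain ⟨z, hz, hfz⟩ := hsep _ _ (hU i) (hU j) (hUV i) (hUV j) h
    exact hij (Subtype.ext ((hUone i z hz.1 hfz).symm.trans (hUone j z hz.2 hfz)))
  let B : Set Y := closure (Set.range (I.subschemeι ≫ f)) ∪
    ⋃ a : {q : (f ⁻¹' {η}) × (f ⁻¹' {η}) // q.1 ≠ q.2},
      closure (f '' ((U a.1.1 ⊓ U a.1.2 : X.Opens) : Set X))
  have hB : IsClosed B := isClosed_closure.union (isClosed_iUnion_of_finite fun _ => isClosed_closure)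
  let O : Y.Opens := V ⊓ ⟨Bᶜ, hB.isOpen_compl⟩ ⊓
    ⟨⋂ x, (V' x : Set Y), isOpen_iInter_of_finite fun x => (V' x).2⟩
  have hηO : η ∈ O := ⟨⟨hηV, by simp only [B, Opens.coe_mk, Set.mem_compl_iff, Set.mem_union,
    Set.mem_iUnion, not_or, not_exists]; exact ⟨hbad₁, hbad₂⟩⟩, Set.mem_iInter.mpr hηV'⟩
  obtain ⟨_, ⟨W : Y.Opens, hW, rfl⟩, hηW, hWO⟩ :=
    Y.isBasis_affineOpens.exists_subset_of_mem_open hηO O.2
  have : IsAffine W := hW
  let S : (f ⁻¹' {η}) → (f ⁻¹ᵁ W).toScheme.Opens := fun x => (f ⁻¹ᵁ W).ι ⁻¹ᵁ U x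
  have hS : ⨆ x, S x = ⊤ := top_le_iff.mp fun z _ => by
    by_contra h
    have hz : z.1 ∈ Set.range I.subschemeι := by
      rw [hrange]
      intro hmem
      obtain ⟨i, hi⟩ := Opens.mem_iSup.mp (show z.1 ∈ ⨆ x, U x from hmem)
      exact h (Opens.mem_iSup.mpr ⟨i, hi⟩)
    obtain ⟨w, hw⟩ := hz
    refine (hWO z.2).1.2 (Or.inl (subset_closure ⟨w, ?_⟩))
    rw [Scheme.Hom.comp_apply, hw]
  have hSfin : ∀ x, IsFinite ((S x).ι ≫ f ∣_ W) := fun x => by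
    have hfx := isFinite_restrict_of_le ((U x).ι ≫ f)
      (fun y hy => Set.mem_iInter.mp (hWO hy).2 x : W ≤ V' x) (hfinU x)
    rw [morphismRestrict_comp] at hfx
    let e := IsOpenImmersion.isoOfRangeEq (S x).ι ((U x).ι ∣_ (f ⁻¹ᵁ W)) (by
      rw [Scheme.Opens.range_ι]
      ext z
      constructor
      · intro hz
        exact ⟨⟨⟨z.1, hz⟩, z.2⟩, Subtype.ext (by rw [morphismRestrict_base]; rfl)⟩
      · rintro ⟨w, rfl⟩
        show (((U x).ι ∣_ (f ⁻¹ᵁ W)) w).1 ∈ U x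
        rw [morphismRestrict_base]
        exact w.1.2)
    rw [← IsOpenImmersion.isoOfRangeEq_hom_fac (S x).ι ((U x).ι ∣_ (f ⁻¹ᵁ W)) _, Category.assoc]
    exact (MorphismProperty.cancel_left_of_respectsIso @IsFinite e.hom _).mpr hfx
  have hSaff : ∀ x, IsAffineOpen (S x) := fun x => by
    have := hSfin x
    exact isAffine_of_isAffineHom ((S x).ι ≫ f ∣_ W)
  have haff : IsAffine (f ⁻¹ᵁ W) := by
    have h := IsAffineOpen.iSup_of_disjoint hSaff fun i j hij => by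
      rw [Function.onFun, ← Opens.coe_disjoint, Set.disjoint_left]
      intro z hzi hzj
      exact (hWO z.2).1.2 (Or.inr (Set.mem_iUnion.mpr ⟨⟨(i, j), hij⟩,
        subset_closure ⟨z.1, ⟨hzi, hzj⟩, rfl⟩⟩))
    rw [hS] at h
    have : IsAffine (⊤ : (f ⁻¹ᵁ W).toScheme.Opens) := h
    exact IsAffine.of_isIso (f ⁻¹ᵁ W).toScheme.topIso.inv
  have : IsAffineHom (f ∣_ W) := isAffineHom_of_isAffine _
  have : IsFinite ((⨆ x, S x : (f ⁻¹ᵁ W).toScheme.Opens).ι ≫ f ∣_ W) :=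
    Groth.Flatmor4.isFinite_iSup (f ∣_ W) S hSfin
  rw [hS] at this
  exact ⟨W, hW, hηW, (MorphismProperty.cancel_left_of_respectsIso @IsFinite (f ⁻¹ᵁ W).toScheme.topIso.hom _).mp this⟩

/-- Generic finiteness (Stacks 02NW). -/
lemma exists_affine_nhd_isFinite [LocallyOfFiniteType f] [QuasiCompact f] [QuasiSeparated f] {η : Y}
    (hη : closure {η} ∈ irreducibleComponents ↥Y) (hfin : (f ⁻¹' {η}).Finite) :
    ∃ V : Y.Opens, IsAffineOpen V ∧ η ∈ V ∧ IsFinite (f ∣_ V) := by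
  obtain ⟨_, ⟨V : Y.Opens, hV, rfl⟩, hηV, -⟩ :=
    Y.isBasis_affineOpens.exists_subset_of_mem_open (Set.mem_univ η) isOpen_univ
  refine exists_affine_nhd_isFinite' f hη hfin hV hηV fun U₁ U₂ hU₁ hU₂ h₁ h₂ h => ?_
  have hcpt : IsCompact ((U₁ ⊓ U₂ : X.Opens) : Set X) := by
    have hqs : IsQuasiSeparated ((f ⁻¹ᵁ V : X.Opens) : Set X) :=
      (isQuasiSeparated_iff_quasiSeparatedSpace _ (f ⁻¹ᵁ V).2).mpr
        (by
          have : IsAffine V := hV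
          exact quasiSeparatedSpace_of_quasiSeparated (f ∣_ V))
    exact hqs _ _ h₁ (U₁).2 hU₁.isCompact h₂ (U₂).2 (hU₂).isCompact
  have : CompactSpace (U₁ ⊓ U₂ : X.Opens) := isCompact_iff_compactSpace.mp hcpt
  have hle : U₁ ⊓ U₂ ≤ f ⁻¹ᵁ V := inf_le_left.trans h₁
  have : IsAffine V := hV
  let g' := X.homOfLE hle ≫ f ∣_ V
  have hg' : ∀ z, (g' z).1 = f z.1 := fun z =>
    congr(($(show g' ≫ V.ι = (U₁ ⊓ U₂).ι ≫ f by simp [g'])).base z)
  obtain ⟨z, hz⟩ := exists_specializes_of_mem_closure_range g' (y := ⟨η, hηV⟩) (by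
    refine (V.ι.isOpenEmbedding.isInducing.closure_eq_preimage_closure_image _).ge ?_
    refine closure_mono ?_ h
    rintro _ ⟨w, hw, rfl⟩
    exact ⟨g' ⟨w, hw⟩, ⟨⟨w, hw⟩, rfl⟩, hg' ⟨w, hw⟩⟩)
  have hfz : f z.1 = η := (closure_mem_irreducibleComponents_iff η).mp hη _
    (hg' z ▸ hz.map continuous_subtype_val)
  exact ⟨z.1, z.2, hfz⟩

/-- Generic finiteness when the maximal points of `X` and `Y` correspond (no separation needed). -/
lemma exists_affine_nhd_isFinite_of_gen [LocallyOfFiniteType f] [QuasiCompact f] {η : Y}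
    (hη : closure {η} ∈ irreducibleComponents ↥Y) (hX : (irreducibleComponents ↥X).Finite)
    (hY : (irreducibleComponents ↥Y).Finite)
    (hgen : ∀ x : X, closure {x} ∈ irreducibleComponents ↥X ↔
      closure {f x} ∈ irreducibleComponents ↥Y) :
    ∃ V : Y.Opens, IsAffineOpen V ∧ η ∈ V ∧ IsFinite (f ∣_ V) := by
  let C : Set Y := ⋃ c ∈ irreducibleComponents ↥Y \ {closure {η}}, c
  have hC : IsClosed C :=
    hY.sdiff.isClosed_biUnion fun c hc => isClosed_of_mem_irreducibleComponents c hc.1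
  have hηC : η ∉ C := by
    simp only [C, Set.mem_iUnion, not_exists]
    intro c hc hmem
    have h' := (isClosed_of_mem_irreducibleComponents c hc.1).closure_subset_iff.mpr
      (Set.singleton_subset_iff.mpr hmem)
    exact hc.2 ((hη.2 hc.1.1 h').antisymm h')
  obtain ⟨_, ⟨V : Y.Opens, hV, rfl⟩, hηV, hVC⟩ :=
    Y.isBasis_affineOpens.exists_subset_of_mem_open (show η ∈ Cᶜ from hηC) hC.isOpen_compl
  have hfin : (f ⁻¹' {η}).Finite := by
    refine Set.Finite.of_finite_image (hX.subset ?_) (f := fun x : X => closure {x}) ?_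
    · rintro _ ⟨x, hx, rfl⟩
      exact (hgen x).mpr (by rw [show f x = η from hx]; exact hη)
    · exact fun a _ b _ hab => (inseparable_iff_closure_eq.mpr hab).eq
  refine exists_affine_nhd_isFinite' f hη hfin hV hηV fun U₁ U₂ _ _ h₁ _ h => ?_
  obtain ⟨_, z, hz, rfl⟩ := (closure_nonempty_iff.mp ⟨η, h⟩)
  obtain ⟨g, hg, hgz⟩ := exists_genericPoint_specializes z
  have hgU : g ∈ U₁ ⊓ U₂ := hgz.mem_open (U₁ ⊓ U₂).2 hz
  refine ⟨g, hgU, ?_⟩
  by_contra hne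
  exact hVC (h₁ hgU.1) (Set.mem_biUnion (show closure {f g} ∈ irreducibleComponents ↥Y \ {closure {η}}
    from ⟨(hgen g).mp hg, fun e => hne (inseparable_iff_closure_eq.mpr e).eq⟩) (subset_closure rfl))

end Groth.PropsBasic.GenericFinite
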