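import Mathlib.RingTheory.Smooth.Basic
import Mathlib.Algebra.MonoidAlgebra.Basic
import Mathlib.RingTheory.MvPolynomial.Ideal
import Mathlib.GroupTheory.Finiteness
import Mathlib.LinearAlgebra.SymmetricAlgebra.Basis

/-!
A fine sharp monoid whose monoid algebra is formally smooth is free.
-/

set_option autoImplicit false
set_option linter.style.haveILetI false
universe u v

open MvPolynomial

namespace Groth.SmoothMonoid

variable {N : Type v} [AddCommMonoid N] [AddMonoid.FG N] [IsCancelAdd N]

/-- The monoid map `ℕ^r → N` of a family. -/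
noncomputable def ψ {ι : Type*} (g : ι → N) : (ι →₀ ℕ) →+ N :=
  Finsupp.liftAddHom fun i => multiplesHom N (g i)

omit [AddMonoid.FG N] [IsCancelAdd N] in
theorem ψ_single {ι : Type*} (g : ι → N) (i : ι) (n : ℕ) : ψ g (Finsupp.single i n) = n • g i := by
  simp [ψ]

/-- A fine sharp monoid is generated by a family whose fibres over `0` and the generators are trivial. -/
theorem exists_atoms (hsharp : ∀ n : N, IsAddUnit n → n = 0) :
    ∃ (r : ℕ) (g : Fin r → N), Function.Surjective (ψ g) ∧
      (∀ a, ψ g a = 0 → a = 0) ∧ ∀ a i, ψ g a = g i → a = Finsupp.single i 1 := by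
  classical
  have hsum : ∀ x y : N, x + y = 0 → x = 0 := fun x y h => hsharp x (.of_add_eq_zero y h)
  have hex : ∃ m, ∃ s : Finset N, s.card = m ∧ AddSubmonoid.closure (s : Set N) = ⊤ := by
    obtain ⟨s, hs⟩ := AddMonoid.fg_def.1 (inferInstance : AddMonoid.FG N)
    exact ⟨_, s, rfl, hs⟩
  obtain ⟨s, hcard, hs⟩ := Nat.find_spec hex
  set e := s.equivFin.symm
  set g : Fin s.card → N := fun i => (e i : N) with hg
  have hmin : ∀ t : Finset N, AddSubmonoid.closure (t : Set N) = ⊤ → s.card ≤ t.card := fun t ht =>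
    hcard ▸ Nat.find_min' hex ⟨t, rfl, ht⟩
  have hg0 : ∀ i, g i ≠ 0 := fun i hi => by
    have h0 : (0 : N) ∈ s := hi ▸ (e i).2
    have := hmin (s.erase 0) (top_unique (hs ▸ AddSubmonoid.closure_le.2 fun x hx => by
      rcases eq_or_ne x 0 with rfl | hx0
      · exact zero_mem _
      · exact AddSubmonoid.subset_closure (Finset.mem_coe.2 (Finset.mem_erase.2 ⟨hx0, hx⟩))))
    have := Finset.card_erase_lt_of_mem h0
    omega
  have hsurj : Function.Surjective (ψ g) := fun x => by
    have hx : x ∈ AddSubmonoid.closure (s : Set N) := hs ▸ AddSubmonoid.mem_top x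
    have hle : AddSubmonoid.closure (s : Set N) ≤ AddMonoidHom.mrange (ψ g) :=
      AddSubmonoid.closure_le.2 fun y hy => ⟨Finsupp.single (e.symm ⟨y, hy⟩) 1, by simp [ψ_single, hg]⟩
    exact hle hx
  have hzero : ∀ a, ψ g a = 0 → a = 0 := fun a ha => by
    ext i
    by_contra hi
    obtain ⟨d, rfl⟩ : ∃ d, a = Finsupp.single i 1 + d := ⟨a - Finsupp.single i 1,
      (add_tsub_cancel_of_le (Finsupp.single_le_iff.2 (Nat.one_le_iff_ne_zero.2 hi))).symm⟩
    rw [map_add, ψ_single, one_smul] at ha
    exact hg0 i (hsum _ _ ha)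
  refine ⟨s.card, g, hsurj, hzero, fun a i ha => ?_⟩
  by_cases hi : a i = 0
  · exfalso
    have hmem : g i ∈ AddSubmonoid.closure ((s.erase (g i) : Finset N) : Set N) := by
      suffices h : ψ g a ∈ AddSubmonoid.closure ((s.erase (g i) : Finset N) : Set N) by rwa [ha] at h
      rw [← Finsupp.sum_single a, Finsupp.sum, map_sum]
      refine sum_mem fun j hj => ?_
      rw [ψ_single]
      refine nsmul_mem (AddSubmonoid.subset_closure (Finset.mem_coe.2 (Finset.mem_erase.2 ⟨fun h => ?_, (e j).2⟩))) _
      have hji : j = i := e.injective (Subtype.ext h)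
      exact Finsupp.mem_support_iff.1 hj (hji ▸ hi)
    have := hmin (s.erase (g i)) (top_unique (hs ▸ AddSubmonoid.closure_le.2 fun x hx => by
      rcases eq_or_ne x (g i) with rfl | hx0
      · exact hmem
      · exact AddSubmonoid.subset_closure (Finset.mem_coe.2 (Finset.mem_erase.2 ⟨hx0, hx⟩))))
    have := Finset.card_erase_lt_of_mem (show g i ∈ s from (e i).2)
    omega
  · obtain ⟨d, rfl⟩ : ∃ d, a = Finsupp.single i 1 + d := ⟨a - Finsupp.single i 1,
      (add_tsub_cancel_of_le (Finsupp.single_le_iff.2 (Nat.one_le_iff_ne_zero.2 hi))).symm⟩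
    rw [map_add, ψ_single, one_smul] at ha
    rw [hzero d (add_eq_left.1 ha), add_zero]

variable (R : Type u) [CommRing R]

/-- The presentation `R[X] → R[N]`. -/
noncomputable def φ {r : ℕ} (g : Fin r → N) : MvPolynomial (Fin r) R →ₐ[R] AddMonoidAlgebra R N :=
  AddMonoidAlgebra.mapDomainAlgHom R R (ψ g)

/-- Formal smoothness forces the presentation to be injective. -/
theorem exists_free [Algebra.FormallySmooth R (AddMonoidAlgebra R N)]
    (hsharp : ∀ n : N, IsAddUnit n → n = 0) :
    ∃ r : ℕ, Nonempty (MvPolynomial (Fin r) R ≃ₐ[R] AddMonoidAlgebra R N) := by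
  classical
  obtain ⟨r, g, hsurj, hzero, hatom⟩ := exists_atoms hsharp
  set φ := φ R g with hφ
  set m := idealOfVars (Fin r) R with hm
  have hφs : Function.Surjective φ := fun y => by
    induction y using AddMonoidAlgebra.induction_linear with
    | zero => exact ⟨0, map_zero _⟩
    | add a b ha hb =>
      obtain ⟨x, rfl⟩ := ha
      obtain ⟨z, rfl⟩ := hb
      exact ⟨x + z, map_add _ _ _⟩
    | single n c =>
      obtain ⟨a, rfl⟩ := hsurj n
      refine ⟨monomial a c, ?_⟩
      show AddMonoidAlgebra.mapDomainAlgHom R R (ψ g) (AddMonoidAlgebra.single a c) = _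
      simp
  set J := RingHom.ker φ with hJ
  -- only the multiple monomials occur in the kernel
  have hcoeff : ∀ f ∈ J, ∀ a₀, (∀ a, ψ g a = ψ g a₀ → a = a₀) → coeff a₀ f = 0 := fun f hf a₀ ha₀ => by
    have h : φ f = 0 := hf
    rw [f.as_sum, map_sum] at h
    have h' := congrArg (fun y : AddMonoidAlgebra R N => y.coeff (ψ g a₀)) h
    have hterm : ∀ a, (φ (monomial a (coeff a f))).coeff (ψ g a₀) = if a = a₀ then coeff a f else 0 := fun a => by
      have : φ (monomial a (coeff a f)) = AddMonoidAlgebra.single (ψ g a) (coeff a f) := by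
        show AddMonoidAlgebra.mapDomainAlgHom R R (ψ g) (AddMonoidAlgebra.single a (coeff a f)) = _
        simp
      rw [this, AddMonoidAlgebra.coeff_single, Finsupp.single_apply]
      by_cases haa : a = a₀
      · rw [if_pos haa, if_pos (congrArg _ haa)]
      · rw [if_neg haa, if_neg fun h'' => haa (ha₀ a h'')]
    simp only [AddMonoidAlgebra.coeff_sum, Finsupp.finsetSum_apply, hterm, Finset.sum_ite_eq',
      AddMonoidAlgebra.coeff_zero, Finsupp.zero_apply] at h'
    by_cases hsupp : a₀ ∈ f.support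
    · rwa [if_pos hsupp] at h'
    · exact notMem_support_iff.1 hsupp
  have hJm : J ≤ m ^ 2 := fun f hf => by
    rw [hm, mem_pow_idealOfVars_iff']
    intro a ha
    by_contra hne
    apply hne
    rcases Nat.eq_zero_or_pos a.degree with h0 | h0
    · obtain rfl := (Finsupp.degree_eq_zero_iff a).1 h0
      exact hcoeff f hf 0 fun b hb => hzero b (hb.trans (map_zero _))
    · obtain ⟨i, hi⟩ : ∃ i, a i ≠ 0 := by
        by_contra hc
        push Not at hc
        rw [show a = 0 from Finsupp.ext hc, map_zero] at h0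
        omega
      obtain ⟨d, rfl⟩ : ∃ d, a = Finsupp.single i 1 + d := ⟨a - Finsupp.single i 1,
        (add_tsub_cancel_of_le (Finsupp.single_le_iff.2 (Nat.one_le_iff_ne_zero.2 hi))).symm⟩
      rw [map_add, Finsupp.degree_single] at ha h0
      obtain rfl := (Finsupp.degree_eq_zero_iff d).1 (by omega)
      rw [add_zero]
      refine hcoeff f hf _ fun b hb => hatom b i ?_
      rw [hb, ψ_single, one_smul]
  -- lift modulo the square of the kernel
  let q : MvPolynomial (Fin r) R →ₐ[R] MvPolynomial (Fin r) R ⧸ J ^ 2 := Ideal.Quotient.mkₐ R _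
  let p : MvPolynomial (Fin r) R ⧸ J ^ 2 →ₐ[R] AddMonoidAlgebra R N :=
    Ideal.Quotient.liftₐ (J ^ 2) φ fun x hx => (Ideal.pow_le_self two_ne_zero hx : x ∈ J)
  have hp : Function.Surjective p := fun y => by
    obtain ⟨x, rfl⟩ := hφs y
    exact ⟨q x, rfl⟩
  have hkp : IsNilpotent (RingHom.ker (p : MvPolynomial (Fin r) R ⧸ J ^ 2 →+* AddMonoidAlgebra R N)) := by
    refine ⟨2, ?_⟩
    have : RingHom.ker (p : MvPolynomial (Fin r) R ⧸ J ^ 2 →+* AddMonoidAlgebra R N) =
        J.map (Ideal.Quotient.mk (J ^ 2)) :=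
      Ideal.ker_quotient_lift _ fun x hx => (Ideal.pow_le_self two_ne_zero hx : x ∈ J)
    rw [this, ← Ideal.map_pow, Ideal.map_quotient_self]
    rfl
  let σ := Algebra.FormallySmooth.liftOfSurjective (AlgHom.id R (AddMonoidAlgebra R N)) p hp hkp
  have hσ : ∀ y, p (σ y) = y := fun y => Algebra.FormallySmooth.liftOfSurjective_apply _ p hp hkp y
  choose x' hx' using fun i : Fin r => Ideal.Quotient.mk_surjective (σ (φ (X i)))
  have hxJ : ∀ i, x' i - X i ∈ J := fun i => by
    show φ (x' i - X i) = 0
    rw [map_sub, sub_eq_zero]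
    exact (congrArg p (hx' i)).trans (hσ (φ (X i)))
  have hcomp : σ.comp φ = q.comp (aeval x') := algHom_ext fun i => by
    simp only [AlgHom.comp_apply, aeval_X]
    exact (hx' i).symm
  -- moving by the lift does not change an element of `m²` modulo `mJ`
  have hmemm : ∀ i, x' i ∈ m := fun i => by
    have h2 : J ≤ m := hJm.trans (Ideal.pow_le_self two_ne_zero)
    have := m.add_mem (h2 (hxJ i)) (Ideal.subset_span ⟨i, rfl⟩)
    simpa using this
  have hd : ∀ f, aeval x' f - f ∈ J := fun f => by
    induction f using MvPolynomial.induction_on with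
    | C a => rw [aeval_C, algebraMap_eq, sub_self]; exact J.zero_mem
    | add a b ha hb => rw [map_add, add_sub_add_comm]; exact J.add_mem ha hb
    | mul_X a i ha =>
      rw [map_mul, aeval_X, show aeval x' a * x' i - a * X i =
        (aeval x' a - a) * x' i + a * (x' i - X i) by ring]
      exact J.add_mem (J.mul_mem_right _ ha) (J.mul_mem_left _ (hxJ i))
  have hdm : ∀ f ∈ m, aeval x' f ∈ m := fun f hf => by
    have h2 : J ≤ m := hJm.trans (Ideal.pow_le_self two_ne_zero)
    have := m.add_mem (h2 (hd f)) hf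
    simpa using this
  have hd2 : ∀ f ∈ m ^ 2, aeval x' f - f ∈ m * J := fun f hf => by
    rw [pow_two] at hf
    induction hf using Submodule.mul_induction_on' with
    | mem_mul_mem a ha b hb =>
      rw [map_mul, show aeval x' a * aeval x' b - a * b =
        aeval x' b * (aeval x' a - a) + a * (aeval x' b - b) by ring]
      exact Ideal.add_mem _ (Ideal.mul_mem_mul (hdm b hb) (hd a)) (Ideal.mul_mem_mul ha (hd b))
    | add a _ b _ ha hb => rw [map_add, add_sub_add_comm]; exact Ideal.add_mem _ ha hb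
  have hJle : J ≤ m * J := fun f hf => by
    have h := DFunLike.congr_fun hcomp f
    simp only [AlgHom.comp_apply, show φ f = 0 from hf, map_zero] at h
    have h2 : aeval x' f ∈ J ^ 2 := Ideal.Quotient.eq_zero_iff_mem.1 h.symm
    have h3 : J ^ 2 ≤ m * J := by
      rw [pow_two]
      exact Ideal.mul_mono_left (hJm.trans (Ideal.pow_le_self two_ne_zero))
    have := (m * J).sub_mem (h3 h2) (hd2 f (hJm hf))
    simpa using this
  have hJpow : ∀ n, J ≤ m ^ n := fun n => by
    induction n with
    | zero => simp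
    | succ n ih => exact hJle.trans ((Ideal.mul_mono_right ih).trans (pow_succ' m n).ge)
  refine ⟨r, ⟨AlgEquiv.ofBijective φ ⟨?_, hφs⟩⟩⟩
  rw [injective_iff_map_eq_zero]
  intro f hf
  ext a
  rw [coeff_zero]
  have h := hJpow (a.degree + 1) hf
  rw [hm, mem_pow_idealOfVars_iff'] at h
  exact h a (Nat.lt_succ_self _)

end Groth.SmoothMonoid
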