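import Mathlib.RingTheory.Smooth.Basic
import Mathlib.RingTheory.GradedAlgebra.Basic
import Mathlib.RingTheory.MvPolynomial.Ideal
import Mathlib.LinearAlgebra.SymmetricAlgebra.Basic
import Mathlib.RingTheory.Ideal.Cotangent
import Mathlib.Algebra.Module.Projective
import Mathlib.Data.Finsupp.PWO
import Groth.Agent.PropsBasic.SmoothMonoid

/-!
A smooth algebra graded by a fine sharp monoid is the symmetric algebra of a projective module over
its degree zero part.
-/

set_option autoImplicit false
set_option linter.style.haveILetI false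
universe u v w

open DirectSum

namespace Groth.GradedSmooth

section Lift

variable {R : Type u} [CommRing R] {S : Type v} [CommRing S] [Algebra R S] {A : Type w} [CommRing A]
  [Algebra R A]

/-- If `A = S / J` is formally smooth and `J ⊆ m²` then `J` is contained in every power of `m`. -/
theorem ker_le_pow [Algebra.FormallySmooth R A] (φ : S →ₐ[R] A) (hφ : Function.Surjective φ)
    (m : Ideal S) (hJ : RingHom.ker φ ≤ m ^ 2) (n : ℕ) : RingHom.ker φ ≤ m ^ n := by
  set J := RingHom.ker φ with hJdef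
  have hJ1 : J ≤ m := hJ.trans (Ideal.pow_le_self two_ne_zero)
  let q : S →ₐ[R] S ⧸ J ^ 2 := Ideal.Quotient.mkₐ R _
  let p : S ⧸ J ^ 2 →ₐ[R] A :=
    Ideal.Quotient.liftₐ (J ^ 2) φ fun x hx => (Ideal.pow_le_self two_ne_zero hx : x ∈ J)
  have hp : Function.Surjective p := fun y => by
    obtain ⟨x, rfl⟩ := hφ y
    exact ⟨q x, rfl⟩
  have hker : RingHom.ker (p : S ⧸ J ^ 2 →+* A) = J.map (Ideal.Quotient.mk (J ^ 2)) :=
    Ideal.ker_quotient_lift _ fun x hx => (Ideal.pow_le_self two_ne_zero hx : x ∈ J)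
  have hkp : IsNilpotent (RingHom.ker (p : S ⧸ J ^ 2 →+* A)) := by
    refine ⟨2, ?_⟩
    rw [hker, ← Ideal.map_pow, Ideal.map_quotient_self]
    rfl
  let σ := Algebra.FormallySmooth.liftOfSurjective (AlgHom.id R A) p hp hkp
  have hσ : ∀ y, p (σ y) = y := fun y => Algebra.FormallySmooth.liftOfSurjective_apply _ p hp hkp y
  set θ : S →ₐ[R] S ⧸ J ^ 2 := σ.comp φ with hθ
  set K := J.map (Ideal.Quotient.mk (J ^ 2)) with hK
  set M := m.map (Ideal.Quotient.mk (J ^ 2)) with hM
  have hd : ∀ f, θ f - q f ∈ K := fun f => by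
    rw [← hker]
    show p (θ f - q f) = 0
    rw [map_sub, hθ, AlgHom.comp_apply, hσ, sub_eq_zero]
    rfl
  have hq : ∀ f ∈ m, q f ∈ M := fun f hf => Ideal.mem_map_of_mem _ hf
  have hdm : ∀ f ∈ m, θ f ∈ M := fun f hf => by
    have := M.add_mem (Ideal.map_mono hJ1 (hd f)) (hq f hf)
    simpa using this
  have hd2 : ∀ f ∈ m ^ 2, θ f - q f ∈ M * K := fun f hf => by
    rw [pow_two] at hf
    induction hf using Submodule.mul_induction_on' with
    | mem_mul_mem a ha b hb =>
      rw [map_mul, map_mul, show θ a * θ b - q a * q b =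
        θ b * (θ a - q a) + q a * (θ b - q b) by ring]
      exact Ideal.add_mem _ (Ideal.mul_mem_mul (hdm b hb) (hd a)) (Ideal.mul_mem_mul (hq a ha) (hd b))
    | add a _ b _ ha hb => rw [map_add, map_add, add_sub_add_comm]; exact Ideal.add_mem _ ha hb
  have hJle : J ≤ m * J := fun f hf => by
    have h0 : θ f = 0 := by
      rw [hθ, AlgHom.comp_apply, show φ f = 0 from hf, map_zero]
    have h := hd2 f (hJ hf)
    rw [h0, zero_sub, neg_mem_iff, hM, hK, ← Ideal.map_mul] at h
    obtain ⟨g, hg, hgf⟩ := (Ideal.mem_map_iff_of_surjective _ Ideal.Quotient.mk_surjective).1 h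
    have h2 : f - g ∈ J ^ 2 := Ideal.Quotient.eq.1 hgf.symm
    have h3 : J ^ 2 ≤ m * J := by
      rw [pow_two]
      exact Ideal.mul_mono_left hJ1
    simpa using (m * J).add_mem (h3 h2) hg
  induction n with
  | zero => simp
  | succ n ih => exact hJle.trans ((Ideal.mul_mono_right ih).trans (pow_succ' m n).ge)

end Lift

section Sym

variable {B : Type u} [CommRing B] {P : Type v} [AddCommGroup P] [Module B P]

/-- The augmentation ideal of the symmetric algebra. -/
noncomputable def augIdeal : Ideal (SymmetricAlgebra B P) :=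
  RingHom.ker (SymmetricAlgebra.algebraMapInv : SymmetricAlgebra B P →ₐ[B] B)

/-- Every element is a constant plus a linear form modulo the square of the augmentation ideal. -/
theorem exists_sub_mem_sq (f : SymmetricAlgebra B P) :
    ∃ (c : B) (p : P), f - (algebraMap B _ c + SymmetricAlgebra.ι B P p) ∈ augIdeal ^ 2 := by
  induction f using SymmetricAlgebra.induction with
  | algebraMap c => exact ⟨c, 0, by simp⟩
  | ι x => exact ⟨0, x, by simp⟩
  | add a b ha hb =>
    obtain ⟨c, p, h⟩ := ha
    obtain ⟨d, q, h'⟩ := hb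
    refine ⟨c + d, p + q, ?_⟩
    convert Ideal.add_mem _ h h' using 1
    simp only [map_add]
    ring
  | mul a b ha hb =>
    obtain ⟨c, p, h⟩ := ha
    obtain ⟨d, q, h'⟩ := hb
    refine ⟨c * d, c • q + d • p, ?_⟩
    have hι : ∀ x : P, SymmetricAlgebra.ι B P x ∈ (augIdeal : Ideal (SymmetricAlgebra B P)) := fun x =>
      RingHom.mem_ker.2 (SymmetricAlgebra.algebraMapInv_ι x)
    have key : a * b - (algebraMap B _ (c * d) + SymmetricAlgebra.ι B P (c • q + d • p)) =
        (a - (algebraMap B _ c + SymmetricAlgebra.ι B P p)) * b +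
        (algebraMap B _ c + SymmetricAlgebra.ι B P p) *
          (b - (algebraMap B _ d + SymmetricAlgebra.ι B P q)) +
        SymmetricAlgebra.ι B P p * SymmetricAlgebra.ι B P q := by
      simp only [map_add, map_mul, map_smul, Algebra.smul_def]
      ring
    rw [key]
    refine Ideal.add_mem _ (Ideal.add_mem _ (Ideal.mul_mem_right _ _ h) (Ideal.mul_mem_left _ _ h')) ?_
    rw [pow_two]
    exact Ideal.mul_mem_mul (hι p) (hι q)

/-- The augmentation ideal of a projective module is separated. -/
theorem eq_zero_of_mem_pow [Module.Projective B P] (f : SymmetricAlgebra B P)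
    (hf : ∀ n, f ∈ augIdeal ^ n) : f = 0 := by
  obtain ⟨i, hi⟩ := Module.projective_def.1 (inferInstance : Module.Projective B P)
  let g : SymmetricAlgebra B P →ₐ[B] MvPolynomial P B :=
    SymmetricAlgebra.lift ((Finsupp.linearCombination B fun x : P => MvPolynomial.X x).comp i)
  let h : MvPolynomial P B →ₐ[B] SymmetricAlgebra B P :=
    MvPolynomial.aeval fun x => SymmetricAlgebra.ι B P x
  have hhg : h.comp g = AlgHom.id B _ := SymmetricAlgebra.algHom_ext <| LinearMap.ext fun x => by
    show h (g (SymmetricAlgebra.ι B P x)) = SymmetricAlgebra.ι B P x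
    rw [SymmetricAlgebra.lift_ι_apply, LinearMap.comp_apply, ← AlgHom.toLinearMap_apply h,
      Finsupp.apply_linearCombination, AlgHom.coe_toLinearMap]
    have : (h : MvPolynomial P B → SymmetricAlgebra B P) ∘ (fun y : P => MvPolynomial.X y) =
        fun y => SymmetricAlgebra.ι B P y := funext fun y => MvPolynomial.aeval_X _ y
    rw [this]
    conv_rhs => rw [← hi x, Finsupp.apply_linearCombination]
    rfl
  have hle : Ideal.map g augIdeal ≤ MvPolynomial.idealOfVars P B := by
    have hι : ∀ p : P, g (SymmetricAlgebra.ι B P p) ∈ MvPolynomial.idealOfVars P B := fun p => by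
      rw [SymmetricAlgebra.lift_ι_apply, LinearMap.comp_apply, Finsupp.linearCombination_apply]
      refine Ideal.sum_mem _ fun y _ => ?_
      show _ • MvPolynomial.X y ∈ _
      rw [MvPolynomial.smul_eq_C_mul]
      exact Ideal.mul_mem_left _ _ (Ideal.subset_span ⟨y, rfl⟩)
    have hall : ∀ a, g a - MvPolynomial.C (SymmetricAlgebra.algebraMapInv a) ∈
        MvPolynomial.idealOfVars P B := fun a => by
      induction a using SymmetricAlgebra.induction with
      | algebraMap c => simp [← MvPolynomial.algebraMap_eq]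
      | ι x => rw [SymmetricAlgebra.algebraMapInv_ι, map_zero, sub_zero]; exact hι x
      | add a b ha hb =>
        simp only [map_add]
        rw [add_sub_add_comm]
        exact Ideal.add_mem _ ha hb
      | mul a b ha hb =>
        simp only [map_mul]
        rw [show ∀ x y x' y' : MvPolynomial P B, x * y - x' * y' = (x - x') * y + x' * (y - y') from
          fun _ _ _ _ => by ring]
        exact Ideal.add_mem _ (Ideal.mul_mem_right _ _ ha) (Ideal.mul_mem_left _ _ hb)
    rw [Ideal.map_le_iff_le_comap]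
    intro a ha
    have h0 : SymmetricAlgebra.algebraMapInv a = (0 : B) := ha
    simpa [h0] using hall a
  have hg0 : g f = 0 := by
    ext a
    rw [MvPolynomial.coeff_zero]
    have := Ideal.mem_map_of_mem g (hf (a.degree + 1))
    rw [Ideal.map_pow] at this
    have h2 := Ideal.pow_right_mono hle _ this
    rw [MvPolynomial.mem_pow_idealOfVars_iff'] at h2
    exact h2 a (Nat.lt_succ_self _)
  have := DFunLike.congr_fun hhg f
  rw [AlgHom.comp_apply, hg0, map_zero, AlgHom.id_apply] at this
  exact this.symm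

end Sym

section Retraction

set_option linter.unusedSectionVars false

variable {R : Type u} [CommRing R] {A : Type v} [CommRing A] [Algebra R A]
  {B : Type w} [CommRing B] [Algebra R B] [Algebra B A] [IsScalarTower R B A]
  (ε : A →ₐ[R] B) (hε : ∀ b, ε (algebraMap B A b) = b)

/-- The ideal of the section. -/
abbrev I : Ideal A := RingHom.ker ε

omit [IsScalarTower R B A] in
include hε in
theorem sub_mem (a : A) : a - algebraMap B A (ε a) ∈ I ε := by
  show ε (a - algebraMap B A (ε a)) = 0
  rw [map_sub, hε, sub_self]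

/-- The linear part of an element. -/
noncomputable def lin : A →ₗ[B] (I ε).Cotangent where
  toFun a := (I ε).toCotangent ⟨a - algebraMap B A (ε a), sub_mem ε hε a⟩
  map_add' a b := by
    rw [← map_add]
    congr 1
    ext
    simp only [Submodule.coe_add, map_add]
    ring
  map_smul' c a := by
    rw [RingHom.id_apply, ← LinearMap.map_smul_of_tower]
    congr 1
    ext
    rw [Submodule.coe_smul_of_tower]
    simp only [Algebra.smul_def, map_mul, hε]
    ring

theorem lin_of_mem (y : A) (hy : y ∈ I ε) : lin ε hε y = (I ε).toCotangent ⟨y, hy⟩ := by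
  show (I ε).toCotangent _ = _
  congr 1
  ext
  show y - algebraMap B A (ε y) = y
  rw [show ε y = 0 from hy, map_zero, sub_zero]

theorem lin_algebraMap (b : B) : lin ε hε (algebraMap B A b) = 0 := by
  show (I ε).toCotangent _ = 0
  rw [Ideal.toCotangent_eq_zero]
  show algebraMap B A b - algebraMap B A (ε (algebraMap B A b)) ∈ _
  rw [hε, sub_self]
  exact Ideal.zero_mem _

include hε in
theorem smul_cotangent (a : A) (p : (I ε).Cotangent) : a • p = ε a • p := by
  obtain ⟨y, rfl⟩ := (I ε).toCotangent_surjective p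
  rw [← map_smul, ← LinearMap.map_smul_of_tower, Ideal.toCotangent_eq]
  rw [Submodule.coe_smul, Submodule.coe_smul_of_tower, smul_eq_mul, Algebra.smul_def, ← sub_mul, pow_two]
  exact Ideal.mul_mem_mul (sub_mem ε hε a) y.2

theorem lin_mul (a b : A) : lin ε hε (a * b) = a • lin ε hε b + b • lin ε hε a := by
  show (I ε).toCotangent _ = a • (I ε).toCotangent _ + b • (I ε).toCotangent _
  rw [← map_smul, ← map_smul, ← map_add, Ideal.toCotangent_eq]
  simp only [Submodule.coe_add, Submodule.coe_smul, smul_eq_mul, map_mul]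
  rw [show a * b - algebraMap B A (ε a) * algebraMap B A (ε b) -
      (a * (b - algebraMap B A (ε b)) + b * (a - algebraMap B A (ε a))) =
    -((a - algebraMap B A (ε a)) * (b - algebraMap B A (ε b))) by ring, neg_mem_iff, pow_two]
  exact Ideal.mul_mem_mul (sub_mem ε hε a) (sub_mem ε hε b)

include hε in
/-- The conormal module of a section of a smooth algebra is projective. -/
theorem projective_cotangent [Module.Projective A Ω[A⁄R]] :
    Module.Projective B (I ε).Cotangent := by
  letI : Algebra A B := ε.toRingHom.toAlgebra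
  have hAB : ∀ a, algebraMap A B a = ε a := fun _ => rfl
  haveI : IsScalarTower R A B := .of_algebraMap_eq fun r => (ε.commutes r).symm
  haveI : IsScalarTower R B (I ε).Cotangent := ⟨fun r b p => by
    rw [Algebra.smul_def r b, mul_smul, ← IsScalarTower.algebraMap_smul A r (b • p),
      smul_cotangent ε hε (algebraMap R A r), AlgHom.commutes]⟩
  let D : Derivation R A (I ε).Cotangent :=
    Derivation.mk' ((lin ε hε).restrictScalars R) (fun a b => lin_mul ε hε a b)
  let π : ((I ε).Cotangent →₀ B) →ₗ[A] (I ε).Cotangent :=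
    { toFun := Finsupp.linearCombination B id
      map_add' := map_add _
      map_smul' := fun a v => by
        rw [RingHom.id_apply, smul_cotangent ε hε a, ← map_smul]
        rfl }
  have hπ : Function.Surjective π := fun p => ⟨Finsupp.single p 1, by
    show Finsupp.linearCombination B id (Finsupp.single p 1) = p
    rw [Finsupp.linearCombination_single, one_smul, id_eq]⟩
  obtain ⟨l, hl⟩ := Module.projective_lifting_property π D.liftKaehlerDifferential hπ
  let k : A → ((I ε).Cotangent →₀ B) := fun a => l (KaehlerDifferential.D R A a)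
  have hk0 : ∀ (a : A) (v : (I ε).Cotangent →₀ B), a ∈ I ε → a • v = 0 := fun a v ha => by
    ext x
    rw [Finsupp.smul_apply, Algebra.smul_def, hAB, show ε a = 0 from ha, zero_mul]
    rfl
  have hkmul : ∀ a y, k (a * y) = a • k y + y • k a := fun a y => by
    show l _ = _
    rw [Derivation.leibniz, map_add, map_smul, map_smul]
  let k' : I ε →ₗ[A] ((I ε).Cotangent →₀ B) :=
    { toFun := fun y => k y
      map_add' := fun x y => by show l _ = l _ + l _; rw [Submodule.coe_add, map_add, map_add]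
      map_smul' := fun a y => by
        rw [RingHom.id_apply, Submodule.coe_smul, smul_eq_mul, hkmul, hk0 _ (k a) y.2, add_zero] }
  have hk' : (I ε • ⊤ : Submodule A (I ε)) ≤ LinearMap.ker k' := by
    rw [Submodule.smul_le]
    intro a ha y _
    rw [LinearMap.mem_ker, map_smul, hk0 a _ ha]
  let sec : (I ε).Cotangent →ₗ[A] ((I ε).Cotangent →₀ B) :=
    Submodule.liftQ (I ε • ⊤ : Submodule A (I ε)) k' hk'
  have hsec : ∀ y : I ε, sec ((I ε).toCotangent y) = k y := fun y => rfl
  let secB : (I ε).Cotangent →ₗ[B] ((I ε).Cotangent →₀ B) :=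
    { toFun := sec
      map_add' := map_add sec
      map_smul' := fun b p => by
        rw [RingHom.id_apply, ← IsScalarTower.algebraMap_smul A b p, map_smul]
        ext x
        rw [Finsupp.smul_apply, Finsupp.smul_apply, Algebra.smul_def, hAB, hε, smul_eq_mul] }
  refine Module.Projective.of_split secB (Finsupp.linearCombination B id) (LinearMap.ext fun p => ?_)
  obtain ⟨y, rfl⟩ := (I ε).toCotangent_surjective p
  show π (sec ((I ε).toCotangent y)) = _
  rw [hsec]
  show (π.comp l) _ = _
  rw [hl, Derivation.liftKaehlerDifferential_comp_D]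
  exact lin_of_mem ε hε y.1 y.2

end Retraction

section Monoid

variable {N : Type*} [AddCommMonoid N] [AddMonoid.FG N] [IsCancelAdd N]

/-- A fine sharp monoid has a measure that drops on proper summands. -/
theorem exists_measure (hsharp : ∀ n : N, IsAddUnit n → n = 0) :
    ∃ L : N → ℕ, ∀ i j : N, j ≠ 0 → L i < L (i + j) := by
  classical
  obtain ⟨r, g, hsurj, hzero, -⟩ := Groth.SmoothMonoid.exists_atoms hsharp
  set ψ := Groth.SmoothMonoid.ψ g with hψ
  have hfin : ∀ n, {a | ψ a = n}.Finite := fun n => by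
    refine IsAntichain.finite_of_partiallyWellOrderedOn (r := (· ≤ ·)) ?_
      (Set.isPWO_of_wellQuasiOrderedLE _)
    intro a ha b hb hab hle
    obtain ⟨c, rfl⟩ := exists_add_of_le hle
    refine hab ?_
    have h : ψ a + ψ c = ψ a + 0 := by rw [add_zero, ← map_add, show ψ (a + c) = n from hb, show ψ a = n from ha]
    rw [hzero c (add_left_cancel h), add_zero]
  refine ⟨fun n => (hfin n).toFinset.sup Finsupp.degree, fun i j hj => ?_⟩
  obtain ⟨a, ha, hmax⟩ := (hfin i).toFinset.exists_mem_eq_sup
    ⟨(hsurj i).choose, (hfin i).mem_toFinset.2 (hsurj i).choose_spec⟩ Finsupp.degree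
  obtain ⟨b, hb⟩ := hsurj j
  show (hfin i).toFinset.sup Finsupp.degree < (hfin (i + j)).toFinset.sup Finsupp.degree
  rw [hmax]
  have hb0 : 0 < b.degree := Nat.pos_of_ne_zero fun h0 => hj (by
    rw [← hb, (Finsupp.degree_eq_zero_iff b).1 h0, map_zero])
  refine lt_of_lt_of_le (show a.degree < (a + b).degree by rw [map_add]; omega)
    (Finset.le_sup (f := Finsupp.degree) ((hfin _).mem_toFinset.2 ?_))
  show ψ (a + b) = i + j
  rw [map_add, hb, show ψ a = i from (hfin i).mem_toFinset.1 ha]

end Monoid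

section Graded

variable {R : Type u} [CommRing R] {A : Type v} [CommRing A] [Algebra R A] {N : Type*} [AddCommMonoid N]
  [DecidableEq N] (𝒜 : N → Submodule R A) [GradedAlgebra 𝒜]

theorem proj_zero_smul (c : 𝒜 0) (a : A) (n : N) :
    GradedAlgebra.proj 𝒜 n ((c : A) * a) = (c : A) * GradedAlgebra.proj 𝒜 n a := by
  rw [GradedAlgebra.proj_apply, GradedAlgebra.proj_apply]
  exact coe_decompose_mul_of_left_mem_zero 𝒜 c.2

theorem proj_of_mem {n : N} {a : A} (h : a ∈ 𝒜 n) (m : N) :
    GradedAlgebra.proj 𝒜 m a = if m = n then a else 0 := by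
  rw [GradedAlgebra.proj_apply]
  split_ifs with hm
  · subst hm; exact decompose_of_mem_same 𝒜 h
  · exact decompose_of_mem_ne 𝒜 h (Ne.symm hm)

variable (hsharp : ∀ n : N, IsAddUnit n → n = 0)

/-- The projection on the degree zero part. -/
noncomputable def eps : A →ₐ[R] 𝒜 0 where
  toFun a := decompose 𝒜 a 0
  map_one' := Subtype.ext (decompose_of_mem_same 𝒜 SetLike.GradedOne.one_mem)
  map_zero' := by simp
  map_add' _ _ := by simp [decompose_add]
  map_mul' := by
    refine DirectSum.Decomposition.inductionOn 𝒜 (fun x => ?_) ?_ ?_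
    · simp
    · rintro i ⟨c, hc⟩
      refine DirectSum.Decomposition.inductionOn 𝒜 ?_ ?_ ?_
      · simp
      · rintro j ⟨c', hc'⟩
        apply Subtype.ext
        rw [SetLike.GradeZero.coe_mul]
        by_cases h : i + j = 0
        · obtain rfl : i = 0 := hsharp i (.of_add_eq_zero j h)
          obtain rfl : j = 0 := by rwa [zero_add] at h
          rw [decompose_of_mem_same 𝒜 (show c * c' ∈ 𝒜 0 from h ▸ SetLike.GradedMul.mul_mem hc hc'),
            decompose_of_mem_same 𝒜 hc, decompose_of_mem_same 𝒜 hc']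
        · rw [decompose_of_mem_ne 𝒜 (SetLike.GradedMul.mul_mem hc hc') h]
          rcases show i ≠ 0 ∨ j ≠ 0 by
            by_contra h'
            push Not at h'
            exact h (by rw [h'.1, h'.2, add_zero]) with h' | h'
          · rw [decompose_of_mem_ne 𝒜 hc h', zero_mul]
          · rw [decompose_of_mem_ne 𝒜 hc' h', mul_zero]
      · intro _ _ hd he
        simp only [mul_add, decompose_add, DirectSum.add_apply, hd, he]
    · intro _ _ ha hb x
      simp only [add_mul, decompose_add, DirectSum.add_apply, ha, hb]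
  commutes' r := Subtype.ext (by
    rw [SetLike.GradeZero.coe_algebraMap]
    exact decompose_of_mem_same 𝒜 (SetLike.algebraMap_mem_graded 𝒜 r))

theorem eps_coe (c : 𝒜 0) : eps 𝒜 hsharp (algebraMap (𝒜 0) A c) = c :=
  Subtype.ext (decompose_of_mem_same 𝒜 c.2)

theorem eps_of_mem {n : N} {a : A} (h : a ∈ 𝒜 n) (hn : n ≠ 0) : eps 𝒜 hsharp a = 0 :=
  Subtype.ext (decompose_of_mem_ne 𝒜 h hn)

theorem proj_zero_of_mem_ker {a : A} (h : a ∈ RingHom.ker (eps 𝒜 hsharp)) :
    GradedAlgebra.proj 𝒜 0 a = 0 := by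
  rw [GradedAlgebra.proj_apply]
  exact congrArg Subtype.val (RingHom.mem_ker.1 h)

theorem sum_proj (a : A) : ∃ s : Finset N, a = ∑ n ∈ s, GradedAlgebra.proj 𝒜 n a := by
  classical
  exact ⟨(decompose 𝒜 a).support, (DirectSum.sum_support_decompose 𝒜 a).symm⟩

theorem proj_mem_ker {a : A} (h : a ∈ RingHom.ker (eps 𝒜 hsharp)) (n : N) :
    GradedAlgebra.proj 𝒜 n a ∈ RingHom.ker (eps 𝒜 hsharp) := by
  rcases eq_or_ne n 0 with rfl | hn
  · rw [proj_zero_of_mem_ker 𝒜 hsharp h]
    exact Ideal.zero_mem _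
  · exact RingHom.mem_ker.2 (eps_of_mem 𝒜 hsharp (SetLike.coe_mem (decompose 𝒜 a n)) hn)

/-- Components of elements of `I²` are sums of products of components in non-zero degrees. -/
theorem proj_mem_of_mem_sq {n : N} (S : Submodule R A)
    (hS : ∀ i j : N, i + j = n → i ≠ 0 → j ≠ 0 → ∀ x ∈ 𝒜 i, ∀ y ∈ 𝒜 j, x * y ∈ S)
    {z : A} (hz : z ∈ RingHom.ker (eps 𝒜 hsharp) ^ 2) : GradedAlgebra.proj 𝒜 n z ∈ S := by
  classical
  rw [pow_two] at hz
  induction hz using Submodule.mul_induction_on' with
  | add a _ b _ ha hb => rw [map_add]; exact S.add_mem ha hb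
  | mem_mul_mem a ha b hb =>
    obtain ⟨s, hs⟩ := sum_proj 𝒜 a
    obtain ⟨t, ht⟩ := sum_proj 𝒜 b
    rw [hs, ht, Finset.sum_mul, map_sum]
    refine S.sum_mem fun i _ => ?_
    rw [Finset.mul_sum, map_sum]
    refine S.sum_mem fun j _ => ?_
    have hi : GradedAlgebra.proj 𝒜 i a ∈ 𝒜 i := SetLike.coe_mem _
    have hj : GradedAlgebra.proj 𝒜 j b ∈ 𝒜 j := SetLike.coe_mem _
    rw [proj_of_mem 𝒜 (SetLike.GradedMul.mul_mem hi hj)]
    split_ifs with hij
    · rcases eq_or_ne i 0 with rfl | hi0
      · rw [proj_zero_of_mem_ker 𝒜 hsharp ha, zero_mul]; exact S.zero_mem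
      rcases eq_or_ne j 0 with rfl | hj0
      · rw [proj_zero_of_mem_ker 𝒜 hsharp hb, mul_zero]; exact S.zero_mem
      exact hS i j hij.symm hi0 hj0 _ hi _ hj
    · exact S.zero_mem

theorem proj_sq_mem_sq {z : A} (hz : z ∈ RingHom.ker (eps 𝒜 hsharp) ^ 2) (n : N) :
    GradedAlgebra.proj 𝒜 n z ∈ RingHom.ker (eps 𝒜 hsharp) ^ 2 := by
  refine proj_mem_of_mem_sq 𝒜 hsharp
    ((RingHom.ker (eps 𝒜 hsharp) ^ 2).restrictScalars R) ?_ hz
  intro i j _ hi hj x hx y hy
  rw [Submodule.restrictScalars_mem, pow_two]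
  exact Ideal.mul_mem_mul (RingHom.mem_ker.2 (eps_of_mem 𝒜 hsharp hx hi))
    (RingHom.mem_ker.2 (eps_of_mem 𝒜 hsharp hy hj))

include hsharp in
theorem main [AddMonoid.FG N] [IsCancelAdd N] [Algebra.Smooth R A] :
    ∃ (P : Type v) (_ : AddCommGroup P) (_ : Module (𝒜 0) P), Module.Finite (𝒜 0) P ∧
      Module.Projective (𝒜 0) P ∧ Nonempty (A ≃ₐ[𝒜 0] SymmetricAlgebra (𝒜 0) P) := by
  classical
  haveI : IsScalarTower R (𝒜 0) A := .of_algebraMap_eq fun r => rfl
  set ε := eps 𝒜 hsharp with hεdef
  have hε : ∀ b, ε (algebraMap (𝒜 0) A b) = b := eps_coe 𝒜 hsharp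
  haveI hproj : Module.Projective (𝒜 0) (I ε).Cotangent := projective_cotangent ε hε
  -- finite
  haveI hfin : Module.Finite (𝒜 0) (I ε).Cotangent := by
    haveI : Algebra.FiniteType (𝒜 0) A := .of_restrictScalars_finiteType R (𝒜 0) A
    obtain ⟨s, hs⟩ := (inferInstance : Algebra.FiniteType (𝒜 0) A).out
    refine ⟨⟨s.image (lin ε hε), top_unique fun p _ => ?_⟩⟩
    obtain ⟨y, rfl⟩ := (I ε).toCotangent_surjective p
    set T := Submodule.span (𝒜 0) ((s.image (lin ε hε) : Finset _) : Set (I ε).Cotangent)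
    suffices h : ∀ a, lin ε hε a ∈ T by
      simpa [lin_of_mem ε hε y.1 y.2] using h y.1
    intro a
    have ha : a ∈ Algebra.adjoin (𝒜 0) (s : Set A) := hs ▸ Algebra.mem_top
    induction ha using Algebra.adjoin_induction with
    | mem x hx => exact Submodule.subset_span (Finset.mem_image_of_mem _ hx)
    | algebraMap c => rw [lin_algebraMap]; exact T.zero_mem
    | add x y _ _ hx hy => rw [map_add]; exact T.add_mem hx hy
    | mul x y _ _ hx hy =>
      rw [lin_mul ε hε, smul_cotangent ε hε x, smul_cotangent ε hε y]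
      exact T.add_mem (T.smul_mem _ hy) (T.smul_mem _ hx)
  -- a homogeneous section
  obtain ⟨s₀, hs₀⟩ := Module.projective_lifting_property
    ((I ε).toCotangent.restrictScalars (𝒜 0)) LinearMap.id (I ε).toCotangent_surjective
  have hs₀' : ∀ p, (I ε).toCotangent (s₀ p) = p := fun p => LinearMap.congr_fun hs₀ p
  let S : A →ₗ[𝒜 0] A := ((Submodule.subtype (I ε)).restrictScalars (𝒜 0)).comp (s₀.comp (lin ε hε))
  have hSI : ∀ a, S a ∈ I ε := fun a => (s₀ (lin ε hε a)).2
  have hlinS : ∀ a, lin ε hε (S a) = lin ε hε a := fun a => by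
    rw [lin_of_mem ε hε (S a) (hSI a)]
    exact hs₀' _
  let T₀ : A →ₗ[R] A := (DirectSum.toModule R N A fun n =>
    ((GradedAlgebra.proj 𝒜 n).comp (S.restrictScalars R)).comp (𝒜 n).subtype).comp
      (DirectSum.decomposeLinearEquiv 𝒜).toLinearMap
  have hT₀ : ∀ (n : N) (a : A), a ∈ 𝒜 n → T₀ a = GradedAlgebra.proj 𝒜 n (S a) := fun n a ha => by
    show (DirectSum.toModule R N A _) (decompose 𝒜 a) = _
    rw [decompose_of_mem 𝒜 ha, ← DirectSum.lof_eq_of R, DirectSum.toModule_lof]
    rfl
  let T : A →ₗ[𝒜 0] A :=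
    { toFun := T₀
      map_add' := map_add T₀
      map_smul' := fun c a => by
        rw [RingHom.id_apply]
        induction a using DirectSum.Decomposition.inductionOn 𝒜 with
        | zero => simp
        | add x y hx hy => rw [smul_add, map_add, map_add, smul_add, hx, hy]
        | homogeneous a =>
          rename_i n
          have hca : c • (a : A) ∈ 𝒜 n := by
            simpa [Algebra.smul_def, zero_add] using SetLike.GradedMul.mul_mem c.2 a.2
          rw [hT₀ n _ hca, hT₀ n _ a.2, map_smul, Algebra.smul_def, Algebra.smul_def]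
          exact proj_zero_smul 𝒜 c _ n }
  have hT : ∀ (n : N) (a : A), a ∈ 𝒜 n → T a = GradedAlgebra.proj 𝒜 n (S a) := hT₀
  have hlin0 : ∀ a : A, a ∈ 𝒜 0 → lin ε hε a = 0 := fun a ha => lin_algebraMap ε hε ⟨a, ha⟩
  have hTI : ∀ a, T a ∈ I ε := fun a => by
    induction a using DirectSum.Decomposition.inductionOn 𝒜 with
    | zero => simp
    | add x y hx hy => rw [map_add]; exact Ideal.add_mem _ hx hy
    | homogeneous a =>
      rename_i n
      rw [hT n _ a.2]
      exact proj_mem_ker 𝒜 hsharp (hSI a.1) n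
  have hlinT : ∀ a, lin ε hε (T a) = lin ε hε a := fun a => by
    induction a using DirectSum.Decomposition.inductionOn 𝒜 with
    | zero => simp
    | add x y hx hy => rw [map_add, map_add, map_add, hx, hy]
    | homogeneous a =>
      rename_i n
      rcases eq_or_ne n 0 with rfl | hn
      · have h0 : S a.1 = 0 := by simp [S, hlin0 a.1 a.2]
        rw [hT 0 _ a.2, h0, map_zero, map_zero, hlin0 a.1 a.2]
      · have ha : a.1 ∈ I ε := RingHom.mem_ker.2 (eps_of_mem 𝒜 hsharp a.2 hn)
        have hsq : S a.1 - a.1 ∈ I ε ^ 2 := by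
          have h := hlinS a.1
          rw [lin_of_mem ε hε _ (hSI a.1), lin_of_mem ε hε _ ha, Ideal.toCotangent_eq] at h
          exact h
        have := proj_sq_mem_sq 𝒜 hsharp hsq n
        rw [map_sub, proj_of_mem 𝒜 a.2, if_pos rfl, ← hT n _ a.2] at this
        rw [lin_of_mem ε hε _ (hTI a.1), lin_of_mem ε hε _ ha, Ideal.toCotangent_eq]
        exact this
  have hT2 : ∀ z ∈ I ε ^ 2, T z = 0 := fun z hz => by
    obtain ⟨s, hs⟩ := sum_proj 𝒜 z
    rw [hs, map_sum]
    refine Finset.sum_eq_zero fun n _ => ?_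
    rw [hT n (GradedAlgebra.proj 𝒜 n z) (SetLike.coe_mem (decompose 𝒜 z n))]
    have hn : GradedAlgebra.proj 𝒜 n z ∈ I ε ^ 2 := proj_sq_mem_sq 𝒜 hsharp hz n
    have h0 : lin ε hε (GradedAlgebra.proj 𝒜 n z) = 0 := by
      rw [lin_of_mem ε hε _ (Ideal.pow_le_self two_ne_zero hn), Ideal.toCotangent_eq_zero]
      exact hn
    show GradedAlgebra.proj 𝒜 n (s₀ (lin ε hε (GradedAlgebra.proj 𝒜 n z)) : A) = 0
    rw [h0, map_zero, ZeroMemClass.coe_zero, map_zero]
  let sec : (I ε).Cotangent →ₗ[𝒜 0] A := T.comp (((Submodule.subtype (I ε)).restrictScalars (𝒜 0)).comp s₀)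
  have hsec : ∀ a, sec (lin ε hε a) = T a := fun a => by
    have h : S a - (a - algebraMap (𝒜 0) A (ε a)) ∈ I ε ^ 2 := by
      have h := hlinS a
      rw [lin_of_mem ε hε _ (hSI a)] at h
      exact (Ideal.toCotangent_eq _).1 h
    have h2 := hT2 _ h
    rw [map_sub, map_sub, sub_eq_zero] at h2
    show T (S a) = T a
    rw [h2, hT 0 (algebraMap (𝒜 0) A (ε a)) (ε a).2,
      show S (algebraMap (𝒜 0) A (ε a)) = 0 from by simp [S, hlin0 _ (ε a).2], map_zero, sub_zero]
  have hlinsec : ∀ p, lin ε hε (sec p) = p := fun p => by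
    show lin ε hε (T _) = p
    rw [hlinT]
    exact (lin_of_mem ε hε _ (s₀ p).2).trans (hs₀' p)
  have hsecI : ∀ p, sec p ∈ I ε := fun p => hTI _
  let φ : SymmetricAlgebra (𝒜 0) (I ε).Cotangent →ₐ[𝒜 0] A := SymmetricAlgebra.lift sec
  -- surjective
  have hsurj : Function.Surjective φ := by
    obtain ⟨L, hL⟩ := exists_measure hsharp
    suffices h : ∀ (k : ℕ) (n : N), L n = k → ∀ a ∈ 𝒜 n, a ∈ φ.range by
      intro a
      obtain ⟨s, hs⟩ := sum_proj 𝒜 a
      rw [hs]
      exact φ.range.sum_mem fun n _ => h _ n rfl _ (SetLike.coe_mem _)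
    intro k
    induction k using Nat.strong_induction_on with
    | _ k ih =>
      intro n hn a ha
      rcases eq_or_ne n 0 with rfl | hn0
      · exact φ.range.algebraMap_mem ⟨a, ha⟩
      have h1 : T a ∈ φ.range := ⟨SymmetricAlgebra.ι _ _ (lin ε hε a),
        (SymmetricAlgebra.lift_ι_apply sec _).trans (hsec a)⟩
      have hta : T a ∈ 𝒜 n := by rw [hT n a ha]; exact SetLike.coe_mem _
      have hsq : a - T a ∈ I ε ^ 2 := by
        have haI : a ∈ I ε := RingHom.mem_ker.2 (eps_of_mem 𝒜 hsharp ha hn0)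
        have h := (hlinT a).symm
        rw [lin_of_mem ε hε _ haI, lin_of_mem ε hε _ (hTI a)] at h
        exact (Ideal.toCotangent_eq _).1 h
      have h2 : GradedAlgebra.proj 𝒜 n (a - T a) ∈
          φ.range.toSubmodule.restrictScalars R := by
        refine proj_mem_of_mem_sq 𝒜 hsharp _ ?_ hsq
        intro i j hij hi hj x hx y hy
        refine φ.range.mul_mem (ih (L i) ?_ i rfl x hx) (ih (L j) ?_ j rfl y hy)
        · rw [← hn, ← hij]; exact hL i j hj
        · rw [← hn, ← hij, add_comm]; exact hL j i hi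
      rw [map_sub, proj_of_mem 𝒜 ha, proj_of_mem 𝒜 hta, if_pos rfl, if_pos rfl] at h2
      simpa using φ.range.add_mem h2 h1
  -- injective
  letI : Algebra R (SymmetricAlgebra (𝒜 0) (I ε).Cotangent) :=
    ((algebraMap (𝒜 0) (SymmetricAlgebra (𝒜 0) (I ε).Cotangent)).comp (algebraMap R (𝒜 0))).toAlgebra
  let φR : SymmetricAlgebra (𝒜 0) (I ε).Cotangent →ₐ[R] A :=
    { φ.toRingHom with commutes' := fun r => φ.commutes (algebraMap R (𝒜 0) r) }
  have hεφ : ∀ f, ε (φ f) = SymmetricAlgebra.algebraMapInv f := fun f => by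
    induction f using SymmetricAlgebra.induction with
    | algebraMap c => rw [AlgHom.commutes, AlgHom.commutes, hε]; rfl
    | ι p =>
      rw [SymmetricAlgebra.lift_ι_apply, SymmetricAlgebra.algebraMapInv_ι]
      exact hsecI p
    | add x y hx hy => simp only [map_add, hx, hy]
    | mul x y hx hy => simp only [map_mul, hx, hy]
  have hker : RingHom.ker φR ≤ augIdeal ^ 2 := fun f hf => by
    have hf' : φ f = 0 := hf
    obtain ⟨c, p, hcp⟩ := exists_sub_mem_sq f
    have hm : Ideal.map φ augIdeal ≤ I ε := Ideal.map_le_iff_le_comap.2 fun x hx =>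
      RingHom.mem_ker.2 ((hεφ x).trans hx)
    have h2 : φ (f - (algebraMap (𝒜 0) _ c + SymmetricAlgebra.ι _ _ p)) ∈ I ε ^ 2 := by
      have := Ideal.mem_map_of_mem φ hcp
      rw [Ideal.map_pow] at this
      exact Ideal.pow_right_mono hm _ this
    rw [map_sub, hf', zero_sub, neg_mem_iff, map_add, AlgHom.commutes, SymmetricAlgebra.lift_ι_apply] at h2
    obtain rfl : c = 0 := by
      have h3 : ε (algebraMap (𝒜 0) A c + sec p) = 0 := Ideal.pow_le_self (I := I ε) two_ne_zero h2
      rwa [map_add, hε, show ε (sec p) = 0 from hsecI p, add_zero] at h3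
    rw [map_zero, zero_add] at h2
    obtain rfl : p = 0 := by
      rw [← hlinsec p, lin_of_mem ε hε _ (hsecI p), Ideal.toCotangent_eq_zero]
      exact h2
    rw [map_zero, map_zero, add_zero] at hcp
    exact (congrArg (· ∈ augIdeal ^ 2) (sub_zero f)).mp hcp
  have hinj : Function.Injective φ := by
    rw [injective_iff_map_eq_zero]
    exact fun f hf => eq_zero_of_mem_pow f fun n => ker_le_pow φR hsurj augIdeal hker n (RingHom.mem_ker.2 hf)
  exact ⟨(I ε).Cotangent, inferInstance, inferInstance, hfin, hproj,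
    ⟨(AlgEquiv.ofBijective φ ⟨hinj, hsurj⟩).symm⟩⟩

end Graded

end Groth.GradedSmooth
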