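import Groth.Agent.PropsBasic.HopfDim
import Groth.Agent.PropsBasic.GradedSmooth
import Groth.Agent.S11926
import Groth.Agent.SGA7.IdComponent
import Groth.Agent.Calg5.ConnIdem
import Groth.Agent.GrpschAbsch.SmoothField
import Groth.Agent.Calg4.SmoothReduced
import Groth.Prelude.Def_LieHopf
import Mathlib.RingTheory.KrullDimension.NonZeroDivisors

/-!
Consequences of the dimension/cotangent criterion for affine algebraic groups.
-/

set_option autoImplicit false
set_option linter.style.haveILetI false
universe u

open AlgebraicGeometry CategoryTheory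

namespace Groth.HopfDim

/-- A reduced Hopf algebra of finite type over a perfect field is formally smooth. -/
theorem formallySmooth_of_isReduced (k A : Type u) [Field k] [PerfectField k] [CommRing A]
    [HopfAlgebra k A] [Algebra.FiniteType k A] [_root_.IsReduced A] : Algebra.FormallySmooth k A := by
  let G := (Spec (CommRingCat.of A)).asOver (Spec (CommRingCat.of k))
  haveI : LocallyOfFiniteType G.hom := AlgebraicGeometry.locallyOfFiniteType_specOverSpec
  haveI : AlgebraicGeometry.IsReduced G.left := inferInstanceAs (AlgebraicGeometry.IsReduced (Spec (CommRingCat.of A)))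
  letI g : GrpObj G := inferInstance
  haveI : GrpObj (Over.mk G.hom) := g
  have h : Smooth G.hom := GrpschAbsch.smooth_of_perfectField_of_isReduced G.hom
  have : (algebraMap k A).Smooth := (HasRingHomProperty.Spec_iff (P := @Smooth)).1 h
  rw [RingHom.smooth_algebraMap] at this
  exact this.formallySmooth

/-- A connected smooth Hopf algebra of finite type is a domain. -/
theorem isDomain_of_connected (k A : Type u) [Field k] [CommRing A] [HopfAlgebra k A] [Algebra.FiniteType k A]
    [_root_.IsReduced A] (hconn : ∀ e : A, IsIdempotentElem e → e = 0 ∨ e = 1) : IsDomain A := by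
  haveI : Nontrivial A := (Bialgebra.counitAlgHom k A).toRingHom.domain_nontrivial
  let G := (Spec (CommRingCat.of A)).asOver (Spec (CommRingCat.of k))
  haveI : LocallyOfFiniteType G.hom := AlgebraicGeometry.locallyOfFiniteType_specOverSpec
  haveI : ConnectedSpace G.left := Groth.Calg5.connectedSpace_of_idemTrivial hconn
  have h : IrreducibleSpace G.left := Groth.SGA7.IdComponent.irreducibleSpace G
  have h2 : (nilradical A).IsPrime := PrimeSpectrum.irreducibleSpace_iff_isPrime_nilradical.1 h
  rw [nilradical_eq_zero] at h2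
  haveI : (⊥ : Ideal A).IsPrime := h2
  exact IsDomain.of_bot_isPrime A

/-- The cotangent map of a quotient by an ideal inside `m²` is bijective. -/
theorem finrank_cotangent_quotient (k A : Type u) [Field k] [CommRing A] [HopfAlgebra k A]
    (I : Ideal A) [I.IsHopfIdeal k] (hI : I ≤ RingHom.ker (Bialgebra.counitAlgHom k A) ^ 2) :
    Module.finrank k (RingHom.ker (Bialgebra.counitAlgHom k (A ⧸ I))).Cotangent =
      Module.finrank k (RingHom.ker (Bialgebra.counitAlgHom k A)).Cotangent := by
  set m := RingHom.ker (Bialgebra.counitAlgHom k A) with hm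
  set m' := RingHom.ker (Bialgebra.counitAlgHom k (A ⧸ I)) with hm'
  have hc : ∀ a, Bialgebra.counitAlgHom k (A ⧸ I) (Ideal.Quotient.mk I a) = Bialgebra.counitAlgHom k A a :=
    fun a => rfl
  have hmap : m' = m.map (Ideal.Quotient.mk I) := by
    ext y
    obtain ⟨a, rfl⟩ := Ideal.Quotient.mk_surjective y
    rw [hm', RingHom.mem_ker, hc, Ideal.mem_quotient_iff_mem_sup,
      sup_eq_left.2 (hI.trans (Ideal.pow_le_self two_ne_zero)), hm, RingHom.mem_ker]
  let f : m.Cotangent →ₗ[k] m'.Cotangent :=
    Ideal.mapCotangent m m' (Ideal.Quotient.mkₐ k I) fun a ha => RingHom.mem_ker.2 ((hc a).trans (RingHom.mem_ker.1 ha))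
  refine (LinearEquiv.ofBijective f ⟨?_, ?_⟩).finrank_eq.symm
  · rw [injective_iff_map_eq_zero]
    intro x hx
    obtain ⟨x, rfl⟩ := m.toCotangent_surjective x
    change m'.toCotangent ⟨Ideal.Quotient.mk I x.1, _⟩ = 0 at hx
    rw [Ideal.toCotangent_eq_zero] at hx
    change Ideal.Quotient.mk I x.1 ∈ m' ^ 2 at hx
    rw [hmap, ← Ideal.map_pow, Ideal.mem_quotient_iff_mem_sup, sup_eq_left.2 hI] at hx
    exact (Ideal.toCotangent_eq_zero _ _).2 hx
  · intro y
    obtain ⟨⟨y, hy⟩, rfl⟩ := m'.toCotangent_surjective y
    obtain ⟨a, rfl⟩ := Ideal.Quotient.mk_surjective y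
    exact ⟨m.toCotangent ⟨a, RingHom.mem_ker.2 ((hc a).symm.trans (RingHom.mem_ker.1 hy))⟩, rfl⟩

/-- Over an algebraically closed field, `nilradical ⊆ m²` forces reducedness. -/
theorem isReduced_of_nilradical_le (k A : Type u) [Field k] [IsAlgClosed k] [CommRing A]
    [HopfAlgebra k A] [Algebra.FiniteType k A]
    (h : nilradical A ≤ RingHom.ker (Bialgebra.counitAlgHom k A) ^ 2) : _root_.IsReduced A := by
  haveI := Groth.Agent.S11926.result k A
  haveI : _root_.IsReduced (A ⧸ nilradical A) :=
    (Ideal.isRadical_iff_quotient_reduced _).1 (Ideal.radical_isRadical (⊥ : Ideal A))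
  have hdim : ringKrullDim (A ⧸ nilradical A) = ringKrullDim A := by
    rw [ringKrullDim_quotient, ringKrullDim]
    have hU : PrimeSpectrum.zeroLocus (nilradical A : Set A) = Set.univ :=
      Set.eq_univ_of_forall fun p => nilradical_le_prime p.asIdeal
    rw [hU]
    exact Order.krullDim_eq_of_orderIso OrderIso.Set.univ
  have e := (main k (A ⧸ nilradical A)).2.2 (formallySmooth_of_isReduced k _)
  rw [hdim, finrank_cotangent_quotient k A _ h] at e
  haveI := (main k A).2.1 e
  haveI : Algebra.FinitePresentation k A := Algebra.FinitePresentation.of_finiteType.mp ‹_›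
  haveI : Algebra.Smooth k A := ⟨inferInstance, inferInstance⟩
  exact Groth.Calg4.isReduced_of_smooth_field k A

/-- A smooth closed subgroup with the same Lie algebra as a connected group is the whole group. -/
theorem eq_bot_of_lie (k A : Type u) [Field k] [CommRing A]
    [HopfAlgebra k A] [Algebra.FiniteType k A] (hconn : ∀ e : A, IsIdempotentElem e → e = 0 ∨ e = 1)
    (I : Ideal A) [I.IsHopfIdeal k] [Algebra.FormallySmooth k (A ⧸ I)]
    (hLie : ∀ (D : LieHopf.Lie k A) (a : A), a ∈ I → D a = 0) : I = ⊥ := by
  set χ := Bialgebra.counitAlgHom k A with hχ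
  have hI : I ≤ RingHom.ker χ ^ 2 := fun x hx => by
    have hxm : x ∈ RingHom.ker χ := RingHom.mem_ker.2 (Ideal.IsHopfIdeal.toIsCoideal (R := k) (I := I) |>.counit_eq_zero hx)
    have hε : ∀ b : k, χ (algebraMap k A b) = b := fun b => χ.commutes b
    rw [← (RingHom.ker χ).toCotangent_eq_zero ⟨x, hxm⟩]
    rw [← Module.forall_dual_apply_eq_zero_iff (R := k)]
    intro φ
    let g : A →ₗ[k] LieHopf.K k A :=
      { toFun := fun a => (φ (GradedSmooth.lin χ hε a) : k)
        map_add' := fun a b => by simp only [map_add]; rfl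
        map_smul' := fun c a => by simp only [map_smul]; rfl }
    let D : LieHopf.Lie k A := Derivation.mk' g fun a b => by
      show φ (GradedSmooth.lin χ hε (a * b)) = _
      rw [GradedSmooth.lin_mul, GradedSmooth.smul_cotangent χ hε a, GradedSmooth.smul_cotangent χ hε b,
        map_add, map_smul, map_smul]
      rfl
    have h := hLie D x hx
    change φ (GradedSmooth.lin χ hε x) = 0 at h
    rwa [GradedSmooth.lin_of_mem χ hε x hxm] at h
  have e := (main k (A ⧸ I)).2.2 inferInstance
  rw [finrank_cotangent_quotient k A I hI] at e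
  have hle : ringKrullDim (A ⧸ I) ≤ ringKrullDim A :=
    ringKrullDim_le_of_surjective (Ideal.Quotient.mk I) Ideal.Quotient.mk_surjective
  have heq : ringKrullDim A = Module.finrank k (RingHom.ker χ).Cotangent :=
    le_antisymm (main k A).1 (e.ge.trans hle)
  haveI := (main k A).2.1 heq
  haveI : Algebra.FinitePresentation k A := Algebra.FinitePresentation.of_finiteType.mp ‹_›
  haveI : Algebra.Smooth k A := ⟨inferInstance, inferInstance⟩
  haveI := Groth.Calg4.isReduced_of_smooth_field k A
  haveI := isDomain_of_connected k A hconn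
  by_contra hne
  obtain ⟨a, haI, ha0⟩ := Submodule.exists_mem_ne_zero_of_ne_bot hne
  have h2 := ringKrullDim_quotient_succ_le_of_nonZeroDivisor (mem_nonZeroDivisors_of_ne_zero ha0)
  have h3 : ringKrullDim (A ⧸ I) ≤ ringKrullDim (A ⧸ Ideal.span {a}) :=
    ringKrullDim_le_of_surjective (Ideal.Quotient.factor ((Ideal.span_singleton_le_iff_mem _).2 haI))
      (Ideal.Quotient.factor_surjective _)
  rw [e] at h3
  have h4 := (add_le_add h3 (le_refl (1 : WithBot ℕ∞))).trans h2
  rw [heq] at h4
  have h5 : Module.finrank k (RingHom.ker χ).Cotangent + 1 ≤ Module.finrank k (RingHom.ker χ).Cotangent := by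
    exact_mod_cast h4
  omega

end Groth.HopfDim
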