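import Mathlib
import Groth.Agent.PropsBasic2.SchTop

/-!
# Clopen quasi-compact opens, finite point sets in affine opens, separatedness
-/

set_option autoImplicit false
set_option linter.style.haveILetI false
universe u
open CategoryTheory CategoryTheory.Limits AlgebraicGeometry TopologicalSpace

namespace Groth.PropsBasic.ZD

variable {X : Scheme.{u}}

/-- An open immersed closed piece of an affine open is affine. -/
theorem isAffineOpen_inter_closed {A W : X.Opens} (hA : IsAffineOpen A) (hWA : W ≤ A)
    (hW : IsClosed (W : Set X)) : IsAffineOpen W := by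
  have : IsClosedImmersion (X.homOfLE hWA) :=
    IsClosedImmersion.of_isPreimmersion _ (by
      rw [show Set.range (X.homOfLE hWA) = A.ι ⁻¹' (W : Set X) from ?_]
      · exact hW.preimage A.ι.continuous
      · rw [← A.ι.isOpenEmbedding.injective.preimage_image (Set.range _), ← Set.range_comp]
        congr 1
        exact (congrArg (fun g => Set.range g.base) (X.homOfLE_ι hWA)).trans W.range_ι)
  haveI : IsAffine (A : Scheme.{u}) := hA
  exact isAffine_of_isAffineHom (X.homOfLE hWA)

/-- In a quasi-separated scheme, a maximal point outside a quasi-compact open is outside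
its closure. -/
theorem notMem_closure_of_isCompact [QuasiSeparatedSpace X] {W : X.Opens}
    (hW : IsCompact (W : Set X)) {η : X} (hη : ∀ z : X, z ⤳ η → z = η) (h : η ∉ W) :
    η ∉ closure (W : Set X) := by
  intro hc
  haveI : CompactSpace W := isCompact_iff_compactSpace.mp hW
  haveI : CompactSpace (W : Scheme.{u}) := ‹_›
  haveI : QuasiCompact W.ι := inferInstance
  obtain ⟨x, hx⟩ := Groth.PropsBasic2.exists_specializes_of_mem_closure_range W.ι (y := η)
    (by rwa [Scheme.Opens.range_ι])
  exact h (hη _ hx ▸ x.2)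

theorem maximal_of_mem_irreducibleComponents {η : X}
    (h : closure {η} ∈ irreducibleComponents (X : Type u)) : ∀ z : X, z ⤳ η → z = η :=
  (Groth.PropsBasic2.closure_mem_irreducibleComponents_iff η).mp h

/-- Disjoint affine neighbourhoods of finitely many maximal points, avoiding a qc open. -/
theorem exists_disjoint_affine_nhds [QuasiSeparatedSpace X] :
    ∀ {n : ℕ} (η : Fin n → X), Function.Injective η → (∀ i, ∀ z : X, z ⤳ η i → z = η i) →
      ∀ A : X.Opens, IsCompact (A : Set X) → (∀ i, η i ∉ A) →
      ∃ U : Fin n → X.Opens, (∀ i, IsAffineOpen (U i) ∧ η i ∈ U i) ∧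
        (∀ i, Disjoint (U i) A) ∧ (∀ i j, i ≠ j → Disjoint (U i) (U j)) := by
  intro n
  induction n with
  | zero => exact fun _ _ _ _ _ _ => ⟨Fin.elim0, fun i => i.elim0, fun i => i.elim0, fun i => i.elim0⟩
  | succ n ih =>
    intro η hinj hmax A hA hηA
    let C : Set X := closure (A : Set X) ∪ ⋃ i : Fin n, closure {η i.succ}
    have hC : IsClosed C := isClosed_closure.union (isClosed_iUnion_of_finite fun _ => isClosed_closure)
    have h0 : η 0 ∉ C := by
      rintro (h | h)
      · exact notMem_closure_of_isCompact hA (hmax 0) (hηA 0) h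
      · obtain ⟨i, hi⟩ := Set.mem_iUnion.mp h
        exact Fin.succ_ne_zero i (hinj (hmax 0 _ (specializes_iff_mem_closure.mpr hi)))
    obtain ⟨U₀, hU₀, hmem, hle⟩ := Opens.isBasis_iff_nbhd.mp X.isBasis_affineOpens
      (show η 0 ∈ (⟨Cᶜ, hC.isOpen_compl⟩ : X.Opens) from h0)
    have hnot : ∀ i : Fin n, η i.succ ∉ A ⊔ U₀ := by
      rintro i (h | h)
      · exact hηA _ h
      · exact hle h (Or.inr (Set.mem_iUnion.mpr ⟨i, subset_closure rfl⟩))
    obtain ⟨U, hU, hdA, hd⟩ := ih (η ∘ Fin.succ) (hinj.comp (Fin.succ_injective n))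
      (fun i => hmax i.succ) (A ⊔ U₀) (hA.union (IsAffineOpen.isCompact hU₀)) hnot
    refine ⟨Fin.cons U₀ U, ?_, ?_, ?_⟩
    · intro i
      induction i using Fin.cases with
      | zero => exact ⟨hU₀, hmem⟩
      | succ i => simpa using hU i
    · intro i
      induction i using Fin.cases with
      | zero =>
        rw [Fin.cons_zero, ← Opens.coe_disjoint, Set.disjoint_left]
        exact fun x hx hxA => hle hx (Or.inl (subset_closure hxA))
      | succ i => rw [Fin.cons_succ]; exact (hdA i).mono_right le_sup_left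
    · intro i j hij
      induction i using Fin.cases with
      | zero =>
        induction j using Fin.cases with
        | zero => exact absurd rfl hij
        | succ j => rw [Fin.cons_zero, Fin.cons_succ]; exact ((hdA j).mono_right le_sup_right).symm
      | succ i =>
        induction j using Fin.cases with
        | zero => rw [Fin.cons_zero, Fin.cons_succ]; exact (hdA i).mono_right le_sup_right
        | succ j =>
          rw [Fin.cons_succ, Fin.cons_succ]
          exact hd i j fun e => hij (congrArg Fin.succ e)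

/-- If any two points lie in an affine open and `X` is quasi-separated, `X` is separated. -/
theorem isSeparated_of_pairs [QuasiSeparatedSpace X]
    (h : ∀ x y : X, ∃ W : X.Opens, IsAffineOpen W ∧ x ∈ W ∧ y ∈ W) : X.IsSeparated := by
  haveI : QuasiSeparated (terminal.from X) := (quasiSeparatedSpace_iff_quasiSeparated X).mp ‹_›
  refine ⟨IsSeparated.of_valuativeCriterion _ fun S => ⟨fun l₁ l₂ => ?_⟩⟩
  obtain ⟨W, hW, h1, h2⟩ := h (l₁.l (IsLocalRing.closedPoint S.R)) (l₂.l (IsLocalRing.closedPoint S.R))
  haveI : IsAffine (W : Scheme.{u}) := hW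
  have hr : ∀ (l : Spec (.of S.R) ⟶ X), l (IsLocalRing.closedPoint S.R) ∈ W →
      Set.range l ⊆ Set.range W.ι := fun l hl => by
    rintro _ ⟨p, rfl⟩
    rw [Scheme.Opens.range_ι]
    exact ((IsLocalRing.specializes_closedPoint p).map l.continuous).mem_open W.isOpen hl
  let m₁ := IsOpenImmersion.lift W.ι l₁.l (hr _ h1)
  let m₂ := IsOpenImmersion.lift W.ι l₂.l (hr _ h2)
  haveI : IsDominant (Spec.map (CommRingCat.ofHom (algebraMap S.R S.K))) :=
    ⟨(PrimeSpectrum.denseRange_comap_iff_ker_le_nilRadical _).mpr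
      (((RingHom.injective_iff_ker_eq_bot _).mp (IsFractionRing.injective S.R S.K)).trans_le bot_le)⟩
  have : m₁ = m₂ := by
    refine ext_of_isDominant (Spec.map (CommRingCat.ofHom (algebraMap S.R S.K))) ?_
    rw [← cancel_mono W.ι]
    simp only [Category.assoc, m₁, m₂, IsOpenImmersion.lift_fac, l₁.fac_left, l₂.fac_left]
  apply CommSq.LiftStruct.ext
  rw [← IsOpenImmersion.lift_fac W.ι l₁.l (hr _ h1), ← IsOpenImmersion.lift_fac W.ι l₂.l (hr _ h2)]
  exact congrArg (· ≫ W.ι) this

section ZeroDim

variable [QuasiSeparatedSpace X] (h1 : ∀ x y : X, x ⤳ y → x = y)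
include h1

theorem isClosed_of_isCompact {W : X.Opens} (hW : IsCompact (W : Set X)) :
    IsClosed (W : Set X) := by
  rw [← closure_subset_iff_isClosed]
  intro x hx
  by_contra h
  exact notMem_closure_of_isCompact hW (fun z hz => h1 z x hz) h hx

theorem isAffineOpen_of_isCompact {W : X.Opens} (hW : IsCompact (W : Set X)) :
    IsAffineOpen W := by
  obtain ⟨s, hs, hWs⟩ := isCompact_iff_finite_and_eq_biUnion_affineOpens.mp hW
  obtain ⟨t, rfl⟩ := hs.exists_finset_coe
  clear hs hW
  subst hWs
  classical
  induction t using Finset.induction_on with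
  | empty =>
    simp only [Finset.coe_empty, Set.mem_empty_iff_false, iSup_false, iSup_bot]
    exact isAffineOpen_bot X
  | insert A t _ ih =>
    rw [Finset.coe_insert, iSup_insert]
    set W := ⨆ i ∈ (t : Set X.affineOpens), (i : X.Opens)
    have hWc : IsClosed (W : Set X) := isClosed_of_isCompact h1 (IsAffineOpen.isCompact ih)
    let A' : X.Opens := ⟨(A : X.Opens) \ (W : Set X), (A : X.Opens).isOpen.sdiff hWc⟩
    have hA' : IsAffineOpen A' := isAffineOpen_inter_closed A.2 (fun x hx => hx.1)
      ((isClosed_of_isCompact h1 (IsAffineOpen.isCompact A.2)).sdiff W.isOpen)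
    have e : (A : X.Opens) ⊔ W = A' ⊔ W := by
      refine Opens.ext ?_
      simp only [Opens.coe_sup, A']
      exact (Set.sdiff_union_self).symm
    rw [e]
    exact IsAffineOpen.sup_of_disjoint hA' ih (by
      rw [← Opens.coe_disjoint]; exact Set.disjoint_sdiff_left)

theorem exists_affineOpen_pair (x y : X) : ∃ W : X.Opens, IsAffineOpen W ∧ x ∈ W ∧ y ∈ W := by
  obtain ⟨A, hA, hxA, -⟩ := Opens.isBasis_iff_nbhd.mp X.isBasis_affineOpens (Opens.mem_top x)
  obtain ⟨B, hB, hyB, -⟩ := Opens.isBasis_iff_nbhd.mp X.isBasis_affineOpens (Opens.mem_top y)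
  exact ⟨A ⊔ B, isAffineOpen_of_isCompact h1 ((IsAffineOpen.isCompact hA).union (IsAffineOpen.isCompact hB)),
    Or.inl hxA, Or.inr hyB⟩

theorem isSeparated : X.IsSeparated := isSeparated_of_pairs (exists_affineOpen_pair h1)

theorem t2_totallyDisconnected : T2Space X ∧ TotallyDisconnectedSpace X := by
  suffices TotallySeparatedSpace X from ⟨inferInstance, inferInstance⟩
  refine totallySeparatedSpace_iff_exists_isClopen.mpr fun x y hxy => ?_
  have hnot : x ∉ closure ({y} : Set X) :=
    fun h => hxy (h1 y x (specializes_iff_mem_closure.mpr h)).symm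
  obtain ⟨U, hU, hxU, hle⟩ := Opens.isBasis_iff_nbhd.mp X.isBasis_affineOpens
    (show x ∈ (⟨(closure {y})ᶜ, isClosed_closure.isOpen_compl⟩ : X.Opens) from hnot)
  exact ⟨U, ⟨isClosed_of_isCompact h1 (IsAffineOpen.isCompact hU), U.isOpen⟩, hxU,
    fun h => hle h (subset_closure rfl)⟩

end ZeroDim

theorem eq_of_specializes_of_dim_le_zero (h : topologicalKrullDim X ≤ 0) (x y : X)
    (hxy : x ⤳ y) : x = y := by
  let c : X → IrreducibleCloseds X := fun z =>
    ⟨closure {z}, isIrreducible_singleton.closure, isClosed_closure⟩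
  have hle : c y ≤ c x := specializes_iff_closure_subset.mp hxy
  have := Order.krullDim_nonpos_iff_forall_isMax.mp h (c y) hle
  exact (hxy.antisymm (specializes_iff_closure_subset.mpr this)).eq

theorem quasiSeparatedSpace_of_t2 [T2Space X] : QuasiSeparatedSpace X := by
  rw [quasiSeparatedSpace_iff_forall_affineOpens]
  intro U V
  exact U.2.isCompact.inter_right V.2.isCompact.isClosed

/-- A finite set of points in an affine open containing a locally closed set. -/
theorem exists_basicOpen_avoid {R : Type u} [CommRing R] (Z : Set (PrimeSpectrum R))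
    (hZ : IsClosed Z) (E : Set (PrimeSpectrum R)) (hE : E.Finite) (hEZ : Disjoint E Z) :
    ∃ f : R, E ⊆ PrimeSpectrum.basicOpen f ∧ Disjoint (PrimeSpectrum.basicOpen f : Set _) Z := by
  obtain ⟨I, rfl⟩ := (PrimeSpectrum.isClosed_iff_zeroLocus_ideal Z).mp hZ
  obtain ⟨t, rfl⟩ := hE.exists_finset_coe
  rcases t.eq_empty_or_nonempty with rfl | ⟨a, -⟩
  · exact ⟨0, by simp, by simp⟩
  have : ¬ (I : Set R) ⊆ ⋃ p ∈ (↑t : Set (PrimeSpectrum R)), (p.asIdeal : Set R) := by
    rw [Ideal.subset_union_prime (f := fun p : PrimeSpectrum R => p.asIdeal) a a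
      (fun p _ _ _ => p.isPrime)]
    rintro ⟨p, hp, hI⟩
    exact Set.disjoint_left.mp hEZ hp hI
  obtain ⟨f, hfI, hf⟩ := Set.not_subset.mp this
  refine ⟨f, fun p hp h => hf (Set.mem_biUnion hp h), Set.disjoint_left.mpr fun p hp hpZ => hp ?_⟩
  exact hpZ hfI

end Groth.PropsBasic.ZD
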