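import Mathlib
import Groth.Agent.PropsBasic.ZeroDim

/-!
# Finite sets of points of schemes immersed into affine or projective spectra
-/

set_option autoImplicit false
set_option linter.style.haveILetI false
universe u
open CategoryTheory AlgebraicGeometry TopologicalSpace

namespace Groth.PropsBasic.ZD

/-- Preimage of an affine open on which an immersion is closed. -/
theorem isAffineOpen_preimage_of_immersion {X Y : Scheme.{u}} (ι : X ⟶ Y) [IsImmersion ι]
    {A : Y.Opens} (hA : IsAffineOpen A)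
    (h : Disjoint (A : Set Y) (closure (Set.range ι) \ Set.range ι)) :
    IsAffineOpen (ι ⁻¹ᵁ A) := by
  haveI : IsAffine (A : Scheme.{u}) := hA
  haveI : IsPreimmersion (ι ∣_ A) := IsZariskiLocalAtTarget.restrict ‹IsImmersion ι›.toIsPreimmersion A
  have : IsClosedImmersion (ι ∣_ A) := IsClosedImmersion.of_isPreimmersion _ (by
    have e : Set.range (ι ∣_ A) = A.ι ⁻¹' closure (Set.range ι) := by
      ext ⟨a, ha⟩
      constructor
      · rintro ⟨x, hx⟩
        refine subset_closure ⟨(ι ⁻¹ᵁ A).ι x, ?_⟩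
        rw [← Scheme.Hom.comp_apply, ← morphismRestrict_ι, Scheme.Hom.comp_apply, hx]
      · intro hc
        obtain ⟨x, hx⟩ : a ∈ Set.range ι := by
          by_contra hn
          exact Set.disjoint_left.mp h ha ⟨hc, hn⟩
        have hxA : x ∈ ι ⁻¹ᵁ A := by change ι x ∈ A; rw [hx]; exact ha
        refine ⟨⟨x, hxA⟩, A.ι.isOpenEmbedding.injective ?_⟩
        refine (Scheme.Hom.comp_apply _ _ _).symm.trans ?_
        rw [morphismRestrict_ι]
        exact hx
    rw [e]
    exact isClosed_closure.preimage A.ι.continuous)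
  exact isAffine_of_isAffineHom (ι ∣_ A)

theorem isClosed_boundary {X Y : Scheme.{u}} (ι : X ⟶ Y) [IsImmersion ι] :
    IsClosed (closure (Set.range ι) \ Set.range ι) := by
  have := ι.isLocallyClosed_range.isOpen_coborder
  rwa [coborder, isOpen_compl_iff] at this

theorem exists_homogeneous_avoid {R A : Type u} [CommRing R] [CommRing A] [Algebra R A]
    (𝒜 : ℕ → Submodule R A) [GradedAlgebra 𝒜] (Z : Set (ProjectiveSpectrum 𝒜)) (hZ : IsClosed Z)
    (E : Set (ProjectiveSpectrum 𝒜)) (hE : E.Finite) (hEZ : Disjoint E Z) :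
    ∃ (d : ℕ) (f : A), 0 < d ∧ f ∈ 𝒜 d ∧
      E ⊆ ProjectiveSpectrum.basicOpen 𝒜 f ∧
      Disjoint (ProjectiveSpectrum.basicOpen 𝒜 f : Set (ProjectiveSpectrum 𝒜)) Z := by
  classical
  obtain ⟨s, rfl⟩ := (ProjectiveSpectrum.isClosed_iff_zeroLocus _ _).mp hZ
  set I : HomogeneousIdeal 𝒜 := ProjectiveSpectrum.vanishingIdeal (ProjectiveSpectrum.zeroLocus 𝒜 s)
  have hsI : s ⊆ I := fun a ha => (ProjectiveSpectrum.mem_vanishingIdeal _ _).mpr fun x hx => hx ha
  obtain ⟨t, rfl⟩ := hE.exists_finset_coe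
  rcases t.eq_empty_or_nonempty with rfl | ⟨a₀, -⟩
  · exact ⟨1, 0, one_pos, zero_mem _, by simp, by simp⟩
  haveI : Nonempty (ProjectiveSpectrum 𝒜) := ⟨a₀⟩
  -- an element separating one point from the others
  have hsep : ∀ p ∈ t, ∃ (d : ℕ) (g : A), 0 < d ∧ g ∈ 𝒜 d ∧ g ∈ I ∧ g ∉ p.asHomogeneousIdeal ∧
      ∀ q ∈ t, ¬ (q.asHomogeneousIdeal.toIdeal ≤ p.asHomogeneousIdeal.toIdeal) →
        g ∈ q.asHomogeneousIdeal := by
    intro p hp
    have hhom : ∀ J : HomogeneousIdeal 𝒜, ¬ (J.toIdeal ≤ p.asHomogeneousIdeal.toIdeal) →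
        ∃ (d : ℕ) (g : A), g ∈ 𝒜 d ∧ g ∈ J ∧ g ∉ p.asHomogeneousIdeal := by
      intro J hJ
      obtain ⟨a, haJ, hap⟩ := SetLike.not_le_iff_exists.mp hJ
      by_contra hno
      apply hap
      rw [← DirectSum.sum_support_decompose 𝒜 a]
      refine sum_mem fun i _ => ?_
      by_contra hi
      exact hno ⟨i, _, SetLike.coe_mem _, J.isHomogeneous i haJ, hi⟩
    obtain ⟨d₀, g₀, hg₀, hg₀I, hg₀p⟩ := hhom I fun h => Set.disjoint_left.mp hEZ hp
      (fun a ha => h (hsI ha))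
    obtain ⟨d₁, g₁, hd₁, hg₁, hg₁p⟩ : ∃ (d : ℕ) (g : A), 0 < d ∧ g ∈ 𝒜 d ∧ g ∉ p.asHomogeneousIdeal := by
      by_contra hno
      refine p.not_irrelevant_le fun a ha => ?_
      rw [← DirectSum.sum_support_decompose 𝒜 a]
      refine sum_mem fun i _ => ?_
      rcases Nat.eq_zero_or_pos i with rfl | hi
      · rw [show ((DirectSum.decompose 𝒜 a 0 : 𝒜 0) : A) = GradedRing.proj 𝒜 0 a from rfl,
          (HomogeneousIdeal.mem_irrelevant_iff 𝒜 a).mp ha]
        exact zero_mem _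
      · by_contra hi'
        exact hno ⟨i, _, hi, SetLike.coe_mem _, hi'⟩
    have hq : ∀ u : Finset (ProjectiveSpectrum 𝒜), ∃ (d : ℕ) (g : A), g ∈ 𝒜 d ∧ g ∉ p.asHomogeneousIdeal ∧
        ∀ q ∈ u, ¬ (q.asHomogeneousIdeal.toIdeal ≤ p.asHomogeneousIdeal.toIdeal) →
          g ∈ q.asHomogeneousIdeal := by
      intro u
      induction u using Finset.induction_on with
      | empty => exact ⟨0, 1, SetLike.GradedOne.one_mem, fun h => p.isPrime.ne_top
          ((Ideal.eq_top_iff_one _).mpr h), by simp⟩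
      | insert q u _ ih =>
        obtain ⟨d, g, hg, hgp, hgu⟩ := ih
        by_cases hqp : q.asHomogeneousIdeal.toIdeal ≤ p.asHomogeneousIdeal.toIdeal
        · exact ⟨d, g, hg, hgp, fun r hr hr' => (Finset.mem_insert.mp hr).elim
            (fun e => absurd (e ▸ hqp) hr') (fun h => hgu r h hr')⟩
        · obtain ⟨d', g', hg', hg'q, hg'p⟩ := hhom _ hqp
          refine ⟨d + d', g * g', SetLike.GradedMul.mul_mem hg hg',
            fun h => (p.isPrime.mem_or_mem h).elim hgp hg'p, fun r hr hr' => ?_⟩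
          rcases Finset.mem_insert.mp hr with rfl | h
          · exact Ideal.mul_mem_left _ _ hg'q
          · exact Ideal.mul_mem_right _ _ (hgu r h hr')
    obtain ⟨d₂, g₂, hg₂, hg₂p, hg₂q⟩ := hq t
    refine ⟨d₀ + d₁ + d₂, g₀ * g₁ * g₂, by omega,
      SetLike.GradedMul.mul_mem (SetLike.GradedMul.mul_mem hg₀ hg₁) hg₂,
      Ideal.mul_mem_right _ _ (Ideal.mul_mem_right _ _ hg₀I),
      fun h => (p.isPrime.mem_or_mem h).elim (fun h' => (p.isPrime.mem_or_mem h').elim hg₀p hg₁p) hg₂p,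
      fun q hq hqp => Ideal.mul_mem_left _ _ (hg₂q q hq hqp)⟩
  choose! deg g hdeg hg hgI hgp hgq using hsep
  -- the maximal ones among the points
  let M : Finset (Ideal A) := (t.image fun p => p.asHomogeneousIdeal.toIdeal).filter
    fun P => ∀ q ∈ t, P ≤ q.asHomogeneousIdeal.toIdeal → q.asHomogeneousIdeal.toIdeal ≤ P
  have hMt : ∀ P ∈ M, ∃ p ∈ t, p.asHomogeneousIdeal.toIdeal = P := fun P hP =>
    Finset.mem_image.mp (Finset.mem_filter.mp hP).1
  choose! pt hpt hptP using hMt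
  let e : Ideal A → ℕ := fun P => ∏ Q ∈ M.erase P, deg (pt Q)
  let D : ℕ := ∏ Q ∈ M, deg (pt Q)
  have hD : 0 < D := Finset.prod_pos fun Q hQ => hdeg _ (hpt Q hQ)
  let F : A := ∑ P ∈ M, g (pt P) ^ e P
  refine ⟨D, F, hD, ?_, ?_, ?_⟩
  · refine sum_mem fun P hP => ?_
    have : D = e P * deg (pt P) := (Finset.prod_erase_mul M _ hP).symm
    rw [this, ← smul_eq_mul]
    exact SetLike.pow_mem_graded _ (hg _ (hpt P hP))
  · intro p hp
    obtain ⟨P, hpP, hP⟩ : ∃ P, p.asHomogeneousIdeal.toIdeal ≤ P ∧ P ∈ M := by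
      obtain ⟨P, hle, hmax⟩ := (t.image fun q => q.asHomogeneousIdeal.toIdeal).exists_le_maximal
        (Finset.mem_image_of_mem _ hp)
      refine ⟨P, hle, Finset.mem_filter.mpr ⟨hmax.1, fun q hq hPq => ?_⟩⟩
      exact hmax.2 (Finset.mem_image_of_mem _ hq) hPq
    have hnot : g (pt P) ^ e P ∉ (pt P).asHomogeneousIdeal := fun h =>
      hgp _ (hpt P hP) ((pt P).isPrime.mem_of_pow_mem _ h)
    intro hF
    apply hnot
    have hrest : (∑ Q ∈ M.erase P, g (pt Q) ^ e Q) ∈ (pt P).asHomogeneousIdeal := by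
      refine sum_mem fun Q hQ => ?_
      refine Ideal.pow_mem_of_mem _ (hgq _ (hpt Q (Finset.mem_of_mem_erase hQ)) _ (hpt P hP) ?_) _
        (Finset.prod_pos fun R hR => hdeg _ (hpt R (Finset.mem_of_mem_erase hR)))
      rw [hptP P hP, hptP Q (Finset.mem_of_mem_erase hQ)]
      intro hPQ
      apply Finset.ne_of_mem_erase hQ
      have := (Finset.mem_filter.mp hP).2 _ (hpt Q (Finset.mem_of_mem_erase hQ))
        (by rw [hptP Q (Finset.mem_of_mem_erase hQ)]; exact hPQ)
      rw [hptP Q (Finset.mem_of_mem_erase hQ)] at this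
      exact le_antisymm this hPQ
    have hF' : F ∈ (pt P).asHomogeneousIdeal := by
      change F ∈ (pt P).asHomogeneousIdeal.toIdeal
      rw [hptP P hP]; exact hpP hF
    have : g (pt P) ^ e P = F - ∑ Q ∈ M.erase P, g (pt Q) ^ e Q := by
      simp only [F, ← Finset.add_sum_erase M _ hP, add_sub_cancel_right]
    rw [this]
    exact sub_mem (S := Ideal A) hF' hrest
  · refine Set.disjoint_left.mpr fun x hx hxZ => hx ?_
    exact sum_mem fun P hP => Ideal.pow_mem_of_mem _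
      ((ProjectiveSpectrum.mem_vanishingIdeal _ _).mp (hgI _ (hpt P hP)) x hxZ) _
      (Finset.prod_pos fun R hR => hdeg _ (hpt R (Finset.mem_of_mem_erase hR)))

end Groth.PropsBasic.ZD
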