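import Mathlib
import Groth.Prelude.Def_Found
import Groth.Agent.Calg1.CatenaryLocal
import Groth.Agent.SitesTopoi.Catenary

/-!
# Catenary spaces and catenary rings
-/

set_option autoImplicit false
set_option linter.style.haveILetI false
universe u
open TopologicalSpace AlgebraicGeometry CategoryTheory

namespace Groth.PropsBasic.Cat

open Groth.SitesTopoi Groth.Calg1

variable {P Q : Type u} [PartialOrder P] [PartialOrder Q]

/-- A chain read backwards in the dual order. -/
def revChain (s : LTSeries P) : LTSeries Pᵒᵈ where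
  length := s.length
  toFun i := OrderDual.toDual (s i.rev)
  step i := by
    change s i.succ.rev < s i.castSucc.rev
    rw [Fin.rev_succ, Fin.rev_castSucc]
    exact s.step i.rev

theorem revChain_head (s : LTSeries P) : (revChain s).head = OrderDual.toDual s.last :=
  congrArg (fun i => OrderDual.toDual (s i)) (Fin.rev_zero _)

theorem revChain_last (s : LTSeries P) : (revChain s).last = OrderDual.toDual s.head :=
  congrArg (fun i => OrderDual.toDual (s i)) (Fin.rev_last _)

theorem catOrd_dual (h : CatOrd P) : CatOrd Pᵒᵈ := by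
  refine ⟨fun p q hpq => ?_, fun s t h1 h2 hs ht => ?_⟩
  · obtain ⟨n, hn⟩ := h.1 (OrderDual.ofDual q) (OrderDual.ofDual p) hpq
    exact ⟨n, fun s hp hq => hn (revChain s)
      ((revChain_head s).trans hq) ((revChain_last s).trans hp)⟩
  · refine h.2 (revChain s) (revChain t) ((revChain_head s).trans (h2.trans (revChain_head t).symm))
      ((revChain_last s).trans (h1.trans (revChain_last t).symm)) (fun i => ?_) (fun i => ?_)
    · change OrderDual.ofDual (s i.castSucc.rev) ⋖ OrderDual.ofDual (s i.succ.rev)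
      rw [Fin.rev_succ, Fin.rev_castSucc]
      exact (hs i.rev).ofDual
    · change OrderDual.ofDual (t i.castSucc.rev) ⋖ OrderDual.ofDual (t i.succ.rev)
      rw [Fin.rev_succ, Fin.rev_castSucc]
      exact (ht i.rev).ofDual

theorem catOrd_congr (e : P ≃o Q) : CatOrd P ↔ CatOrd Q :=
  ⟨CatOrd.of_embedding e.symm.toOrderEmbedding (by
      rw [show Set.range e.symm.toOrderEmbedding = Set.univ from e.symm.surjective.range_eq]
      exact Set.ordConnected_univ),
    CatOrd.of_embedding e.toOrderEmbedding (by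
      rw [show Set.range e.toOrderEmbedding = Set.univ from e.surjective.range_eq]
      exact Set.ordConnected_univ)⟩

theorem catAt_iff_catOrd : (∀ a b : P, a ≤ b → CatAt a b) ↔ CatOrd P := by
  refine ⟨fun h => ⟨fun p q hpq => ?_, fun s t h1 h2 hs ht => ?_⟩, fun h a b hab => ?_⟩
  · obtain ⟨n, hn⟩ := ENat.ne_top_iff_exists.mp (h p q hpq).1
    refine ⟨n, fun s hp hq => ?_⟩
    have := length_le_chainCodim s hp hq.le
    rw [← hn] at this
    exact_mod_cast this
  · have hst : s.head ≤ s.last := LTSeries.head_le_last s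
    have e1 := (h _ _ hst).2 s rfl rfl hs
    have e2 := (h _ _ hst).2 t h1.symm h2.symm ht
    exact_mod_cast e1.trans e2.symm
  · obtain ⟨n, hn⟩ := h.1 a b hab
    have hle : chainCodim a b ≤ n := chainCodim_le fun s h1 h2 => by
      rcases h2.eq_or_lt with e | e
      · exact_mod_cast hn s h1 e
      · have := hn (s.snoc b e) (by simpa using h1) (by simp)
        simp only [RelSeries.snoc_length] at this
        exact_mod_cast (show s.length ≤ n by omega)
    have hfin : chainCodim a b ≠ ⊤ := ne_top_of_le_ne_top (ENat.natCast_ne_top _) hle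
    refine ⟨hfin, fun s h1 h2 hs => ?_⟩
    obtain ⟨t, t1, t2, ht, htl⟩ := exists_saturated_chain hab hfin
    rw [← htl, h.2 s t (h1.trans t1.symm) (h2.trans t2.symm) hs ht]

theorem isCatenarySpace_iff_catOrd {X : Type u} [TopologicalSpace X] :
    PtTop.IsCatenarySpace X ↔ CatOrd (IrreducibleCloseds X) :=
  isCatenarySpace_iff.trans catAt_iff_catOrd

/-- Irreducible closed sets along a homeomorphism. -/
def closedsIso {X Y : Type u} [TopologicalSpace X] [TopologicalSpace Y] (h : X ≃ₜ Y) :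
    IrreducibleCloseds X ≃o IrreducibleCloseds Y where
  toFun Z := ⟨h '' Z, Z.isIrreducible.image _ h.continuous.continuousOn, h.isClosedMap _ Z.isClosed⟩
  invFun Z := ⟨h.symm '' Z, Z.isIrreducible.image _ h.symm.continuous.continuousOn,
    h.symm.isClosedMap _ Z.isClosed⟩
  left_inv Z := IrreducibleCloseds.ext (h.symm_image_image _)
  right_inv Z := IrreducibleCloseds.ext (h.image_symm_image _)
  map_rel_iff' {Z W} := Set.image_subset_image_iff h.injective

theorem isCatenarySpace_congr {X Y : Type u} [TopologicalSpace X] [TopologicalSpace Y]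
    (h : X ≃ₜ Y) : PtTop.IsCatenarySpace X ↔ PtTop.IsCatenarySpace Y := by
  rw [isCatenarySpace_iff_catOrd, isCatenarySpace_iff_catOrd, catOrd_congr (closedsIso h)]

theorem isCatenarySpace_primeSpectrum (R : Type u) [CommRing R] :
    PtTop.IsCatenarySpace (PrimeSpectrum R) ↔ CAlg.IsCatenary R := by
  rw [isCatenarySpace_iff_catOrd, isCatenary_iff_catOrd]
  have e : IrreducibleCloseds (PrimeSpectrum R) ≃o (PrimeSpectrum R)ᵒᵈ :=
    (PrimeSpectrum.pointsEquivIrreducibleCloseds R).dual.trans (OrderIso.refl _) |>.symm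
  rw [catOrd_congr e]
  exact ⟨catOrd_dual (P := (PrimeSpectrum R)ᵒᵈ), catOrd_dual (P := PrimeSpectrum R)⟩

variable {X : Scheme.{u}}

theorem isCatenarySpace_affineOpen {U : X.Opens} (hU : IsAffineOpen U) :
    PtTop.IsCatenarySpace U ↔ CAlg.IsCatenary Γ(X, U) :=
  (isCatenarySpace_congr (Scheme.homeoOfIso hU.isoSpec)).trans (isCatenarySpace_primeSpectrum _)

theorem isCatenary_affineOpen {U : X.Opens} (hU : IsAffineOpen U)
    (h : PtTop.IsCatenarySpace X) : CAlg.IsCatenary Γ(X, U) :=
  (isCatenarySpace_affineOpen hU).mp (isCatenarySpace_iff_local.2 h _ U.isOpen.isLocallyClosed)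

theorem isCatenarySpace_of_cover
    (h : ∀ x : X, ∃ U : X.affineOpens, x ∈ (U : X.Opens) ∧ CAlg.IsCatenary Γ(X, U)) :
    PtTop.IsCatenarySpace X :=
  isCatenarySpace_iff_local.1.mpr fun x => by
    obtain ⟨U, hx, hU⟩ := h x
    exact ⟨U.1, hx, (isCatenarySpace_affineOpen U.2).mpr hU⟩

theorem isCatenary_congr {R S : Type u} [CommRing R] [CommRing S] (e : R ≃+* S) :
    CAlg.IsCatenary R ↔ CAlg.IsCatenary S :=
  ⟨isCatenary_of_surjective e.toRingHom e.surjective,
    isCatenary_of_surjective e.symm.toRingHom e.symm.surjective⟩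

theorem isUniversallyCatenary_atPrime {R : Type u} [CommRing R] (p : Ideal R) [p.IsPrime]
    (h : CAlg.IsUniversallyCatenary R) (S : Type u) [CommRing S] [Algebra R S]
    [IsLocalization.AtPrime S p] : CAlg.IsUniversallyCatenary S := by
  rw [isUniversallyCatenary_iff_mvPolynomial] at h ⊢
  letI : IsNoetherianRing R := h.1
  letI := fun n => MvPolynomial.algebraMvPolynomial (R := R) (S := S) (σ := Fin n)
  haveI : IsLocalization p.primeCompl S := inferInstance
  refine ⟨IsLocalization.isNoetherianRing p.primeCompl _ h.1, fun n => ?_⟩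
  exact catOrd_localization (R := MvPolynomial (Fin n) R)
    (p.primeCompl.map (MvPolynomial.C (σ := Fin n))) _ (h.2 n)

theorem isUniversallyCatenary_congr {R S : Type u} [CommRing R] [CommRing S] (e : R ≃+* S)
    (h : CAlg.IsUniversallyCatenary R) : CAlg.IsUniversallyCatenary S := by
  rw [isUniversallyCatenary_iff_mvPolynomial] at h ⊢
  haveI := h.1
  exact ⟨isNoetherianRing_of_surjective R S e.toRingHom e.surjective,
    fun n => (isCatenary_congr (MvPolynomial.mapEquiv (Fin n) e)).mp (h.2 n)⟩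

/-- Locally a catenary Noetherian sober space has a dimension function. -/
theorem exists_dimensionFunction {X : Type u} [TopologicalSpace X] [QuasiSober X] [T0Space X]
    [NoetherianSpace X] (h : PtTop.IsCatenarySpace X) (s : X) :
    ∃ U : Opens X, s ∈ U ∧ ∃ δ : U → ℤ, PtTop.IsDimensionFunction δ := by
  classical
  rw [isCatenarySpace_iff_additive] at h
  obtain ⟨hfin, hadd⟩ := h
  let N : IrreducibleCloseds X → IrreducibleCloseds X → ℤ :=
    fun a b => ((chainCodim a b).toNat : ℤ)
  have hN : ∀ a b c : IrreducibleCloseds X, a ≤ b → b ≤ c → N a c = N a b + N b c := by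
    intro a b c hab hbc
    have := hadd a b c hab hbc
    rw [codim_eq_chainCodim, codim_eq_chainCodim, codim_eq_chainCodim] at this
    simp only [N, this, ENat.toNat_add (by simpa [codim_eq_chainCodim] using hfin a b hab)
      (by simpa [codim_eq_chainCodim] using hfin b c hbc), Nat.cast_add]
  -- finite family of closed sets to avoid
  let 𝒞 : Set (Set X) := irreducibleComponents X
  have h𝒞 : 𝒞.Finite := NoetherianSpace.finite_irreducibleComponents
  have hpair : ∀ p : Set X × Set X, p ∈ 𝒞 ×ˢ 𝒞 → ∃ S : Set (Set X), S.Finite ∧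
      (∀ W ∈ S, IsClosed W) ∧ (∀ W ∈ S, IsIrreducible W) ∧ p.1 ∩ p.2 = ⋃₀ S := fun p hp =>
    NoetherianSpace.exists_finite_set_isClosed_irreducible
      ((isClosed_of_mem_irreducibleComponents _ hp.1).inter
        (isClosed_of_mem_irreducibleComponents _ hp.2))
  choose! S hSfin hScl hSirr hS using hpair
  let 𝒲 : Set (Set X) := 𝒞 ∪ ⋃ p ∈ 𝒞 ×ˢ 𝒞, S p
  have h𝒲 : 𝒲.Finite := h𝒞.union ((h𝒞.prod h𝒞).biUnion fun p hp => hSfin p hp)
  have h𝒲cl : ∀ W ∈ 𝒲, IsClosed W := by
    rintro W (hW | hW)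
    · exact isClosed_of_mem_irreducibleComponents _ hW
    · obtain ⟨p, hp, hW⟩ := Set.mem_iUnion₂.mp hW
      exact hScl p hp W hW
  let U : Opens X := ⟨(⋃ W ∈ {W ∈ 𝒲 | s ∉ W}, W)ᶜ, isOpen_compl_iff.mpr
    ((h𝒲.subset (Set.sep_subset _ _)).isClosed_biUnion fun W hW => h𝒲cl W hW.1)⟩
  have hU : ∀ x ∈ U, ∀ W ∈ 𝒲, x ∈ W → s ∈ W := fun x hx W hW hxW => by
    by_contra hs
    exact hx (Set.mem_biUnion (show W ∈ {W ∈ 𝒲 | s ∉ W} from ⟨hW, hs⟩) hxW)
  refine ⟨U, fun hs => ?_, ?_⟩
  · obtain ⟨W, hW, hsW⟩ := Set.mem_iUnion₂.mp hs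
    exact hW.2 hsW
  let C : X → IrreducibleCloseds X := fun x =>
    ⟨irreducibleComponent x, isIrreducible_irreducibleComponent, isClosed_irreducibleComponent⟩
  let D : X → IrreducibleCloseds X → ℤ := fun x Z => N (cl s) Z - N (cl x) Z
  have hmem : ∀ (x : X) (Z : IrreducibleCloseds X), x ∈ (Z : Set X) → cl x ≤ Z :=
    fun x Z hx => closure_minimal (Set.singleton_subset_iff.mpr hx) Z.isClosed
  have key : ∀ x ∈ U, ∀ Z Z' : IrreducibleCloseds X, (Z : Set X) ∈ 𝒞 → (Z' : Set X) ∈ 𝒞 →
      x ∈ (Z : Set X) → x ∈ (Z' : Set X) → D x Z = D x Z' := by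
    intro x hx Z Z' hZ hZ' hxZ hxZ'
    have hp : ((Z : Set X), (Z' : Set X)) ∈ 𝒞 ×ˢ 𝒞 := ⟨hZ, hZ'⟩
    obtain ⟨W, hW, hxW⟩ : x ∈ ⋃₀ S (↑Z, ↑Z') := hS _ hp ▸ ⟨hxZ, hxZ'⟩
    have hsW : s ∈ W := hU x hx W (Or.inr (Set.mem_biUnion hp hW)) hxW
    let W' : IrreducibleCloseds X := ⟨W, hSirr _ hp W hW, hScl _ hp W hW⟩
    have hWsub : W ⊆ (Z : Set X) ∩ Z' := (Set.subset_sUnion_of_mem hW).trans (hS _ hp).ge
    have h1 : W' ≤ Z := fun y hy => (hWsub hy).1
    have h2 : W' ≤ Z' := fun y hy => (hWsub hy).2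
    simp only [D, hN _ _ _ (hmem s W' hsW) h1, hN _ _ _ (hmem x W' hxW) h1,
      hN _ _ _ (hmem s W' hsW) h2, hN _ _ _ (hmem x W' hxW) h2]
    ring
  have hlt : ∀ x y : U, (x : X) ⤳ y →
      D x (C x) - D y (C y) = N (cl (y : X)) (cl (x : X)) := by
    intro x y hxy
    have hy : (y : X) ∈ (C x : Set X) :=
      hxy.mem_closed isClosed_irreducibleComponent mem_irreducibleComponent
    rw [key y y.2 (C y) (C x) (irreducibleComponent_mem_irreducibleComponents _)
      (irreducibleComponent_mem_irreducibleComponents _) mem_irreducibleComponent hy]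
    simp only [D, hN (cl (y : X)) (cl (x : X)) (C x) (cl_le_cl.mpr hxy)
      (hmem _ _ mem_irreducibleComponent)]
    ring
  have hne : ∀ x y : X, cl x = cl y → x = y := fun x y e => by rw [← gen_cl x, e, gen_cl]
  refine ⟨fun x => D x (C x), fun x y hxy hne' => ?_, fun x y hxy => ?_⟩
  · have hxy' : (x : X) ⤳ y := hxy.map continuous_subtype_val
    have hl : cl (y : X) < cl (x : X) := lt_of_le_of_ne (cl_le_cl.mpr hxy')
      fun e => hne' (Subtype.ext (hne _ _ e).symm)
    have h1 := one_le_chainCodim hl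
    have h2 : (1 : ℕ) ≤ (chainCodim (cl (y : X)) (cl (x : X))).toNat :=
      ENat.toNat_le_toNat h1 (hfin _ _ hl.le)
    have h4 : (1 : ℤ) ≤ N (cl (y : X)) (cl (x : X)) := by simp only [N]; exact_mod_cast h2
    have h3 := hlt x y hxy'
    simp only []
    linarith
  · have hxy' : (x : X) ⤳ y := hxy.1.map continuous_subtype_val
    have hcov : cl (y : X) ⋖ cl (x : X) := by
      refine ⟨lt_of_le_of_ne (cl_le_cl.mpr hxy') fun e => hxy.2.1 (Subtype.ext (hne _ _ e).symm),
        fun Z h1 h2 => ?_⟩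
      have hzy : gen Z ⤳ (y : X) := cl_le_cl.mp (by rw [cl_gen]; exact h1.le)
      have hxz : (x : X) ⤳ gen Z := cl_le_cl.mp (by rw [cl_gen]; exact h2.le)
      have hz : gen Z ∈ U := hzy.mem_open U.isOpen y.2
      rcases hxy.2.2 ⟨gen Z, hz⟩ ((subtype_specializes_iff _ _).mpr hxz) ((subtype_specializes_iff _ _).mpr hzy)
        with e | e
      · exact h2.ne (by rw [← congrArg Subtype.val e, cl_gen])
      · exact h1.ne (by rw [← congrArg Subtype.val e, cl_gen])
    have h3 := hlt x y hxy'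
    have h4 : N (cl (y : X)) (cl (x : X)) = 1 := by
      simp only [N, chainCodim_eq_one hcov]; norm_num
    simp only []
    linarith

end Groth.PropsBasic.Cat
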