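import Groth.Agent.Hensel1.EtaleTransfer
import Groth.Agent.Hensel1.Transfer
import Groth.Agent.Hensel1.Noetherian
import Groth.Agent.Sga3.HensPoint
import Groth.Agent.PropsBasic2.SchTop

/-!
# Geometrically unibranch versus connected punctured strict henselizations
-/

set_option autoImplicit false
set_option linter.style.haveILetI false

universe u

open IsLocalRing

namespace Groth.PropsBasic.UnibranchPunctured

open Groth.Hensel1 Groth.Sga3.HensPoint

/-- If `A_p` is geometrically unibranch, the strictly henselian ring has a single branch at every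
prime over `p`. -/
theorem isPrime_nilradical_localization {A : Type u} [CommRing A] [IsLocalRing A] {Ω : Type u}
    [Field Ω] [Algebra A Ω] (q : Ideal (Hens A Ω)) [q.IsPrime]
    (hgu : CAlg2.IsGeomUnibranch (Localization.AtPrime (q.comap (algebraMap A (Hens A Ω))))) :
    (nilradical (Localization.AtPrime q)).IsPrime := by
  let Hq := Localization.AtPrime q
  refine ⟨fun h => ?_, ?_⟩
  · obtain ⟨n, hn⟩ := (Ideal.eq_top_iff_one _).mp h
    exact one_ne_zero ((one_pow n).symm.trans hn)
  intro x y hxy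
  obtain ⟨a, s, rfl⟩ := IsLocalization.exists_mk'_eq q.primeCompl x
  obtain ⟨b, t, rfl⟩ := IsLocalization.exists_mk'_eq q.primeCompl y
  suffices IsNilpotent (algebraMap _ Hq a) ∨ IsNilpotent (algebraMap _ Hq b) by
    refine this.imp (fun h => ?_) fun h => ?_
    · rw [IsLocalization.mk'_eq_mul_mk'_one, mem_nilradical]
      exact (Commute.all _ _).isNilpotent_mul_right h
    · rw [IsLocalization.mk'_eq_mul_mk'_one, mem_nilradical]
      exact (Commute.all _ _).isNilpotent_mul_right h
  rw [← IsLocalization.mk'_mul, mem_nilradical] at hxy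
  have hab : IsNilpotent (algebraMap _ Hq (a * b)) := by
    rw [← IsLocalization.mk'_spec Hq (a * b) (s * t)]
    exact (Commute.all _ _).isNilpotent_mul_right hxy
  obtain ⟨n, hn⟩ := hab
  rw [← map_pow, IsLocalization.map_eq_zero_iff q.primeCompl] at hn
  obtain ⟨⟨c, hc⟩, hcn⟩ := hn
  obtain ⟨S₀, y₀, hy₀⟩ := exists_stage ![a, b, c]
  obtain ⟨S, g, hg⟩ := exists_kill (κ := Unit) S₀ (fun _ => y₀ 2 * (y₀ 0 * y₀ 1) ^ n) fun _ => by
    rw [map_mul, map_pow, map_mul, hy₀, hy₀, hy₀]
    exact hcn
  have hSg : ∀ z, S.h (g.f z) = S₀.h z := fun z => DFunLike.congr_fun g.comm z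
  let Q : Ideal S.E := q.comap S.h.toRingHom
  haveI : Q.IsPrime := Ideal.IsPrime.comap _
  let p := q.comap (algebraMap A (Hens A Ω))
  haveI : Q.LiesOver p := ⟨by
    show p = Q.comap (algebraMap A S.E)
    simp only [p, Q, Ideal.comap_comap]
    rw [show S.h.toRingHom.comp (algebraMap A S.E) = algebraMap A (Hens A Ω) from
      S.h.comp_algebraMap]⟩
  let Ap := Localization.AtPrime p
  let EQ := Localization.AtPrime Q
  letI : Algebra Ap EQ :=
    (Localization.localRingHom p Q (algebraMap A S.E) (Ideal.LiesOver.over)).toAlgebra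
  haveI : IsScalarTower A Ap EQ := IsScalarTower.of_algebraMap_eq fun x => by
    rw [RingHom.algebraMap_toAlgebra, Localization.localRingHom_to_map]
    exact IsScalarTower.algebraMap_apply A S.E EQ x
  obtain ⟨hloc, het⟩ := isEssentiallyEtale_of_isLocalization A S.E p Q Ap EQ
  haveI := hloc
  have hprime : (nilradical EQ).IsPrime :=
    haveI := ((isGeomUnibranch_iff_of_essentiallyEtale het).1.mp hgu).1.1
    (Ideal.Quotient.isDomain_iff_prime _).mp
      (inferInstanceAs (IsDomain (CAlg2.red EQ)))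
  have hu : IsUnit (algebraMap S.E EQ (g.f (y₀ 2))) :=
    IsLocalization.map_units EQ (⟨_, fun h => hc (by
      have h' : S.h (g.f (y₀ 2)) ∈ q := h
      rw [hSg, hy₀] at h'
      exact h')⟩ : Q.primeCompl)
  have hnil : algebraMap S.E EQ (g.f (y₀ 0)) * algebraMap S.E EQ (g.f (y₀ 1)) ∈ nilradical EQ := by
    refine ⟨n, hu.mul_right_eq_zero.mp ?_⟩
    rw [← map_mul, ← map_pow, ← map_mul, ← map_mul, ← map_pow, ← map_mul, hg (), map_zero]
  let ρ : EQ →+* Hq := Localization.localRingHom Q q S.h.toRingHom rfl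
  have hρ : ∀ z, ρ (algebraMap S.E EQ z) = algebraMap _ Hq (S.h z) := fun z =>
    Localization.localRingHom_to_map Q q S.h.toRingHom rfl z
  refine (hprime.mem_or_mem hnil).imp (fun h => ?_) fun h => ?_
  · have h' := IsNilpotent.map h ρ
    rw [hρ, hSg, hy₀] at h'
    exact h'
  · have h' := IsNilpotent.map h ρ
    rw [hρ, hSg, hy₀] at h'
    exact h'

/-- A prime of a ring with prime nilradical in the localization contains one minimal prime. -/
theorem eq_of_minimalPrimes_le {H : Type u} [CommRing H] (q : Ideal H) [q.IsPrime]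
    (h : (nilradical (Localization.AtPrime q)).IsPrime) {P P' : Ideal H}
    (hP : P ∈ minimalPrimes H) (hP' : P' ∈ minimalPrimes H) (hle : P ≤ q) (hle' : P' ≤ q) :
    P = P' := by
  let N := (nilradical (Localization.AtPrime q)).comap (algebraMap H _)
  haveI : N.IsPrime := h.comap _
  have key : ∀ {P : Ideal H}, P ∈ minimalPrimes H → P ≤ q → P = N := by
    intro P hP hle
    haveI := Ideal.IsMinimalPrime.isPrime hP
    have hNP : N ≤ P := fun a ha => by
      obtain ⟨n, hn⟩ := (mem_nilradical.mp ha : IsNilpotent (algebraMap H (Localization.AtPrime q) a))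
      rw [← map_pow, IsLocalization.map_eq_zero_iff q.primeCompl] at hn
      obtain ⟨⟨c, hc⟩, hcn⟩ := hn
      refine ‹P.IsPrime›.mem_of_pow_mem n ?_
      exact (‹P.IsPrime›.mem_or_mem (show c * a ^ n ∈ P by rw [show c * a ^ n = 0 from hcn]; exact P.zero_mem)).resolve_left
        fun h => hc (hle h)
    exact le_antisymm (hP.2 ⟨inferInstance, bot_le⟩ hNP) hNP
  rw [key hP hle, key hP' hle']

/-- The local step. -/
theorem isGeomUnibranch_of_punctured (A : Type u) [CommRing A] [IsLocalRing A] [IsNoetherianRing A]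
    (hgu : ∀ (P : Ideal A) [P.IsPrime], P ≠ maximalIdeal A →
      CAlg2.IsGeomUnibranch (Localization.AtPrime P))
    (hconn : (∃ P : Ideal A, P.IsPrime ∧ P ≠ maximalIdeal A) →
      ∀ (Ash : Type u) [CommRing Ash] [IsLocalRing Ash] [Algebra A Ash]
        [IsLocalHom (algebraMap A Ash)] [Hensel.IsStrictHenselization A Ash],
        ConnectedSpace ↥({closedPoint Ash}ᶜ : Set (PrimeSpectrum Ash))) :
    CAlg2.IsGeomUnibranch A := by
  classical
  let Ω := SeparableClosure (ResidueField A)
  let H := Hens A Ω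
  haveI : Hensel.IsStrictHenselization A H := isStrictHenselization_hens A Ω
  haveI : IsNoetherianRing H := Hens.isNoetherianRing
  haveI : Module.FaithfullyFlat A H := Hens.faithfullyFlat
  rw [isGeomUnibranch_iff_strictHenselization A H]
  have htop : ∀ Q : Ideal H, Q.IsPrime → Q.comap (algebraMap A H) = maximalIdeal A →
      Q = maximalIdeal H := by
    intro Q hQ hQm
    refine le_antisymm (IsLocalRing.le_maximalIdeal hQ.ne_top) ?_
    rw [← Hens.map_maximalIdeal, ← hQm]
    exact Ideal.map_comap_le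
  by_cases hex : ∃ P : Ideal A, P.IsPrime ∧ P ≠ maximalIdeal A
  swap
  · push Not at hex
    have : nilradical H = maximalIdeal H := by
      refine le_antisymm (IsLocalRing.le_maximalIdeal fun h => ?_) ?_
      · obtain ⟨n, hn⟩ := (Ideal.eq_top_iff_one _).mp h
        exact one_ne_zero ((one_pow n).symm.trans hn)
      · rw [nilradical_eq_sInf]
        refine le_sInf fun Q hQ => ?_
        have hQ' : Q.IsPrime := hQ
        exact (htop Q hQ' (hex _ (hQ'.comap _))).ge
    rw [this]
    infer_instance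
  haveI : ConnectedSpace ↥({closedPoint H}ᶜ : Set (PrimeSpectrum H)) := hconn hex H
  obtain ⟨P₀, hP₀, hP₀m⟩ := hex
  obtain ⟨⟨Q₀, hQ₀⟩, hQ₀P⟩ := PrimeSpectrum.comap_surjective_of_faithfullyFlat (B := H) ⟨P₀, hP₀⟩
  have hQ₀P' : Q₀.comap (algebraMap A H) = P₀ := congrArg PrimeSpectrum.asIdeal hQ₀P
  have hQ₀m : Q₀ ≠ maximalIdeal H := fun h => hP₀m (by
    rw [← hQ₀P', h]
    exact ((local_hom_TFAE (algebraMap A H)).out 0 4).mp (show IsLocalHom (algebraMap A H) from inferInstance))
  have hnotmax : ∀ P ∈ minimalPrimes H, P ≠ maximalIdeal H := fun P hP h => by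
    have hle : Q₀ ≤ P := h ▸ IsLocalRing.le_maximalIdeal hQ₀.ne_top
    exact hQ₀m (le_antisymm (IsLocalRing.le_maximalIdeal hQ₀.ne_top)
      (h ▸ hP.2 ⟨hQ₀, bot_le⟩ hle))
  have huniq : ∀ (x : ↥({closedPoint H}ᶜ : Set (PrimeSpectrum H))) (P P' : Ideal H),
      P ∈ minimalPrimes H → P' ∈ minimalPrimes H → P ≤ x.1.asIdeal → P' ≤ x.1.asIdeal → P = P' := by
    intro x P P' hP hP' h h'
    refine eq_of_minimalPrimes_le x.1.asIdeal (isPrime_nilradical_localization x.1.asIdeal
      (hgu _ fun hm => x.2 ?_)) hP hP' h h'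
    exact PrimeSpectrum.ext (htop x.1.asIdeal x.1.2 hm)
  have hsub : ∀ P P' : Ideal H, P ∈ minimalPrimes H → P' ∈ minimalPrimes H → P = P' := by
    intro P P' hP hP'
    let Z : Ideal H → Set ↥({closedPoint H}ᶜ : Set (PrimeSpectrum H)) := fun P => {x | P ≤ x.1.asIdeal}
    have hcl : ∀ P, IsClosed (Z P) := fun P =>
      (PrimeSpectrum.isClosed_zeroLocus (P : Set H)).preimage continuous_subtype_val
    have hcompl : (Z P)ᶜ = ⋃ R ∈ minimalPrimes H \ {P}, Z R := by
      ext x
      simp only [Set.mem_compl_iff, Set.mem_iUnion, Set.mem_sdiff, Set.mem_singleton_iff, exists_prop,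
        Z, Set.mem_ofPred_eq]
      constructor
      · intro hx
        obtain ⟨R, hR, hRx⟩ := Ideal.exists_minimalPrimes_le (bot_le : (⊥ : Ideal H) ≤ x.1.asIdeal)
        exact ⟨R, ⟨hR, fun e => hx (e ▸ hRx)⟩, hRx⟩
      · rintro ⟨R, ⟨hR, hne⟩, hRx⟩ hx
        exact hne (huniq x R P hR hP hRx hx)
    have hopen : IsOpen (Z P) := by
      rw [← isClosed_compl_iff, hcompl]
      exact ((minimalPrimes.finite_of_isNoetherianRing H).subset Set.sdiff_subset).isClosed_biUnion
        fun R _ => hcl R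
    have hpt : (⟨⟨P, Ideal.IsMinimalPrime.isPrime hP⟩, fun h =>
        hnotmax P hP (congrArg PrimeSpectrum.asIdeal h)⟩ :
        ↥({closedPoint H}ᶜ : Set (PrimeSpectrum H))) ∈ Z P := le_refl P
    have huniv := IsClopen.eq_univ (s := Z P) ⟨hcl P, hopen⟩ ⟨_, hpt⟩
    have hP'mem : (⟨⟨P', Ideal.IsMinimalPrime.isPrime hP'⟩, fun h =>
        hnotmax P' hP' (congrArg PrimeSpectrum.asIdeal h)⟩ :
        ↥({closedPoint H}ᶜ : Set (PrimeSpectrum H))) ∈ Z P := huniv ▸ Set.mem_univ _
    exact le_antisymm hP'mem (hP'.2 (by exact ⟨Ideal.IsMinimalPrime.isPrime hP, bot_le⟩) hP'mem)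
  obtain ⟨P, hP, -⟩ := Ideal.exists_minimalPrimes_le (bot_le : (⊥ : Ideal H) ≤ maximalIdeal H)
  haveI := Ideal.IsMinimalPrime.isPrime hP
  have : nilradical H = P := by
    refine le_antisymm (nilradical_le_prime P) ?_
    rw [nilradical, ← Ideal.sInf_minimalPrimes]
    exact le_sInf fun R hR => (hsub P R hP hR).le
  rw [this]
  infer_instance

/-- The punctured spectrum of the strict henselization of a geometrically unibranch local ring of
positive dimension is connected. -/
theorem connectedSpace_punctured (A : Type u) [CommRing A] [IsLocalRing A]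
    (hgu : CAlg2.IsGeomUnibranch A) (hex : ∃ P : Ideal A, P.IsPrime ∧ P ≠ maximalIdeal A)
    (Ash : Type u) [CommRing Ash] [IsLocalRing Ash] [Algebra A Ash]
    [IsLocalHom (algebraMap A Ash)] [Hensel.IsStrictHenselization A Ash] :
    ConnectedSpace ↥({closedPoint Ash}ᶜ : Set (PrimeSpectrum Ash)) := by
  have hprime := (isGeomUnibranch_iff_strictHenselization A Ash).mp hgu
  haveI : IrreducibleSpace (PrimeSpectrum Ash) :=
    PrimeSpectrum.irreducibleSpace_iff_isPrime_nilradical.mpr hprime
  obtain ⟨M⟩ := hensModel_of_isStrictHenselization (R := A) (S := Ash)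
  haveI := M.faithfullyFlat
  obtain ⟨P₀, hP₀, hP₀m⟩ := hex
  obtain ⟨Q₀, hQ₀P⟩ := PrimeSpectrum.comap_surjective_of_faithfullyFlat (B := Ash) ⟨P₀, hP₀⟩
  have hne : Q₀ ∈ ({closedPoint Ash}ᶜ : Set (PrimeSpectrum Ash)) := fun h => by
    subst h
    exact hP₀m ((congrArg PrimeSpectrum.asIdeal hQ₀P).symm.trans
      (((local_hom_TFAE (algebraMap A Ash)).out 0 4).mp (show IsLocalHom (algebraMap A Ash) from inferInstance)))
  have hopen : IsOpen ({closedPoint Ash}ᶜ : Set (PrimeSpectrum Ash)) :=
    ((PrimeSpectrum.isClosed_singleton_iff_isMaximal _).mpr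
      (IsLocalRing.maximalIdeal.isMaximal Ash)).isOpen_compl
  have hirr : IsPreirreducible (Set.univ : Set (PrimeSpectrum Ash)) :=
    PreirreducibleSpace.isPreirreducible_univ
  exact isConnected_iff_connectedSpace.mp
    (IsIrreducible.isConnected ⟨⟨Q₀, hne⟩, hirr.open_subset hopen (Set.subset_univ _)⟩)

/-- Geometric unibranchness does not depend on the model of the localization. -/
theorem isGeomUnibranch_of_isLocalization (R : Type u) [CommRing R] (p : Ideal R) [p.IsPrime]
    (A B : Type u) [CommRing A] [IsLocalRing A] [Algebra R A] [IsLocalization.AtPrime A p]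
    [CommRing B] [IsLocalRing B] [Algebra R B] [IsLocalization.AtPrime B p]
    (h : CAlg2.IsGeomUnibranch A) : CAlg2.IsGeomUnibranch B := by
  let e := IsLocalization.algEquiv p.primeCompl A B
  letI : Algebra A B := e.toRingEquiv.toRingHom.toAlgebra
  haveI : IsScalarTower R A B := IsScalarTower.of_algebraMap_eq fun x => (e.commutes x).symm
  haveI : p.LiesOver p := ⟨rfl⟩
  obtain ⟨hloc, het⟩ := isEssentiallyEtale_of_isLocalization R R p p A B
  exact (@isGeomUnibranch_iff_of_essentiallyEtale A B _ _ _ _ _ hloc het).1.mp h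

end Groth.PropsBasic.UnibranchPunctured
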