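import Mathlib
import Groth.Agent.PropsBasic2.Spread2
import Groth.Agent.PropsBasic2.Spread3
import Groth.Agent.PropsBasic2.SchTop

/-! Morphisms which are birational in the sense of generic points and their local rings. -/

universe u

open CategoryTheory Limits AlgebraicGeometry TopologicalSpace Groth.PropsBasic2

namespace Groth.PropsBasic.BirationalGeneric

/-- Shorthand: the generic points of the irreducible components. -/
def gen (X : Scheme.{u}) : Set X := {x : X | closure {x} ∈ irreducibleComponents ↥X}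

variable {X Y : Scheme.{u}} (f : X ⟶ Y)

variable (hbij : Set.BijOn (fun x : X => f.base x) (gen X) (gen Y))
  (hiso : ∀ x ∈ gen X, IsIso (f.stalkMap x))

include hbij hiso in
/-- The fibre over a generic point consists of a generic point. -/
lemma eq_of_apply_eq {x₀ x : X} (hx₀ : x₀ ∈ gen X) (hx : f x = f x₀) : x = x₀ := by
  have hy : f x₀ ∈ gen Y := hbij.mapsTo hx₀
  obtain ⟨z, hz, hzx⟩ := exists_genericPoint_specializes x
  have hfz : f z = f x₀ :=
    (closure_mem_irreducibleComponents_iff _).mp hy _ (hx ▸ hzx.map f.continuous)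
  obtain rfl : z = x₀ := hbij.injOn hz hx₀ hfz
  by_contra hne
  have := hiso z hz
  let e : Y.presheaf.stalk (f z) ⟶ X.presheaf.stalk x :=
    Y.presheaf.stalkSpecializes (Inseparable.of_eq hx).specializes ≫ f.stalkMap x
  have he : e ≫ X.presheaf.stalkSpecializes hzx = f.stalkMap z := by
    simp only [e, Category.assoc, ← Scheme.Hom.stalkSpecializes_stalkMap f z x hzx,
      TopCat.Presheaf.stalkSpecializes_comp_assoc, TopCat.Presheaf.stalkSpecializes_refl,
      Category.id_comp]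
  have hsurj : Function.Surjective (X.presheaf.stalkSpecializes hzx) := by
    intro a
    obtain ⟨b, hb⟩ := (ConcreteCategory.bijective_of_isIso (f.stalkMap z)).2 a
    exact ⟨e b, by rw [← CommRingCat.comp_apply, he, hb]⟩
  have hinj := PrimeSpectrum.comap_injective_of_surjective _ hsurj
  -- every prime of `O_{X,x}` is the generic one, in particular the maximal ideal
  have hclosed : ∀ p : Spec (X.presheaf.stalk x), X.fromSpecStalk x p ⤳ x :=
    fun p => by
      have : X.fromSpecStalk x p ∈ Set.range (X.fromSpecStalk x) := ⟨p, rfl⟩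
      rwa [Scheme.range_fromSpecStalk] at this
  apply hne
  have hloc : IsLocalHom (X.presheaf.stalkSpecializes hzx).hom :=
    IsLocalHom.of_surjective _ hsurj
  have hs := Scheme.SpecMap_stalkSpecializes_fromSpecStalk (X := X) hzx
  have h1 := congr($hs (IsLocalRing.closedPoint _))
  rw [Scheme.fromSpecStalk_closedPoint] at h1
  have h2 : Spec.map (X.presheaf.stalkSpecializes hzx) (IsLocalRing.closedPoint _) =
      IsLocalRing.closedPoint _ := by
    exact IsLocalRing.comap_closedPoint _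
  change X.fromSpecStalk x (Spec.map (X.presheaf.stalkSpecializes hzx) _) = _ at h1
  erw [h2, Scheme.fromSpecStalk_closedPoint] at h1
  exact h1

include hbij hiso in
lemma preimage_singleton {x₀ : X} (hx₀ : x₀ ∈ gen X) : f ⁻¹' {f x₀} = {x₀} :=
  Set.ext fun _ => ⟨fun h => eq_of_apply_eq f hbij hiso hx₀ h, fun h => congrArg f h⟩

include hbij hiso in
lemma isIso_pullback_snd {x₀ : X} (hx₀ : x₀ ∈ gen X) :
    IsIso (pullback.snd f (Y.fromSpecStalk (f x₀))) := by
  have := hiso x₀ hx₀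
  set i := Y.fromSpecStalk (f x₀)
  set j := X.fromSpecStalk x₀
  set e : Spec (X.presheaf.stalk x₀) ⟶ Spec (Y.presheaf.stalk (f x₀)) := Spec.map (f.stalkMap x₀)
  have he : e ≫ i = j ≫ f := Scheme.SpecMap_stalkMap_fromSpecStalk f
  set P := pullback f i with hP
  obtain ⟨s, hs₁, hs₂⟩ : ∃ s : Spec (Y.presheaf.stalk (f x₀)) ⟶ pullback f i,
      s ≫ pullback.fst f i = inv e ≫ j ∧ s ≫ pullback.snd f i = 𝟙 _ :=
    ⟨pullback.lift (inv e ≫ j) (𝟙 _) (by rw [Category.assoc, ← he, IsIso.inv_hom_id_assoc]; simp),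
      pullback.lift_fst _ _ _, pullback.lift_snd _ _ _⟩
  have hpt : ∀ q : P, pullback.fst f i q = x₀ := by
    intro q
    apply eq_of_apply_eq f hbij hiso hx₀
    have hr : f (pullback.fst f i q) ⤳ f x₀ := by
      have : i (pullback.snd f i q) ∈ Set.range i := ⟨_, rfl⟩
      rw [Scheme.range_fromSpecStalk] at this
      rwa [← Scheme.Hom.comp_apply, pullback.condition, Scheme.Hom.comp_apply]
    exact (closure_mem_irreducibleComponents_iff _).mp (hbij.mapsTo hx₀) _ hr
  have hsub : Subsingleton P :=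
    ⟨fun a b => (pullback.fst f i).isEmbedding.injective ((hpt a).trans (hpt b).symm)⟩
  have hne : Nonempty P := ⟨s (IsLocalRing.closedPoint _)⟩
  let p : P := hne.some
  have hPiso : IsIso (P.fromSpecStalk p) := by
    have : IsAffine P := inferInstance
    have hloc : ∀ q : P, q ⤳ p := fun q => by rw [Subsingleton.elim q p]
    have hrange : Set.range (P.fromSpecStalk p) = Set.univ := by
      rw [Scheme.range_fromSpecStalk]; exact Set.eq_univ_of_forall hloc
    have : Surjective (P.fromSpecStalk p) := ⟨Set.range_eq_univ.mp hrange⟩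
    have : IsOpenImmersion (P.fromSpecStalk p) := by
      refine IsOpenImmersion.iff_isIso_stalkMap.mpr ⟨⟨(P.fromSpecStalk p).isEmbedding, ?_⟩,
        fun q => ?_⟩
      swap
      · have : IsIso (Scheme.stalkClosedPointTo (P.fromSpecStalk p)) := by
          rw [Scheme.stalkClosedPointTo_fromSpecStalk]; infer_instance
        obtain rfl : q = IsLocalRing.closedPoint _ :=
          (P.fromSpecStalk p).isEmbedding.injective (Subsingleton.elim _ _)
        have : IsIso ((P.fromSpecStalk p).stalkMap (IsLocalRing.closedPoint _) ≫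
            (stalkClosedPointIso (P.presheaf.stalk p)).hom) := ‹IsIso (Scheme.stalkClosedPointTo _)›
        exact IsIso.of_isIso_comp_right _ (stalkClosedPointIso _).hom
      rw [hrange]; exact isOpen_univ
    exact (isIso_iff_isOpenImmersion_and_epi_base _).mpr ⟨inferInstance,
      (TopCat.epi_iff_surjective _).mpr (Set.range_eq_univ.mp hrange)⟩
  refine ⟨s, ?_, hs₂⟩
  apply pullback.hom_ext
  · rw [Category.assoc, hs₁, Category.id_comp]
    obtain ⟨a, ha⟩ : ∃ a, pullback.fst f i = a ≫ j := by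
      refine ⟨inv (P.fromSpecStalk p) ≫ Spec.map ((pullback.fst f i).stalkMap p) ≫
        Spec.map (X.presheaf.stalkSpecializes (Inseparable.of_eq (hpt p)).specializes), ?_⟩
      simp [j, Scheme.SpecMap_stalkSpecializes_fromSpecStalk, Scheme.SpecMap_stalkMap_fromSpecStalk]
    have : pullback.snd f i = a ≫ e := by
      rw [← cancel_mono i, ← pullback.condition, ha, Category.assoc, Category.assoc, he]
    rw [ha, this]; simp
  · rw [Category.assoc, hs₂, Category.id_comp]; simp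

section Spread

variable [LocallyOfFiniteType f]

include hiso in
lemma exists_isOpenImmersion_of_isReduced [IsReduced Y] (hY : (irreducibleComponents ↥Y).Finite)
    {x : X} (hx : x ∈ gen X) (hy : f x ∈ gen Y) :
    ∃ U : X.Opens, x ∈ U ∧ IsOpenImmersion (U.ι ≫ f) := by
  have := hiso x hx
  obtain ⟨U, V, e, hxU, hcl⟩ := Spread.exists_closedImmersion_of_surjective f x
    (ConcreteCategory.bijective_of_isIso (f.stalkMap x)).2
  let W : Y.Opens := ⟨(⋃ c ∈ irreducibleComponents ↥Y \ {closure {f x}}, c)ᶜ,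
    (hY.sdiff.isClosed_biUnion fun c hc => isClosed_of_mem_irreducibleComponents c hc.1).isOpen_compl⟩
  have hW : ∀ z ∈ W, f x ⤳ z := fun z hz => by
    obtain ⟨g, hg, hgz⟩ := exists_genericPoint_specializes z
    by_cases h : closure {g} = closure {f x}
    · exact specializes_iff_mem_closure.mpr (h ▸ specializes_iff_mem_closure.mp hgz)
    · exact absurd (Set.mem_biUnion (show closure {g} ∈ irreducibleComponents ↥Y \ {closure {f x}}
        from ⟨hg, h⟩) (specializes_iff_mem_closure.mp hgz)) hz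
  have hyW : f x ∈ W := by
    simp only [W, Opens.mem_mk, Set.mem_compl_iff, Set.mem_iUnion, not_exists]
    intro c hc hmem
    exact hc.2 ((hy.2 hc.1.1 ((isClosed_of_mem_irreducibleComponents c hc.1).closure_subset_iff.mpr
      (Set.singleton_subset_iff.mpr hmem))).antisymm ((isClosed_of_mem_irreducibleComponents c
        hc.1).closure_subset_iff.mpr (Set.singleton_subset_iff.mpr hmem)))
  let g : U.toScheme ⟶ V.toScheme := f.resLE V U e
  let V' : V.toScheme.Opens := V.ι ⁻¹ᵁ W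
  have : Surjective (g ∣_ V') := ⟨fun ⟨v, hv⟩ => by
    have hxg : g ⟨x, hxU⟩ ⤳ v := by
      rw [← V.ι.isOpenEmbedding.isInducing.specializes_iff]
      have : V.ι (g ⟨x, hxU⟩) = f x :=
        congr(($(f.resLE_comp_ι e)).base ⟨x, hxU⟩)
      rw [this]; exact hW _ hv
    obtain ⟨u, hu⟩ := hxg.mem_closed g.isClosedMap.isClosed_range ⟨_, rfl⟩
    refine ⟨⟨u, show g u ∈ V' by rw [hu]; exact hv⟩, Subtype.ext ?_⟩
    rw [morphismRestrict_base]; exact hu⟩
  have : IsClosedImmersion (g ∣_ V') := IsZariskiLocalAtTarget.restrict hcl V'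
  have : IsIso (g ∣_ V') := isIso_of_isClosedImmersion_of_surjective _
  refine ⟨U.ι ''ᵁ (g ⁻¹ᵁ V'), ⟨⟨x, hxU⟩, ?_, rfl⟩, ?_⟩
  · show V.ι (g ⟨x, hxU⟩) ∈ W
    rw [show V.ι (g ⟨x, hxU⟩) = f x from congr(($(f.resLE_comp_ι e)).base ⟨x, hxU⟩)]
    exact hyW
  · have h : ((g ⁻¹ᵁ V').ι ≫ U.ι) ≫ f = (g ∣_ V') ≫ V'.ι ≫ V.ι := by
      rw [morphismRestrict_ι_assoc, f.resLE_comp_ι e, Category.assoc]
    have h2 : ((g ⁻¹ᵁ V').ι ≫ U.ι).opensRange = U.ι ''ᵁ (g ⁻¹ᵁ V') := by
      rw [Scheme.Hom.opensRange_comp, Scheme.Opens.opensRange_ι]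
    rw [← h2, ← Scheme.Hom.isoOpensRange_inv_comp ((g ⁻¹ᵁ V').ι ≫ U.ι), Category.assoc, h]
    infer_instance

omit [LocallyOfFiniteType f] in
include hiso in
lemma exists_isOpenImmersion_of_lfp [LocallyOfFinitePresentation f] {x : X} (hx : x ∈ gen X) :
    ∃ U : X.Opens, x ∈ U ∧ IsOpenImmersion (U.ι ≫ f) := by
  have := hiso x hx
  obtain ⟨U, hxU, V, g, hg, -, hgS⟩ := Spread.exist_iso f (𝟙 Y) (x := x) (y := f x) rfl (f.stalkMap x)
    (by simp)
  rw [Category.comp_id] at hgS
  exact ⟨U, hxU, by rw [← hgS]; infer_instance⟩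

end Spread

include hbij hiso in
/-- Local open immersions at the generic points give an isomorphism of dense opens. -/
lemma exists_dense_opens (hY : (irreducibleComponents ↥Y).Finite)
    (hloc : ∀ x ∈ gen X, ∃ U : X.Opens, x ∈ U ∧ IsOpenImmersion (U.ι ≫ f)) :
    ∃ (U : X.Opens) (V : Y.Opens) (hUV : U ≤ f ⁻¹ᵁ V),
      gen X ⊆ U ∧ gen Y ⊆ V ∧ IsIso (f.resLE V U hUV) ∧
      ∀ v ∈ V, ∀ c ∈ irreducibleComponents ↥Y, ∀ d ∈ irreducibleComponents ↥Y,
        v ∈ c → v ∈ d → c = d := by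
  classical
  choose U hU hUi using hloc
  let W : X → Y.Opens := fun x => ⟨(⋃ c ∈ irreducibleComponents ↥Y \ {closure {f x}}, c)ᶜ,
    (hY.sdiff.isClosed_biUnion fun c hc => isClosed_of_mem_irreducibleComponents c hc.1).isOpen_compl⟩
  have hW : ∀ x, ∀ z ∈ W x, ∀ c ∈ irreducibleComponents ↥Y, z ∈ c → c = closure {f x} := by
    intro x z hz c hc hzc
    by_contra h
    exact hz (Set.mem_biUnion (show c ∈ irreducibleComponents ↥Y \ {closure {f x}} from ⟨hc, h⟩) hzc)
  have hyW : ∀ x ∈ gen X, f x ∈ W x := by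
    intro x hx
    simp only [W, Opens.mem_mk, Set.mem_compl_iff, Set.mem_iUnion, not_exists]
    intro c hc hmem
    have h' := (isClosed_of_mem_irreducibleComponents c hc.1).closure_subset_iff.mpr
      (Set.singleton_subset_iff.mpr hmem)
    exact hc.2 (((hbij.mapsTo hx).2 hc.1.1 h').antisymm h')
  let U' : X.Opens := ⨆ x : gen X, U x.1 x.2 ⊓ f ⁻¹ᵁ W x.1
  have hinj : Function.Injective (U'.ι ≫ f) := by
    rintro ⟨a, ha⟩ ⟨b, hb⟩ hab
    obtain ⟨p, hap, hap'⟩ := Opens.mem_iSup.mp ha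
    obtain ⟨q, hbq, hbq'⟩ := Opens.mem_iSup.mp hb
    change f a = f b at hab
    obtain ⟨g, hg, hgz⟩ := exists_genericPoint_specializes (f a)
    have hc := specializes_iff_mem_closure.mp hgz
    have h1 := hW p.1 _ hap' _ hg hc
    have h2 := hW q.1 _ hbq' _ hg (hab ▸ hc)
    have hpq : f p.1 = f q.1 :=
      (Inseparable.eq ((inseparable_iff_closure_eq).mpr (h1.symm.trans h2)))
    obtain rfl : p = q := Subtype.ext (hbij.injOn p.2 q.2 hpq)
    have := hUi p.1 p.2
    have hres := ((U p.1 p.2).ι ≫ f).isOpenEmbedding.injective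
      (a₁ := ⟨a, hap⟩) (a₂ := ⟨b, hbq⟩) hab
    exact Subtype.ext (show a = b from congrArg Subtype.val hres)
  have : IsOpenImmersion (U'.ι ≫ f) := by
    refine IsOpenImmersion.of_forall_source_exists _ hinj fun a => ?_
    obtain ⟨p, hp⟩ := Opens.mem_iSup.mp a.2
    have hle : U p.1 p.2 ⊓ f ⁻¹ᵁ W p.1 ≤ U' := le_iSup (fun x : gen X => U x.1 x.2 ⊓ f ⁻¹ᵁ W x.1) p
    refine ⟨_, X.homOfLE hle, inferInstance, ?_, ?_⟩
    · exact ⟨⟨a.1, hp⟩, Subtype.ext (congr(($(X.homOfLE_ι hle)).base ⟨a.1, hp⟩))⟩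
    · have := hUi p.1 p.2
      rw [X.homOfLE_ι_assoc, ← X.homOfLE_ι_assoc (inf_le_left : U p.1 p.2 ⊓ f ⁻¹ᵁ W p.1 ≤ U p.1 p.2)]
      infer_instance
  let V := (U'.ι ≫ f).opensRange
  have hUV : U' ≤ f ⁻¹ᵁ V := fun a ha => ⟨⟨a, ha⟩, rfl⟩
  have hgenX : gen X ⊆ U' := fun x hx => Opens.mem_iSup.mpr ⟨⟨x, hx⟩, hU x hx, hyW x hx⟩
  refine ⟨U', V, hUV, hgenX, ?_, ?_, ?_⟩
  · intro y hy
    obtain ⟨x, hx, rfl⟩ := hbij.surjOn hy
    exact hUV (hgenX hx)
  · have : IsOpenImmersion (f.resLE V U' hUV) := by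
      have : IsOpenImmersion (f.resLE V U' hUV ≫ V.ι) := by rw [f.resLE_comp_ι]; infer_instance
      exact IsOpenImmersion.of_comp _ V.ι
    refine (isIso_iff_isOpenImmersion_and_epi_base _).mpr ⟨inferInstance,
      (TopCat.epi_iff_surjective _).mpr ?_⟩
    rintro ⟨v, a, rfl⟩
    exact ⟨a, Subtype.ext (congr(($(f.resLE_comp_ι hUV)).base a))⟩
  · rintro v ⟨⟨a, ha⟩, rfl⟩ c hc d hd hvc hvd
    obtain ⟨p, -, hap⟩ := Opens.mem_iSup.mp ha
    exact (hW p.1 _ hap c hc hvc).trans (hW p.1 _ hap d hd hvd).symm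

lemma dense_of_gen_subset {U : Set X} (h : gen X ⊆ U) : Dense U := fun z => by
  obtain ⟨g, hg, hgz⟩ := exists_genericPoint_specializes z
  exact closure_mono (Set.singleton_subset_iff.mpr (h hg)) (specializes_iff_mem_closure.mp hgz)

lemma isIso_morphismRestrict_of_resLE {U : X.Opens} {V V' : Y.Opens} (hUV : U ≤ f ⁻¹ᵁ V)
    [IsIso (f.resLE V U hUV)] (hle : V' ≤ V) (hsub : f ⁻¹ᵁ V' ≤ U) : IsIso (f ∣_ V') := by
  have : IsOpenImmersion (U.ι ≫ f) := by rw [← f.resLE_comp_ι hUV]; infer_instance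
  have : IsOpenImmersion (f ∣_ V') := by
    have : IsOpenImmersion ((f ∣_ V') ≫ V'.ι) := by
      rw [morphismRestrict_ι, ← X.homOfLE_ι_assoc hsub]
      infer_instance
    exact IsOpenImmersion.of_comp _ V'.ι
  refine (isIso_iff_isOpenImmersion_and_epi_base _).mpr ⟨inferInstance,
    (TopCat.epi_iff_surjective _).mpr fun ⟨v, hv⟩ => ?_⟩
  obtain ⟨a, ha⟩ : ∃ a : U, f a.1 = v := by
    obtain ⟨a, ha⟩ := (f.resLE V U hUV).homeomorph.surjective ⟨v, hle hv⟩
    exact ⟨a, (congr(($(f.resLE_comp_ι hUV)).base a)).symm.trans (congrArg Subtype.val ha)⟩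
  exact ⟨⟨a.1, show f a.1 ∈ V' by rw [ha]; exact hv⟩, Subtype.ext (by rw [morphismRestrict_base]; exact ha)⟩

end Groth.PropsBasic.BirationalGeneric
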