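import Mathlib

/-!
# Scheme-theoretic image of an integral scheme
-/

universe u

open CategoryTheory AlgebraicGeometry TopologicalSpace

set_option backward.isDefEq.respectTransparency.types false

namespace Groth.PropsBasic

variable {X Y : Scheme.{u}}

theorem isIntegral_image (f : X ⟶ Y) [QuasiCompact f] [IsIntegral X] : IsIntegral f.image := by
  rw [isIntegral_iff_irreducibleSpace_and_isReduced]
  constructor
  · rw [irreducibleSpace_def]
    have h1 : IsIrreducible (Set.range f.toImage) := by
      rw [← Set.image_univ]
      exact (IrreducibleSpace.isIrreducible_univ X).image _ f.toImage.continuous.continuousOn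
    have h2 := h1.closure
    rwa [f.toImage.denseRange.closure_range] at h2
  · have : ∀ x : f.image, _root_.IsReduced (f.image.presheaf.stalk x) := fun x => by
      obtain ⟨_, ⟨U, hU, rfl⟩, hxU, -⟩ :=
        Y.isBasis_affineOpens.exists_subset_of_mem_open (Set.mem_univ (f.imageι x)) isOpen_univ
      have hxV : x ∈ f.imageι ⁻¹ᵁ U := hxU
      have hV : IsAffineOpen (f.imageι ⁻¹ᵁ U) := IsAffineOpen.preimage hU f.imageι
      have : _root_.IsReduced Γ(f.image, f.imageι ⁻¹ᵁ U) :=
        isReduced_of_injective _ (f.toImage_app_injective ⟨U, hU⟩)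
      let _ := TopCat.Presheaf.algebra_section_stalk f.image.presheaf ⟨x, hxV⟩
      have : IsLocalization.AtPrime (f.image.presheaf.stalk x) (hV.primeIdealOf ⟨x, hxV⟩).asIdeal :=
        hV.isLocalization_stalk ⟨x, hxV⟩
      exact isReduced_localizationPreserves (hV.primeIdealOf ⟨x, hxV⟩).asIdeal.primeCompl _ ‹_›
    exact isReduced_of_isReduced_stalk _

theorem ker_imageι_app (f : X ⟶ Y) [QuasiCompact f] (U : Y.affineOpens) :
    RingHom.ker (f.imageι.app U).hom = RingHom.ker (f.app U).hom := by
  rw [show f.imageι = f.ker.subschemeι from rfl, f.ker.ker_subschemeι_app U]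
  exact f.ker_apply U

end Groth.PropsBasic
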