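import Mathlib
import Groth.Prelude.Def_Found

/-! Being a G-ring is a property of the local rings: transport of regularity of the completion map. -/

universe u

open TensorProduct CAlg

namespace Groth.PropsBasic.GRingLocal

lemma cplMap_compat {A B : Type u} [CommRing A] [CommRing B] (I : Ideal A) (J : Ideal B)
    (f : A →+* B) (hf : I.map f ≤ J) {m n : ℕ} (hle : m ≤ n) :
    (Ideal.Quotient.factorPow J hle).comp ((Ideal.quotientMap (J ^ n) f (by
      rw [← Ideal.map_le_iff_le_comap, Ideal.map_pow]; exact Ideal.pow_right_mono hf n)).comp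
      (AdicCompletion.evalₐ I n).toRingHom) = (Ideal.quotientMap (J ^ m) f (by
      rw [← Ideal.map_le_iff_le_comap, Ideal.map_pow]; exact Ideal.pow_right_mono hf m)).comp
      (AdicCompletion.evalₐ I m).toRingHom := by
  ext x
  obtain ⟨c, rfl⟩ := AdicCompletion.mk_surjective I A x
  simp only [RingHom.comp_apply, AlgHom.toRingHom_eq_coe, RingHom.coe_coe,
    AdicCompletion.evalₐ_mk, Ideal.quotientMap_mk, Ideal.Quotient.factor_mk]
  have hc : c.val n - c.val m ∈ I ^ m := by
    simpa [SModEq.sub_mem] using! (c.2 hle).symm
  rw [Ideal.Quotient.eq, ← map_sub]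
  exact Ideal.pow_right_mono hf m (Ideal.map_pow f I m ▸ Ideal.mem_map_of_mem f hc)

/-- The map of completions induced by a ring map sending `I` into `J`. -/
noncomputable def cplMap {A B : Type u} [CommRing A] [CommRing B] (I : Ideal A) (J : Ideal B)
    (f : A →+* B) (hf : I.map f ≤ J) : AdicCompletion I A →+* AdicCompletion J B :=
  AdicCompletion.liftRingHom J
    (fun n => (Ideal.quotientMap (J ^ n) f (by
      rw [← Ideal.map_le_iff_le_comap, Ideal.map_pow]; exact Ideal.pow_right_mono hf n)).comp
      (AdicCompletion.evalₐ I n).toRingHom)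
    (cplMap_compat I J f hf)

lemma evalₐ_cplMap {A B : Type u} [CommRing A] [CommRing B] (I : Ideal A) (J : Ideal B)
    (f : A →+* B) (hf : I.map f ≤ J) (n : ℕ) (x : AdicCompletion I A) (a : A)
    (ha : AdicCompletion.evalₐ I n x = Ideal.Quotient.mk _ a) :
    AdicCompletion.evalₐ J n (cplMap I J f hf x) = Ideal.Quotient.mk _ (f a) := by
  unfold cplMap
  erw [AdicCompletion.evalₐ_liftRingHom J _ (cplMap_compat I J f hf)]
  simp [ha, Ideal.quotientMap_mk]

/-- Completions of isomorphic pairs are isomorphic, compatibly with the structure maps. -/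
lemma exists_cplEquiv {A B : Type u} [CommRing A] [CommRing B] (I : Ideal A) (J : Ideal B)
    (e : A ≃+* B) (he : I.map (e : A →+* B) = J) :
    ∃ σ : AdicCompletion I A ≃+* AdicCompletion J B,
      ∀ a, σ (algebraMap A _ a) = algebraMap B _ (e a) := by
  have he' : J.map (e.symm : B →+* A) ≤ I := by
    rw [← he, Ideal.map_map]; simp
  refine ⟨RingEquiv.ofRingHom (cplMap I J e he.le) (cplMap J I e.symm he') ?_ ?_, ?_⟩
  · refine RingHom.ext fun x => AdicCompletion.ext_evalₐ fun n => ?_
    obtain ⟨b, hb⟩ := Ideal.Quotient.mk_surjective (AdicCompletion.evalₐ J n x)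
    have h1 := evalₐ_cplMap J I (e.symm : B →+* A) he' n x b hb.symm
    have h2 := evalₐ_cplMap I J (e : A →+* B) he.le n _ _ h1
    simpa [hb] using h2
  · refine RingHom.ext fun x => AdicCompletion.ext_evalₐ fun n => ?_
    obtain ⟨b, hb⟩ := Ideal.Quotient.mk_surjective (AdicCompletion.evalₐ I n x)
    have h1 := evalₐ_cplMap I J (e : A →+* B) he.le n x b hb.symm
    have h2 := evalₐ_cplMap J I (e.symm : B →+* A) he' n _ _ h1
    simpa [hb] using h2
  · intro a
    refine AdicCompletion.ext_evalₐ fun n => ?_
    have h1 := evalₐ_cplMap I J (e : A →+* B) he.le n (algebraMap A _ a) a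
      (by simp)
    simpa using h1

/-- Regularity of a ring map is invariant under isomorphisms of source and target. -/
lemma isRegularHom_of_equiv {A B S T : Type u} [CommRing A] [CommRing B] [CommRing S] [CommRing T]
    [Algebra A S] [Algebra B T] (e : A ≃+* B) (σ : S ≃+* T)
    (h : ∀ a, σ (algebraMap A S a) = algebraMap B T (e a)) (hr : IsRegularHom A S) :
    IsRegularHom B T := by
  letI : Algebra A B := e.toRingHom.toAlgebra
  letI : Algebra A T := ((algebraMap B T).comp e.toRingHom).toAlgebra
  have : IsScalarTower A B T := IsScalarTower.of_algebraMap_eq fun _ => rfl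
  have hsurj : Function.Surjective (algebraMap A B) := e.surjective
  let σ' : S ≃ₐ[A] T := AlgEquiv.ofRingEquiv (f := σ) h
  obtain ⟨hflat, hfib⟩ := hr
  have hflatA : Module.Flat A T := Module.Flat.of_linearEquiv σ'.toLinearEquiv.symm
  refine ⟨?_, fun p hp => ?_⟩
  · let e' : A ≃ₐ[A] B := AlgEquiv.ofRingEquiv (f := e) fun a => rfl
    exact (RingHom.Flat.comp
      (f := e.symm.toRingHom) (g := algebraMap A T) (RingHom.Flat.of_bijective e.symm.bijective)
        (RingHom.flat_algebraMap_iff.mpr hflatA) |> fun hc => RingHom.flat_algebraMap_iff.mp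
          (by convert hc using 1; ext b; simp [RingHom.algebraMap_toAlgebra]))
  · let q : Ideal A := p.comap (algebraMap A B)
    have : p.LiesOver q := ⟨rfl⟩
    letI : Algebra q.ResidueField p.ResidueField :=
      (Ideal.ResidueField.map q p (algebraMap A B) rfl).toAlgebra
    have : IsScalarTower A q.ResidueField p.ResidueField := IsScalarTower.of_algebraMap_eq fun a => by
      simp [RingHom.algebraMap_toAlgebra, Ideal.ResidueField.map, IsScalarTower.algebraMap_apply A B p.ResidueField]
    have hbij := Ideal.ResidueField.map q p (algebraMap A B) rfl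
    have hfin : Module.Finite q.ResidueField p.ResidueField := by
      refine Module.Finite.of_surjective (Algebra.linearMap _ _) fun x => ?_
      obtain ⟨b, s, hs, rfl⟩ := IsFractionRing.div_surjective (A := B ⧸ p) x
      obtain ⟨b, rfl⟩ := Ideal.Quotient.mk_surjective b
      obtain ⟨s, rfl⟩ := Ideal.Quotient.mk_surjective s
      obtain ⟨a, rfl⟩ := hsurj b
      obtain ⟨c, rfl⟩ := hsurj s
      refine ⟨algebraMap A _ a / algebraMap A _ c, ?_⟩
      simp only [Algebra.linearMap_apply, map_div₀, ← IsScalarTower.algebraMap_apply]
      rw [IsScalarTower.algebraMap_apply A B p.ResidueField a,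
        IsScalarTower.algebraMap_apply A B p.ResidueField c]
      rfl
    have key : ∀ (k' : Type u) [Field k'] [Algebra p.ResidueField k'],
        Module.Finite p.ResidueField k' → IsRegularRing (k' ⊗[p.ResidueField] (p.Fiber T)) := by
      intro k' _ _ hk
      letI : Algebra B k' := ((algebraMap p.ResidueField k').comp (algebraMap B _)).toAlgebra
      letI : Algebra A k' := ((algebraMap B k').comp (algebraMap A B)).toAlgebra
      letI : Algebra q.ResidueField k' :=
        ((algebraMap p.ResidueField k').comp (algebraMap q.ResidueField p.ResidueField)).toAlgebra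
      have : IsScalarTower B p.ResidueField k' := IsScalarTower.of_algebraMap_eq fun _ => rfl
      have : IsScalarTower A B k' := IsScalarTower.of_algebraMap_eq fun _ => rfl
      have : IsScalarTower q.ResidueField p.ResidueField k' :=
        IsScalarTower.of_algebraMap_eq fun _ => rfl
      have : IsScalarTower A q.ResidueField k' := IsScalarTower.of_algebraMap_eq fun a => by
        change algebraMap p.ResidueField k' (algebraMap B _ (algebraMap A B a)) =
          algebraMap p.ResidueField k' (algebraMap q.ResidueField p.ResidueField (algebraMap A _ a))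
        rw [← IsScalarTower.algebraMap_apply A B p.ResidueField, ← IsScalarTower.algebraMap_apply A q.ResidueField p.ResidueField]
      have : Module.Finite q.ResidueField k' := Module.Finite.trans p.ResidueField k'
      have hreg := (hfib q).2 k' this
      have : CompatibleSMul A B k' T := ⟨fun b x y => by
        obtain ⟨a, rfl⟩ := hsurj b
        rw [algebraMap_smul, algebraMap_smul, TensorProduct.smul_tmul]⟩
      let E : k' ⊗[q.ResidueField] (q.Fiber S) ≃+* k' ⊗[p.ResidueField] (p.Fiber T) :=
        (Algebra.TensorProduct.cancelBaseChange A q.ResidueField k' k' S).toRingEquiv.trans <|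
        (Algebra.TensorProduct.congr (R := A) (S := k') AlgEquiv.refl σ').toRingEquiv.trans <|
        (Algebra.TensorProduct.equivOfCompatibleSMul B A A k' T).toRingEquiv.trans
        (Algebra.TensorProduct.cancelBaseChange B p.ResidueField k' k' T).symm.toRingEquiv
      exact IsRegularRing.of_ringEquiv (R := k' ⊗[q.ResidueField] (q.Fiber S)) (R' := k' ⊗[p.ResidueField] (p.Fiber T)) E
    refine ⟨?_, key⟩
    have := key p.ResidueField inferInstance
    have hn : IsNoetherianRing (p.ResidueField ⊗[p.ResidueField] p.Fiber T) :=
      this.1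
    exact isNoetherianRing_of_ringEquiv _
      (Algebra.TensorProduct.lid p.ResidueField (p.Fiber T)).toRingEquiv

/-- The completion map of a local ring only depends on the isomorphism class of the ring. -/
lemma isRegularHom_completion_of_equiv {A B : Type u} [CommRing A] [CommRing B] [IsLocalRing A]
    [IsLocalRing B] (e : A ≃+* B)
    (hr : IsRegularHom A (AdicCompletion (IsLocalRing.maximalIdeal A) A)) :
    IsRegularHom B (AdicCompletion (IsLocalRing.maximalIdeal B) B) := by
  have he : (IsLocalRing.maximalIdeal A).map (e : A →+* B) = IsLocalRing.maximalIdeal B :=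
    IsLocalRing.eq_maximalIdeal (Ideal.map_isMaximal_of_equiv e)
  obtain ⟨σ, hσ⟩ := exists_cplEquiv _ _ e he
  exact isRegularHom_of_equiv e σ hσ hr

end Groth.PropsBasic.GRingLocal
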