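import Mathlib

/-!
# Affine boxes in fibre products
-/

universe u

open CategoryTheory CategoryTheory.Limits AlgebraicGeometry

set_option backward.isDefEq.respectTransparency.types false

namespace Groth.PropsBasic.Ample

theorem isAffineOpen_fibre_box {X Y S : Scheme.{u}} {f : X ⟶ S} {g : Y ⟶ S} {V : S.Opens}
    {A : X.Opens} {B : Y.Opens} (hV : IsAffineOpen V) (hA : IsAffineOpen A) (hB : IsAffineOpen B)
    (hAV : A ≤ f ⁻¹ᵁ V) (hBV : B ≤ g ⁻¹ᵁ V) :
    IsAffineOpen (pullback.fst f g ⁻¹ᵁ A ⊓ pullback.snd f g ⁻¹ᵁ B) := by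
  have : IsAffine V.toScheme := hV
  have : IsAffine A.toScheme := hA
  have : IsAffine B.toScheme := hB
  let m := pullback.map (f.resLE V A hAV) (g.resLE V B hBV) f g A.ι B.ι V.ι
    (by simp) (by simp)
  have hr : m.opensRange = pullback.fst f g ⁻¹ᵁ A ⊓ pullback.snd f g ⁻¹ᵁ B := by
    apply TopologicalSpace.Opens.ext
    simp only [Scheme.Hom.coe_opensRange]
    rw [Scheme.Pullback.range_map, Scheme.Opens.range_ι, Scheme.Opens.range_ι]
    rfl
  rw [← hr]
  exact isAffineOpen_opensRange m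

end Groth.PropsBasic.Ample
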