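import Groth.Prelude.Def_Found
import Groth.Agent.Calg4.Japanese
import Groth.Agent.S9392

/-! Localizations of Nagata rings are Nagata. -/

universe u

namespace Groth.PropsBasic

/-- A localization of a Nagata ring is Nagata. -/
theorem isNagata_of_isLocalization {R : Type u} [CommRing R] (M : Submonoid R) (S : Type u)
    [CommRing S] [Algebra R S] [IsLocalization M S] (h : CAlg.IsNagata R) : CAlg.IsNagata S := by
  haveI := h.1
  refine ⟨IsLocalization.isNoetherianRing M S inferInstance, fun q _ => ?_⟩
  suffices ∀ (J : Ideal S) [J.IsPrime], J = (q.comap (algebraMap R S)).map (algebraMap R S) →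
      CAlg.IsN2 (S ⧸ J) from this q (IsLocalization.map_comap M S q).symm
  rintro J _ rfl
  exact Groth.Agent.S9392.result (R ⧸ q.comap (algebraMap R S))
    (Algebra.algebraMapSubmonoid _ M) (S ⧸ (q.comap (algebraMap R S)).map (algebraMap R S))
    (h.2 _)

/-- Being Nagata is invariant under isomorphism. -/
theorem isNagata_of_ringEquiv {R S : Type u} [CommRing R] [CommRing S] (e : R ≃+* S)
    (h : CAlg.IsNagata R) : CAlg.IsNagata S := by
  let _ := e.toRingHom.toAlgebra
  haveI : IsLocalization (⊥ : Submonoid R) S :=
    { map_units := fun y => by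
        rw [(Submonoid.mem_bot).mp y.2, map_one]; exact isUnit_one
      surj := fun z => ⟨⟨e.symm z, 1⟩, by
        rw [Submonoid.coe_one, map_one, mul_one]; exact (e.apply_symm_apply z).symm⟩
      exists_of_eq := fun {x y} hxy => ⟨1, by simpa using e.injective hxy⟩ }
  exact isNagata_of_isLocalization (⊥ : Submonoid R) S h

end Groth.PropsBasic
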