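import Groth.Agent.Calg4.FormalFibres
import Groth.Agent.Calg4.RegularFlat
import Groth.Agent.S9406
import Groth.Agent.PropsBasic.GRingLocal

/-!
# Being a G-ring can be tested at maximal ideals

Relative to the theorem that complete Noetherian local rings are G-rings (`hC` below): if the
completion map of a Noetherian local ring is regular, then so is that of each localization.
-/

set_option autoImplicit false
set_option linter.style.haveILetI false

universe u

open TensorProduct IsLocalRing

namespace Groth.PropsBasic.GRingMaximal

/-- Regularity ascends along flat maps of Noetherian rings with regular fibres. -/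
theorem isRegularRing_of_fibres (D E : Type u) [CommRing D] [CommRing E] [Algebra D E]
    [Module.Flat D E] [IsNoetherianRing D] [IsNoetherianRing E]
    (h : ∀ (q : Ideal D) [q.IsPrime], IsRegularRing (q.Fiber E)) (hD : IsRegularRing D) :
    IsRegularRing E := by
  rw [isRegularRing_iff]
  intro q _
  haveI := h (q.comap (algebraMap D E))
  exact Groth.Calg4.isRegularLocalRing_localization_of_flat_of_fiber D E q

/-- The completion map of a localization at a prime of a Noetherian local ring with regular
completion map is regular. -/
theorem isRegularHom_completion_localization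
    (hC : ∀ (C : Type u) [CommRing C] [IsLocalRing C] [IsNoetherianRing C]
      [IsAdicComplete (maximalIdeal C) C], CAlg.IsGRing C)
    (R : Type u) [CommRing R] [IsLocalRing R] [IsNoetherianRing R]
    (hR : CAlg.IsRegularHom R (AdicCompletion (maximalIdeal R) R)) (p : Ideal R) [p.IsPrime] :
    CAlg.IsRegularHom (Localization.AtPrime p)
      (AdicCompletion (maximalIdeal (Localization.AtPrime p)) (Localization.AtPrime p)) := by
  let Rh := AdicCompletion (maximalIdeal R) R
  haveI : IsNoetherianRing Rh :=
    Groth.Calg1.isNoetherianRing_adicCompletion _ (IsNoetherian.noetherian _)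
  haveI : IsAdicComplete (maximalIdeal Rh) Rh :=
    AdicCompletion.isAdicComplete_of_fg (IsNoetherian.noetherian _)
  haveI := hR.1
  haveI : IsLocalHom (algebraMap R Rh) := by
    refine ((local_hom_TFAE _).out 0 2).mpr ?_
    rw [AdicCompletion.maximalIdeal_eq_map]
  haveI : Module.FaithfullyFlat R Rh := Module.FaithfullyFlat.of_flat_of_isLocalHom
  obtain ⟨⟨q, hq⟩, hqp⟩ := PrimeSpectrum.comap_surjective_of_faithfullyFlat (B := Rh) ⟨p, ‹_›⟩
  haveI := hq
  have hqp' : p = q.comap (algebraMap R Rh) := (congrArg PrimeSpectrum.asIdeal hqp).symm
  let A := Localization.AtPrime p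
  let A' := Localization.AtPrime q
  letI : Algebra A A' := (Localization.localRingHom p q (algebraMap R Rh) hqp').toAlgebra
  haveI : IsLocalHom (algebraMap A A') :=
    Localization.isLocalHom_localRingHom p q (algebraMap R Rh) hqp'
  haveI : IsScalarTower R A A' := IsScalarTower.of_algebraMap_eq fun x => by
    rw [RingHom.algebraMap_toAlgebra, Localization.localRingHom_to_map]
    exact IsScalarTower.algebraMap_apply R Rh A' x
  have h : CAlg.IsRegularHom A A' :=
    Groth.Calg4.IsRegularHom.localization_source p.primeCompl
      (Groth.Calg4.IsRegularHom.localization hR q.primeCompl A')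
  haveI := h.1
  haveI : IsNoetherianRing A := IsLocalization.isNoetherianRing p.primeCompl A ‹_›
  haveI : IsNoetherianRing A' := IsLocalization.isNoetherianRing q.primeCompl A' ‹_›
  haveI : Module.Flat A (AdicCompletion (maximalIdeal A) A) := AdicCompletion.flat_of_isNoetherian _
  refine Groth.Calg4.isRegularHom_of_isRegularRing_tensor inferInstance fun L _ _ hL => ?_
  haveI := hL
  exact Groth.Calg4.formalFibre_of_flat (fun D _ => IsRegularRing D)
    (fun D E _ _ e hD => haveI := hD; IsRegularRing.of_ringEquiv e)
    (fun D E _ _ _ _ _ _ hf hD => isRegularRing_of_fibres D E hf hD)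
    (fun D E _ _ _ _ _ hE => haveI := hE; Groth.Agent.S9406.result D E)
    A A' ((hC Rh).2 q) L (Groth.Calg4.IsRegularHom.isRegularRing_tensor h L)

/-- Regularity of the completion maps passes to smaller primes. -/
theorem isRegularHom_completion_of_le
    (hC : ∀ (C : Type u) [CommRing C] [IsLocalRing C] [IsNoetherianRing C]
      [IsAdicComplete (maximalIdeal C) C], CAlg.IsGRing C)
    (R : Type u) [CommRing R] [IsNoetherianRing R] (p m : Ideal R) [p.IsPrime] [m.IsPrime]
    (hpm : p ≤ m)
    (h : CAlg.IsRegularHom (Localization.AtPrime m)
      (AdicCompletion (maximalIdeal (Localization.AtPrime m)) (Localization.AtPrime m))) :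
    CAlg.IsRegularHom (Localization.AtPrime p)
      (AdicCompletion (maximalIdeal (Localization.AtPrime p)) (Localization.AtPrime p)) := by
  let Rm := Localization.AtPrime m
  haveI : IsNoetherianRing Rm := IsLocalization.isNoetherianRing m.primeCompl Rm ‹_›
  have hdisj : Disjoint (m.primeCompl : Set R) (p : Set R) :=
    Set.disjoint_left.mpr fun z hz hzp => hz (hpm hzp)
  haveI := IsLocalization.isPrime_of_isPrime_disjoint m.primeCompl Rm p ‹_› hdisj
  let P := p.map (algebraMap R Rm)
  have hP : P.comap (algebraMap R Rm) = p :=
    IsLocalization.under_map_of_isPrime_disjoint m.primeCompl Rm ‹_› hdisj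
  haveI : IsLocalization.AtPrime (Localization.AtPrime P) p := by
    have := IsLocalization.isLocalization_isLocalization_atPrime_isLocalization m.primeCompl
      (Localization.AtPrime P) P
    simp only [hP] at this
    exact this
  exact Groth.PropsBasic.GRingLocal.isRegularHom_completion_of_equiv
    (IsLocalization.algEquiv p.primeCompl (Localization.AtPrime P)
      (Localization.AtPrime p)).toRingEquiv (isRegularHom_completion_localization hC Rm h P)

/-- A Noetherian ring is a G-ring if the completion maps at its maximal ideals are regular. -/
theorem isGRing_of_maximal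
    (hC : ∀ (C : Type u) [CommRing C] [IsLocalRing C] [IsNoetherianRing C]
      [IsAdicComplete (maximalIdeal C) C], CAlg.IsGRing C)
    (R : Type u) [CommRing R] [IsNoetherianRing R]
    (h : ∀ (m : Ideal R) [m.IsMaximal], CAlg.IsRegularHom (Localization.AtPrime m)
      (AdicCompletion (maximalIdeal (Localization.AtPrime m)) (Localization.AtPrime m))) :
    CAlg.IsGRing R := by
  refine ⟨inferInstance, fun p _ => ?_⟩
  obtain ⟨m, hm, hpm⟩ := Ideal.exists_le_maximal p ‹p.IsPrime›.ne_top
  haveI := hm
  exact isRegularHom_completion_of_le hC R p m hpm (h m)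

end Groth.PropsBasic.GRingMaximal
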