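import Groth.Agent.MilnorKLambda.FinLen
import Groth.Agent.Ega41Dim.SystemParams
import Groth.Agent.S6312
import Mathlib.RingTheory.Ideal.AssociatedPrime.Localization
import Mathlib.RingTheory.KrullDimension.Regular
import Mathlib.RingTheory.Ideal.MinimalPrime.Noetherian
import Mathlib.Data.ENat.BigOperators

/-!
The number of top dimensional components is bounded by the colength of a system of parameters:
`∑ length M_p ≤ length M/(g)M`.
-/

set_option autoImplicit false
set_option linter.style.haveILetI false
universe u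

open Pointwise Groth.MilnorKLambda.Per

namespace Groth.TopPrimeCount

variable {R : Type u} [CommRing R]

theorem lq_le_of_surjective (q : Ideal R) [q.IsPrime] {M N : Type u} [AddCommGroup M] [Module R M]
    [AddCommGroup N] [Module R N] {f : M →ₗ[R] N} (hf : Function.Surjective f) : lq q N ≤ lq q M := by
  rw [lq_add q (f := (LinearMap.ker f).subtype) (g := f) (Submodule.injective_subtype _) hf
    (LinearMap.exact_subtype_ker_map f)]
  exact le_add_self

theorem quot_smul_exact {A N B : Type u} [AddCommGroup A] [Module R A] [AddCommGroup N] [Module R N]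
    [AddCommGroup B] [Module R B] {f : A →ₗ[R] N} {g : N →ₗ[R] B} (hf : Function.Injective f)
    (hg : Function.Surjective g) (hfg : Function.Exact f g) {t : R} (htB : IsSMulRegular B t)
    (q : Ideal R) [q.IsPrime] :
    lq q (QuotSMulTop t N) = lq q (QuotSMulTop t A) + lq q (QuotSMulTop t B) := by
  refine lq_add q (f := QuotSMulTop.map t f) (g := QuotSMulTop.map t g) ?_
    (QuotSMulTop.map_surjective t hg) (QuotSMulTop.map_exact t hfg hg)
  rw [injective_iff_map_eq_zero]
  intro a ha
  obtain ⟨a, rfl⟩ := Submodule.Quotient.mk_surjective _ a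
  rw [QuotSMulTop.map_apply_mk, Submodule.Quotient.mk_eq_zero, Submodule.mem_smul_pointwise_iff_exists] at ha
  obtain ⟨n, -, hn⟩ := ha
  have hg0 : g n = 0 := htB <| by
    show t • g n = t • (0 : B)
    rw [← map_smul, hn, smul_zero]
    exact hfg.apply_apply_eq_zero a
  obtain ⟨a', rfl⟩ := (hfg n).1 hg0
  rw [← map_smul] at hn
  rw [Submodule.Quotient.mk_eq_zero, Submodule.mem_smul_pointwise_iff_exists]
  exact ⟨a', trivial, hf hn⟩

variable [IsNoetherianRing R]

/-- The one-dimensional step, without any dimension hypothesis. -/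
theorem step {t : R} (P : Ideal R) [P.IsPrime] (ht : t ∈ P) (T : Finset (PrimeSpectrum R))
    (hTP : ∀ p ∈ T, p.asIdeal ≤ P) (hTt : ∀ p ∈ T, t ∉ p.asIdeal)
    (M : Type u) [AddCommGroup M] [Module R M] [Module.Finite R M]
    (hTmin : ∀ p ∈ T, ∀ q ∈ Module.support R M, q ≤ p → q = p) :
    ∑ p ∈ T, lq p.asIdeal M ≤ lq P (QuotSMulTop t M) := by
  classical
  have hw : WellFoundedGT (Submodule R M) := inferInstance
  suffices h : ∀ K : Submodule R M, IsSMulRegular (M ⧸ K) t →
      ∑ p ∈ T, lq p.asIdeal (M ⧸ K) ≤ lq P (QuotSMulTop t (M ⧸ K)) by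
    -- the torsion submodule
    let K : Submodule R M :=
      { carrier := {y | ∃ n : ℕ, t ^ n • y = 0}
        add_mem' := by
          rintro a b ⟨m, hm⟩ ⟨n, hn⟩
          refine ⟨m + n, ?_⟩
          rw [smul_add, pow_add, mul_smul, mul_smul, hn, smul_zero, add_zero, smul_comm, hm, smul_zero]
        zero_mem' := ⟨0, smul_zero _⟩
        smul_mem' := by
          rintro c a ⟨n, hn⟩
          exact ⟨n, by rw [smul_comm, hn, smul_zero]⟩ }
    have hreg : IsSMulRegular (M ⧸ K) t := by
      refine isSMulRegular_iff_right_eq_zero_of_smul.2 fun x hx => ?_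
      obtain ⟨x, rfl⟩ := Submodule.Quotient.mk_surjective _ x
      rw [← Submodule.Quotient.mk_smul, Submodule.Quotient.mk_eq_zero] at hx
      obtain ⟨n, hn⟩ := hx
      rw [Submodule.Quotient.mk_eq_zero]
      exact ⟨n + 1, by rw [pow_succ, mul_smul, hn]⟩
    refine le_trans ?_ (lq_le_of_surjective P (QuotSMulTop.map_surjective t K.mkQ_surjective))
    refine le_trans (le_of_eq (Finset.sum_congr rfl fun p hp => ?_)) (h K hreg)
    rw [lq_add p.asIdeal (f := K.subtype) (g := K.mkQ) K.injective_subtype K.mkQ_surjective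
      (LinearMap.exact_subtype_mkQ K)]
    have h0 : lq p.asIdeal K = 0 := by
      refine lq_eq_zero_of_notMem p.asIdeal (Module.notMem_support_iff'.2 fun m => ?_)
      obtain ⟨n, hn⟩ := m.2
      exact ⟨t ^ n, fun hmem => hTt p hp (p.2.mem_of_pow_mem n hmem), Subtype.ext hn⟩
    rw [h0, zero_add]
  intro K
  induction K using hw.wf.induction with
  | _ K ih =>
    intro hreg
    by_cases hall : ∀ p ∈ T, lq p.asIdeal (M ⧸ K) = 0
    · rw [Finset.sum_eq_zero hall]; exact zero_le
    push Not at hall
    obtain ⟨p, hp, hpN⟩ := hall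
    have hsubs : Module.support R (M ⧸ K) ⊆ Module.support R M :=
      Module.support_subset_of_surjective _ K.mkQ_surjective
    have hpsupp : p ∈ Module.support R (M ⧸ K) := mem_support_of_lq_ne_zero _ hpN
    -- an element with annihilator `p`
    have hpmin : p.asIdeal ∈ (Module.annihilator R (M ⧸ K)).minimalPrimes := by
      refine ⟨⟨p.2, by rwa [Module.support_eq_zeroLocus] at hpsupp⟩, fun q hq hqp => ?_⟩
      have hq' : (⟨q, hq.1⟩ : PrimeSpectrum R) ∈ Module.support R (M ⧸ K) := by
        rw [Module.support_eq_zeroLocus]; exact hq.2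
      have := hTmin p hp _ (hsubs hq') hqp
      exact (congrArg PrimeSpectrum.asIdeal this).ge
    obtain ⟨-, x, hx⟩ := isAssociatedPrime_iff.1
      (Module.associatedPrimes.minimalPrimes_annihilator_subset_associatedPrimes R (M ⧸ K) hpmin)
    -- its saturation
    obtain ⟨x₀, rfl⟩ := Submodule.Quotient.mk_surjective _ x
    let K' : Submodule R M :=
      { carrier := {y | ∃ n : ℕ, t ^ n • y ∈ K ⊔ Submodule.span R {x₀}}
        add_mem' := by
          rintro a b ⟨m, hm⟩ ⟨n, hn⟩
          refine ⟨m + n, ?_⟩
          rw [smul_add]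
          refine Submodule.add_mem _ ?_ ?_
          · rw [add_comm, pow_add, mul_smul]; exact Submodule.smul_mem _ _ hm
          · rw [pow_add, mul_smul]; exact Submodule.smul_mem _ _ hn
        zero_mem' := ⟨0, by simp⟩
        smul_mem' := by
          rintro c a ⟨n, hn⟩
          exact ⟨n, by rw [smul_comm]; exact Submodule.smul_mem _ _ hn⟩ }
    have hKK' : K ≤ K' := fun y hy => ⟨0, by rw [pow_zero, one_smul]; exact Submodule.mem_sup_left hy⟩
    have hx₀ : x₀ ∈ K' := ⟨0, by
      rw [pow_zero, one_smul]; exact Submodule.mem_sup_right (Submodule.mem_span_singleton_self x₀)⟩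
    have hxne : (Submodule.Quotient.mk x₀ : M ⧸ K) ≠ 0 := fun h0 => p.2.ne_top (by
      rw [hx, h0]
      exact (Ideal.eq_top_iff_one _).2 (Submodule.mem_colon_singleton.2 (by simp)))
    have hlt : K < K' := lt_of_le_of_ne hKK' fun h =>
      hxne ((Submodule.Quotient.mk_eq_zero _).2 (h ▸ hx₀))
    have hreg' : IsSMulRegular (M ⧸ K') t := by
      refine isSMulRegular_iff_right_eq_zero_of_smul.2 fun y hy => ?_
      obtain ⟨y, rfl⟩ := Submodule.Quotient.mk_surjective _ y
      rw [← Submodule.Quotient.mk_smul, Submodule.Quotient.mk_eq_zero] at hy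
      obtain ⟨n, hn⟩ := hy
      rw [Submodule.Quotient.mk_eq_zero]
      exact ⟨n + 1, by rwa [pow_succ, mul_smul]⟩
    let g : (M ⧸ K) →ₗ[R] (M ⧸ K') := Submodule.mapQ K K' LinearMap.id hKK'
    have hg : Function.Surjective g := fun y => by
      obtain ⟨y, rfl⟩ := Submodule.Quotient.mk_surjective _ y
      exact ⟨Submodule.Quotient.mk y, rfl⟩
    let A := LinearMap.ker g
    have hsum : ∀ q ∈ T, lq q.asIdeal (M ⧸ K) = lq q.asIdeal A + lq q.asIdeal (M ⧸ K') := fun q _ =>
      lq_add q.asIdeal A.injective_subtype hg (LinearMap.exact_subtype_ker_map g)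
    have hA : ∀ q ∈ T, lq q.asIdeal A ≤ if q = p then 1 else 0 := fun q hq => by
      let j : (R ⧸ p.asIdeal) →ₗ[R] A := Submodule.liftQ p.asIdeal
        (LinearMap.toSpanSingleton R A ⟨Submodule.Quotient.mk x₀,
          (Submodule.Quotient.mk_eq_zero _).2 hx₀⟩) fun r hr => Subtype.ext (by
            rw [hx] at hr
            simpa using Submodule.mem_colon_singleton.1 hr)
      -- the image of `j` is everything after localizing at `q`
      have hle : lq q.asIdeal A ≤ lq q.asIdeal (R ⧸ p.asIdeal) := by
        have h1 : lq q.asIdeal A = lq q.asIdeal (LinearMap.range j) + lq q.asIdeal (A ⧸ LinearMap.range j) :=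
          lq_add q.asIdeal (LinearMap.range j).injective_subtype (LinearMap.range j).mkQ_surjective
            (LinearMap.exact_subtype_mkQ (LinearMap.range j))
        have h0 : lq q.asIdeal (A ⧸ LinearMap.range j) = 0 := by
          refine lq_eq_zero_of_notMem q.asIdeal (Module.notMem_support_iff'.2 fun m => ?_)
          obtain ⟨⟨m, hm⟩, rfl⟩ := Submodule.Quotient.mk_surjective _ m
          obtain ⟨y, rfl⟩ := Submodule.Quotient.mk_surjective _ m
          obtain ⟨n, hn⟩ : y ∈ K' := (Submodule.Quotient.mk_eq_zero _).1 hm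
          refine ⟨t ^ n, fun hmem => hTt q hq (q.2.mem_of_pow_mem n hmem), ?_⟩
          rw [← Submodule.Quotient.mk_smul, Submodule.Quotient.mk_eq_zero]
          obtain ⟨k, hk, z, hz, hkz⟩ := Submodule.mem_sup.1 hn
          obtain ⟨c, rfl⟩ := Submodule.mem_span_singleton.1 hz
          refine ⟨Submodule.Quotient.mk c, Subtype.ext ?_⟩
          show c • (Submodule.Quotient.mk x₀ : M ⧸ K) = t ^ n • Submodule.Quotient.mk y
          rw [← Submodule.Quotient.mk_smul, ← Submodule.Quotient.mk_smul, Submodule.Quotient.eq, ← hkz,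
            sub_add_cancel_right]
          exact K.neg_mem hk
        rw [h1, h0, add_zero]
        exact lq_le_of_surjective _ j.surjective_rangeRestrict
      refine hle.trans ?_
      split_ifs with hqp
      · subst hqp; rw [lq_quot_self]
      · refine (lq_eq_zero_of_notMem q.asIdeal fun h => hqp ?_).le
        rw [Module.support_eq_zeroLocus, Ideal.annihilator_quotient] at h
        exact (hTmin q hq p (hsubs hpsupp) h).symm
    have hA1 : 1 ≤ lq P (QuotSMulTop t A) := by
      rw [Order.one_le_iff_ne_zero]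
      refine lq_pos_of_mem _ ?_
      rw [Module.support_quotSMulTop]
      refine ⟨?_, fun r hr => (Set.mem_singleton_iff.1 hr) ▸ ht⟩
      refine Module.mem_support_iff'.2 ⟨⟨Submodule.Quotient.mk x₀, (Submodule.Quotient.mk_eq_zero _).2 hx₀⟩,
        fun r hr h0 => hr (hTP p hp ?_)⟩
      rw [hx]
      exact Submodule.mem_colon_singleton.2 ((Submodule.mem_bot R).2 (congrArg Subtype.val h0))
    calc ∑ q ∈ T, lq q.asIdeal (M ⧸ K)
        = ∑ q ∈ T, lq q.asIdeal A + ∑ q ∈ T, lq q.asIdeal (M ⧸ K') := by
          rw [← Finset.sum_add_distrib]; exact Finset.sum_congr rfl hsum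
      _ ≤ lq P (QuotSMulTop t A) + lq P (QuotSMulTop t (M ⧸ K')) := by
          refine add_le_add ?_ (ih K' hlt hreg')
          refine (Finset.sum_le_sum hA).trans ?_
          rw [Finset.sum_ite_eq', if_pos hp]
          exact hA1
      _ = lq P (QuotSMulTop t (M ⧸ K)) :=
          (quot_smul_exact A.injective_subtype hg (LinearMap.exact_subtype_ker_map g) hreg' P).symm

omit [IsNoetherianRing R] in
theorem mem_support_quot {p q : PrimeSpectrum R} :
    q ∈ Module.support R (R ⧸ p.asIdeal) ↔ p ≤ q := by
  rw [Module.support_eq_zeroLocus, Ideal.annihilator_quotient]; rfl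

omit [IsNoetherianRing R] in
theorem supportDim_mono {M N : Type u} [AddCommGroup M] [Module R M] [AddCommGroup N] [Module R N]
    (h : Module.support R M ⊆ Module.support R N) : Module.supportDim R M ≤ Module.supportDim R N :=
  Order.krullDim_le_of_strictMono (Set.inclusion h) fun _ _ hab => hab

omit [IsNoetherianRing R] in
/-- The dimension is attained by a prime of the support. -/
theorem exists_prime_supportDim (N : Type u) [AddCommGroup N] [Module R N] [Module.Finite R N] {n : ℕ}
    (h : Module.supportDim R N = n) :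
    ∃ P ∈ Module.support R N, Module.supportDim R (R ⧸ P.asIdeal) = n := by
  obtain ⟨l, hl⟩ := (Order.le_krullDim_iff (α := Module.support R N) (n := n)).1 h.ge
  refine ⟨l.head, l.head.2, le_antisymm ((supportDim_mono fun q hq => ?_).trans h.le) ?_⟩
  · exact Module.mem_support_mono (mem_support_quot.1 hq) l.head.2
  · let l' : LTSeries (Module.support R (R ⧸ l.head.1.asIdeal)) :=
      { length := l.length
        toFun := fun i => ⟨(l i).1, mem_support_quot.2 (l.head_le i)⟩
        step := fun i => l.step i }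
    rw [← hl]
    exact Order.LTSeries.length_le_krullDim l'

omit [IsNoetherianRing R] in
theorem supportDim_lt_of_lt {p q : PrimeSpectrum R} (hqp : q < p) {n : ℕ}
    (h : (n : WithBot ℕ∞) ≤ Module.supportDim R (R ⧸ p.asIdeal)) :
    ((n + 1 : ℕ) : WithBot ℕ∞) ≤ Module.supportDim R (R ⧸ q.asIdeal) := by
  obtain ⟨l, hl⟩ := (Order.le_krullDim_iff (α := Module.support R (R ⧸ p.asIdeal)) (n := n)).1 h
  let l' : LTSeries (Module.support R (R ⧸ q.asIdeal)) :=
    l.map (Set.inclusion fun x hx => mem_support_quot.2 (hqp.le.trans (mem_support_quot.1 hx)))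
      fun _ _ hab => hab
  have hlt : (⟨q, mem_support_quot.2 le_rfl⟩ : Module.support R (R ⧸ q.asIdeal)) < l'.head :=
    show q < l.head.1 from hqp.trans_le (mem_support_quot.1 l.head.2)
  have := Order.LTSeries.length_le_krullDim (l'.cons _ hlt)
  rw [RelSeries.cons_length, show l'.length = n from hl] at this
  exact this

variable [IsLocalRing R]

/-- `∑ length M_p ≤ length (M/(g)M)` over the primes of maximal dimension. -/
theorem main (d : ℕ) :
    ∀ (M : Type u) [AddCommGroup M] [Module R M] [Module.Finite R M] (g : Fin d → R),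
      (∀ i, g i ∈ IsLocalRing.maximalIdeal R) →
      IsFiniteLength R (M ⧸ Ideal.span (Set.range g) • (⊤ : Submodule R M)) →
      ∀ T : Finset (PrimeSpectrum R),
        (∀ p ∈ T, p ∈ Module.support R M ∧ Module.supportDim R (R ⧸ p.asIdeal) = d) →
        ∑ p ∈ T, lq p.asIdeal M ≤
          Module.length R (M ⧸ Ideal.span (Set.range g) • (⊤ : Submodule R M)) := by
  classical
  induction d with
  | zero =>
    intro M _ _ _ g _ _ T hT
    have hm : ∀ p ∈ T, p = ⟨IsLocalRing.maximalIdeal R, inferInstance⟩ := fun p hp => by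
      by_contra hne
      have hlt : p < ⟨IsLocalRing.maximalIdeal R, inferInstance⟩ :=
        lt_of_le_of_ne (IsLocalRing.le_maximalIdeal p.2.ne_top) hne
      have h0 : ((0 : ℕ) : WithBot ℕ∞) ≤ Module.supportDim R (R ⧸ IsLocalRing.maximalIdeal R) := by
        rw [Nat.cast_zero]
        exact Order.krullDim_nonneg_iff.2 ⟨⟨(⟨IsLocalRing.maximalIdeal R, inferInstance⟩ : PrimeSpectrum R),
          mem_support_quot (p := ⟨IsLocalRing.maximalIdeal R, inferInstance⟩).2 le_rfl⟩⟩
      have := supportDim_lt_of_lt hlt h0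
      rw [(hT p hp).2] at this
      exact absurd this (by norm_num)
    rw [show Set.range g = ∅ from Set.range_eq_empty g, Ideal.span_empty, Submodule.bot_smul, (Submodule.quotEquivOfEqBot _ rfl).length_eq]
    calc ∑ p ∈ T, lq p.asIdeal M ≤ ∑ p ∈ ({⟨IsLocalRing.maximalIdeal R, inferInstance⟩} : Finset (PrimeSpectrum R)),
          lq p.asIdeal M := Finset.sum_le_sum_of_subset fun p hp => Finset.mem_singleton.2 (hm p hp)
      _ ≤ Module.length R M := by rw [Finset.sum_singleton]; exact Groth.Agent.S6312.result _ M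
  | succ n ih =>
    intro M _ _ _ g hg hfin T hT
    induction g using Fin.consCases with
    | _ a y =>
    have hlen := Groth.Ega41Dim.length_quot_cons a y M
    set M' := M ⧸ LinearMap.range (a • LinearMap.id : M →ₗ[R] M) with hM'
    have hfin' : IsFiniteLength R (M' ⧸ Ideal.span (Set.range y) • (⊤ : Submodule R M')) :=
      Module.length_ne_top_iff.mp (hlen ▸ Module.length_ne_top_iff.mpr hfin)
    have hy : ∀ i, y i ∈ IsLocalRing.maximalIdeal R := fun i => by simpa using hg i.succ
    have ha : a ∈ IsLocalRing.maximalIdeal R := by simpa using hg 0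
    have hjac : ∀ r ∈ IsLocalRing.maximalIdeal R, r ∈ Ring.jacobson R := fun r hr => by
      rwa [IsLocalRing.ringJacobson_eq_maximalIdeal]
    have hdimM : Module.supportDim R M ≤ (n + 1 : ℕ) :=
      Groth.Ega41Dim.supportDim_le_of_finiteLength_quot _ M _ (fun i => hjac _ (hg i)) hfin
    have hdimM' : Module.supportDim R M' ≤ n :=
      Groth.Ega41Dim.supportDim_le_of_finiteLength_quot _ M' _ (fun i => hjac _ (hy i)) hfin'
    have e : M' ≃ₗ[R] QuotSMulTop a M :=
      Submodule.quotEquivOfEq _ _ (Groth.Ega41Dim.range_smul_id_eq a M)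
    have hsupp' : ∀ q, q ∈ Module.support R M' ↔ q ∈ Module.support R M ∧ a ∈ q.asIdeal := fun q => by
      rw [e.support_eq, Module.support_quotSMulTop]
      exact ⟨fun h => ⟨h.1, h.2 rfl⟩, fun h => ⟨h.1, fun r hr => (Set.mem_singleton_iff.1 hr) ▸ h.2⟩⟩
    have hTa : ∀ p ∈ T, a ∉ p.asIdeal := fun p hp hap => by
      have h1 : Module.supportDim R (R ⧸ p.asIdeal) ≤ Module.supportDim R M' :=
        supportDim_mono fun q hq => Module.mem_support_mono (mem_support_quot.1 hq)
          ((hsupp' p).2 ⟨(hT p hp).1, hap⟩)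
      rw [(hT p hp).2] at h1
      have := h1.trans hdimM'
      exact absurd (by exact_mod_cast this : n + 1 ≤ n) (by omega)
    have hTmin : ∀ p ∈ T, ∀ q ∈ Module.support R M, q ≤ p → q = p := fun p hp q hq hqp => by
      by_contra hne
      have h1 := supportDim_lt_of_lt (lt_of_le_of_ne hqp hne) (hT p hp).2.ge
      have h2 : Module.supportDim R (R ⧸ q.asIdeal) ≤ Module.supportDim R M :=
        supportDim_mono fun r hr => Module.mem_support_mono (mem_support_quot.1 hr) hq
      have := (h1.trans h2).trans hdimM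
      exact absurd (by exact_mod_cast this : n + 1 + 1 ≤ n + 1) (by omega)
    have hP : ∀ p ∈ T, ∃ P : PrimeSpectrum R, p ≤ P ∧ P ∈ Module.support R M' ∧
        Module.supportDim R (R ⧸ P.asIdeal) = n := fun p hp => by
      have hsup : Module.support R (QuotSMulTop a (R ⧸ p.asIdeal)) ⊆ Module.support R M' := fun q hq => by
        rw [Module.support_quotSMulTop] at hq
        exact (hsupp' q).2 ⟨Module.mem_support_mono (mem_support_quot.1 hq.1) (hT p hp).1, hq.2 rfl⟩
      have h1 := Module.supportDim_le_supportDim_quotSMulTop_succ (M := R ⧸ p.asIdeal) ha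
      have h2 := (supportDim_mono hsup).trans hdimM'
      rw [(hT p hp).2] at h1
      obtain ⟨P, hP, hdim⟩ := exists_prime_supportDim (R := R) (QuotSMulTop a (R ⧸ p.asIdeal)) (n := n) (by
        revert h1 h2
        generalize Module.supportDim R (QuotSMulTop a (R ⧸ p.asIdeal)) = x
        intro h1 h2
        cases x with
        | bot => simp at h1
        | coe x =>
          cases x with
          | top => exact absurd (WithBot.coe_le_coe.1 h2) (ENat.natCast_ne_top n ∘ top_le_iff.1)
          | coe x =>
            norm_cast at h1 h2 ⊢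
            have h1' : n + 1 ≤ x + 1 := by exact_mod_cast h1
            have h2' : x ≤ n := by exact_mod_cast h2
            exact_mod_cast (show x = n by omega))
      have hP' := hsup hP
      rw [Module.support_quotSMulTop] at hP
      exact ⟨P, mem_support_quot.1 hP.1, hP', hdim⟩
    choose Pf hPf using hP
    let T' : Finset (PrimeSpectrum R) := T.attach.image fun p => Pf p.1 p.2
    calc ∑ p ∈ T, lq p.asIdeal M
        ≤ ∑ P ∈ T', ∑ p ∈ T.filter (· ≤ P), lq p.asIdeal M := by
          rw [Finset.sum_comm' (t' := T) (s' := fun p => T'.filter (p ≤ ·)) (by simp; tauto)]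
          refine Finset.sum_le_sum fun p hp => ?_
          refine le_trans ?_ (Finset.single_le_sum (fun _ _ => zero_le)
            (Finset.mem_filter.2 ⟨Finset.mem_image.2 ⟨⟨p, hp⟩, Finset.mem_attach _ _, rfl⟩, (hPf p hp).1⟩))
          exact le_rfl
      _ ≤ ∑ P ∈ T', lq P.asIdeal M' := Finset.sum_le_sum fun P hP => by
          obtain ⟨⟨p, hp⟩, -, rfl⟩ := Finset.mem_image.1 hP
          rw [lq_congr _ e]
          exact step _ ((hsupp' _).1 (hPf p hp).2.1).2 _ (fun q hq => (Finset.mem_filter.1 hq).2)
            (fun q hq => hTa q (Finset.mem_of_mem_filter q hq)) M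
            (fun q hq => hTmin q (Finset.mem_of_mem_filter q hq))
      _ ≤ Module.length R (M' ⧸ Ideal.span (Set.range y) • (⊤ : Submodule R M')) :=
          ih M' y hy hfin' T' fun P hP => by
            obtain ⟨⟨p, hp⟩, -, rfl⟩ := Finset.mem_image.1 hP
            exact (hPf p hp).2
      _ = _ := hlen.symm

end Groth.TopPrimeCount
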