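import Mathlib
import Groth.Agent.LocCohBase.CM
import Groth.Agent.Ega4Algebra2.CMEquiv

/-!
# Localizations of Cohen–Macaulay local rings
-/

universe u

namespace Groth.PropsBasic

theorem isCohenMacaulayLocalRing_localization {R : Type u} [CommRing R]
    (h : LocCoh.IsCohenMacaulayLocalRing R) (p : Ideal R) [p.IsPrime] :
    LocCoh.IsCohenMacaulayLocalRing (Localization.AtPrime p) := by
  have := h.toIsNoetherian
  have := h.toIsLocalRing
  obtain ⟨d, hd⟩ := Groth.LocCohBase.exists_depth_eq (R := R) R
  have hM : LocCoh.IsCohenMacaulayModule R R := h.supportDim_eq_depth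
  have hnt : Nontrivial (LocalizedModule p.primeCompl R) :=
    inferInstanceAs (Nontrivial (Localization.AtPrime p))
  have h' := Groth.LocCohBase.isCM_localized d R hM hd p hnt
  exact { supportDim_eq_depth := h' }

end Groth.PropsBasic
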