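import Mathlib

/-!
# Generizations in schemes
-/

set_option autoImplicit false
set_option linter.style.haveILetI false
universe u
open CategoryTheory AlgebraicGeometry TopologicalSpace

namespace Groth.PropsBasic

variable {X : Scheme.{u}}

theorem fromSpecStalk_specializes_iff (x : X) (a b : Spec (X.presheaf.stalk x)) :
    X.fromSpecStalk x a ⤳ X.fromSpecStalk x b ↔ a.asIdeal ≤ b.asIdeal := by
  refine (X.fromSpecStalk x).isEmbedding.isInducing.specializes_iff.trans ?_
  exact (PrimeSpectrum.le_iff_specializes a b).symm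

theorem exists_fromSpecStalk_eq {x y : X} (h : y ⤳ x) : ∃ a, X.fromSpecStalk x a = y := by
  have : y ∈ Set.range (X.fromSpecStalk x) := by rw [Scheme.range_fromSpecStalk]; exact h
  exact this

theorem fromSpecStalk_specializes (x : X) (a : Spec (X.presheaf.stalk x)) :
    X.fromSpecStalk x a ⤳ x := by
  have : X.fromSpecStalk x a ∈ Set.range (X.fromSpecStalk x) := ⟨a, rfl⟩
  rwa [Scheme.range_fromSpecStalk] at this

/-- In a locally Noetherian scheme every set has minimal generizations. -/
theorem exists_minimal_generization [IsLocallyNoetherian X] (T : Set X) {t : X} (ht : t ∈ T) :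
    ∃ t₀ ∈ T, (∀ t' ∈ T, t' ⤳ t₀ → t' = t₀) ∧ t₀ ⤳ t := by
  let A := X.presheaf.stalk t
  let T' : Set (Spec A) := X.fromSpecStalk t ⁻¹' T
  obtain ⟨a₀, ha₀⟩ := exists_fromSpecStalk_eq (x := t) (specializes_refl t)
  have hT' : T'.Nonempty := ⟨a₀, by simpa [T', ha₀] using ht⟩
  let f : Spec A → ℕ∞ := fun a => a.asIdeal.height
  let a := Function.argminOn f T' hT'
  refine ⟨X.fromSpecStalk t a, Function.argminOn_mem f T' hT', fun t' ht' h => ?_,
    fromSpecStalk_specializes t a⟩
  obtain ⟨b, rfl⟩ := exists_fromSpecStalk_eq (h.trans (fromSpecStalk_specializes t a))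
  rw [fromSpecStalk_specializes_iff] at h
  congr 1
  by_contra hne
  have hlt : b.asIdeal < a.asIdeal := lt_of_le_of_ne h fun e => hne (PrimeSpectrum.ext e)
  haveI := a.isPrime
  haveI := b.isPrime
  exact Function.not_lt_argminOn f T' ht'
    (Ideal.height_strict_mono_of_isPrime_of_isPrime hlt)

/-- If the local ring is a domain, there is a greatest generization. -/
theorem exists_greatest_generization {x : X} (h : IsDomain (X.presheaf.stalk x)) :
    ∃ η : X, η ⤳ x ∧ ∀ y : X, y ⤳ x → η ⤳ y := by
  let z : Spec (X.presheaf.stalk x) := ⟨⊥, Ideal.isPrime_bot⟩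
  refine ⟨X.fromSpecStalk x z, fromSpecStalk_specializes x z, fun y hy => ?_⟩
  obtain ⟨b, rfl⟩ := exists_fromSpecStalk_eq hy
  exact (fromSpecStalk_specializes_iff x z b).mpr bot_le

/-- If the local ring at `x` is a domain, `x` lies on exactly one irreducible component. -/
theorem existsUnique_irreducibleComponent {x : X} (h : IsDomain (X.presheaf.stalk x)) :
    ∃! Z, Z ∈ irreducibleComponents (X : Type u) ∧ x ∈ Z := by
  obtain ⟨η, hη, hmax⟩ := exists_greatest_generization h
  refine ⟨irreducibleComponent x, ⟨irreducibleComponent_mem_irreducibleComponents x,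
    mem_irreducibleComponent⟩, fun Z ⟨hZ, hxZ⟩ => ?_⟩
  have key : ∀ W ∈ irreducibleComponents (X : Type u), x ∈ W → W = closure {η} := by
    intro W hW hxW
    have hcl : IsClosed W := isClosed_of_mem_irreducibleComponents W hW
    obtain ⟨w, hw⟩ := QuasiSober.sober hW.1 hcl
    have hle : W ⊆ closure {η} := by
      rw [← hw.def]
      refine closure_minimal ?_ isClosed_closure
      rw [Set.singleton_subset_iff, ← specializes_iff_mem_closure]
      exact hmax w (hw.specializes hxW)
    exact le_antisymm hle (hW.2 isIrreducible_singleton.closure hle)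
  rw [key Z hZ hxZ, key _ (irreducibleComponent_mem_irreducibleComponents x)
    mem_irreducibleComponent]

end Groth.PropsBasic
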