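import Mathlib

/-!
# Finite modules of constant fibre rank over reduced rings are flat

The proof is that of `Groth.Calg6.projective_of_finrank_eq`, which assumes finite presentation.
-/

set_option autoImplicit false
universe u
open TensorProduct

namespace Groth.PropsBasic.FlatRank

variable {B : Type u} [CommRing B]

/-- Over a reduced ring a finite module of constant fibre rank is flat. -/
theorem flat_of_finrank_eq [IsReduced B] {C : Type u} [AddCommGroup C] [Module B C]
    [Module.Finite B C]
    (h : ∀ (m : Ideal B) [m.IsMaximal] (q : Ideal B) [q.IsPrime], q ≤ m →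
      Module.finrank q.ResidueField (q.ResidueField ⊗[B] C) = Module.finrank m.ResidueField (m.ResidueField ⊗[B] C)) :
    Module.Flat B C := by
  classical
  refine Module.flat_of_localized_maximal C fun m hm => ?_
  let Bm := Localization.AtPrime m
  let Cm := LocalizedModule m.primeCompl C
  set d := Module.finrank m.ResidueField (m.ResidueField ⊗[B] C)
  have hsurj : Function.Surjective (TensorProduct.mk B m.ResidueField C 1) :=
    TensorProduct.mk_surjective B C m.ResidueField (Ideal.algebraMap_residueField_surjective m)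
  let bas := Module.finBasis m.ResidueField (m.ResidueField ⊗[B] C)
  choose g hg using fun i => hsurj (bas i)
  let L : (Fin d → B) →ₗ[B] C := Fintype.linearCombination B g
  have hN : LinearMap.range L ⊔ m • (⊤ : Submodule B C) = ⊤ := by
    rw [eq_top_iff]
    intro z _
    have hz := bas.sum_repr ((1 : m.ResidueField) ⊗ₜ[B] z)
    choose e he using fun i => Ideal.algebraMap_residueField_surjective m (bas.repr ((1 : m.ResidueField) ⊗ₜ[B] z) i)
    have h0 : (1 : m.ResidueField) ⊗ₜ[B] (z - L e) = 0 := by
      rw [TensorProduct.tmul_sub, sub_eq_zero]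
      conv_lhs => rw [← hz]
      simp only [L, Fintype.linearCombination_apply, TensorProduct.tmul_sum]
      refine Finset.sum_congr rfl fun i _ => ?_
      rw [TensorProduct.tmul_smul, show (1 : m.ResidueField) ⊗ₜ[B] g i = bas i from hg i, ← algebraMap_smul m.ResidueField (e i), he]
    have hmem : z - L e ∈ m • (⊤ : Submodule B C) := by
      let E : (B ⧸ m) ≃ₗ[B] m.ResidueField :=
        LinearEquiv.ofBijective (IsScalarTower.toAlgHom B (B ⧸ m) m.ResidueField).toLinearMap
          (Ideal.bijective_algebraMap_quotient_residueField m)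
      have h1 : (E.rTensor C) (Ideal.Quotient.mk m 1 ⊗ₜ[B] (z - L e)) = 0 := by
        rw [LinearEquiv.rTensor_tmul, show E (Ideal.Quotient.mk m 1) = 1 from map_one (algebraMap (B ⧸ m) m.ResidueField)]
        exact h0
      have h2 := congrArg (TensorProduct.quotTensorEquivQuotSMul C m) ((LinearEquiv.map_eq_zero_iff _).1 h1)
      rw [map_zero, TensorProduct.quotTensorEquivQuotSMul_mk_tmul, one_smul] at h2
      exact (Submodule.Quotient.mk_eq_zero _).1 h2
    exact Submodule.mem_sup.2 ⟨L e, ⟨e, rfl⟩, _, hmem, by abel⟩
  obtain ⟨r₀, hr₀, hr₀'⟩ : ∃ r : B, r ∉ m ∧ ∀ z : C, r • z ∈ LinearMap.range L := by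
    have hfg : Module.Finite B (C ⧸ LinearMap.range L) := inferInstance
    have hle : (⊤ : Submodule B (C ⧸ LinearMap.range L)) ≤ m • (⊤ : Submodule B (C ⧸ LinearMap.range L)) := by
      have := congrArg (Submodule.map (LinearMap.range L).mkQ) hN
      rw [Submodule.map_sup, Submodule.map_smul'', Submodule.map_top, Submodule.range_mkQ,
        show (LinearMap.range L).map (LinearMap.range L).mkQ = ⊥ by
          rw [eq_bot_iff, Submodule.map_le_iff_le_comap, Submodule.comap_bot, Submodule.ker_mkQ], bot_sup_eq] at this
      exact this.ge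
    obtain ⟨r, hr1, hr⟩ := Submodule.exists_sub_one_mem_and_smul_eq_zero_of_fg_of_le_smul m ⊤ hfg.fg_top hle
    refine ⟨r, fun hrm => hm.ne_top ((Ideal.eq_top_iff_one _).2 ?_), fun z => ?_⟩
    · simpa using m.sub_mem hrm hr1
    · rw [← Submodule.Quotient.mk_eq_zero, Submodule.Quotient.mk_smul]
      exact hr _ trivial
  let μ := LocalizedModule.mkLinearMap m.primeCompl C
  let Lm : (Fin d → Bm) →ₗ[Bm] Cm := Fintype.linearCombination Bm fun i => μ (g i)
  have hLm : ∀ v : Fin d → B, Lm (fun i => algebraMap B Bm (v i)) = μ (L v) := by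
    intro v
    simp only [Lm, L, Fintype.linearCombination_apply, map_sum, map_smul, algebraMap_smul]
  have hunit : ∀ s : m.primeCompl, IsUnit (algebraMap B Bm s) := fun s => IsLocalization.map_units Bm s
  have hsur : Function.Surjective Lm := by
    intro c
    obtain ⟨⟨z, s⟩, hz⟩ := IsLocalizedModule.surj m.primeCompl μ c
    obtain ⟨v, hv⟩ := hr₀' z
    obtain ⟨u, hu⟩ := (hunit s).mul (hunit ⟨r₀, hr₀⟩)
    refine ⟨(↑(u⁻¹) : Bm) • (fun i => algebraMap B Bm (v i)), ?_⟩
    rw [map_smul, hLm, hv, map_smul, ← hz, Submonoid.smul_def, ← algebraMap_smul Bm r₀, ← algebraMap_smul Bm (s : B), smul_smul, smul_smul]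
    rw [mul_assoc, show (↑(u⁻¹) : Bm) * (algebraMap B Bm r₀ * algebraMap B Bm s) = 1 by
      rw [mul_comm (algebraMap B Bm r₀), ← hu, Units.inv_mul], one_smul]
  have hinj : Function.Injective Lm := by
    rw [injective_iff_map_eq_zero]
    intro w hw
    obtain ⟨b, hb⟩ := IsLocalization.exist_integer_multiples_of_finset m.primeCompl (Finset.univ.image w)
    have hv' : ∀ i, ∃ v, algebraMap B Bm v = algebraMap B Bm (b : B) * w i := fun i => by
      obtain ⟨v, hv⟩ := hb (w i) (Finset.mem_image_of_mem _ (Finset.mem_univ i))
      exact ⟨v, by rw [hv, Algebra.smul_def]⟩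
    choose v hv using hv'
    have h0 : μ (L v) = 0 := by
      rw [← hLm, show (fun i => algebraMap B Bm (v i)) = algebraMap B Bm (b : B) • w from funext hv, map_smul, hw, smul_zero]
    obtain ⟨c, hc⟩ := (IsLocalizedModule.eq_zero_iff m.primeCompl μ).1 h0
    have hLc : L ((c : B) • v) = 0 := by rw [map_smul]; exact hc
    have hq : ∀ (q : Ideal B) [q.IsPrime], q ≤ m → ∀ i, (c : B) * v i ∈ q := by
      intro q _ hqm i
      let Lq : (Fin d → q.ResidueField) →ₗ[q.ResidueField] q.ResidueField ⊗[B] C :=
        Fintype.linearCombination q.ResidueField fun j => (1 : q.ResidueField) ⊗ₜ[B] g j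
      have hrq : algebraMap B q.ResidueField r₀ ≠ 0 := fun h0 => hr₀ (hqm (Ideal.algebraMap_residueField_eq_zero.1 h0))
      have hLq : ∀ v : Fin d → B, Lq (fun j => algebraMap B _ (v j)) = (1 : q.ResidueField) ⊗ₜ[B] L v := by
        intro v
        simp only [Lq, L, Fintype.linearCombination_apply, TensorProduct.tmul_sum, algebraMap_smul, TensorProduct.tmul_smul]
      have hs : Function.Surjective Lq := by
        rw [← LinearMap.range_eq_top, eq_top_iff]
        rintro t -
        induction t using TensorProduct.induction_on with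
        | zero => exact zero_mem _
        | tmul a z =>
          obtain ⟨w, hw⟩ := hr₀' z
          refine ⟨(a * (algebraMap B _ r₀)⁻¹) • (fun j => algebraMap B _ (w j)), ?_⟩
          rw [map_smul, hLq, hw, TensorProduct.tmul_smul, ← algebraMap_smul q.ResidueField r₀, smul_smul,
            mul_assoc, inv_mul_cancel₀ hrq, mul_one, TensorProduct.smul_tmul', smul_eq_mul, mul_one]
        | add x y hx hy => exact add_mem hx hy
      have hi : Function.Injective Lq := (LinearMap.injective_iff_surjective_of_finrank_eq_finrank
        (by rw [h m q hqm, Module.finrank_fin_fun])).2 hs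
      have := hLq ((c : B) • v)
      rw [hLc, TensorProduct.tmul_zero, ← map_zero Lq] at this
      exact Ideal.algebraMap_residueField_eq_zero.1 (congrFun (hi this) i)
    funext i
    have h1 : IsNilpotent (algebraMap B Bm ((c : B) * v i)) := by
      rw [← mem_nilradical, nilradical_eq_sInf]
      refine Ideal.mem_sInf.2 fun {P} hP => ?_
      haveI : P.IsPrime := hP
      have hle : P.comap (algebraMap B Bm) ≤ m := by
        conv_rhs => rw [← IsLocalization.AtPrime.comap_maximalIdeal Bm m]
        exact Ideal.comap_mono (IsLocalRing.le_maximalIdeal hP.ne_top)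
      exact hq _ hle i
    have h2 := h1.eq_zero
    rw [map_mul, hv, (hunit c).mul_right_eq_zero, (hunit b).mul_right_eq_zero] at h2
    simpa using h2
  have : Module.Flat B Bm := IsLocalization.flat Bm m.primeCompl
  have : Module.Flat Bm Cm := Module.Flat.of_linearEquiv (LinearEquiv.ofBijective Lm ⟨hinj, hsur⟩).symm
  exact Module.Flat.trans B Bm Cm

end Groth.PropsBasic.FlatRank
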