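import Groth.Agent.PropsBasic.LocFree
import Groth.Agent.PropsBasic.FlatRank

/-!
# Finite locally free modules and the fibre rank
-/

universe u

open CategoryTheory Limits AlgebraicGeometry Opposite TopologicalSpace TensorProduct

namespace Groth.PropsBasic.LocFree

open Groth.QCohMod Groth.PropsBasic.FPSections

variable {X : Scheme.{u}}

/-- The fibre rank of a module at a point. -/
noncomputable def fibreRank (M : X.Modules) (x : X) : ℕ :=
  Module.finrank (IsLocalRing.ResidueField (X.presheaf.stalk x))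
    (TensorProduct (X.presheaf.stalk x) (IsLocalRing.ResidueField (X.presheaf.stalk x))
      (M.presheaf.stalk x))

/-- The fibre rank of a quasi-coherent module, computed on an affine open. -/
theorem fibreRank_eq (M : X.Modules) [M.IsQuasicoherent] {U : X.Opens} (hU : IsAffineOpen U)
    (x : X) (hx : x ∈ U) :
    fibreRank M x = Module.finrank (hU.primeIdealOf ⟨x, hx⟩).asIdeal.ResidueField
      ((hU.primeIdealOf ⟨x, hx⟩).asIdeal.ResidueField ⊗[Γ(X, U)] Γ(M, U)) := by
  let _ := stalkModule M x hx
  let _ : Algebra Γ(X, U) (X.presheaf.stalk x) :=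
    TopCat.Presheaf.algebra_section_stalk X.presheaf ⟨x, hx⟩
  set q := (hU.primeIdealOf ⟨x, hx⟩).asIdeal
  haveI : IsLocalization.AtPrime (X.presheaf.stalk x) q := hU.isLocalization_stalk ⟨x, hx⟩
  haveI : IsScalarTower Γ(X, U) (X.presheaf.stalk x) (M.presheaf.stalk x) := ⟨fun r a m => by
    change (X.presheaf.germ U x hx r * a) • m = _
    rw [mul_smul]; rfl⟩
  haveI := isLocalizedModule_germ M hU x hx
  have hbc : IsBaseChange (X.presheaf.stalk x) (germₗ M x hx) :=
    IsLocalizedModule.isBaseChange q.primeCompl _ _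
  let K := IsLocalRing.ResidueField (X.presheaf.stalk x)
  have hq : q ≤ RingHom.ker (algebraMap Γ(X, U) K) := fun a ha => by
    rw [RingHom.mem_ker, IsScalarTower.algebraMap_apply Γ(X, U) (X.presheaf.stalk x) K,
      IsLocalRing.ResidueField.algebraMap_eq, IsLocalRing.residue_eq_zero_iff,
      ← IsLocalization.AtPrime.map_eq_maximalIdeal q (X.presheaf.stalk x)]
    exact Ideal.mem_map_of_mem _ ha
  have hu : q.primeCompl ≤ (IsUnit.submonoid K).comap (algebraMap Γ(X, U) K) := fun a ha => by
    rw [Submonoid.mem_comap, IsScalarTower.algebraMap_apply Γ(X, U) (X.presheaf.stalk x) K]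
    exact (IsLocalization.map_units (X.presheaf.stalk x) ⟨a, ha⟩).map _
  let _ : Algebra q.ResidueField K := (Ideal.ResidueField.lift q (algebraMap Γ(X, U) K) hq hu).toAlgebra
  haveI : IsScalarTower Γ(X, U) q.ResidueField K := IsScalarTower.of_algebraMap_eq fun a =>
    (Ideal.ResidueField.lift_algebraMap q (algebraMap Γ(X, U) K) hq hu a).symm
  let e : K ⊗[X.presheaf.stalk x] (M.presheaf.stalk x) ≃ₗ[K]
      K ⊗[q.ResidueField] (q.ResidueField ⊗[Γ(X, U)] Γ(M, U)) :=
    (LinearEquiv.baseChange (X.presheaf.stalk x) K _ _ hbc.equiv.symm).trans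
      ((TensorProduct.AlgebraTensorModule.cancelBaseChange Γ(X, U) (X.presheaf.stalk x) K K
        Γ(M, U)).trans
      (TensorProduct.AlgebraTensorModule.cancelBaseChange Γ(X, U) q.ResidueField K K
        Γ(M, U)).symm)
  exact e.finrank_eq.trans Module.finrank_baseChange

/-- A finite locally free module has locally constant fibre rank. -/
theorem isLocallyConstant_fibreRank (M : X.Modules) (hM : FlatMod.IsFinLocFree M) :
    IsLocallyConstant (fibreRank M) := by
  haveI := isQuasicoherent_of_isFinLocFree M hM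
  refine (IsLocallyConstant.iff_exists_open _).mpr fun x => ?_
  obtain ⟨U, n, hxU, ⟨e⟩⟩ := hM x
  obtain ⟨D, hD, hxD, hDU⟩ := TopologicalSpace.Opens.isBasis_iff_nbhd.mp X.isBasis_affineOpens hxU
  refine ⟨D, D.isOpen, hxD, fun y hy => ?_⟩
  haveI := free_sections M e hD hDU
  haveI : Nontrivial Γ(X, D) := (X.presheaf.germ D x hxD).hom.domain_nontrivial
  rw [fibreRank_eq M hD y hy, fibreRank_eq M hD x hxD, Module.finrank_baseChange,
    Module.finrank_baseChange]

/-- A quasi-coherent module of finite type with flat sections and constant fibre rank on an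
affine open is free near its points. -/
theorem exists_free_nhd_of_flat (M : X.Modules) [M.IsQuasicoherent] (hM : CohB1.IsFT M)
    {U : X.Opens} (hU : IsAffineOpen U) [Module.Flat Γ(X, U) Γ(M, U)] (x : X) (hx : x ∈ U)
    (hr : ∀ y ∈ U, fibreRank M y = fibreRank M x) :
    ∃ (D : X.Opens) (n : ℕ), x ∈ D ∧ Nonempty (M.restrict D.ι ≅ FlatMod.freeMod (↑D) n) := by
  haveI := finite_sections M hM hU
  let p := hU.primeIdealOf ⟨x, hx⟩
  obtain ⟨r, hr', hfree⟩ := Module.Free.away_of_finite_of_flat_of_rankAtStalk_constant Γ(M, U)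
    p.asIdeal fun m hm => by
      haveI := hU.isOpenImmersion_fromSpec
      let mp : PrimeSpectrum Γ(X, U) := ⟨m, hm.isPrime⟩
      have hy : hU.fromSpec mp ∈ U := by
        have : hU.fromSpec mp ∈ Set.range hU.fromSpec := ⟨mp, rfl⟩
        rwa [hU.range_fromSpec] at this
      have hp : hU.primeIdealOf ⟨hU.fromSpec mp, hy⟩ = mp :=
        hU.fromSpec.isOpenEmbedding.injective (hU.fromSpec_primeIdealOf _)
      change Module.rankAtStalk Γ(M, U) mp = Module.rankAtStalk Γ(M, U) p
      have := hr _ hy
      rw [fibreRank_eq M hU _ hy, fibreRank_eq M hU _ hx, hp] at this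
      rw [Module.rankAtStalk_eq, Module.rankAtStalk_eq]
      exact this
  exact exists_free_nhd_of_away M hU r x
    ((mem_basicOpen_iff_notMem_primeIdealOf hU r x hx).mpr hr') hfree

/-- Sections are flat if all stalks are free. -/
theorem flat_sections_of_free_stalk (M : X.Modules) [M.IsQuasicoherent] {U : X.Opens}
    (hU : IsAffineOpen U)
    (h : ∀ y ∈ U, Module.Free (X.presheaf.stalk y) (M.presheaf.stalk y)) :
    Module.Flat Γ(X, U) Γ(M, U) := by
  refine Module.flat_of_localized_maximal _ fun m hm => ?_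
  haveI := hU.isOpenImmersion_fromSpec
  let mp : PrimeSpectrum Γ(X, U) := ⟨m, hm.isPrime⟩
  have hy : hU.fromSpec mp ∈ U := by
    have : hU.fromSpec mp ∈ Set.range hU.fromSpec := ⟨mp, rfl⟩
    rwa [hU.range_fromSpec] at this
  have hp : hU.primeIdealOf ⟨hU.fromSpec mp, hy⟩ = mp :=
    hU.fromSpec.isOpenEmbedding.injective (hU.fromSpec_primeIdealOf _)
  have hf : Module.Free (Localization.AtPrime m) (LocalizedModule m.primeCompl Γ(M, U)) := by
    have := (free_stalk_iff M hU _ hy).mp (h _ hy)
    rwa [hp] at this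
  haveI : Module.Flat Γ(X, U) (Localization.AtPrime m) := IsLocalization.flat _ m.primeCompl
  exact Module.Flat.trans Γ(X, U) (Localization.AtPrime m) _

/-- Sections are flat if the base is reduced and the fibre rank is constant. -/
theorem flat_sections_of_isReduced [IsReduced X] (M : X.Modules) [M.IsQuasicoherent]
    (hM : CohB1.IsFT M) {U : X.Opens} (hU : IsAffineOpen U) (c : ℕ)
    (h : ∀ y ∈ U, fibreRank M y = c) : Module.Flat Γ(X, U) Γ(M, U) := by
  haveI := finite_sections M hM hU
  haveI := hU.isOpenImmersion_fromSpec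
  have key : ∀ q : PrimeSpectrum Γ(X, U),
      Module.finrank q.asIdeal.ResidueField (q.asIdeal.ResidueField ⊗[Γ(X, U)] Γ(M, U)) = c :=
    fun q => by
      have hy : hU.fromSpec q ∈ U := by
        have : hU.fromSpec q ∈ Set.range hU.fromSpec := ⟨q, rfl⟩
        rwa [hU.range_fromSpec] at this
      have hp : hU.primeIdealOf ⟨hU.fromSpec q, hy⟩ = q :=
        hU.fromSpec.isOpenEmbedding.injective (hU.fromSpec_primeIdealOf _)
      have := h _ hy
      rwa [fibreRank_eq M hU _ hy, hp] at this
  exact FlatRank.flat_of_finrank_eq fun m hm q hq _ =>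
    (key ⟨q, hq⟩).trans (key ⟨m, hm.isPrime⟩).symm

end Groth.PropsBasic.LocFree
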