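import Groth.Agent.DescentBase.ClosureRange
import Mathlib

/-!
# The valuative criterion can be checked through a dense quasi-compact morphism
-/

universe u

open CategoryTheory CategoryTheory.Limits AlgebraicGeometry TopologicalSpace IsLocalRing

set_option backward.isDefEq.respectTransparency.types false

namespace Groth.PropsBasic.ValuativeDense

variable {T : Scheme.{u}}

/-- A morphism out of the spectrum of a local ring factors through any affine open containing the
image of the closed point. -/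
lemma exists_affine_factor {A : CommRingCat.{u}} [IsLocalRing A] (m : Spec A ⟶ T) {W : T.Opens}
    (hW : IsAffineOpen W) (h : m (closedPoint A) ∈ W) :
    ∃ a : Γ(T, W) ⟶ A, Spec.map a ≫ hW.fromSpec = m := by
  refine ⟨T.presheaf.germ W _ h ≫ Scheme.stalkClosedPointTo m, ?_⟩
  rw [Spec.map_comp, Category.assoc]
  change Spec.map _ ≫ hW.fromSpecStalk h = m
  rw [hW.fromSpecStalk_eq_fromSpecStalk h, Scheme.Spec_stalkClosedPointTo_fromSpecStalk]

/-- Morphisms out of a local scheme with the same closed image which agree on a dominant affine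
scheme are equal. -/
lemma eq_of_comp_eq {A A' : CommRingCat.{u}} [IsLocalRing A] (φ : A ⟶ A')
    (hφ : Function.Injective φ) (m₁ m₂ : Spec A ⟶ T)
    (hc : m₁ (closedPoint A) = m₂ (closedPoint A))
    (h : Spec.map φ ≫ m₁ = Spec.map φ ≫ m₂) : m₁ = m₂ := by
  obtain ⟨W, hW, hcW, -⟩ := exists_isAffineOpen_mem_and_subset (x := m₁ (closedPoint A))
    (U := (⊤ : T.Opens)) trivial
  obtain ⟨a₁, rfl⟩ := exists_affine_factor m₁ hW hcW
  obtain ⟨a₂, rfl⟩ := exists_affine_factor m₂ hW (hc ▸ hcW)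
  rw [← Spec.map_comp_assoc, ← Spec.map_comp_assoc, cancel_mono] at h
  have h' := Spec.map_injective h
  congr 2
  ext r
  exact hφ congr($h' r)

/-- The variant for a local injective homomorphism. -/
lemma eq_of_local_comp_eq {A A' : CommRingCat.{u}} [IsLocalRing A] [IsLocalRing A'] (φ : A ⟶ A')
    [IsLocalHom φ.hom] (hφ : Function.Injective φ) (m₁ m₂ : Spec A ⟶ T)
    (h : Spec.map φ ≫ m₁ = Spec.map φ ≫ m₂) : m₁ = m₂ := by
  refine eq_of_comp_eq φ hφ m₁ m₂ ?_ h
  have := congrArg (fun m : Spec A' ⟶ T => m (closedPoint A')) h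
  simpa [Scheme.Hom.comp_apply, Spec_closedPoint] using this

section Descend

variable {κ : Type u} [Field κ] (R₀ : ValuationSubring κ) {R K : Type u} [CommRing R]
  [Field K] (incl : R →+* K) (hincl : Function.Injective incl) (ι : κ →+* K)
  (hmem : ∀ z, z ∈ R₀ ↔ ι z ∈ incl.range)

include hincl hmem

/-- The map from the trace of a valuation ring to the valuation ring. -/
lemma exists_trace_hom : ∃ j : R₀ →+* R, IsLocalHom j ∧ Function.Injective j ∧
    incl.comp j = ι.comp R₀.subtype := by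
  let e : R ≃+* incl.range := RingEquiv.ofBijective incl.rangeRestrict
    ⟨fun a b h => hincl congr(Subtype.val $h), incl.rangeRestrict_surjective⟩
  let j : R₀ →+* R :=
    e.symm.toRingHom.comp ((ι.comp R₀.subtype).codRestrict incl.range fun z => (hmem z.1).1 z.2)
  have hj : incl.comp j = ι.comp R₀.subtype := RingHom.ext fun z =>
    congr(Subtype.val $(e.apply_symm_apply ⟨ι z.1, (hmem z.1).1 z.2⟩))
  have hinj : Function.Injective j := fun a b h => Subtype.ext (ι.injective <| by
    have ha := congr($hj a)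
    have hb := congr($hj b)
    simp only [RingHom.comp_apply] at ha hb
    change ι (R₀.subtype a) = ι (R₀.subtype b)
    rw [← ha, ← hb, h])
  refine ⟨j, ⟨fun z hz => ?_⟩, hinj, hj⟩
  obtain ⟨v, hv⟩ := hz
  have hz' : incl (j z) = ι z.1 := congr($hj z)
  have h1 : ι z.1 * incl ↑v⁻¹ = 1 := by
    rw [← hz', ← hv, ← map_mul, Units.mul_inv, map_one]
  have h0 : z.1 ≠ 0 := fun h0 => by simp [h0] at h1
  have hzinv : z.1⁻¹ ∈ R₀ := (hmem _).2 ⟨↑v⁻¹, by rw [map_inv₀]; exact eq_inv_of_mul_eq_one_right h1⟩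
  exact IsUnit.of_mul_eq_one (⟨z.1⁻¹, hzinv⟩ : R₀) (Subtype.ext (mul_inv_cancel₀ h0))

/-- A morphism from the spectrum of a valuation ring comes from the trace valuation ring. -/
theorem exists_descend [IsLocalRing R] (j : R₀ →+* R) (hj : incl.comp j = ι.comp R₀.subtype)
    (pt : Spec (.of κ) ⟶ T) (l : Spec (.of R) ⟶ T)
    (hl : Spec.map (CommRingCat.ofHom incl) ≫ l = Spec.map (CommRingCat.ofHom ι) ≫ pt) :
    ∃ l₀ : Spec (.of R₀) ⟶ T, Spec.map (CommRingCat.ofHom j) ≫ l₀ = l ∧
      Spec.map (CommRingCat.ofHom R₀.subtype) ≫ l₀ = pt := by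
  obtain ⟨W, hW, hcW, -⟩ := exists_isAffineOpen_mem_and_subset
    (x := l (closedPoint R)) (U := (⊤ : T.Opens)) trivial
  have hpt : pt (closedPoint κ) ∈ W := by
    have h1 := congrArg (fun m : Spec (.of K) ⟶ T => m (closedPoint K)) hl
    simp only [Scheme.Hom.comp_apply] at h1
    have h2 : Spec.map (CommRingCat.ofHom ι) (closedPoint K) = closedPoint κ :=
      Subsingleton.elim _ _
    rw [h2] at h1
    rw [← h1]
    change _ ∈ l ⁻¹ᵁ W
    rw [(IsLocalRing.closed_point_mem_iff (U := l ⁻¹ᵁ W)).mp hcW]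
    trivial
  obtain ⟨a, rfl⟩ := exists_affine_factor l hW hcW
  obtain ⟨b, rfl⟩ := exists_affine_factor pt hW hpt
  rw [← Spec.map_comp_assoc, ← Spec.map_comp_assoc, cancel_mono] at hl
  have hl' := Spec.map_injective hl
  have hb : ∀ r, b r ∈ R₀ := fun r => (hmem _).2 ⟨a r, congr($hl' r)⟩
  let c : Γ(T, W) ⟶ CommRingCat.of R₀ := CommRingCat.ofHom (b.hom.codRestrict R₀.toSubring hb)
  refine ⟨Spec.map c ≫ hW.fromSpec, ?_, ?_⟩
  · rw [← Spec.map_comp_assoc]
    congr 2
    ext r
    apply hincl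
    exact (congr($hj (c r))).trans (congr($hl' r)).symm
  · rw [← Spec.map_comp_assoc]
    rfl

end Descend

variable {U X S : Scheme.{u}} (f : X ⟶ S) (h : U ⟶ X)

/-- The hypothesis: squares through `h` have unique lifts. -/
def UniqueLifts : Prop :=
  ∀ sq : ValuativeCommSq f, (∃ i : Spec (.of sq.K) ⟶ U, i ≫ h = sq.i₁) →
    Nonempty (Unique sq.commSq.LiftStruct)

variable {f h}

/-- Unique lifting for the valuation rings of residue fields. -/
theorem existsUnique_lift_residueField [QuasiCompact h] (hd : DenseRange h.base)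
    (H : UniqueLifts f h) (x : X) (R₀ : ValuationSubring (X.residueField x))
    (g : Spec (.of R₀) ⟶ S)
    (hg : Spec.map (CommRingCat.ofHom R₀.subtype) ≫ g = X.fromSpecResidueField x ≫ f) :
    (∃ l : Spec (.of R₀) ⟶ X,
        Spec.map (CommRingCat.ofHom R₀.subtype) ≫ l = X.fromSpecResidueField x ∧ l ≫ f = g) ∧
      ∀ l l' : Spec (.of R₀) ⟶ X,
        Spec.map (CommRingCat.ofHom R₀.subtype) ≫ l = X.fromSpecResidueField x → l ≫ f = g →
        Spec.map (CommRingCat.ofHom R₀.subtype) ≫ l' = X.fromSpecResidueField x → l' ≫ f = g →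
          l = l' := by
  obtain ⟨u, hu⟩ := Groth.DescentBase.exists_specializes_of_mem_closure_range h
    (hd x : x ∈ closure (Set.range h))
  let φ : X.presheaf.stalk x ⟶ U.residueField u :=
    X.presheaf.stalkSpecializes hu ≫ X.residue (h u) ≫ h.residueFieldMap u
  have hP : U.fromSpecResidueField u ≫ h = Spec.map φ ≫ X.fromSpecStalk x := by
    rw [← Scheme.Hom.SpecMap_residueFieldMap_fromSpecResidueField, Scheme.fromSpecResidueField,
      ← Scheme.SpecMap_stalkSpecializes_fromSpecStalk hu]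
    simp only [φ, Spec.map_comp, Category.assoc]
  obtain ⟨B, hB, hBloc⟩ := exists_factor_valuationRing φ.hom
  let φB : X.presheaf.stalk x →+* B := φ.hom.codRestrict B.toSubring hB
  have : IsLocalHom φB := hBloc
  let res : B →+* ResidueField B := IsLocalRing.residue B
  let ψ : X.residueField x →+* ResidueField B := ResidueField.map φB
  have hψ : ψ.comp (X.residue x).hom = res.comp φB := ResidueField.map_comp_residue φB
  -- a valuation ring of the residue field of `B` inducing `R₀`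
  obtain ⟨R₁, hR₁, hR₁loc⟩ := exists_factor_valuationRing (ψ.comp R₀.subtype)
  have hmem : ∀ z, z ∈ R₀ ↔ ψ z ∈ R₁.subtype.range := by
    intro z
    refine ⟨fun hz => ⟨⟨ψ z, hR₁ ⟨z, hz⟩⟩, rfl⟩, ?_⟩
    rintro ⟨⟨w, hw⟩, rfl : w = ψ z⟩
    by_contra hz
    have hz0 : z ≠ 0 := fun h0 => hz (h0 ▸ R₀.zero_mem)
    have hi : z⁻¹ ∈ R₀ := (R₀.mem_or_inv_mem z).resolve_left hz
    have hu1 : IsUnit (⟨z⁻¹, hi⟩ : R₀) := by
      refine hR₁loc.map_nonunit _ (IsUnit.of_mul_eq_one (⟨ψ z, hw⟩ : R₁) (Subtype.ext ?_))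
      change ψ z⁻¹ * ψ z = 1
      rw [← map_mul, inv_mul_cancel₀ hz0, map_one]
    obtain ⟨v, hv⟩ := hu1.exists_right_inv
    have hv' : z⁻¹ * v.1 = 1 := congr(Subtype.val $hv)
    rw [inv_mul_eq_one₀ hz0] at hv'
    exact hz (hv' ▸ v.2)
  have hR₁inj : Function.Injective R₁.subtype := Subtype.val_injective
  obtain ⟨j₁, hj₁loc, hj₁inj, hj₁⟩ := exists_trace_hom R₀ R₁.subtype hR₁inj ψ hmem
  -- the composite valuation ring
  let Csub : Subring (U.residueField u) := (R₁.toSubring.comap res).map B.subtype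
  let C : ValuationSubring (U.residueField u) := ValuationSubring.ofSubring Csub fun z => by
    by_cases hzB : z ∈ B
    · by_cases hzR : res ⟨z, hzB⟩ ∈ R₁
      · exact Or.inl ⟨⟨z, hzB⟩, hzR, rfl⟩
      · right
        have hne : res ⟨z, hzB⟩ ≠ 0 := fun h0 => hzR (h0 ▸ R₁.zero_mem)
        have hu1 : IsUnit (⟨z, hzB⟩ : B) := (residue_ne_zero_iff_isUnit _).1 hne
        obtain ⟨v, hv⟩ := hu1.exists_right_inv
        have hv' : z * v.1 = 1 := congr(Subtype.val $hv)
        refine ⟨v, ?_, eq_inv_of_mul_eq_one_right hv'⟩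
        have h1 : res ⟨z, hzB⟩ * res v = 1 := by rw [← map_mul, hv, map_one]
        change res v ∈ R₁
        rw [eq_inv_of_mul_eq_one_right h1]
        exact (R₁.mem_or_inv_mem _).resolve_left hzR
    · right
      have hi : z⁻¹ ∈ B := (B.mem_or_inv_mem z).resolve_left hzB
      refine ⟨⟨z⁻¹, hi⟩, ?_, rfl⟩
      have h0 : res ⟨z⁻¹, hi⟩ = 0 := by
        by_contra hne
        obtain ⟨v, hv⟩ := ((residue_ne_zero_iff_isUnit _).1 hne).exists_right_inv
        have hv' : z⁻¹ * v.1 = 1 := congr(Subtype.val $hv)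
        have hz0 : z ≠ 0 := fun h0 => hzB (h0 ▸ B.zero_mem)
        rw [inv_mul_eq_one₀ hz0] at hv'
        exact hzB (hv' ▸ v.2)
      change res ⟨z⁻¹, hi⟩ ∈ R₁
      rw [h0]
      exact R₁.zero_mem
  have hCB : ∀ z, z ∈ C → ∃ hz : z ∈ B, res ⟨z, hz⟩ ∈ R₁ := by
    rintro z ⟨w, hw, rfl⟩
    exact ⟨w.2, hw⟩
  let cincl : C →+* B := C.subtype.codRestrict B.toSubring fun z => (hCB z.1 z.2).1
  let cres : C →+* R₁ := (res.comp cincl).codRestrict R₁.toSubring fun z => (hCB z.1 z.2).2
  have hcsurj : Function.Surjective cres := by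
    intro r
    obtain ⟨b, hb⟩ := residue_surjective (R := B) r.1
    exact ⟨⟨b.1, b, show res b ∈ R₁ from hb ▸ r.2, rfl⟩, Subtype.ext hb⟩
  have hcloc : IsLocalHom cres := .of_surjective _ hcsurj
  -- the maps
  let mB : Spec (.of B) ⟶ X := Spec.map (CommRingCat.ofHom φB) ≫ X.fromSpecStalk x
  have hmB : Spec.map (CommRingCat.ofHom B.subtype) ≫ mB = U.fromSpecResidueField u ≫ h := by
    rw [hP, ← Spec.map_comp_assoc]
    rfl
  have hmBres : Spec.map (CommRingCat.ofHom res) ≫ mB =
      Spec.map (CommRingCat.ofHom ψ) ≫ X.fromSpecResidueField x := by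
    rw [Scheme.fromSpecResidueField, ← Spec.map_comp_assoc, ← Spec.map_comp_assoc]
    congr 2
  have huniqB : ∀ m : Spec (.of B) ⟶ X,
      Spec.map (CommRingCat.ofHom B.subtype) ≫ m = U.fromSpecResidueField u ≫ h →
      m ≫ f = mB ≫ f → m = mB := by
    intro m hm hmf
    let sq : ValuativeCommSq f :=
      { R := B, K := U.residueField u, i₁ := U.fromSpecResidueField u ≫ h, i₂ := mB ≫ f,
        commSq := ⟨by rw [← hmB, Category.assoc]; rfl⟩ }
    obtain ⟨hq⟩ := H sq ⟨_, rfl⟩
    let L₁ : sq.commSq.LiftStruct := ⟨m, hm, hmf⟩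
    let L₂ : sq.commSq.LiftStruct := ⟨mB, hmB, rfl⟩
    exact congrArg CommSq.LiftStruct.l (Subsingleton.elim L₁ L₂ : L₁ = L₂)
  -- the map from `Spec C` to `S`
  obtain ⟨W, hW, hgW, -⟩ := exists_isAffineOpen_mem_and_subset
    (x := g (closedPoint R₀)) (U := (⊤ : S.Opens)) trivial
  obtain ⟨a, ha⟩ := exists_affine_factor g hW hgW
  have hxW : f x ∈ W := by
    have h1 := congrArg (fun m : Spec (.of (X.residueField x)) ⟶ S =>
      m (closedPoint (X.residueField x))) hg
    simp only [Scheme.Hom.comp_apply] at h1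
    erw [Scheme.fromSpecResidueField_apply] at h1
    rw [← h1]
    change _ ∈ g ⁻¹ᵁ W
    rw [(IsLocalRing.closed_point_mem_iff (U := g ⁻¹ᵁ W)).mp hgW]
    trivial
  let ev : Γ(S, W) ⟶ X.presheaf.stalk x := S.presheaf.germ W _ hxW ≫ f.stalkMap x
  have hev : Spec.map ev ≫ hW.fromSpec = X.fromSpecStalk x ≫ f := by
    rw [← Scheme.SpecMap_stalkMap_fromSpecStalk, Spec.map_comp, Category.assoc]
    change Spec.map _ ≫ hW.fromSpecStalk hxW = _
    rw [hW.fromSpecStalk_eq_fromSpecStalk hxW]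
  have hev' : ∀ r, X.residue x (ev r) = R₀.subtype (a r) := by
    intro r
    have h2 := hg
    rw [← ha, Scheme.fromSpecResidueField, Category.assoc, ← hev, ← Spec.map_comp_assoc,
      ← Spec.map_comp_assoc, cancel_mono] at h2
    exact (congr($(Spec.map_injective h2) r)).symm
  have hβ : ∀ r, (φB (ev r)).1 ∈ C := fun r => ⟨φB (ev r), show res (φB (ev r)) ∈ R₁ by
    rw [← RingHom.comp_apply, ← hψ, RingHom.comp_apply, hev']
    exact hR₁ (a r), rfl⟩
  let βC : Γ(S, W) ⟶ CommRingCat.of C :=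
    CommRingCat.ofHom ((B.subtype.comp (φB.comp ev.hom)).codRestrict C.toSubring hβ)
  let gC : Spec (.of C) ⟶ S := Spec.map βC ≫ hW.fromSpec
  have hgCB : Spec.map (CommRingCat.ofHom cincl) ≫ gC = mB ≫ f := by
    rw [Category.assoc, ← hev, ← Spec.map_comp_assoc, ← Spec.map_comp_assoc]
    rfl
  have hgC1 : Spec.map (CommRingCat.ofHom cres) ≫ gC = Spec.map (CommRingCat.ofHom j₁) ≫ g := by
    rw [← ha, ← Spec.map_comp_assoc, ← Spec.map_comp_assoc]
    congr 2
    ext r
    refine Eq.trans ?_ (congr($hj₁ (a r))).symm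
    change res (φB (ev r)) = ψ (R₀.subtype (a r))
    rw [← hev', ← RingHom.comp_apply, ← hψ]
    rfl
  have hcK : CommRingCat.ofHom C.subtype =
      CommRingCat.ofHom cincl ≫ CommRingCat.ofHom B.subtype := rfl
  have hres1 : CommRingCat.ofHom cres ≫ CommRingCat.ofHom R₁.subtype =
      CommRingCat.ofHom cincl ≫ CommRingCat.ofHom res := rfl
  have hwC : (U.fromSpecResidueField u ≫ h) ≫ f = Spec.map (CommRingCat.ofHom C.subtype) ≫ gC := by
    conv_rhs => rw [hcK, Spec.map_comp, Category.assoc, hgCB, ← Category.assoc, hmB]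
  let sqC : ValuativeCommSq f :=
    { R := C, K := U.residueField u, i₁ := U.fromSpecResidueField u ≫ h, i₂ := gC,
      commSq := ⟨hwC⟩ }
  obtain ⟨hqC⟩ := H sqC ⟨_, rfl⟩
  constructor
  · let L : sqC.commSq.LiftStruct := default
    have hLgen : Spec.map (CommRingCat.ofHom C.subtype) ≫ L.l = U.fromSpecResidueField u ≫ h :=
      L.fac_left
    have hLf : L.l ≫ f = gC := L.fac_right
    have hLB : Spec.map (CommRingCat.ofHom cincl) ≫ L.l = mB := by
      refine huniqB _ ?_ ?_
      · rw [← Category.assoc, ← Spec.map_comp, ← hcK]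
        exact hLgen
      · rw [Category.assoc, hLf, hgCB]
    let l₁ : Spec (.of R₁) ⟶ X := Spec.map (CommRingCat.ofHom cres) ≫ L.l
    have hl₁ : Spec.map (CommRingCat.ofHom R₁.subtype) ≫ l₁ =
        Spec.map (CommRingCat.ofHom ψ) ≫ X.fromSpecResidueField x := by
      rw [← Category.assoc, ← Spec.map_comp, hres1, Spec.map_comp, Category.assoc, hLB, hmBres]
    obtain ⟨l₀, hl₀, hl₀gen⟩ := exists_descend R₀ R₁.subtype hR₁inj ψ hmem j₁ hj₁
      (X.fromSpecResidueField x) l₁ hl₁
    refine ⟨l₀, hl₀gen, ?_⟩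
    have : IsLocalHom (CommRingCat.ofHom j₁).hom := hj₁loc
    refine eq_of_local_comp_eq (CommRingCat.ofHom j₁) hj₁inj _ _ ?_
    rw [← Category.assoc, hl₀, Category.assoc, hLf, hgC1]
  · -- uniqueness
    have key : ∀ l : Spec (.of R₀) ⟶ X,
        Spec.map (CommRingCat.ofHom R₀.subtype) ≫ l = X.fromSpecResidueField x → l ≫ f = g →
        ∃ lc : sqC.commSq.LiftStruct,
          Spec.map (CommRingCat.ofHom cres) ≫ lc.l = Spec.map (CommRingCat.ofHom j₁) ≫ l := by
      intro l hl hlf
      obtain ⟨V, hV, hlV, -⟩ := exists_isAffineOpen_mem_and_subset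
        (x := l (closedPoint R₀)) (U := (⊤ : X.Opens)) trivial
      have hxV : x ∈ V := by
        have h1 := congrArg (fun m : Spec (.of (X.residueField x)) ⟶ X =>
          m (closedPoint (X.residueField x))) hl
        simp only [Scheme.Hom.comp_apply] at h1
        erw [Scheme.fromSpecResidueField_apply] at h1
        rw [← h1]
        change _ ∈ l ⁻¹ᵁ V
        rw [(IsLocalRing.closed_point_mem_iff (U := l ⁻¹ᵁ V)).mp hlV]
        trivial
      obtain ⟨b, hb⟩ := exists_affine_factor l hV hlV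
      let gx := X.presheaf.germ V x hxV
      have hgx : Spec.map gx ≫ hV.fromSpec = X.fromSpecStalk x := by
        change hV.fromSpecStalk hxV = _
        rw [hV.fromSpecStalk_eq_fromSpecStalk hxV]
      have hgx' : ∀ r, X.residue x (gx r) = R₀.subtype (b r) := by
        intro r
        have h2 := hl
        rw [← hb, Scheme.fromSpecResidueField, ← hgx, ← Spec.map_comp_assoc,
          ← Spec.map_comp_assoc, cancel_mono] at h2
        exact (congr($(Spec.map_injective h2) r)).symm
      have hα : ∀ r, (φB (gx r)).1 ∈ C := fun r => ⟨φB (gx r), show res (φB (gx r)) ∈ R₁ by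
        rw [← RingHom.comp_apply, ← hψ, RingHom.comp_apply, hgx']
        exact hR₁ (b r), rfl⟩
      let αC : Γ(X, V) ⟶ CommRingCat.of C :=
        CommRingCat.ofHom ((B.subtype.comp (φB.comp gx.hom)).codRestrict C.toSubring hα)
      let lc : Spec (.of C) ⟶ X := Spec.map αC ≫ hV.fromSpec
      have h1 : Spec.map (CommRingCat.ofHom cres) ≫ lc = Spec.map (CommRingCat.ofHom j₁) ≫ l := by
        rw [← hb, ← Spec.map_comp_assoc, ← Spec.map_comp_assoc]
        congr 2
        ext r
        refine Eq.trans ?_ (congr($hj₁ (b r))).symm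
        change res (φB (gx r)) = ψ (R₀.subtype (b r))
        rw [← hgx', ← RingHom.comp_apply, ← hψ]
        rfl
      have h2 : Spec.map (CommRingCat.ofHom cincl) ≫ lc = mB := by
        simp only [mB]
        rw [← hgx, ← Spec.map_comp_assoc, ← Spec.map_comp_assoc]
        rfl
      have hgen : Spec.map (CommRingCat.ofHom C.subtype) ≫ lc = U.fromSpecResidueField u ≫ h := by
        rw [hcK, Spec.map_comp, Category.assoc, h2, hmB]
      have hlcf : lc ≫ f = gC := by
        refine eq_of_comp_eq (CommRingCat.ofHom C.subtype) Subtype.val_injective _ _ ?_ ?_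
        · have : IsLocalHom (CommRingCat.ofHom cres).hom := hcloc
          have h3 : Spec.map (CommRingCat.ofHom cres) ≫ lc ≫ f =
              Spec.map (CommRingCat.ofHom cres) ≫ gC := by
            rw [← Category.assoc, h1, Category.assoc, hlf, hgC1]
          have h4 := congrArg (fun m : Spec (.of R₁) ⟶ S => m (closedPoint R₁)) h3
          have hc : Spec.map (CommRingCat.ofHom cres) (closedPoint R₁) = closedPoint C :=
            IsLocalRing.comap_closedPoint cres
          simp only [Scheme.Hom.comp_apply] at h4 ⊢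
          rwa [hc] at h4
        · rw [← Category.assoc, hgen, hwC]
      exact ⟨⟨lc, hgen, hlcf⟩, h1⟩
    intro l l' hl hlf hl' hlf'
    obtain ⟨lc, hlc⟩ := key l hl hlf
    obtain ⟨lc', hlc'⟩ := key l' hl' hlf'
    have : IsLocalHom (CommRingCat.ofHom j₁).hom := hj₁loc
    refine eq_of_local_comp_eq (CommRingCat.ofHom j₁) hj₁inj _ _ ?_
    rw [← hlc, ← hlc', Subsingleton.elim lc lc']

/-- The full valuative criterion follows. -/
theorem valuativeCriterion [QuasiCompact h] (hd : DenseRange h.base) (H : UniqueLifts f h) :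
    ValuativeCriterion f := by
  rintro ⟨R, K, i₁, i₂, ⟨w⟩⟩
  let x := i₁ (closedPoint K)
  let ι : X.residueField x ⟶ CommRingCat.of K :=
    Scheme.descResidueField (Scheme.stalkClosedPointTo i₁)
  have hi₁ : Spec.map ι ≫ X.fromSpecResidueField x = i₁ :=
    Scheme.descResidueField_stalkClosedPointTo_fromSpecResidueField _ _ i₁
  let incl := algebraMap R K
  have hincl : Function.Injective incl := IsFractionRing.injective R K
  let R₀ : ValuationSubring (X.residueField x) :=
    (ValuationSubring.ofSubring incl.range fun z =>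
      (ValuationRing.isInteger_or_isInteger R z).imp (fun ⟨r, hr⟩ => ⟨r, hr⟩)
        (fun ⟨r, hr⟩ => ⟨r, hr⟩)).comap ι.hom
  have hmem : ∀ z, z ∈ R₀ ↔ ι.hom z ∈ incl.range := fun z => Iff.rfl
  obtain ⟨j, hjloc, hjinj, hj⟩ := exists_trace_hom R₀ incl hincl ι.hom hmem
  have : IsLocalHom (CommRingCat.ofHom j).hom := hjloc
  have hl2 : Spec.map (CommRingCat.ofHom incl) ≫ i₂ =
      Spec.map (CommRingCat.ofHom ι.hom) ≫ (X.fromSpecResidueField x ≫ f) := by
    rw [← Category.assoc]
    exact w.symm.trans (congrArg (· ≫ f) hi₁.symm)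
  obtain ⟨g, hg, hggen⟩ := exists_descend R₀ incl hincl ι.hom hmem j hj _ i₂ hl2
  obtain ⟨⟨l₀, hl₀, hl₀f⟩, huniq⟩ := existsUnique_lift_residueField hd H x R₀ g hggen
  have hjK : CommRingCat.ofHom j ≫ CommRingCat.ofHom incl = CommRingCat.ofHom R₀.subtype ≫ ι := by
    ext1
    exact hj
  have descend : ∀ (m : Spec (.of R) ⟶ X), Spec.map (CommRingCat.ofHom incl) ≫ m = i₁ →
      m ≫ f = i₂ → m = Spec.map (CommRingCat.ofHom j) ≫ l₀ := by
    intro m hm hmf
    obtain ⟨m₀, hm₀, hm₀gen⟩ := exists_descend R₀ incl hincl ι.hom hmem j hj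
      (X.fromSpecResidueField x) m (hm.trans hi₁.symm)
    rw [← hm₀]
    congr 1
    refine huniq m₀ l₀ hm₀gen (eq_of_local_comp_eq (CommRingCat.ofHom j) hjinj _ _ ?_) hl₀ hl₀f
    rw [← Category.assoc, hm₀, hmf, hg]
  refine ⟨⟨⟨⟨Spec.map (CommRingCat.ofHom j) ≫ l₀, ?_, ?_⟩⟩, fun m => ?_⟩⟩
  · rw [← Category.assoc, ← Spec.map_comp]
    change Spec.map (CommRingCat.ofHom j ≫ CommRingCat.ofHom incl) ≫ l₀ = i₁
    rw [hjK, Spec.map_comp, Category.assoc, hl₀, hi₁]
  · rw [Category.assoc, hl₀f, hg]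
  · exact CommSq.LiftStruct.ext (descend m.l m.fac_left m.fac_right)

end Groth.PropsBasic.ValuativeDense
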