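import Groth.Agent.Calg4.RegularHom
import Groth.Agent.Calg4.CompletionFlat

/-!
# Completion of a G-ring along an ideal is a regular map
-/

set_option autoImplicit false
set_option linter.style.haveILetI false

universe u

open IsLocalRing TensorProduct

namespace Groth.PropsBasic.RegularCompletion

/-- A map is regular if the composites with the localizations at the maximal ideals of the target
are. -/
theorem isRegularHom_of_localization_maximal {A B : Type u} [CommRing A] [CommRing B] [Algebra A B]
    [Module.Flat A B]
    (h : ∀ (n : Ideal B) [n.IsMaximal], CAlg.IsRegularHom A (Localization.AtPrime n))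
    (hN : ∀ (L : Type u) [Field L] [Algebra A L], Algebra.EssFiniteType A L →
      IsNoetherianRing (L ⊗[A] B)) :
    CAlg.IsRegularHom A B := by
  refine Groth.Calg4.isRegularHom_of_isRegularRing_tensor inferInstance fun L _ _ hL => ?_
  let D := B ⊗[A] L
  haveI : IsNoetherianRing D := by
    haveI := hN L hL
    exact isNoetherianRing_of_ringEquiv _ (Algebra.TensorProduct.comm A L B).toRingEquiv
  suffices hD : IsRegularRing D from
    IsRegularRing.of_ringEquiv (Algebra.TensorProduct.comm A B L).toRingEquiv
  rw [isRegularRing_iff]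
  intro Q _
  obtain ⟨n, hn, hqn⟩ := Ideal.exists_le_maximal (Q.comap (algebraMap B D))
    (Ideal.IsPrime.comap _).ne_top
  haveI := hn
  let M := Algebra.algebraMapSubmonoid D n.primeCompl
  let T := D ⊗[B] Localization.AtPrime n
  haveI : IsLocalization M T := IsLocalization.tensor (Localization.AtPrime n) n.primeCompl
  haveI : IsRegularRing T := by
    haveI := Groth.Calg4.IsRegularHom.isRegularRing_tensor (h n) L
    exact IsRegularRing.of_ringEquiv (Groth.Calg4.fibreTower A B (Localization.AtPrime n) L).symm
  have hdisj : Disjoint (M : Set D) (Q : Set D) := by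
    rw [Set.disjoint_left]
    rintro _ ⟨b, hb, rfl⟩ hbQ
    exact hb (hqn hbQ)
  haveI := IsLocalization.isPrime_of_isPrime_disjoint M T Q ‹_› hdisj
  have hQ : (Q.map (algebraMap D T)).comap (algebraMap D T) = Q :=
    IsLocalization.under_map_of_isPrime_disjoint M T ‹_› hdisj
  haveI : IsLocalization.AtPrime (Localization.AtPrime (Q.map (algebraMap D T))) Q := by
    have := IsLocalization.isLocalization_isLocalization_atPrime_isLocalization M
      (Localization.AtPrime (Q.map (algebraMap D T))) (Q.map (algebraMap D T))
    simp only [hQ] at this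
    exact this
  haveI : IsRegularLocalRing (Localization.AtPrime (Q.map (algebraMap D T))) :=
    (isRegularRing_iff (R := T)).mp inferInstance (Q.map (algebraMap D T))
  exact IsRegularLocalRing.of_ringEquiv (R := Localization.AtPrime (Q.map (algebraMap D T)))
    (IsLocalization.algEquiv Q.primeCompl (Localization.AtPrime (Q.map (algebraMap D T)))
      (Localization.AtPrime Q)).toRingEquiv

/-- Regular completion maps at the maximal ideals containing `I` give a regular `I`-adic
completion map. -/
theorem isRegularHom_adicCompletion {A : Type u} [CommRing A] [IsNoetherianRing A] (I : Ideal A)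
    (h : ∀ (m : Ideal A) [m.IsMaximal], CAlg.IsRegularHom (Localization.AtPrime m)
      (AdicCompletion (maximalIdeal (Localization.AtPrime m)) (Localization.AtPrime m))) :
    CAlg.IsRegularHom A (AdicCompletion I A) := by
  let B := AdicCompletion I A
  haveI : IsNoetherianRing B :=
    Groth.Calg1.isNoetherianRing_adicCompletion _ (IsNoetherian.noetherian _)
  haveI : Module.Flat A B := AdicCompletion.flat_of_isNoetherian _
  have hfg : I.FG := IsNoetherian.noetherian I
  refine isRegularHom_of_localization_maximal (fun n hn => ?_) fun L _ _ hL => by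
    haveI := hL
    haveI : IsNoetherianRing (B ⊗[A] L) := Algebra.EssFiniteType.isNoetherianRing B _
    exact isNoetherianRing_of_ringEquiv _ (Algebra.TensorProduct.comm A B L).toRingEquiv
  -- the maximal ideal below
  have hIn : I.map (algebraMap A B) ≤ n := by
    haveI := AdicCompletion.isAdicComplete_self I hfg
    exact (IsAdicComplete.le_jacobson_bot (I.map (algebraMap A B))).trans (sInf_le ⟨bot_le, hn⟩)
  let m := n.comap (algebraMap A B)
  have hsurjn : ∀ (k : ℕ) (b : B), ∃ a, algebraMap A B a - b ∈ (I.map (algebraMap A B)) ^ k := by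
    intro k b
    obtain ⟨a, ha⟩ := Ideal.Quotient.mk_surjective (AdicCompletion.evalₐ I k b)
    refine ⟨a, ?_⟩
    rw [← Groth.AdicLinTop.CompletionQuot.ker_evalₐ I hfg k]
    show AdicCompletion.evalₐ I k _ = 0
    rw [map_sub, Groth.AdicLinTop.CompletionQuot.evalₐ_algebraMap, ha, sub_self]
  haveI hmmax : m.IsMaximal := by
    have hs : Function.Surjective ((Ideal.Quotient.mk n).comp (algebraMap A B)) := by
      intro z
      obtain ⟨b, rfl⟩ := Ideal.Quotient.mk_surjective z
      obtain ⟨a, ha⟩ := hsurjn 1 b
      rw [pow_one] at ha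
      exact ⟨a, (Ideal.Quotient.eq).mpr (hIn ha)⟩
    letI := Ideal.Quotient.field n
    have := RingHom.ker_isMaximal_of_surjective ((Ideal.Quotient.mk n).comp (algebraMap A B)) hs
    rwa [← RingHom.comap_ker, Ideal.mk_ker] at this
  have hIm : I ≤ m := fun x hx => hIn (Ideal.mem_map_of_mem _ hx)
  have hmn : m.map (algebraMap A B) = n :=
    (AdicCompletion.isMaximal_map_of_le I m hIm hfg).eq_of_le hn.ne_top Ideal.map_comap_le
  let Am := Localization.AtPrime m
  let Bn := Localization.AtPrime n
  let C := AdicCompletion (maximalIdeal Am) Am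
  haveI : IsNoetherianRing Am := IsLocalization.isNoetherianRing m.primeCompl Am ‹_›
  haveI : IsNoetherianRing Bn := IsLocalization.isNoetherianRing n.primeCompl Bn ‹_›
  haveI : IsNoetherianRing C :=
    Groth.Calg1.isNoetherianRing_adicCompletion _ (IsNoetherian.noetherian _)
  letI : Algebra Am Bn := (Localization.localRingHom m n (algebraMap A B) rfl).toAlgebra
  haveI : IsScalarTower A Am Bn := IsScalarTower.of_algebraMap_eq fun x => by
    rw [RingHom.algebraMap_toAlgebra, Localization.localRingHom_to_map]
    exact IsScalarTower.algebraMap_apply A B Bn x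
  have hIle : I.map (algebraMap A Am) ≤ maximalIdeal Am := by
    rw [← Localization.AtPrime.map_eq_maximalIdeal]
    exact Ideal.map_mono hIm
  let ψ : B →+* C :=
    Groth.PropsBasic.GRingLocal.cplMap I (maximalIdeal Am) (algebraMap A Am) hIle
  have hψ : ∀ a, ψ (algebraMap A B a) = algebraMap Am C (algebraMap A Am a) := fun a =>
    Groth.Calg4.cplMap_algebraMap I _ (algebraMap A Am) hIle a
  have hψn : (maximalIdeal C).comap ψ = n := by
    refine (hn.eq_of_le (Ideal.IsPrime.comap _).ne_top ?_).symm
    refine hmn.symm.le.trans (Ideal.map_le_iff_le_comap.mpr ?_)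
    intro a ha
    show ψ (algebraMap A B a) ∈ maximalIdeal C
    rw [hψ, AdicCompletion.maximalIdeal_eq_map]
    refine Ideal.mem_map_of_mem _ ?_
    rw [← Localization.AtPrime.map_eq_maximalIdeal]
    exact Ideal.mem_map_of_mem _ ha
  have hunit : ∀ s : n.primeCompl, IsUnit (ψ s) := fun s =>
    IsLocalRing.notMem_maximalIdeal.mp fun hs => s.2 (hψn.le hs)
  letI : Algebra Bn C := (IsLocalization.lift hunit : Bn →+* C).toAlgebra
  haveI : IsScalarTower Am Bn C := by
    refine IsScalarTower.of_algebraMap_eq' (IsLocalization.ringHom_ext m.primeCompl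
      (RingHom.ext fun a => ?_))
    simp only [RingHom.comp_apply, ← IsScalarTower.algebraMap_apply A Am Bn]
    rw [IsScalarTower.algebraMap_apply A B Bn, RingHom.algebraMap_toAlgebra, IsLocalization.lift_eq,
      hψ]
  have hmap : (maximalIdeal Am).map (algebraMap Am Bn) = maximalIdeal Bn := by
    rw [← Localization.AtPrime.map_eq_maximalIdeal, Ideal.map_map, ← IsScalarTower.algebraMap_eq,
      IsScalarTower.algebraMap_eq A B Bn, ← Ideal.map_map, hmn,
      Localization.AtPrime.map_eq_maximalIdeal]
  have hloc : (maximalIdeal Bn).map (algebraMap Bn C) ≤ maximalIdeal C := by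
    rw [← Localization.AtPrime.map_eq_maximalIdeal (I := n), Ideal.map_map,
      Ideal.map_le_iff_le_comap]
    intro b hb
    show (IsLocalization.lift hunit : Bn →+* C) (algebraMap B Bn b) ∈ maximalIdeal C
    rw [IsLocalization.lift_eq]
    exact hψn.symm.le hb
  have happrox : ∀ (k : ℕ) (z : Bn), ∃ a, algebraMap Am Bn a - z ∈ maximalIdeal Bn ^ k := by
    intro k z
    obtain ⟨b, s, rfl⟩ := IsLocalization.exists_mk'_eq n.primeCompl z
    obtain ⟨ab, hab⟩ := hsurjn (k + 1) b
    obtain ⟨as, has⟩ := hsurjn (k + 1) s
    have has' : as ∉ m := fun h => s.2 (by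
      have h1 : algebraMap A B as - (algebraMap A B as - s) ∈ n :=
        sub_mem h (hIn (Ideal.pow_le_self (Nat.succ_ne_zero k) has))
      simpa using h1)
    refine ⟨IsLocalization.mk' Am ab (⟨as, has'⟩ : m.primeCompl), ?_⟩
    have hU : IsUnit (algebraMap A Bn as * algebraMap B Bn s) := by
      refine IsUnit.mul ?_ (IsLocalization.map_units Bn s)
      rw [IsScalarTower.algebraMap_apply A Am Bn]
      exact (IsLocalization.map_units Am (⟨as, has'⟩ : m.primeCompl)).map _
    refine (Ideal.unit_mul_mem_iff_mem _ hU).mp ?_
    have e1 : algebraMap A Bn as * algebraMap Am Bn (IsLocalization.mk' Am ab (⟨as, has'⟩ : m.primeCompl))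
        = algebraMap A Bn ab := by
      have := congrArg (algebraMap Am Bn)
        (IsLocalization.mk'_spec' Am ab (⟨as, has'⟩ : m.primeCompl))
      rw [map_mul, ← IsScalarTower.algebraMap_apply, ← IsScalarTower.algebraMap_apply] at this
      exact this
    have e2 : algebraMap B Bn s * IsLocalization.mk' Bn b s = algebraMap B Bn b :=
      IsLocalization.mk'_spec' _ _ _
    have e3 : algebraMap A Bn as * algebraMap B Bn s *
        (algebraMap Am Bn (IsLocalization.mk' Am ab (⟨as, has'⟩ : m.primeCompl)) -
          IsLocalization.mk' Bn b s) =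
        algebraMap B Bn ((s : B) * (algebraMap A B ab - b) - b * (algebraMap A B as - s)) := by
      rw [map_sub, map_mul, map_mul, map_sub, map_sub, ← IsScalarTower.algebraMap_apply,
        ← IsScalarTower.algebraMap_apply]
      linear_combination algebraMap B Bn s * e1 - algebraMap A Bn as * e2
    rw [e3, ← Localization.AtPrime.map_eq_maximalIdeal (I := n), ← Ideal.map_pow]
    refine Ideal.mem_map_of_mem _ ?_
    have hle : (I.map (algebraMap A B)) ^ (k + 1) ≤ n ^ k :=
      (Ideal.pow_right_mono hIn _).trans (Ideal.pow_le_pow_right (Nat.le_succ k))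
    exact sub_mem (Ideal.mul_mem_left _ _ (hle hab)) (Ideal.mul_mem_left _ _ (hle has))
  haveI hC := h m
  haveI := hC.1
  haveI : Module.Flat Bn C := Groth.Calg4.flat_of_flat_of_approx (A := Am) hmap happrox hloc
  haveI : IsLocalHom (algebraMap Bn C) := ((local_hom_TFAE _).out 0 2).mpr hloc
  haveI : Module.FaithfullyFlat Bn C := Module.FaithfullyFlat.of_flat_of_isLocalHom
  have h1 : CAlg.IsRegularHom Am Bn := Groth.Calg4.IsRegularHom.of_faithfullyFlat hC
  have hrefl : CAlg.IsRegularHom A A :=
    Groth.Calg4.isRegularHom_of_isRegularRing_tensor inferInstance fun L _ _ _ =>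
      IsRegularRing.of_ringEquiv (Algebra.TensorProduct.rid A A L).toRingEquiv.symm
  refine Groth.Calg4.IsRegularHom.trans
    (Groth.Calg4.IsRegularHom.localization hrefl m.primeCompl Am) h1 fun p _ => ?_
  haveI : IsNoetherianRing (Bn ⊗[A] p.ResidueField) := Algebra.EssFiniteType.isNoetherianRing Bn _
  exact isNoetherianRing_of_ringEquiv _ (Algebra.TensorProduct.comm A Bn p.ResidueField).toRingEquiv

end Groth.PropsBasic.RegularCompletion
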