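import Groth.Prelude.Def_Flat
import Mathlib

/-!
# Universal homeomorphisms of affine schemes, ring-level criteria

* `UI φ`: two maps to a field agreeing on `A` are equal (universal injectivity of `Spec φ`);
* `RT φ`: all residue field extensions are trivial;
* `spec_isUnivHomeo_iff`: `Spec φ` is a universal homeomorphism iff
  `φ` is integral, `UI φ`, and `Spec φ` is surjective.
-/

set_option autoImplicit false
set_option linter.style.haveILetI false
universe u v
open CategoryTheory AlgebraicGeometry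

namespace Groth.PropsBasic.UH

theorem isUnivHomeo_iff {X Y : Scheme.{u}} (f : X ⟶ Y) :
    FlatMor.IsUnivHomeo f ↔ UniversallyClosed f ∧ UniversallyInjective f ∧ Surjective f := by
  refine ⟨fun h => ?_, fun ⟨hc, hi, hs⟩ => ?_⟩
  · have h0 : IsHomeomorph f := h (𝟙 X) (𝟙 Y) f IsPullback.of_id_snd
    refine ⟨⟨fun X' Y' i₁ i₂ f' hf => ?_⟩, ⟨fun X' Y' i₁ i₂ f' hf => ?_⟩, ⟨h0.surjective⟩⟩
    · exact (h i₁ i₂ f' hf).isClosedMap
    · exact (h i₁ i₂ f' hf).injective
  · intro X' Y' i₁ i₂ f' hf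
    have c : UniversallyClosed f' := MorphismProperty.of_isPullback hf.flip hc
    have i : UniversallyInjective f' := MorphismProperty.of_isPullback hf.flip hi
    have s : Surjective f' := MorphismProperty.of_isPullback hf.flip hs
    exact isHomeomorph_iff_continuous_isClosedMap_bijective.mpr
      ⟨f'.continuous, f'.isClosedMap, f'.injective, s.surj⟩

section Ring

variable {A B C : Type u} [CommRing A] [CommRing B] [CommRing C]

/-- Ring-level universal injectivity. -/
def UI (φ : A →+* B) : Prop :=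
  ∀ (K : Type u) [Field K] (g₁ g₂ : B →+* K), g₁.comp φ = g₂.comp φ → g₁ = g₂

/-- Ring-level triviality of residue field extensions. -/
def RT (φ : A →+* B) : Prop :=
  ∀ (q : Ideal B), q.IsPrime → ∀ b : B, ∃ a s : A, φ s ∉ q ∧ φ s * b - φ a ∈ q

theorem UI.of_comp (φ : A →+* B) (ψ : B →+* C) (h : UI (ψ.comp φ)) : UI ψ := by
  intro K _ g₁ g₂ e
  apply h K g₁ g₂
  rw [← RingHom.comp_assoc, e, RingHom.comp_assoc]

theorem RT.of_comp (φ : A →+* B) (ψ : B →+* C) (h : RT (ψ.comp φ)) : RT ψ := by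
  intro q hq c
  obtain ⟨a, s, hs, hm⟩ := h q hq c
  exact ⟨φ a, φ s, hs, hm⟩

theorem UI.of_surjective {φ : A →+* B} (h : Function.Surjective φ) : UI φ := by
  intro K _ g₁ g₂ e
  ext b
  obtain ⟨a, rfl⟩ := h b
  exact RingHom.congr_fun e a

theorem UI.comp {φ : A →+* B} {ψ : B →+* C} (h : UI φ) (h' : UI ψ) : UI (ψ.comp φ) := by
  intro K _ g₁ g₂ e
  apply h' K g₁ g₂
  apply h K
  rw [RingHom.comp_assoc, e, RingHom.comp_assoc]

theorem RT.of_surjective {φ : A →+* B} (h : Function.Surjective φ) : RT φ := by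
  intro q hq b
  obtain ⟨a, rfl⟩ := h b
  exact ⟨a, 1, by simpa using hq.ne_top ∘ (Ideal.eq_top_iff_one q).mpr, by simp⟩

/-- The elements whose residue at `q` comes from the residue field below. -/
def rtSub (φ : A →+* B) (q : Ideal B) [q.IsPrime] : Subring B where
  carrier := {b | ∃ a s : A, φ s ∉ q ∧ φ s * b - φ a ∈ q}
  zero_mem' := ⟨0, 1, by simpa using q.one_notMem, by simp⟩
  one_mem' := ⟨1, 1, by simpa using q.one_notMem, by simp⟩
  neg_mem' := by
    rintro b ⟨a, s, hs, hm⟩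
    refine ⟨-a, s, hs, ?_⟩
    have := q.neg_mem hm
    convert this using 1
    rw [map_neg]; ring
  add_mem' := by
    rintro b c ⟨a, s, hs, hm⟩ ⟨a', s', hs', hm'⟩
    refine ⟨a * s' + a' * s, s * s', ?_, ?_⟩
    · rw [map_mul]; exact Ideal.IsPrime.mul_notMem ‹_› hs hs'
    · have := q.add_mem (q.mul_mem_left (φ s') hm) (q.mul_mem_left (φ s) hm')
      convert this using 1
      simp only [map_add, map_mul]; ring
  mul_mem' := by
    rintro b c ⟨a, s, hs, hm⟩ ⟨a', s', hs', hm'⟩
    refine ⟨a * a', s * s', ?_, ?_⟩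
    · rw [map_mul]; exact Ideal.IsPrime.mul_notMem ‹_› hs hs'
    · have := q.add_mem (q.mul_mem_left (φ s' * c) hm) (q.mul_mem_left (φ a) hm')
      convert this using 1
      simp only [map_mul]; ring

theorem mem_rtSub {φ : A →+* B} {q : Ideal B} [q.IsPrime] {b : B} :
    b ∈ rtSub φ q ↔ ∃ a s : A, φ s ∉ q ∧ φ s * b - φ a ∈ q := Iff.rfl

theorem self_mem_rtSub (φ : A →+* B) (q : Ideal B) [q.IsPrime] (a : A) : φ a ∈ rtSub φ q :=
  ⟨a, 1, by simpa using q.one_notMem, by simp⟩

theorem RT.comp {φ : A →+* B} {ψ : B →+* C} (h : RT φ) (h' : RT ψ) : RT (ψ.comp φ) := by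
  intro q hq c
  obtain ⟨b, t, ht, hm⟩ := h' q hq c
  haveI : (q.comap ψ).IsPrime := Ideal.IsPrime.comap ψ
  obtain ⟨a₁, s₁, hs₁, hm₁⟩ := h (q.comap ψ) inferInstance b
  obtain ⟨a₂, s₂, hs₂, hm₂⟩ := h (q.comap ψ) inferInstance t
  simp only [Ideal.mem_comap, map_sub, map_mul] at hs₁ hm₁ hs₂ hm₂
  refine ⟨s₂ * a₁, s₁ * a₂, ?_, ?_⟩
  · intro hmem
    simp only [RingHom.comp_apply, map_mul] at hmem
    rcases hq.mem_or_mem hmem with h0 | h0
    · exact hs₁ h0
    · rcases hq.mem_or_mem (show ψ (φ s₂) * ψ t ∈ q by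
        have := q.add_mem hm₂ h0; simpa using this) with h1 | h1
      · exact hs₂ h1
      · exact ht h1
  · simp only [RingHom.comp_apply, map_mul]
    have := q.add_mem (q.sub_mem (q.mul_mem_left (ψ (φ s₁) * ψ (φ s₂)) hm)
      (q.mul_mem_left (ψ (φ s₁) * c) hm₂)) (q.mul_mem_left (ψ (φ s₂)) hm₁)
    convert this using 1
    ring

theorem UI.spec_iff (φ : A →+* B) :
    UniversallyInjective (Spec.map (CommRingCat.ofHom φ)) ↔ UI φ := by
  refine ((tfae_universallyInjective (Spec.map (CommRingCat.ofHom φ))).out 0 1).trans ?_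
  refine forall_congr' fun K => forall_congr' fun _ => ⟨fun h g₁ g₂ e => ?_, fun h f₁ f₂ e => ?_⟩
  · have := @h (Spec.map (CommRingCat.ofHom g₁)) (Spec.map (CommRingCat.ofHom g₂)) (by
      simp only [← Spec.map_comp, ← CommRingCat.ofHom_comp, e])
    simpa using congr($(Spec.map_injective this).hom)
  · obtain ⟨g₁, rfl⟩ := Spec.map_surjective f₁
    obtain ⟨g₂, rfl⟩ := Spec.map_surjective f₂
    simp only [← Spec.map_comp] at e
    have e' := congr($(Spec.map_injective e).hom)
    congr 1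
    exact CommRingCat.hom_ext (h g₁.hom g₂.hom e')

theorem universallyClosed_spec_iff (φ : A →+* B) :
    UniversallyClosed (Spec.map (CommRingCat.ofHom φ)) ↔ φ.IsIntegral := by
  have h := IsIntegralHom.SpecMap_iff (φ := CommRingCat.ofHom φ)
  rw [CommRingCat.hom_ofHom] at h
  rw [← h, IsIntegralHom.iff_universallyClosed_and_isAffineHom, and_iff_left]
  infer_instance

theorem surjective_spec_iff (φ : A →+* B) :
    Surjective (Spec.map (CommRingCat.ofHom φ)) ↔ Function.Surjective (PrimeSpectrum.comap φ) :=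
  ⟨fun h => h.surj, fun h => ⟨h⟩⟩

theorem spec_isUnivHomeo_iff (φ : A →+* B) :
    FlatMor.IsUnivHomeo (Spec.map (CommRingCat.ofHom φ)) ↔
      φ.IsIntegral ∧ UI φ ∧ Function.Surjective (PrimeSpectrum.comap φ) := by
  rw [isUnivHomeo_iff, universallyClosed_spec_iff, UI.spec_iff, surjective_spec_iff]

/-- Surjectivity on spectra of an integral map with nil kernel. -/
theorem comap_surjective_of_isIntegral {φ : A →+* B} (h : φ.IsIntegral)
    (hk : RingHom.ker φ ≤ nilradical A) : Function.Surjective (PrimeSpectrum.comap φ) := by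
  intro p
  algebraize [φ]
  obtain ⟨Q, -, hQ, hQp⟩ := Ideal.exists_ideal_over_prime_of_isIntegral p.asIdeal (⊥ : Ideal B) (by
    rw [← RingHom.ker_eq_comap_bot]
    exact hk.trans (nilradical_le_prime _))
  exact ⟨⟨Q, hQ⟩, PrimeSpectrum.ext hQp⟩

theorem spec_isUnivHomeo_iff_of_injective {φ : A →+* B} (hinj : Function.Injective φ) :
    FlatMor.IsUnivHomeo (Spec.map (CommRingCat.ofHom φ)) ↔ φ.IsIntegral ∧ UI φ := by
  rw [spec_isUnivHomeo_iff]
  exact ⟨fun h => ⟨h.1, h.2.1⟩, fun h => ⟨h.1, h.2, h.1.comap_surjective hinj⟩⟩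

theorem UI.comap_injective {φ : A →+* B} (h : UI φ) :
    Function.Injective (PrimeSpectrum.comap φ) := by
  have := (UI.spec_iff φ).mpr h
  exact (Spec.map (CommRingCat.ofHom φ)).injective

local instance instIsPrimeSpecPoint (x : Spec (CommRingCat.of B)) :
    Ideal.IsPrime (α := B) x.asIdeal := x.isPrime

/-- Evaluation at a point of the spectrum. -/
noncomputable def ev (x : Spec (CommRingCat.of B)) :
    B →+* (Spec (CommRingCat.of B)).residueField x :=
  ((Scheme.ΓSpecIso (CommRingCat.of B)).inv ≫ (Spec (CommRingCat.of B)).Γevaluation x).hom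

theorem ev_eq (x : Spec (CommRingCat.of B)) : ev x =
    (Scheme.Spec.residueFieldIso (CommRingCat.of B) x).inv.hom.comp
      (algebraMap B x.asIdeal.ResidueField) := by
  have := Scheme.Spec.algebraMap_residueFieldIso_inv (CommRingCat.of B) x
  have := congr($(this).hom)
  rw [CommRingCat.hom_comp] at this
  exact this.symm

theorem ev_eq_zero_iff (x : Spec (CommRingCat.of B)) (b : B) : ev x b = 0 ↔ b ∈ x.asIdeal := by
  rw [ev_eq, RingHom.comp_apply, map_eq_zero, Ideal.algebraMap_residueField_eq_zero]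

theorem ev_div_surjective (x : Spec (CommRingCat.of B))
    (z : (Spec (CommRingCat.of B)).residueField x) :
    ∃ b t : B, t ∉ x.asIdeal ∧ z = ev x b / ev x t := by
  obtain ⟨b, t, ht, e⟩ := IsFractionRing.div_surjective (A := B ⧸ x.asIdeal)
    ((Scheme.Spec.residueFieldIso (CommRingCat.of B) x).hom z)
  obtain ⟨b, rfl⟩ := Ideal.Quotient.mk_surjective b
  obtain ⟨t, rfl⟩ := Ideal.Quotient.mk_surjective t
  refine ⟨b, t, fun h => nonZeroDivisors.ne_zero ht (Ideal.Quotient.eq_zero_iff_mem.mpr h), ?_⟩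
  rw [ev_eq, RingHom.comp_apply, RingHom.comp_apply, ← map_div₀]
  have hz : z = (Scheme.Spec.residueFieldIso (CommRingCat.of B) x).inv
      ((Scheme.Spec.residueFieldIso (CommRingCat.of B) x).hom z) := by
    rw [← ConcreteCategory.comp_apply, Iso.hom_inv_id]; rfl
  rw [hz, ← e]
  simp only [← Ideal.Quotient.algebraMap_eq, ← IsScalarTower.algebraMap_apply]

theorem residueFieldMap_ev (φ : A →+* B) (x : Spec (CommRingCat.of B)) (a : A) :
    (Spec.map (CommRingCat.ofHom φ)).residueFieldMap x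
      (ev ((Spec.map (CommRingCat.ofHom φ)) x) a) = ev x (φ a) := by
  simp only [ev, CommRingCat.hom_comp, RingHom.comp_apply]
  rw [Scheme.Γevaluation_naturality_apply]
  congr 1
  have := Scheme.ΓSpecIso_inv_naturality (CommRingCat.ofHom φ)
  exact congr($(this).hom a).symm

theorem rt_iff_residueFieldMap_surjective (φ : A →+* B) :
    (∀ x : Spec (CommRingCat.of B),
      Function.Surjective ((Spec.map (CommRingCat.ofHom φ)).residueFieldMap x)) ↔ RT φ := by
  refine ⟨fun h q hq b => ?_, fun h x => ?_⟩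
  · obtain ⟨x, rfl⟩ : ∃ x : Spec (CommRingCat.of B), x.asIdeal = q := ⟨⟨q, hq⟩, rfl⟩
    obtain ⟨z, hz⟩ := h x (ev x b)
    obtain ⟨a, s, hs, rfl⟩ := ev_div_surjective _ z
    rw [map_div₀] at hz
    erw [residueFieldMap_ev, residueFieldMap_ev] at hz
    have hs' : φ s ∉ x.asIdeal := hs
    refine ⟨a, s, hs', (ev_eq_zero_iff x _).mp ?_⟩
    have : ev x (φ s) ≠ 0 := mt (ev_eq_zero_iff _ _).mp hs'
    rw [map_sub, map_mul, ← hz]
    field_simp
    ring
  · have key : ∀ b, ev x b ∈ ((Spec.map (CommRingCat.ofHom φ)).residueFieldMap x).hom.fieldRange := by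
      intro b
      obtain ⟨a, s, hs, hm⟩ := h x.asIdeal x.isPrime b
      have hs' : ev x (φ s) ≠ 0 := mt (ev_eq_zero_iff _ _).mp hs
      rw [← ev_eq_zero_iff, map_sub, map_mul, sub_eq_zero] at hm
      refine RingHom.mem_fieldRange.mpr
        ⟨ev ((Spec.map (CommRingCat.ofHom φ)) x) a / ev ((Spec.map (CommRingCat.ofHom φ)) x) s, ?_⟩
      rw [map_div₀]
      erw [residueFieldMap_ev, residueFieldMap_ev]
      rw [← hm]; field_simp
    intro z
    obtain ⟨b, t, -, rfl⟩ := ev_div_surjective x z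
    exact RingHom.mem_fieldRange.mp (div_mem (key b) (key t))

end Ring

end Groth.PropsBasic.UH
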