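import Groth.Agent.PropsBasic.UnivHomeo

/-!
# Towers of elementary universal homeomorphisms

`SQ C x`: `x^2, x^3 ∈ C`; `SQP C x`: that, or `p x, x^p ∈ C` for a prime `p`.
-/

set_option autoImplicit false
set_option linter.style.haveILetI false
universe u
open CategoryTheory AlgebraicGeometry

namespace Groth.PropsBasic.UH

section Ext

variable {A B C : Type u} [CommRing A] [CommRing B] [CommRing C]

/-- Extend a map to an algebraically closed field along an injective integral ring map. -/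
theorem exists_extension {ψ : B →+* C} (hinj : Function.Injective ψ) (hint : ψ.IsIntegral)
    {K : Type u} [Field K] [IsAlgClosed K] (g : B →+* K) : ∃ G : C →+* K, G.comp ψ = g := by
  haveI : (RingHom.ker g).IsPrime := RingHom.ker_isPrime g
  obtain ⟨⟨Q, hQ⟩, hQp⟩ := hint.comap_surjective hinj ⟨RingHom.ker g, inferInstance⟩
  replace hQp : Q.comap ψ = RingHom.ker g := congrArg PrimeSpectrum.asIdeal hQp
  let f : B ⧸ RingHom.ker g →+* C ⧸ Q :=
    Ideal.quotientMap Q ψ hQp.ge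
  let h : B ⧸ RingHom.ker g →+* K := RingHom.kerLift g
  letI := f.toAlgebra
  letI := h.toAlgebra
  have hf : Function.Injective f := Ideal.quotientMap_injective' hQp.le
  have hh : Function.Injective h := RingHom.kerLift_injective g
  haveI : Module.IsTorsionFree (B ⧸ RingHom.ker g) (C ⧸ Q) :=
    (Module.isTorsionFree_iff_algebraMap_injective (R := B ⧸ RingHom.ker g) (A := C ⧸ Q)).mpr hf
  haveI : Module.IsTorsionFree (B ⧸ RingHom.ker g) K :=
    (Module.isTorsionFree_iff_algebraMap_injective (R := B ⧸ RingHom.ker g) (A := K)).mpr hh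
  haveI : Algebra.IsIntegral (B ⧸ RingHom.ker g) (C ⧸ Q) := by
    refine ⟨fun x => ?_⟩
    obtain ⟨c, rfl⟩ := Ideal.Quotient.mk_surjective x
    have hf' : f.comp (Ideal.Quotient.mk (RingHom.ker g)) = (Ideal.Quotient.mk Q).comp ψ :=
      Ideal.quotientMap_comp_mk _
    have : ((Ideal.Quotient.mk Q).comp ψ).IsIntegralElem (Ideal.Quotient.mk Q c) := by
      obtain ⟨P, hP, hP'⟩ := hint c
      refine ⟨P, hP, ?_⟩
      rw [← Polynomial.hom_eval₂, hP', map_zero]
    rw [← hf'] at this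
    exact this.of_comp
  let G : C ⧸ Q →ₐ[B ⧸ RingHom.ker g] K := IsAlgClosed.lift
  refine ⟨G.toRingHom.comp (Ideal.Quotient.mk Q), RingHom.ext fun b => ?_⟩
  exact G.commutes (Ideal.Quotient.mk (RingHom.ker g) b)

theorem UI.of_injective_isIntegral {φ : A →+* B} {ψ : B →+* C} (hinj : Function.Injective ψ)
    (hint : ψ.IsIntegral) (h : UI (ψ.comp φ)) : UI φ := by
  intro K _ g₁ g₂ e
  let j := algebraMap K (AlgebraicClosure K)
  obtain ⟨G₁, hG₁⟩ := exists_extension hinj hint (j.comp g₁)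
  obtain ⟨G₂, hG₂⟩ := exists_extension hinj hint (j.comp g₂)
  have : G₁ = G₂ := h _ G₁ G₂ (by
    rw [← RingHom.comp_assoc, hG₁, ← RingHom.comp_assoc, hG₂, RingHom.comp_assoc, e,
      RingHom.comp_assoc])
  ext b
  refine j.injective ?_
  have h1 := RingHom.congr_fun hG₁ b
  have h2 := RingHom.congr_fun hG₂ b
  simp only [RingHom.comp_apply] at h1 h2
  rw [← h1, ← h2, this]

theorem RT.of_injective_isIntegral {φ : A →+* B} {ψ : B →+* C} (hinj : Function.Injective ψ)
    (hint : ψ.IsIntegral) (h : RT (ψ.comp φ)) : RT φ := by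
  intro p hp b
  obtain ⟨⟨Q, hQ⟩, hQp⟩ := hint.comap_surjective hinj ⟨p, hp⟩
  replace hQp : Q.comap ψ = p := congrArg PrimeSpectrum.asIdeal hQp
  obtain ⟨a, s, hs, hm⟩ := h Q hQ (ψ b)
  refine ⟨a, s, ?_, ?_⟩
  · rw [← hQp, Ideal.mem_comap]; exact hs
  · rw [← hQp, Ideal.mem_comap]; simpa using hm

/-- Purely inseparable residue fields, elementwise. -/
theorem UI.pow_mem {φ : A →+* B} (h : UI φ) (x : PrimeSpectrum B) (b : B) :
    b ∈ rtSub φ x.asIdeal ∨
      ∃ p : ℕ, p.Prime ∧ (p : B) ∈ x.asIdeal ∧ ∃ n : ℕ, b ^ p ^ n ∈ rtSub φ x.asIdeal := by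
  let x' : Spec (CommRingCat.of B) := x
  have hpi := ((tfae_universallyInjective (Spec.map (CommRingCat.ofHom φ))).out 0 2).mp
    ((UI.spec_iff φ).mpr h)
  let F := (Spec (CommRingCat.of A)).residueField ((Spec.map (CommRingCat.ofHom φ)) x')
  letI := ((Spec.map (CommRingCat.ofHom φ)).residueFieldMap x').hom.toAlgebra
  haveI : IsPurelyInseparable F ((Spec (CommRingCat.of B)).residueField x') := hpi.2 x'
  obtain ⟨n, z, hz⟩ := IsPurelyInseparable.pow_mem F (ringExpChar F) (ev x' b)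
  obtain ⟨a, s, hs, rfl⟩ := ev_div_surjective _ z
  change (Spec.map (CommRingCat.ofHom φ)).residueFieldMap x' _ = _ at hz
  rw [map_div₀] at hz
  erw [residueFieldMap_ev, residueFieldMap_ev] at hz
  have hs' : φ s ∉ x'.asIdeal := hs
  have h0 : ev x' (φ s) ≠ 0 := mt (ev_eq_zero_iff x' _).mp hs'
  have hmem : b ^ ringExpChar F ^ n ∈ rtSub φ x.asIdeal := by
    refine ⟨a, s, hs', (ev_eq_zero_iff x' _).mp ?_⟩
    rw [map_sub, map_mul, map_pow, ← hz]
    field_simp
    ring
  rcases expChar_is_prime_or_one F (ringExpChar F) with hp | hp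
  · refine Or.inr ⟨ringExpChar F, hp, (ev_eq_zero_iff x' _).mp ?_, n, hmem⟩
    haveI : CharP F (ringExpChar F) := by
      have hE : ExpChar F (ringExpChar F) := inferInstance
      revert hp hE
      generalize ringExpChar F = q
      intro hp hE
      cases hE with
      | zero => exact absurd hp Nat.not_prime_one
      | prime _ => assumption
    rw [map_natCast, ← map_natCast (algebraMap F ((Spec (CommRingCat.of B)).residueField x')),
      CharP.cast_eq_zero, map_zero]
  · rw [hp, one_pow, pow_one] at hmem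
    exact Or.inl hmem

end Ext

variable {A B : Type u} [CommRing A] [CommRing B] [Algebra A B]

/-- The elementary step with squares and cubes. -/
def SQ (C : Subalgebra A B) (x : B) : Prop := x ^ 2 ∈ C ∧ x ^ 3 ∈ C

/-- The elementary step with squares and cubes or a prime. -/
def SQP (C : Subalgebra A B) (x : B) : Prop :=
  (x ^ 2 ∈ C ∧ x ^ 3 ∈ C) ∨ ∃ p : ℕ, p.Prime ∧ (p : B) * x ∈ C ∧ x ^ p ∈ C

/-- The algebra generated by the entries before `i`. -/
abbrev pre (A : Type u) {B : Type u} [CommRing A] [CommRing B] [Algebra A B] (l : List B)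
    (i : Fin l.length) : Subalgebra A B :=
  Algebra.adjoin A {b : B | ∃ j : Fin l.length, j < i ∧ b = l.get j}

/-- A list each of whose entries is an elementary step over the earlier ones. -/
def Valid (P : Subalgebra A B → B → Prop) (l : List B) : Prop :=
  ∀ i : Fin l.length, P (pre A l i) (l.get i)

theorem Valid.le_of_forall {P : Subalgebra A B → B → Prop} {l : List B} (h : Valid P l)
    {S : Subalgebra A B} (hP : ∀ C ≤ S, ∀ x, P C x → x ∈ S) :
    Algebra.adjoin A {b : B | b ∈ l} ≤ S := by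
  have : ∀ n (hn : n < l.length), l.get ⟨n, hn⟩ ∈ S := by
    intro n
    induction n using Nat.strong_induction_on with
    | _ n ih =>
      intro hn
      refine hP _ (Algebra.adjoin_le ?_) _ (h ⟨n, hn⟩)
      rintro b ⟨⟨j, hj⟩, hji, rfl⟩
      exact ih j hji hj
  refine Algebra.adjoin_le fun b hb => ?_
  obtain ⟨i, rfl⟩ := List.get_of_mem hb
  exact this i.1 i.2

theorem Valid.append {P : Subalgebra A B → B → Prop}
    (hP : ∀ C D : Subalgebra A B, C ≤ D → ∀ x, P C x → P D x)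
    {l m : List B} (hl : Valid P l) (hm : Valid P m) : Valid P (l ++ m) := by
  rintro ⟨i, hi⟩
  rcases lt_or_ge i l.length with h | h
  · have e : (l ++ m).get ⟨i, hi⟩ = l.get ⟨i, h⟩ := by simp [h]
    rw [e]
    refine hP _ _ (Algebra.adjoin_mono ?_) _ (hl ⟨i, h⟩)
    rintro b ⟨⟨j, hj⟩, hji, rfl⟩
    exact ⟨⟨j, by simp; omega⟩, hji, by simp [hj]⟩
  · have hi' : i - l.length < m.length := by simp at hi; omega
    have e : (l ++ m).get ⟨i, hi⟩ = m.get ⟨i - l.length, hi'⟩ := by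
      simp [List.getElem_append_right h]
    rw [e]
    refine hP _ _ (Algebra.adjoin_mono ?_) _ (hm ⟨i - l.length, hi'⟩)
    rintro b ⟨⟨j, hj⟩, hji, rfl⟩
    refine ⟨⟨l.length + j, by simp; omega⟩, ?_, ?_⟩
    · simp only [Fin.lt_def] at hji ⊢; omega
    · simp

theorem Valid.snoc {P : Subalgebra A B → B → Prop}
    (hP : ∀ C D : Subalgebra A B, C ≤ D → ∀ x, P C x → P D x)
    {l : List B} (hl : Valid P l) {x : B} (hx : P (Algebra.adjoin A {b : B | b ∈ l}) x) :
    Valid P (l ++ [x]) := by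
  rintro ⟨i, hi⟩
  rcases lt_or_ge i l.length with h | h
  · have e : (l ++ [x]).get ⟨i, hi⟩ = l.get ⟨i, h⟩ := by simp [h]
    rw [e]
    refine hP _ _ (Algebra.adjoin_mono ?_) _ (hl ⟨i, h⟩)
    rintro b ⟨⟨j, hj⟩, hji, rfl⟩
    exact ⟨⟨j, by simp; omega⟩, hji, by simp [hj]⟩
  · have hi' : i = l.length := by simp at hi; omega
    subst hi'
    have e : (l ++ [x]).get ⟨l.length, hi⟩ = x := by simp
    rw [e]
    refine hP _ _ (Algebra.adjoin_mono ?_) _ hx
    intro b hb
    obtain ⟨⟨j, hj⟩, rfl⟩ := List.get_of_mem hb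
    exact ⟨⟨j, by simp; omega⟩, hj, by simp [hj]⟩

theorem SQ.mono (C D : Subalgebra A B) (h : C ≤ D) (x : B) (hx : SQ C x) : SQ D x :=
  ⟨h hx.1, h hx.2⟩

theorem SQP.mono (C D : Subalgebra A B) (h : C ≤ D) (x : B) (hx : SQP C x) : SQP D x :=
  hx.imp (fun h' => ⟨h h'.1, h h'.2⟩) fun ⟨p, hp, h1, h2⟩ => ⟨p, hp, h h1, h h2⟩

theorem SQ.sqp {C : Subalgebra A B} {x : B} (hx : SQ C x) : SQP C x := Or.inl hx

/-- The elements on which two maps agree. -/
def eqSub (A : Type u) {B K : Type u} [CommRing A] [CommRing B] [Algebra A B] [CommRing K]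
    (g₁ g₂ : B →+* K) (e : g₁.comp (algebraMap A B) = g₂.comp (algebraMap A B)) :
    Subalgebra A B where
  toSubsemiring := (RingHom.eqLocus g₁ g₂).toSubsemiring
  algebraMap_mem' a := RingHom.congr_fun e a

theorem mem_eqSub {K : Type u} [CommRing K] {g₁ g₂ : B →+* K}
    {e : g₁.comp (algebraMap A B) = g₂.comp (algebraMap A B)} {x : B} :
    x ∈ eqSub A g₁ g₂ e ↔ g₁ x = g₂ x := Iff.rfl

theorem SQP.mem_eqSub_field {K : Type u} [Field K] {g₁ g₂ : B →+* K}
    {e : g₁.comp (algebraMap A B) = g₂.comp (algebraMap A B)} {C : Subalgebra A B}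
    (hC : C ≤ eqSub A g₁ g₂ e) {x : B} (hx : SQP C x) : x ∈ eqSub A g₁ g₂ e := by
  rw [mem_eqSub]
  rcases hx with ⟨h2, h3⟩ | ⟨p, hp, hpx, hxp⟩
  · have e2 := mem_eqSub.mp (hC h2)
    have e3 := mem_eqSub.mp (hC h3)
    rw [map_pow, map_pow] at e2 e3
    by_cases h0 : g₁ x = 0
    · rw [h0, zero_pow two_ne_zero, eq_comm] at e2
      rw [h0, sq_eq_zero_iff.mp e2]
    · have : g₁ x * g₁ x ^ 2 = g₂ x * g₁ x ^ 2 := by
        linear_combination e3 - g₂ x * e2
      exact mul_right_cancel₀ (pow_ne_zero 2 h0) this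
  · have e1 := mem_eqSub.mp (hC hpx)
    have e2 := mem_eqSub.mp (hC hxp)
    rw [map_mul, map_mul, map_natCast, map_natCast] at e1
    rw [map_pow, map_pow] at e2
    by_cases h0 : (p : K) = 0
    · haveI : Fact p.Prime := ⟨hp⟩
      haveI : CharP K p := CharP.charP_iff_prime_eq_zero hp |>.mpr h0
      exact frobenius_inj K p e2
    · exact mul_left_cancel₀ h0 e1

theorem SQP.isIntegral {C : Subalgebra A B} (hC : C ≤ integralClosure A B) {x : B}
    (hx : SQP C x) : x ∈ integralClosure A B := by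
  rcases hx with ⟨h2, -⟩ | ⟨p, hp, -, h⟩
  · exact IsIntegral.of_pow two_pos (hC h2)
  · exact IsIntegral.of_pow hp.pos (hC h)

/-- `rtSub` as a subalgebra. -/
def rtAlg (A : Type u) {B : Type u} [CommRing A] [CommRing B] [Algebra A B] (q : Ideal B)
    [q.IsPrime] : Subalgebra A B where
  toSubsemiring := (rtSub (algebraMap A B) q).toSubsemiring
  algebraMap_mem' a := self_mem_rtSub _ q a

theorem SQ.mem_rtAlg {q : Ideal B} [q.IsPrime] {C : Subalgebra A B}
    (hC : C ≤ rtAlg A q) {x : B} (hx : SQ C x) : x ∈ rtAlg A q := by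
  obtain ⟨a₂, s₂, hs₂, hm₂⟩ := hC hx.1
  obtain ⟨a₃, s₃, hs₃, hm₃⟩ := hC hx.2
  by_cases h : x ∈ q
  · exact ⟨0, 1, by simpa using q.one_notMem, by simpa using h⟩
  refine ⟨a₃ * s₂, s₃ * a₂, ?_, ?_⟩
  · intro hmem
    rw [map_mul] at hmem
    rcases (inferInstance : q.IsPrime).mem_or_mem hmem with h0 | h0
    · exact hs₃ h0
    · have : algebraMap A B s₂ * x ^ 2 ∈ q := by simpa using q.add_mem hm₂ h0
      rcases (inferInstance : q.IsPrime).mem_or_mem this with h1 | h1
      · exact hs₂ h1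
      · exact h ((inferInstance : q.IsPrime).mem_of_pow_mem 2 h1)
  · have := q.sub_mem (q.mul_mem_left (algebraMap A B s₂) hm₃)
      (q.mul_mem_left (algebraMap A B s₃ * x) hm₂)
    convert this using 1
    simp only [map_mul]; ring

/-- Towers give integrality and universal injectivity. -/
theorem isIntegral_and_ui_of_reach
    (h : ∀ b : B, ∃ l, Valid (SQP (A := A)) l ∧ b ∈ Algebra.adjoin A {x : B | x ∈ l}) :
    (algebraMap A B).IsIntegral ∧ UI (algebraMap A B) := by
  refine ⟨fun b => ?_, fun K _ g₁ g₂ e => RingHom.ext fun b => ?_⟩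
  · obtain ⟨l, hl, hb⟩ := h b
    exact hl.le_of_forall (S := integralClosure A B) (fun C hC x => SQP.isIntegral hC) hb
  · obtain ⟨l, hl, hb⟩ := h b
    exact mem_eqSub.mp (hl.le_of_forall (S := eqSub A g₁ g₂ e)
      (fun C hC x => SQP.mem_eqSub_field hC) hb)

theorem rt_of_reach
    (h : ∀ b : B, ∃ l, Valid (SQ (A := A)) l ∧ b ∈ Algebra.adjoin A {x : B | x ∈ l}) :
    RT (algebraMap A B) := by
  intro q hq b
  obtain ⟨l, hl, hb⟩ := h b
  exact hl.le_of_forall (S := rtAlg A q) (fun C hC x => SQ.mem_rtAlg hC) hb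

theorem exists_sq_cube_of_eventually {R : Type u} [CommRing R] (S : Subring R) {y : R}
    (hy : y ∉ S) {N : ℕ} (h : ∀ m, N ≤ m → y ^ m ∈ S) :
    ∃ b : R, b ∉ S ∧ b ^ 2 ∈ S ∧ b ^ 3 ∈ S := by
  classical
  let P : ℕ → Prop := fun m => y ^ m ∉ S
  have hN : 1 < N := by
    by_contra hN
    exact hy (pow_one y ▸ h 1 (by omega))
  have h1 : P 1 := by simpa [P] using hy
  have hm0 : P (Nat.findGreatest P N) := Nat.findGreatest_spec hN.le h1
  have hm1 : 1 ≤ Nat.findGreatest P N := Nat.le_findGreatest hN.le h1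
  have hgt : ∀ m, Nat.findGreatest P N < m → y ^ m ∈ S := fun m hm => by
    by_cases hmN : m ≤ N
    · exact not_not.mp (Nat.findGreatest_is_greatest hm hmN)
    · exact h m (by omega)
  refine ⟨_, hm0, ?_, ?_⟩ <;> rw [← pow_mul] <;> exact hgt _ (by omega)

/-- The finite case of the key step. -/
theorem exists_step_finite [Module.Finite A B] (hinj : Function.Injective (algebraMap A B))
    (hns : ¬ Function.Surjective (algebraMap A B)) (hui : UI (algebraMap A B)) :
    (∃ b : B, b ∉ (algebraMap A B).range ∧ b ^ 2 ∈ (algebraMap A B).range ∧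
        b ^ 3 ∈ (algebraMap A B).range) ∨
      (¬ RT (algebraMap A B) ∧ ∃ (p : ℕ) (b : B), p.Prime ∧ b ∉ (algebraMap A B).range ∧
        (p : B) * b ∈ (algebraMap A B).range ∧ b ^ p ∈ (algebraMap A B).range) := by
  classical
  set φ := algebraMap A B with hφ
  let I : Ideal B :=
    { carrier := {y | ∀ x, y * x ∈ φ.range}
      zero_mem' := fun x => by simp
      add_mem' := fun hy hz x => by rw [add_mul]; exact add_mem (hy x) (hz x)
      smul_mem' := fun c y hy x => by
        rw [smul_eq_mul, mul_comm c y, mul_assoc]; exact hy (c * x) }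
  have hI : ∀ y, y ∈ I → y ∈ φ.range := fun y hy => by simpa using hy 1
  have hne : I.comap φ ≠ ⊤ := fun h => hns fun b => by
    have h1 : φ 1 ∈ I := Ideal.mem_comap.mp (h ▸ Submodule.mem_top)
    simpa using h1 b
  obtain ⟨M, hM, hIM⟩ := Ideal.exists_le_maximal _ hne
  obtain ⟨p, hp, -⟩ := Ideal.exists_minimalPrimes_le (J := M) hIM
  haveI hpp : p.IsPrime := hp.1.1
  have hint : φ.IsIntegral := algebraMap_isIntegral_iff.mpr inferInstance
  obtain ⟨q, hq⟩ := hint.comap_surjective hinj ⟨p, hpp⟩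
  have hqp : q.asIdeal.comap φ = p := congrArg PrimeSpectrum.asIdeal hq
  -- the elements which are in `A` locally at `p`
  let A' : Subring B :=
    { carrier := {b | ∃ s, s ∉ p ∧ φ s * b ∈ φ.range}
      zero_mem' := ⟨1, p.one_notMem, by simp⟩
      one_mem' := ⟨1, p.one_notMem, by simp⟩
      neg_mem' := fun ⟨s, hs, hm⟩ => ⟨s, hs, by simpa using neg_mem hm⟩
      add_mem' := fun {b c} ⟨s, hs, hm⟩ ⟨t, ht, hn⟩ => ⟨s * t, hpp.mul_notMem hs ht, by
        have e : φ (s * t) * (b + c) = φ t * (φ s * b) + φ s * (φ t * c) := by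
          rw [map_mul]; ring
        rw [e]; exact add_mem (mul_mem ⟨t, rfl⟩ hm) (mul_mem ⟨s, rfl⟩ hn)⟩
      mul_mem' := fun {b c} ⟨s, hs, hm⟩ ⟨t, ht, hn⟩ => ⟨s * t, hpp.mul_notMem hs ht, by
        have e : φ (s * t) * (b * c) = (φ s * b) * (φ t * c) := by
          rw [map_mul]; ring
        rw [e]; exact mul_mem hm hn⟩ }
  have hA : ∀ a, φ a ∈ A' := fun a => ⟨1, p.one_notMem, by simp⟩
  have hdiv : ∀ s b, s ∉ p → φ s * b ∈ A' → b ∈ A' := fun s b hs ⟨t, ht, hm⟩ =>
    ⟨t * s, hpp.mul_notMem ht hs, by rw [map_mul, mul_assoc]; exact hm⟩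
  have hA' : ∃ b, b ∉ A' := by
    by_contra h
    simp only [not_exists, not_not] at h
    obtain ⟨T, hT⟩ := Module.Finite.fg_top (R := A) (M := B)
    choose s hs hm using h
    have hprod : ∏ g ∈ T, s g ∉ p := fun hmem => by
      obtain ⟨g, -, hg⟩ := (hpp.prod_mem_iff).mp hmem
      exact hs g hg
    refine hprod (hp.1.2 (show φ (∏ g ∈ T, s g) ∈ I from fun x => ?_))
    induction (hT ▸ Submodule.mem_top : x ∈ Submodule.span A (T : Set B))
      using Submodule.span_induction with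
    | mem g hg =>
      rw [← Finset.prod_erase_mul T s (Finset.mem_coe.mp hg), map_mul, mul_assoc]
      exact mul_mem ⟨_, rfl⟩ (hm g)
    | zero => simp
    | add x y _ _ hx hy => rw [mul_add]; exact add_mem hx hy
    | smul a x _ hx =>
      rw [Algebra.smul_def, mul_left_comm]
      exact mul_mem ⟨a, rfl⟩ hx
  by_cases hqA : ∀ x ∈ q.asIdeal, x ∈ A'
  · right
    obtain ⟨b, hb⟩ := hA'
    have key : ∀ c, c ∈ rtSub φ q.asIdeal → c ∈ A' := by
      rintro c ⟨a, s, hs, hm⟩
      refine hdiv s c (fun h' => hs ((SetLike.ext_iff.mp hqp s).mpr h')) ?_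
      simpa using add_mem (hqA _ hm) (hA a)
    refine ⟨fun hrt => hb (key b (hrt q.asIdeal q.isPrime b)), ?_⟩
    rcases hui.pow_mem q b with h | ⟨ℓ, hℓ, hℓq, n, hn⟩
    · exact absurd (key b h) hb
    have hex : ∃ n, b ^ ℓ ^ n ∈ A' := ⟨n, key _ hn⟩
    have hn1 : Nat.find hex ≠ 0 := fun h0 => hb (by
      have := Nat.find_spec hex; rwa [h0, pow_zero, pow_one] at this)
    obtain ⟨k, hk⟩ := Nat.exists_eq_succ_of_ne_zero hn1
    have hc : b ^ ℓ ^ k ∉ A' := Nat.find_min hex (by omega)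
    have hcp : (b ^ ℓ ^ k) ^ ℓ ∈ A' := by
      rw [← pow_mul, ← pow_succ]
      have := Nat.find_spec hex; rwa [hk] at this
    obtain ⟨s₁, hs₁, hm₁⟩ := hcp
    obtain ⟨s₂, hs₂, hm₂⟩ := hqA _ (q.asIdeal.mul_mem_right (b ^ ℓ ^ k) hℓq)
    refine ⟨ℓ, φ (s₁ * s₂) * b ^ ℓ ^ k, hℓ, fun h =>
      hc ⟨_, hpp.mul_notMem hs₁ hs₂, h⟩, ?_, ?_⟩
    · have : φ (s₁ * s₂) * ((ℓ : B) * b ^ ℓ ^ k) ∈ φ.range := by
        rw [map_mul, mul_assoc]; exact mul_mem ⟨_, rfl⟩ hm₂
      convert this using 1; ring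
    · obtain ⟨l, hl⟩ := Nat.exists_eq_succ_of_ne_zero hℓ.ne_zero
      have e : (φ (s₁ * s₂) * b ^ ℓ ^ k) ^ ℓ =
          φ (s₁ ^ l * s₂ ^ ℓ) * (φ s₁ * (b ^ ℓ ^ k) ^ ℓ) := by
        rw [mul_pow, map_mul, mul_pow, map_mul, map_pow, map_pow]
        rw [show φ s₁ ^ ℓ = φ s₁ ^ l * φ s₁ by rw [hl, pow_succ]]
        ring
      rw [e]; exact mul_mem ⟨_, rfl⟩ hm₁
  · left
    simp only [not_forall] at hqA
    obtain ⟨x, hx, hxA⟩ := hqA
    have hdisj : ¬ Disjoint (I : Set B)
        ((Submonoid.map φ p.primeCompl ⊔ Submonoid.powers x : Submonoid B) : Set B) := by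
      intro hd
      obtain ⟨Q, hQ, hIQ, hdQ⟩ := Ideal.exists_le_prime_disjoint I _ hd
      have hle : Q.comap φ ≤ p := fun a ha => by
        by_contra hap
        exact Set.disjoint_left.mp hdQ ha
          (SetLike.mem_coe.mpr (Submonoid.mem_sup_left ⟨a, hap, rfl⟩))
      have hge := hp.2 ⟨Ideal.IsPrime.comap φ, Ideal.comap_mono hIQ⟩ hle
      have : (⟨Q, hQ⟩ : PrimeSpectrum B) = q := hui.comap_injective
        (PrimeSpectrum.ext ((le_antisymm hle hge).trans hqp.symm))
      have hxQ : x ∈ Q := by rw [← this] at hx; exact hx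
      exact Set.disjoint_left.mp hdQ hxQ
        (SetLike.mem_coe.mpr (Submonoid.mem_sup_right ⟨1, pow_one x⟩))
    obtain ⟨z, hz, hz'⟩ := Set.not_disjoint_iff.mp hdisj
    obtain ⟨_, ⟨s, hs, rfl⟩, _, ⟨N, rfl⟩, rfl⟩ := Submonoid.mem_sup.mp hz'
    obtain ⟨b, hb⟩ := exists_sq_cube_of_eventually φ.range (y := φ s * x)
      (fun h => hxA ⟨s, hs, h⟩) (N := N + 1) (fun m hm => by
        have e : (φ s * x) ^ m = (φ s * x ^ N) * (φ s ^ (m - 1) * x ^ (m - N)) := by
          rw [mul_pow]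
          conv_lhs => rw [show m = (m - 1) + 1 by omega, pow_succ]
          conv_lhs => rw [show (m - 1) + 1 = N + (m - N) by omega, pow_add]
          ring
        rw [e]; exact hz _)
    exact ⟨b, hb⟩

/-- The key step. -/
theorem exists_step (hinj : Function.Injective (algebraMap A B))
    (hns : ¬ Function.Surjective (algebraMap A B)) (hint : (algebraMap A B).IsIntegral)
    (hui : UI (algebraMap A B)) :
    (∃ b : B, b ∉ (algebraMap A B).range ∧ b ^ 2 ∈ (algebraMap A B).range ∧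
        b ^ 3 ∈ (algebraMap A B).range) ∨
      (¬ RT (algebraMap A B) ∧ ∃ (p : ℕ) (b : B), p.Prime ∧ b ∉ (algebraMap A B).range ∧
        (p : B) * b ∈ (algebraMap A B).range ∧ b ^ p ∈ (algebraMap A B).range) := by
  simp only [Function.Surjective, not_forall] at hns
  obtain ⟨b₀, hb₀⟩ := hns
  let D := Algebra.adjoin A ({b₀} : Set B)
  have hDval : Function.Injective D.val.toRingHom := Subtype.val_injective
  have hDint : D.val.toRingHom.IsIntegral := RingHom.IsIntegral.tower_top (f := algebraMap A D) _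
    (by convert hint; exact D.val.comp_algebraMap)
  have hcomp : D.val.toRingHom.comp (algebraMap A D) = algebraMap A B := D.val.comp_algebraMap
  haveI : Module.Finite A D :=
    Module.Finite.iff_fg.mpr (IsIntegral.fg_adjoin_singleton (hint b₀))
  have hinjD : Function.Injective (algebraMap A D) := fun a a' e => hinj (by
    rw [← hcomp]; exact congrArg D.val e)
  have hnsD : ¬ Function.Surjective (algebraMap A D) := fun h => by
    obtain ⟨a, ha⟩ := h ⟨b₀, Algebra.self_mem_adjoin_singleton A b₀⟩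
    exact hb₀ ⟨a, congrArg Subtype.val ha⟩
  have huiD : UI (algebraMap A D) :=
    UI.of_injective_isIntegral hDval hDint (by rw [hcomp]; exact hui)
  have hout : ∀ d : D, d ∉ (algebraMap A D).range → (d : B) ∉ (algebraMap A B).range :=
    fun d hd ⟨a, ha⟩ => hd ⟨a, Subtype.ext ha⟩
  have hin : ∀ d : D, d ∈ (algebraMap A D).range → (d : B) ∈ (algebraMap A B).range :=
    fun d ⟨a, ha⟩ => ⟨a, congrArg Subtype.val ha⟩
  rcases exists_step_finite hinjD hnsD huiD with ⟨d, h1, h2, h3⟩ | ⟨hrt, p, d, hp, h1, h2, h3⟩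
  · exact Or.inl ⟨d, hout d h1, by simpa using hin _ h2, by simpa using hin _ h3⟩
  · refine Or.inr ⟨fun h => hrt (RT.of_injective_isIntegral hDval hDint (by rw [hcomp]; exact h)),
      p, d, hp, hout d h1, by simpa using hin _ h2, by simpa using hin _ h3⟩

/-- The elements reachable by towers. -/
def reach (P : Subalgebra A B → B → Prop)
    (hP : ∀ C D : Subalgebra A B, C ≤ D → ∀ x, P C x → P D x) : Subalgebra A B where
  carrier := {b | ∃ l, Valid P l ∧ b ∈ Algebra.adjoin A {x : B | x ∈ l}}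
  algebraMap_mem' a := ⟨[], fun i => i.elim0, Subalgebra.algebraMap_mem _ a⟩
  add_mem' := fun ⟨l, hl, hb⟩ ⟨m, hm, hc⟩ => ⟨l ++ m, hl.append hP hm, add_mem
    (Algebra.adjoin_mono (by intro x hx; simp at hx ⊢; exact Or.inl hx) hb)
    (Algebra.adjoin_mono (by intro x hx; simp at hx ⊢; exact Or.inr hx) hc)⟩
  mul_mem' := fun ⟨l, hl, hb⟩ ⟨m, hm, hc⟩ => ⟨l ++ m, hl.append hP hm, mul_mem
    (Algebra.adjoin_mono (by intro x hx; simp at hx ⊢; exact Or.inl hx) hb)
    (Algebra.adjoin_mono (by intro x hx; simp at hx ⊢; exact Or.inr hx) hc)⟩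

theorem reach_pair {P : Subalgebra A B → B → Prop}
    (hP : ∀ C D : Subalgebra A B, C ≤ D → ∀ x, P C x → P D x) {b c x : B}
    (hb : b ∈ reach P hP) (hc : c ∈ reach P hP)
    (h : ∀ C : Subalgebra A B, b ∈ C → c ∈ C → P C x) : x ∈ reach P hP := by
  obtain ⟨l, hl, hlb⟩ := hb
  obtain ⟨m, hm, hmc⟩ := hc
  refine ⟨(l ++ m) ++ [x], (hl.append hP hm).snoc hP (h _ ?_ ?_), Algebra.subset_adjoin (by simp)⟩
  · exact Algebra.adjoin_mono (by intro x hx; simp at hx ⊢; exact Or.inl hx) hlb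
  · exact Algebra.adjoin_mono (by intro x hx; simp at hx ⊢; exact Or.inr hx) hmc

theorem exists_valid_of_forall {P : Subalgebra A B → B → Prop}
    (hP : ∀ C D : Subalgebra A B, C ≤ D → ∀ x, P C x → P D x)
    (h : ∀ b : B, b ∈ reach P hP) (E : Finset B) :
    ∃ l, Valid P l ∧ (↑E : Set B) ⊆ Algebra.adjoin A {x : B | x ∈ l} := by
  classical
  induction E using Finset.induction_on with
  | empty => exact ⟨[], fun i => i.elim0, by simp⟩
  | insert e E _ ih =>
    obtain ⟨l, hl, hlE⟩ := ih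
    obtain ⟨m, hm, hme⟩ := h e
    refine ⟨l ++ m, hl.append hP hm, ?_⟩
    rw [Finset.coe_insert, Set.insert_subset_iff]
    exact ⟨Algebra.adjoin_mono (by intro x hx; simp at hx ⊢; exact Or.inr hx) hme,
      hlE.trans (SetLike.coe_subset_coe.mpr
        (Algebra.adjoin_mono (by intro x hx; simp at hx ⊢; exact Or.inl hx)))⟩

theorem reach_SQP_eq_top (hint : (algebraMap A B).IsIntegral) (hui : UI (algebraMap A B))
    (b : B) : b ∈ reach (SQP (A := A) (B := B)) SQP.mono := by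
  set C := reach (SQP (A := A) (B := B)) SQP.mono
  by_contra hb
  have hcomp : (algebraMap C B).comp (algebraMap A C) = algebraMap A B := rfl
  have hint' : (algebraMap C B).IsIntegral :=
    RingHom.IsIntegral.tower_top (f := algebraMap A C) _ (by rw [hcomp]; exact hint)
  have hns : ¬ Function.Surjective (algebraMap C B) := fun h => by
    obtain ⟨c, rfl⟩ := h b; exact hb c.2
  have hmem : ∀ x : B, x ∈ (algebraMap C B).range → x ∈ C := fun x ⟨c, hc⟩ => hc ▸ c.2
  have hmem' : ∀ x : B, x ∈ C → x ∈ (algebraMap C B).range := fun x hx => ⟨⟨x, hx⟩, rfl⟩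
  rcases exists_step (A := C) Subtype.val_injective hns hint'
      (UI.of_comp (algebraMap A C) _ (by rw [hcomp]; exact hui)) with
    ⟨x, h1, h2, h3⟩ | ⟨-, p, x, hp, h1, h2, h3⟩
  · exact h1 (hmem' _ (reach_pair SQP.mono (hmem _ h2) (hmem _ h3)
      fun D hb hc => Or.inl ⟨hb, hc⟩))
  · exact h1 (hmem' _ (reach_pair SQP.mono (hmem _ h2) (hmem _ h3)
      fun D hb hc => Or.inr ⟨p, hp, hb, hc⟩))

theorem reach_SQ_eq_top (hint : (algebraMap A B).IsIntegral) (hui : UI (algebraMap A B))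
    (hrt : RT (algebraMap A B))
    (b : B) : b ∈ reach (SQ (A := A) (B := B)) SQ.mono := by
  set C := reach (SQ (A := A) (B := B)) SQ.mono
  by_contra hb
  have hcomp : (algebraMap C B).comp (algebraMap A C) = algebraMap A B := rfl
  have hint' : (algebraMap C B).IsIntegral :=
    RingHom.IsIntegral.tower_top (f := algebraMap A C) _ (by rw [hcomp]; exact hint)
  have hns : ¬ Function.Surjective (algebraMap C B) := fun h => by
    obtain ⟨c, rfl⟩ := h b; exact hb c.2
  have hmem : ∀ x : B, x ∈ (algebraMap C B).range → x ∈ C := fun x ⟨c, hc⟩ => hc ▸ c.2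
  have hmem' : ∀ x : B, x ∈ C → x ∈ (algebraMap C B).range := fun x hx => ⟨⟨x, hx⟩, rfl⟩
  rcases exists_step (A := C) Subtype.val_injective hns hint'
      (UI.of_comp (algebraMap A C) _ (by rw [hcomp]; exact hui)) with
    ⟨x, h1, h2, h3⟩ | ⟨hn, -⟩
  · exact h1 (hmem' _ (reach_pair SQ.mono (hmem _ h2) (hmem _ h3) fun D hb hc => ⟨hb, hc⟩))
  · exact hn (RT.of_comp (algebraMap A C) _ (by rw [hcomp]; exact hrt))

end Groth.PropsBasic.UH
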