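import Groth.Agent.PropsBasic.UnivHomeoTower

/-!
# An algebra as colimit of finitely presented algebras of a cofinal kind
-/

set_option autoImplicit false
set_option linter.style.haveILetI false
universe u
open CategoryTheory AlgebraicGeometry MvPolynomial

namespace Groth.PropsBasic.UH

variable (A B : Type u) [CommRing A] [CommRing B] [Algebra A B]

/-- Finitely many elements and finitely many relations. -/
structure FPData : Type u where
  gens : Finset B
  rels : Finset (MvPolynomial gens A)
  rels_eq : ∀ r ∈ rels, aeval (Subtype.val : gens → B) r = 0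

variable {A B}

/-- The presented ring. -/
abbrev FPData.Ring (d : FPData A B) : Type u :=
  MvPolynomial d.gens A ⧸ Ideal.span (d.rels : Set (MvPolynomial d.gens A))

/-- The map to `B`. -/
noncomputable def FPData.toB (d : FPData A B) : d.Ring →ₐ[A] B :=
  Ideal.Quotient.liftₐ _ (aeval Subtype.val) fun x hx => by
    refine (Ideal.span_le.mpr ?_ hx : x ∈ RingHom.ker (aeval (Subtype.val : d.gens → B)))
    exact fun r hr => d.rels_eq r hr

theorem FPData.toB_mk (d : FPData A B) (x : MvPolynomial d.gens A) :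
    d.toB (Ideal.Quotient.mk _ x) = aeval Subtype.val x := by
  rw [FPData.toB]; exact Ideal.Quotient.liftₐ_apply _ _ _ _ |>.trans (Ideal.Quotient.lift_mk _ _ _)

/-- The order on data. -/
instance : Preorder (FPData A B) where
  le d e := ∃ h : d.gens ⊆ e.gens, ∀ r ∈ d.rels,
    rename (Set.inclusion h) r ∈ Ideal.span (e.rels : Set (MvPolynomial e.gens A))
  le_refl d := ⟨Finset.Subset.refl _, fun r hr => by
    have : (Set.inclusion (Finset.Subset.refl d.gens) : d.gens → d.gens) = id := rfl
    rw [this, rename_id_apply]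
    exact Ideal.subset_span hr⟩
  le_trans d e f := by
    rintro ⟨h₁, h₁'⟩ ⟨h₂, h₂'⟩
    refine ⟨h₁.trans h₂, fun r hr => ?_⟩
    have : Ideal.span (e.rels : Set (MvPolynomial e.gens A)) ≤
        (Ideal.span (f.rels : Set (MvPolynomial f.gens A))).comap (rename (Set.inclusion h₂)) :=
      Ideal.span_le.mpr h₂'
    have h3 : rename (Set.inclusion h₂) (rename (Set.inclusion h₁) r) ∈
        Ideal.span (f.rels : Set (MvPolynomial f.gens A)) := this (h₁' r hr)
    rwa [rename_rename] at h3

/-- Transition maps. -/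
noncomputable def FPData.map {d e : FPData A B} (h : d ≤ e) : d.Ring →ₐ[A] e.Ring :=
  Ideal.Quotient.liftₐ _ ((Ideal.Quotient.mkₐ A _).comp (rename (Set.inclusion h.1))) fun x hx => by
    obtain ⟨h₁, h₁'⟩ := h
    have : Ideal.span (d.rels : Set (MvPolynomial d.gens A)) ≤
        (Ideal.span (e.rels : Set (MvPolynomial e.gens A))).comap (rename (Set.inclusion h₁)) :=
      Ideal.span_le.mpr h₁'
    exact Ideal.Quotient.eq_zero_iff_mem.mpr (this hx)

theorem FPData.map_mk {d e : FPData A B} (h : d ≤ e) (x : MvPolynomial d.gens A) :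
    FPData.map h (Ideal.Quotient.mk _ x) = Ideal.Quotient.mk _ (rename (Set.inclusion h.1) x) := by
  rw [FPData.map]; exact Ideal.Quotient.liftₐ_apply _ _ _ _ |>.trans (Ideal.Quotient.lift_mk _ _ _)

theorem FPData.toB_map {d e : FPData A B} (h : d ≤ e) (x : d.Ring) :
    e.toB (FPData.map h x) = d.toB x := by
  obtain ⟨x, rfl⟩ := Ideal.Quotient.mk_surjective x
  rw [FPData.map_mk, FPData.toB_mk, FPData.toB_mk, aeval_rename]
  rfl

theorem FPData.finitePresentation (d : FPData A B) :
    (algebraMap A d.Ring).FinitePresentation := by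
  rw [RingHom.finitePresentation_algebraMap]
  exact Algebra.FinitePresentation.quotient ⟨d.rels, rfl⟩

theorem FPData.exists_ub (d e : FPData A B) : ∃ f, d ≤ f ∧ e ≤ f := by
  classical
  refine ⟨⟨d.gens ∪ e.gens,
    d.rels.image (rename (Set.inclusion (Finset.subset_union_left))) ∪
      e.rels.image (rename (Set.inclusion (Finset.subset_union_right))), ?_⟩,
    ⟨Finset.subset_union_left, fun r hr => Ideal.subset_span
      (Finset.mem_union_left _ (Finset.mem_image_of_mem _ hr))⟩,
    ⟨Finset.subset_union_right, fun r hr => Ideal.subset_span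
      (Finset.mem_union_right _ (Finset.mem_image_of_mem _ hr))⟩⟩
  intro r hr
  rcases Finset.mem_union.mp hr with h | h <;> obtain ⟨r, hr', rfl⟩ := Finset.mem_image.mp h <;>
    rw [aeval_rename]
  · exact d.rels_eq r hr'
  · exact e.rels_eq r hr'

theorem FPData.exists_colimit (Good : FPData A B → Prop)
    (hG : ∀ d, ∃ e, d ≤ e ∧ Good e) :
    ∃ (J : Type u) (_ : SmallCategory J) (_ : IsFiltered J) (F : J ⥤ Under (CommRingCat.of A))
      (c : Limits.Cocone F) (_ : Limits.IsColimit c) (dat : J → FPData A B),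
      (∀ j, Good (dat j) ∧
        F.obj j = Under.mk (CommRingCat.ofHom (algebraMap A (dat j).Ring))) ∧
      Nonempty (c.pt ≅ Under.mk (CommRingCat.ofHom (algebraMap A B))) := by
  classical
  let J := {d : FPData A B // Good d}
  haveI : Nonempty J := by
    obtain ⟨e, -, he⟩ := hG ⟨∅, ∅, by simp⟩
    exact ⟨⟨e, he⟩⟩
  haveI : IsDirected J (· ≤ ·) := ⟨fun a b => by
    obtain ⟨f, h₁, h₂⟩ := FPData.exists_ub a.1 b.1
    obtain ⟨g, h₃, hg⟩ := hG f
    exact ⟨⟨g, hg⟩, h₁.trans h₃, h₂.trans h₃⟩⟩
  haveI : IsFiltered J := inferInstance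
  let F : J ⥤ Under (CommRingCat.of A) :=
    { obj := fun j => Under.mk (CommRingCat.ofHom (algebraMap A j.1.Ring))
      map := fun {i j} h => Under.homMk (CommRingCat.ofHom (FPData.map (leOfHom h)).toRingHom)
        (CommRingCat.hom_ext (FPData.map (leOfHom h)).comp_algebraMap)
      map_id := fun j => by
        refine Under.UnderMorphism.ext (CommRingCat.hom_ext (RingHom.ext fun x => ?_))
        obtain ⟨x, rfl⟩ := Ideal.Quotient.mk_surjective x
        have := FPData.map_mk (leOfHom (𝟙 j)) x
        rwa [show (Set.inclusion (leOfHom (𝟙 j)).1 : j.1.gens → j.1.gens) = id from rfl,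
          rename_id_apply] at this
      map_comp := fun {i j k} f g => by
        refine Under.UnderMorphism.ext (CommRingCat.hom_ext (RingHom.ext fun x => ?_))
        obtain ⟨x, rfl⟩ := Ideal.Quotient.mk_surjective x
        change FPData.map (leOfHom (f ≫ g)) (Ideal.Quotient.mk _ x) =
          FPData.map (leOfHom g) (FPData.map (leOfHom f) (Ideal.Quotient.mk _ x))
        rw [FPData.map_mk, FPData.map_mk, FPData.map_mk, rename_rename]
        rfl }
  let c : Limits.Cocone F :=
    { pt := Under.mk (CommRingCat.ofHom (algebraMap A B))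
      ι :=
        { app := fun j => Under.homMk (CommRingCat.ofHom j.1.toB.toRingHom)
            (CommRingCat.hom_ext j.1.toB.comp_algebraMap)
          naturality := fun i j f => by
            refine Under.UnderMorphism.ext (CommRingCat.hom_ext (RingHom.ext fun x => ?_))
            exact FPData.toB_map (leOfHom f) x } }
  have hT : Limits.IsColimit
      ((Under.forget (CommRingCat.of A) ⋙ CategoryTheory.forget CommRingCat.{u}).mapCocone c) := by
    refine Limits.Types.FilteredColimit.isColimitOf _ _ (fun b => ?_) (fun i j xi xj hij => ?_)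
    · obtain ⟨e, ⟨hs, -⟩, he⟩ := hG ⟨{(b : B)}, ∅, by simp⟩
      refine ⟨⟨e, he⟩, Ideal.Quotient.mk _ (X ⟨b, hs (Finset.mem_singleton_self b)⟩), ?_⟩
      change b = e.toB (Ideal.Quotient.mk _ (X ⟨b, hs (Finset.mem_singleton_self b)⟩))
      rw [FPData.toB_mk, aeval_X]
    · obtain ⟨f, hif, hjf⟩ := FPData.exists_ub i.1 j.1
      obtain ⟨xi, rfl⟩ := Ideal.Quotient.mk_surjective xi
      obtain ⟨xj, rfl⟩ := Ideal.Quotient.mk_surjective xj
      have hij' : aeval (R := A) (Subtype.val : i.1.gens → B) xi =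
          aeval (R := A) (Subtype.val : j.1.gens → B) xj := by
        rw [← FPData.toB_mk, ← FPData.toB_mk]; exact hij
      let r := rename (Set.inclusion hif.1) xi - rename (Set.inclusion hjf.1) xj
      let f' : FPData A B := ⟨f.gens, insert r f.rels, fun t ht => by
        rcases Finset.mem_insert.mp ht with rfl | ht
        · rw [map_sub, aeval_rename, aeval_rename, sub_eq_zero]; exact hij'
        · exact f.rels_eq t ht⟩
      have hff : f ≤ f' := ⟨Finset.Subset.refl _, fun t ht => by
        rw [show (Set.inclusion (Finset.Subset.refl f.gens) : f.gens → f.gens) = id from rfl,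
          rename_id_apply]
        exact Ideal.subset_span (Finset.mem_insert_of_mem ht)⟩
      obtain ⟨g, hg, hgG⟩ := hG f'
      have hik : i ≤ (⟨g, hgG⟩ : J) := hif.trans (hff.trans hg)
      have hjk : j ≤ (⟨g, hgG⟩ : J) := hjf.trans (hff.trans hg)
      refine ⟨⟨g, hgG⟩, homOfLE hik, homOfLE hjk, ?_⟩
      change FPData.map hik (Ideal.Quotient.mk _ xi) = FPData.map hjk (Ideal.Quotient.mk _ xj)
      rw [FPData.map_mk, FPData.map_mk, Ideal.Quotient.eq]
      have h := hg.2 r (Finset.mem_insert_self _ _)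
      simp only [r, map_sub, rename_rename] at h
      exact h
  haveI : IsConnected J := IsFiltered.isConnected J
  haveI : Limits.ReflectsColimitsOfShape J (CategoryTheory.forget CommRingCat.{u}) :=
    Limits.reflectsColimitsOfShape_of_reflectsIsomorphisms
  exact ⟨J, inferInstance, inferInstance, F, c,
    Limits.isColimitOfReflects (Under.forget (CommRingCat.of A) ⋙
      CategoryTheory.forget CommRingCat.{u}) hT,
    fun j => j.1, fun j => ⟨j.2, rfl⟩, ⟨Iso.refl _⟩⟩

/-- A way of transporting steps to finitely presented covers. -/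
def Liftable (P : ∀ (R : Type u) [CommRing R] [Algebra A R], Subalgebra A R → R → Prop) : Prop :=
  ∀ (σ B' : Type u) [CommRing B'] [Algebra A B'] (f : MvPolynomial σ A →ₐ[A] B')
    (T : Subalgebra A (MvPolynomial σ A)) (x : MvPolynomial σ A), P B' (T.map f) (f x) →
    ∃ R : Finset (MvPolynomial σ A), (∀ r ∈ R, f r = 0) ∧
      ∀ (Q : Type u) [CommRing Q] [Algebra A Q] (g : MvPolynomial σ A →ₐ[A] Q),
        (∀ r ∈ R, g r = 0) → P Q (T.map g) (g x)

theorem liftable_SQ : Liftable (A := A) (fun R _ _ => SQ (B := R)) := by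
  intro σ B' _ _ f T x ⟨⟨P, hP, hP'⟩, ⟨Q, hQ, hQ'⟩⟩
  classical
  refine ⟨{x ^ 2 - P, x ^ 3 - Q}, ?_, fun S _ _ g hg => ?_⟩
  · intro r hr
    simp only [Finset.mem_insert, Finset.mem_singleton] at hr
    rcases hr with rfl | rfl <;> rw [map_sub, map_pow, sub_eq_zero]
    exacts [hP'.symm, hQ'.symm]
  · have h1 := hg (x ^ 2 - P) (by simp)
    have h2 := hg (x ^ 3 - Q) (by simp)
    rw [map_sub, map_pow, sub_eq_zero] at h1 h2
    exact ⟨h1 ▸ ⟨P, hP, rfl⟩, h2 ▸ ⟨Q, hQ, rfl⟩⟩

theorem liftable_SQP : Liftable (A := A) (fun R _ _ => SQP (B := R)) := by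
  intro σ B' _ _ f T x h
  classical
  rcases h with h | ⟨p, hp, ⟨P, hP, hP'⟩, ⟨Q, hQ, hQ'⟩⟩
  · obtain ⟨R, h1, h2⟩ := liftable_SQ σ B' f T x h
    exact ⟨R, h1, fun S _ _ g hg => Or.inl (h2 S g hg)⟩
  refine ⟨{(p : MvPolynomial σ A) * x - P, x ^ p - Q}, ?_, fun S _ _ g hg => Or.inr ⟨p, hp, ?_, ?_⟩⟩
  · intro r hr
    simp only [Finset.mem_insert, Finset.mem_singleton] at hr
    rcases hr with rfl | rfl
    · rw [map_sub, map_mul, map_natCast, sub_eq_zero]; exact hP'.symm
    · rw [map_sub, map_pow, sub_eq_zero]; exact hQ'.symm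
  · have h1 := hg ((p : MvPolynomial σ A) * x - P) (by simp)
    rw [map_sub, map_mul, map_natCast, sub_eq_zero] at h1
    exact h1 ▸ ⟨P, hP, rfl⟩
  · have h1 := hg (x ^ p - Q) (by simp)
    rw [map_sub, map_pow, sub_eq_zero] at h1
    exact h1 ▸ ⟨Q, hQ, rfl⟩

theorem FPData.exists_good (P : ∀ (R : Type u) [CommRing R] [Algebra A R], Subalgebra A R → R → Prop)
    (hmono : ∀ C D : Subalgebra A B, C ≤ D → ∀ x, P B C x → P B D x) (hlift : Liftable P)
    (hreach : ∀ E : Finset B, ∃ l, Valid (P B) l ∧ (↑E : Set B) ⊆ Algebra.adjoin A {x : B | x ∈ l})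
    (d : FPData A B) :
    ∃ e, d ≤ e ∧ ∃ l, Valid (P e.Ring) l ∧ Algebra.adjoin A {x : e.Ring | x ∈ l} = ⊤ := by
  classical
  obtain ⟨l, hl, hlE⟩ := hreach d.gens
  let s := d.gens ∪ l.toFinset
  let v : Fin l.length → s :=
    fun i => ⟨l.get i, Finset.mem_union_right _ (List.mem_toFinset.mpr (List.get_mem l i))⟩
  let f : MvPolynomial s A →ₐ[A] B := aeval Subtype.val
  have hfv : ∀ i, f (X (v i)) = l.get i := fun i => aeval_X _ _
  let T : Fin l.length → Subalgebra A (MvPolynomial s A) :=
    fun i => Algebra.adjoin A {q | ∃ j, j < i ∧ q = X (v j)}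
  have hT : ∀ i, P B ((T i).map f) (f (X (v i))) := fun i => by
    rw [hfv]
    refine hmono _ _ ?_ _ (hl i)
    refine Algebra.adjoin_le ?_
    rintro b ⟨j, hj, rfl⟩
    exact ⟨X (v j), Algebra.subset_adjoin ⟨j, hj, rfl⟩, hfv j⟩
  choose R hR hR' using fun i => hlift s B f (T i) (X (v i)) (hT i)
  have hz : ∀ b : s, ∃ q ∈ Algebra.adjoin A (Set.range fun i => (X (v i) : MvPolynomial s A)),
      f q = (b : B) := by
    intro b
    have hb : (b : B) ∈ Algebra.adjoin A {x : B | x ∈ l} := by
      rcases Finset.mem_union.mp b.2 with h | h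
      · exact hlE h
      · exact Algebra.subset_adjoin (List.mem_toFinset.mp h)
    have : Algebra.adjoin A {x : B | x ∈ l} ≤
        (Algebra.adjoin A (Set.range fun i => (X (v i) : MvPolynomial s A))).map f := by
      refine Algebra.adjoin_le fun x hx => ?_
      obtain ⟨i, rfl⟩ := List.get_of_mem hx
      exact ⟨X (v i), Algebra.subset_adjoin ⟨i, rfl⟩, hfv i⟩
    exact this hb
  choose q hq hq' using hz
  let rels : Finset (MvPolynomial s A) :=
    d.rels.image (rename (Set.inclusion Finset.subset_union_left)) ∪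
      (Finset.univ.biUnion R ∪ Finset.univ.image fun b : s => X b - q b)
  let e : FPData A B := ⟨s, rels, fun r hr => by
    rcases Finset.mem_union.mp hr with h | h
    · obtain ⟨r, hr', rfl⟩ := Finset.mem_image.mp h
      rw [aeval_rename]; exact d.rels_eq r hr'
    rcases Finset.mem_union.mp h with h | h
    · obtain ⟨i, -, hi⟩ := Finset.mem_biUnion.mp h
      exact hR i r hi
    · obtain ⟨b, -, rfl⟩ := Finset.mem_image.mp h
      rw [map_sub, aeval_X, sub_eq_zero]; exact (hq' b).symm⟩
  let π : MvPolynomial s A →ₐ[A] e.Ring := Ideal.Quotient.mkₐ A _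
  have hπ : ∀ r ∈ rels, π r = 0 := fun r hr =>
    Ideal.Quotient.eq_zero_iff_mem.mpr (Ideal.subset_span hr)
  refine ⟨e, ⟨Finset.subset_union_left, fun r hr => Ideal.subset_span
    (Finset.mem_union_left _ (Finset.mem_image_of_mem _ hr))⟩,
    List.ofFn fun i => π (X (v i)), ?_, ?_⟩
  · intro i
    have h := hR' (i.cast (List.length_ofFn ..)) e.Ring π fun r hr => hπ r
      (Finset.mem_union_right _ (Finset.mem_union_left _
        (Finset.mem_biUnion.mpr ⟨_, Finset.mem_univ _, hr⟩)))
    have e1 : (List.ofFn fun i => π (X (v i))).get i = π (X (v (i.cast (List.length_ofFn ..)))) := by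
      simp [Fin.cast]
    have e2 : (T (i.cast (List.length_ofFn ..))).map π =
        pre A (List.ofFn fun i => π (X (v i))) i := by
      rw [AlgHom.map_adjoin]
      congr 1
      ext z
      constructor
      · rintro ⟨_, ⟨j, hj, rfl⟩, rfl⟩
        exact ⟨j.cast (List.length_ofFn ..).symm, hj, by simp [Fin.cast]⟩
      · rintro ⟨j, hj, rfl⟩
        exact ⟨_, ⟨j.cast (List.length_ofFn ..), hj, rfl⟩, by simp [Fin.cast]⟩
    rw [e2, ← e1] at h
    exact h
  · have h1 : {x : e.Ring | x ∈ List.ofFn fun i => π (X (v i))} =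
        π '' Set.range fun i => (X (v i) : MvPolynomial s A) := by
      ext z; simp [List.mem_ofFn]
    rw [h1, ← AlgHom.map_adjoin, eq_top_iff]
    intro z _
    obtain ⟨z, rfl⟩ := Ideal.Quotient.mk_surjective z
    have : Algebra.adjoin A (Set.range (X : s → MvPolynomial s A)) ≤
        ((Algebra.adjoin A (Set.range fun i => (X (v i) : MvPolynomial s A))).map π).comap π := by
      refine Algebra.adjoin_le ?_
      rintro _ ⟨b, rfl⟩
      have := hπ (X b - q b) (Finset.mem_union_right _ (Finset.mem_union_right _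
        (Finset.mem_image_of_mem _ (Finset.mem_univ b))))
      rw [map_sub, sub_eq_zero] at this
      exact ⟨q b, hq b, this.symm⟩
    exact this (by rw [adjoin_range_X]; trivial)

theorem FPData.comap_surjective (d : FPData A B)
    (h : Function.Surjective (PrimeSpectrum.comap (algebraMap A B))) :
    Function.Surjective (PrimeSpectrum.comap (algebraMap A d.Ring)) := fun p => by
  obtain ⟨q, hq⟩ := h p
  refine ⟨PrimeSpectrum.comap d.toB.toRingHom q, ?_⟩
  rw [← PrimeSpectrum.comap_comp_apply]
  erw [d.toB.comp_algebraMap]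
  exact hq

end Groth.PropsBasic.UH
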