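import Groth.Agent.Ega2Proj.TwistGen
import Groth.Agent.PropsBasic.AmpleBasis
import Groth.Agent.Misc1.Twist.Cover
import Mathlib

/-!
# Quasi-compact schemes open in a `Proj` carry an ample power of `O(1)`
-/

universe u

open CategoryTheory AlgebraicGeometry Opposite TopologicalSpace DirectSum
open Groth.PicAux Groth.Ega2Proj Groth.PropsBasic.Ample

set_option backward.isDefEq.respectTransparency.types false

namespace Groth.PropsBasic.ProjImmAmple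

variable {R A : Type u} [CommRing R] [CommRing A] [Algebra R A] {𝒜 : ℕ → Submodule R A}
  [GradedAlgebra 𝒜]

/-- Some homogeneous element cuts out a neighbourhood inside a given one. -/
lemma exists_homogeneous_le {O : (Proj 𝒜).Opens} {y : Proj 𝒜} (hy : y ∈ O) :
    ∃ (e : ℕ) (g : A), g ∈ 𝒜 e ∧ y ∈ Proj.basicOpen 𝒜 g ∧ Proj.basicOpen 𝒜 g ≤ O := by
  obtain ⟨_, ⟨r, rfl⟩, hyr, hrO⟩ :=
    (ProjectiveSpectrum.isTopologicalBasis_basic_opens 𝒜).exists_subset_of_mem_open hy O.isOpen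
  have hex : ∃ i : ℕ, (DirectSum.decompose 𝒜 r i : A) ∉
      (y : ProjectiveSpectrum 𝒜).asHomogeneousIdeal := by
    by_contra hcon
    push Not at hcon
    refine hyr ?_
    classical
    rw [← DirectSum.sum_support_decompose 𝒜 r]
    exact Ideal.sum_mem _ fun i _ => hcon i
  obtain ⟨i, hi⟩ := hex
  exact ⟨i, _, SetLike.coe_mem _, hi, fun z hz => hrO fun hr =>
    hz ((z : ProjectiveSpectrum 𝒜).asHomogeneousIdeal.isHomogeneous i hr)⟩

variable {d : ℕ}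

/-- The coefficient between powers is the power of the coefficient. -/
lemma pwSec_coeff_pow {f g : A} (hf : f ∈ 𝒜 d) (hg : g ∈ 𝒜 d) (m : ℕ) {U : (Proj 𝒜).Opens}
    (hUf : ∀ x : ProjectiveSpectrum 𝒜, x ∈ U → f ∉ x.asHomogeneousIdeal)
    (hUg : ∀ x : ProjectiveSpectrum 𝒜, x ∈ U → g ∉ x.asHomogeneousIdeal) (a : Γ(Proj 𝒜, U))
    (ha : pwSec (N := (d : ℤ)) hf 1 (one_mul _).symm hUf =
      a • pwSec (N := (d : ℤ)) hg 1 (one_mul _).symm hUg) :
    pwSec (N := ((m * d : ℕ) : ℤ)) hf m (Nat.cast_mul m d) hUf =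
      a ^ m • pwSec (N := ((m * d : ℕ) : ℤ)) hg m (Nat.cast_mul m d) hUg := by
  refine wval_ext fun x hx => ?_
  have h1 := congrArg (fun s => wval s x hx) ha
  simp only [wval_smul, wval_pwSec, zpow_one] at h1
  rw [wval_smul, wval_pwSec, wval_pwSec]
  change _ = ((a.1 ⟨x, hx⟩) ^ m).val * _
  rw [HomogeneousLocalization.val_pow, zpow_natCast, zpow_natCast, Units.val_pow_eq_pow_val,
    Units.val_pow_eq_pow_val, h1, mul_pow]

variable {X : Scheme.{u}} (j : X ⟶ Proj 𝒜)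

theorem gloc_pullSec_globalSec {m : ℕ} {h : A} (hh : h ∈ 𝒜 (m * d))
    (hcov : iSup (fun f : 𝒜 d => j ⁻¹ᵁ Proj.basicOpen 𝒜 (f : A)) = ⊤) :
    gloc (L := (Scheme.Modules.pullback j).obj (Twist.twist 𝒜 ((m * d : ℕ) : ℤ)))
        (pullSec j _ (globalSec hh)) = j ⁻¹ᵁ Proj.basicOpen 𝒜 h := by
  refine opens_ext_cover hcov fun f => ?_
  have hU : ∀ x : ProjectiveSpectrum 𝒜, x ∈ Proj.basicOpen 𝒜 (f : A) →
      (f : A) ∉ x.asHomogeneousIdeal := fun _ hx => hx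
  have he := gen_pwSec (N := ((m * d : ℕ) : ℤ)) f.2 m (Nat.cast_mul m d) hU
  obtain ⟨c, hc⟩ := he.exists_coeff le_rfl
    (res (Twist.twist 𝒜 ((m * d : ℕ) : ℤ)) (le_top : Proj.basicOpen 𝒜 (f : A) ≤ ⊤) (globalSec hh))
  rw [res_self] at hc
  have hc' : res ((Scheme.Modules.pullback j).obj (Twist.twist 𝒜 ((m * d : ℕ) : ℤ)))
      (le_top : j ⁻¹ᵁ Proj.basicOpen 𝒜 (f : A) ≤ j ⁻¹ᵁ ⊤) (pullSec j _ (globalSec hh)) =
        j.app _ c • pullSec j _ (pwSec (N := ((m * d : ℕ) : ℤ)) f.2 m (Nat.cast_mul m d) hU) := by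
    rw [← pullSec_smul, ← hc]
    exact res_pullSec j _ le_top (globalSec hh)
  rw [gloc_inf_eq_basicOpen (he.pull j) hc', ← Scheme.preimage_basicOpen]
  suffices e : (Proj 𝒜).basicOpen c = Proj.basicOpen 𝒜 h ⊓ Proj.basicOpen 𝒜 (f : A) by
    rw [e]
    rfl
  have hval : ∀ (x : ProjectiveSpectrum 𝒜) (hx : x ∈ Proj.basicOpen 𝒜 (f : A)),
      algebraMap A (Twist.Loc 𝒜 x) h = (c.1 ⟨x, hx⟩).val *
        ((funit x (hU x hx) ^ (m : ℤ) : (Twist.Loc 𝒜 x)ˣ) : Twist.Loc 𝒜 x) := fun x hx =>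
    (wval_globalSec hh x trivial).symm.trans ((congrArg (fun s => wval s x hx) hc).trans
      ((wval_smul _ _ x hx).trans (congrArg _ (wval_pwSec _ _ _ _ x hx))))
  ext x
  haveI hprime : (x : ProjectiveSpectrum 𝒜).asHomogeneousIdeal.toIdeal.IsPrime :=
    (x : ProjectiveSpectrum 𝒜).isPrime
  constructor
  · intro hx
    have hxg : x ∈ Proj.basicOpen 𝒜 (f : A) := (Proj 𝒜).basicOpen_le c hx
    refine ⟨?_, hxg⟩
    have hu := (mem_basicOpen_iff_isUnit_val c hxg).mp hx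
    have h' : IsUnit (algebraMap A (Twist.Loc 𝒜 x) h) := by
      rw [hval x hxg]
      exact hu.mul (Units.isUnit _)
    exact (IsLocalization.AtPrime.isUnit_to_map_iff _
      (x : ProjectiveSpectrum 𝒜).asHomogeneousIdeal.toIdeal h).mp h'
  · rintro ⟨hxh, hxg⟩
    refine (mem_basicOpen_iff_isUnit_val c hxg).mpr ?_
    have h' : IsUnit (algebraMap A (Twist.Loc 𝒜 x) h) :=
      (IsLocalization.AtPrime.isUnit_to_map_iff _
        (x : ProjectiveSpectrum 𝒜).asHomogeneousIdeal.toIdeal h).mpr hxh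
    rw [hval x hxg] at h'
    exact isUnit_of_mul_isUnit_left h'

theorem nonempty_iso_tensorPow (m : ℕ)
    (hcov : iSup (fun f : 𝒜 d => j ⁻¹ᵁ Proj.basicOpen 𝒜 (f : A)) = ⊤) :
    Nonempty ((Scheme.Modules.pullback j).obj (Twist.twist 𝒜 ((m * d : ℕ) : ℤ)) ≅
      CohB1.tensorPow ((Scheme.Modules.pullback j).obj (Twist.twist 𝒜 (d : ℤ))) m) := by
  have hU : ∀ (f : 𝒜 d) (x : ProjectiveSpectrum 𝒜), x ∈ Proj.basicOpen 𝒜 (f : A) →
      (f : A) ∉ x.asHomogeneousIdeal := fun _ _ hx => hx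
  let s := fun f : 𝒜 d => pullSec j _
    (pwSec (N := ((m * d : ℕ) : ℤ)) f.2 m (Nat.cast_mul m d) (hU f))
  let e1 := fun f : 𝒜 d => pullSec j _ (pwSec (N := (d : ℤ)) f.2 1 (one_mul _).symm (hU f))
  obtain ⟨e, -⟩ := exists_iso_of_gen hcov s (fun f => (gen_pwSec _ _ _ _).pull j)
    (fun f => powSec (e1 f) m) (fun f => ((gen_pwSec _ _ _ _).pull j).pow m) fun f g r hr => by
      let W := Proj.basicOpen 𝒜 (f : A) ⊓ Proj.basicOpen 𝒜 (g : A)
      have hWf : ∀ x : ProjectiveSpectrum 𝒜, x ∈ W → (f : A) ∉ x.asHomogeneousIdeal :=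
        fun _ hx => hx.1
      have hWg : ∀ x : ProjectiveSpectrum 𝒜, x ∈ W → (g : A) ∉ x.asHomogeneousIdeal :=
        fun _ hx => hx.2
      obtain ⟨a, ha⟩ := (gen_pwSec (N := (d : ℤ)) g.2 1 (one_mul _).symm hWg).exists_coeff le_rfl
        (pwSec (N := (d : ℤ)) f.2 1 (one_mul _).symm hWf)
      rw [res_self] at ha
      have ham := pwSec_coeff_pow f.2 g.2 m hWf hWg a ha
      have e_f : res _ (inf_le_left : j ⁻¹ᵁ Proj.basicOpen 𝒜 (f : A) ⊓ j ⁻¹ᵁ Proj.basicOpen 𝒜 (g : A) ≤ _)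
          (s f) = pullSec j _ (pwSec (N := ((m * d : ℕ) : ℤ)) f.2 m (Nat.cast_mul m d) hWf) :=
        res_pullSec j _ (inf_le_left : W ≤ _) _
      have e_g : res _ (inf_le_right : j ⁻¹ᵁ Proj.basicOpen 𝒜 (f : A) ⊓ j ⁻¹ᵁ Proj.basicOpen 𝒜 (g : A) ≤ _)
          (s g) = pullSec j _ (pwSec (N := ((m * d : ℕ) : ℤ)) g.2 m (Nat.cast_mul m d) hWg) :=
        res_pullSec j _ (inf_le_right : W ≤ _) _
      have f_f : res _ (inf_le_left : j ⁻¹ᵁ Proj.basicOpen 𝒜 (f : A) ⊓ j ⁻¹ᵁ Proj.basicOpen 𝒜 (g : A) ≤ _)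
          (e1 f) = pullSec j _ (pwSec (N := (d : ℤ)) f.2 1 (one_mul _).symm hWf) :=
        res_pullSec j _ (inf_le_left : W ≤ _) _
      have f_g : res _ (inf_le_right : j ⁻¹ᵁ Proj.basicOpen 𝒜 (f : A) ⊓ j ⁻¹ᵁ Proj.basicOpen 𝒜 (g : A) ≤ _)
          (e1 g) = pullSec j _ (pwSec (N := (d : ℤ)) g.2 1 (one_mul _).symm hWg) :=
        res_pullSec j _ (inf_le_right : W ≤ _) _
      have hr' : r = j.app W (a ^ m) := by
        have hgen := (gen_pwSec (N := ((m * d : ℕ) : ℤ)) g.2 m (Nat.cast_mul m d) hWg).pull j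
        refine hgen.smul_inj le_rfl ?_
        rw [res_self]
        exact (e_f.trans ((congrArg _ ham).trans (pullSec_smul j _ _ _))).symm.trans
          (hr.trans (congrArg (r • ·) e_g)) |>.symm
      rw [res_powSec, res_powSec, f_f, f_g, ha, hr', map_pow, pullSec_smul]
      exact powSec_smul _ _ _
  exact ⟨e⟩

theorem exists_isAmple_pullback [CompactSpace X] [IsOpenImmersion j] :
    ∃ d : ℕ, 0 < d ∧
      CohB1.IsAmple ((Scheme.Modules.pullback j).obj (Twist.twist 𝒜 (d : ℤ))) := by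
  have hc : IsCompact ((j.opensRange : (Proj 𝒜).Opens) : Set (Proj 𝒜)) := by
    rw [Scheme.Hom.coe_opensRange, ← Set.image_univ]
    exact CompactSpace.isCompact_univ.image j.continuous
  obtain ⟨d, hd, hdc⟩ := Groth.Misc1.TwistCover.exists_degree_cover j.opensRange hc
  have hcov : iSup (fun f : 𝒜 d => j ⁻¹ᵁ Proj.basicOpen 𝒜 (f : A)) = ⊤ :=
    eq_top_iff.2 fun x _ => by
      obtain ⟨f, hf, hxf⟩ := hdc (j x) ⟨x, rfl⟩
      exact Opens.mem_iSup.2 ⟨⟨f, hf⟩, hxf⟩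
  refine ⟨d, hd, isAmple_of_isBasis (isInvertible_of_gen_cover _ hcov
    (fun f : 𝒜 d => pullSec j _ (pwSec (N := (d : ℤ)) f.2 1 (one_mul _).symm fun _ hx => hx))
    fun f => (gen_pwSec _ _ _ _).pull j) ?_⟩
  rw [Opens.isBasis_iff_nbhd]
  intro O x hx
  obtain ⟨f, hf, hxf⟩ := hdc (j x) ⟨x, rfl⟩
  obtain ⟨e, g, hg, hxg, hgO⟩ := exists_homogeneous_le (show j x ∈ j ''ᵁ O from ⟨x, hx, rfl⟩)
  have hh : g ^ d * f ∈ 𝒜 ((e + 1) * d) := by
    have := SetLike.mul_mem_graded (Groth.Ega2Proj.pow_mem_deg hg d) hf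
    rwa [show d * e + d = (e + 1) * d by ring] at this
  obtain ⟨φ⟩ := nonempty_iso_tensorPow j (e + 1) hcov
  refine ⟨_, ⟨e, homOfSection (φ.hom.app ⊤ (pullSec j _ (globalSec hh))), rfl⟩, ?_⟩
  have hloc : gloc (φ.hom.app ⊤ (pullSec j _ (globalSec hh))) =
      j ⁻¹ᵁ Proj.basicOpen 𝒜 (g ^ d * f) :=
    (gloc_map φ.hom _).trans (gloc_pullSec_globalSec j hh hcov)
  change x ∈ gloc (φ.hom.app ⊤ (pullSec j _ (globalSec hh))) ∧
    gloc (φ.hom.app ⊤ (pullSec j _ (globalSec hh))) ≤ O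
  rw [hloc]
  refine ⟨?_, fun z hz => ?_⟩
  · exact (j x : ProjectiveSpectrum 𝒜).asHomogeneousIdeal.toIdeal.primeCompl.mul_mem
      (Groth.Ega2Proj.notMem_pow _ hxg d) hxf
  · have hz' : j z ∈ Proj.basicOpen 𝒜 g := fun hgz => hz
      (Ideal.mul_mem_right _ _ (Ideal.pow_mem_of_mem _ hgz d hd))
    obtain ⟨z', hz'O, hzz'⟩ := hgO hz'
    rwa [← j.isOpenEmbedding.injective hzz']

end Groth.PropsBasic.ProjImmAmple
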