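import Mathlib.AlgebraicTopology.CechNerve
import Mathlib.AlgebraicTopology.AlternatingFaceMapComplex
import Mathlib.Algebra.Category.Ring.Colimits
import Mathlib.Algebra.Category.Grp.Abelian
import Mathlib.Algebra.Homology.ShortComplex.Ab
import Mathlib.RingTheory.Flat.FaithfullyFlat.Basic
import Mathlib.RingTheory.TensorProduct.Maps
import Mathlib.Algebra.Homology.ShortComplex.HomologicalComplex

/-!
Exactness in positive degrees of the alternating coface complex of the Čech conerve of a faithfully
flat ring map.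
-/

set_option autoImplicit false
set_option linter.style.haveILetI false
universe u

open CategoryTheory CategoryTheory.Limits Opposite Simplicial TensorProduct

namespace Groth.AmitsurConerve

variable (R A : Type u) [CommRing R] [CommRing A] [Algebra R A]

/-- The Čech conerve of `R → A`. -/
noncomputable abbrev conerve : CosimplicialObject CommRingCat.{u} :=
  (Arrow.mk (CommRingCat.ofHom (algebraMap R A))).cechConerve

/-- Its degree `n` term. -/
noncomputable abbrev W (n : ℕ) : CommRingCat.{u} :=
  widePushout (CommRingCat.of R) (fun _ : Fin (n + 1) => CommRingCat.of A)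
    fun _ => CommRingCat.ofHom (algebraMap R A)

noncomputable instance (n : ℕ) : Algebra R (W R A n) :=
  (WidePushout.head (B := CommRingCat.of R) (objs := fun _ : Fin (n + 1) => CommRingCat.of A)
    fun _ => CommRingCat.ofHom (algebraMap R A)).hom.toAlgebra

/-- The `j`-th copy of `A`. -/
noncomputable def ι (n : ℕ) (j : Fin (n + 1)) : A →ₐ[R] W R A n :=
  { (WidePushout.ι (B := CommRingCat.of R) (objs := fun _ : Fin (n + 1) => CommRingCat.of A)
      (fun _ => CommRingCat.ofHom (algebraMap R A)) j).hom with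
    commutes' := fun r => congrArg (fun φ => φ.hom r) (WidePushout.arrow_ι (C := CommRingCat.{u})
      (B := CommRingCat.of R) (objs := fun _ : Fin (n + 1) => CommRingCat.of A)
      (fun _ => CommRingCat.ofHom (algebraMap R A)) j) }

variable {R A}

theorem algHom_ext {n : ℕ} {T : Type u} [CommRing T] [Algebra R T] {f g : W R A n →ₐ[R] T}
    (h : ∀ j, f.comp (ι R A n j) = g.comp (ι R A n j)) : f = g := by
  have : CommRingCat.ofHom f.toRingHom = CommRingCat.ofHom g.toRingHom := by
    refine WidePushout.hom_ext _ _ _ (fun j => ?_) ?_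
    · exact CommRingCat.hom_ext (congrArg AlgHom.toRingHom (h j))
    · exact CommRingCat.hom_ext (f.comp_algebraMap.trans g.comp_algebraMap.symm)
  exact AlgHom.coe_ringHom_injective (congrArg CommRingCat.Hom.hom this)

theorem exists_desc {n : ℕ} {T : Type u} [CommRing T] [Algebra R T] (f : Fin (n + 1) → (A →ₐ[R] T)) :
    ∃ F : W R A n →ₐ[R] T, ∀ j, F.comp (ι R A n j) = f j := by
  let G : W R A n ⟶ CommRingCat.of T :=
    WidePushout.desc (CommRingCat.ofHom (algebraMap R T)) (fun j => CommRingCat.ofHom (f j).toRingHom)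
      fun j => CommRingCat.hom_ext (f j).comp_algebraMap
  refine ⟨{ G.hom with commutes' := fun r => ?_ }, fun j => AlgHom.ext fun a => ?_⟩
  · exact congrArg (fun φ => φ.hom r) (WidePushout.head_desc (C := CommRingCat.{u}) (B := CommRingCat.of R)
      (objs := fun _ : Fin (n + 1) => CommRingCat.of A) (arrows := fun _ => CommRingCat.ofHom (algebraMap R A))
      (CommRingCat.ofHom (algebraMap R T)) (fun j => CommRingCat.ofHom (f j).toRingHom)
      fun j => CommRingCat.hom_ext (f j).comp_algebraMap)
  · exact congrArg (fun φ => φ.hom a) (WidePushout.ι_desc (C := CommRingCat.{u}) (B := CommRingCat.of R)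
      (objs := fun _ : Fin (n + 1) => CommRingCat.of A) (arrows := fun _ => CommRingCat.ofHom (algebraMap R A))
      (CommRingCat.ofHom (algebraMap R T)) (fun j => CommRingCat.ofHom (f j).toRingHom)
      (fun j => CommRingCat.hom_ext (f j).comp_algebraMap) j)

variable (R A) in
/-- The coface maps. -/
noncomputable def δ (n : ℕ) (i : Fin (n + 2)) : W R A n →ₐ[R] W R A (n + 1) :=
  Classical.choose (exists_desc fun j => ι R A (n + 1) (i.succAbove j))

theorem δ_ι (n : ℕ) (i : Fin (n + 2)) (j : Fin (n + 1)) :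
    (δ R A n i).comp (ι R A n j) = ι R A (n + 1) (i.succAbove j) :=
  Classical.choose_spec (exists_desc fun j => ι R A (n + 1) (i.succAbove j)) j

theorem δ_eq (n : ℕ) (i : Fin (n + 2)) :
    ((conerve R A).δ i).hom = (δ R A n i).toRingHom := by
  have : (conerve R A).δ i = CommRingCat.ofHom (δ R A n i).toRingHom := by
    refine WidePushout.hom_ext _ _ _ (fun j => ?_) ?_
    · refine (WidePushout.ι_desc (C := CommRingCat.{u}) _ _ _ _ j).trans ?_
      exact CommRingCat.hom_ext (congrArg AlgHom.toRingHom (δ_ι n i j)).symm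
    · refine (WidePushout.head_desc (C := CommRingCat.{u}) _ _ _ _).trans ?_
      exact CommRingCat.hom_ext (δ R A n i).comp_algebraMap.symm
  exact congrArg CommRingCat.Hom.hom this

variable (R A)

/-- The differential. -/
noncomputable def D (n : ℕ) : W R A n →ₗ[R] W R A (n + 1) :=
  ∑ i : Fin (n + 2), (-1 : ℤ) ^ (i : ℕ) • (δ R A n i).toLinearMap

/-- Dropping the first factor after base change. -/
noncomputable def h (n : ℕ) : A ⊗[R] W R A (n + 1) →ₐ[A] A ⊗[R] W R A n :=
  Algebra.TensorProduct.lift (Algebra.ofId A _)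
    (Classical.choose (exists_desc (n := n + 1)
      (Fin.cases Algebra.TensorProduct.includeLeft
        fun j => Algebra.TensorProduct.includeRight.comp (ι R A n j))))
    fun _ _ => Commute.all _ _

variable {R A}

theorem h_ι (n : ℕ) (a b : A) (j : Fin (n + 2)) :
    h R A n (a ⊗ₜ ι R A (n + 1) j b) =
      Fin.cases ((a * b) ⊗ₜ 1) (fun j' => a ⊗ₜ ι R A n j' b) j := by
  rw [h, Algebra.TensorProduct.lift_tmul]
  have := Classical.choose_spec (exists_desc (n := n + 1) (T := A ⊗[R] W R A n)
      (Fin.cases Algebra.TensorProduct.includeLeft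
        fun j => Algebra.TensorProduct.includeRight.comp (ι R A n j))) j
  erw [DFunLike.congr_fun this b]
  induction j using Fin.cases with
  | zero => simp [Algebra.TensorProduct.tmul_mul_tmul]
  | succ j => simp [Algebra.TensorProduct.tmul_mul_tmul]

/-- Base changed coface maps. -/
noncomputable abbrev δA (n : ℕ) (i : Fin (n + 2)) : A ⊗[R] W R A n →ₐ[A] A ⊗[R] W R A (n + 1) :=
  Algebra.TensorProduct.map (AlgHom.id A A) (δ R A n i)

theorem h_δ_zero (n : ℕ) : (h R A n).comp (δA n 0) = AlgHom.id A _ := by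
  refine Algebra.TensorProduct.ext (Subsingleton.elim _ _) (algHom_ext fun j => AlgHom.ext fun b => ?_)
  show h R A n ((1 : A) ⊗ₜ δ R A n 0 (ι R A n j b)) = (1 : A) ⊗ₜ ι R A n j b
  rw [show δ R A n 0 (ι R A n j b) = ι R A (n + 1) ((0 : Fin (n + 2)).succAbove j) b from
    DFunLike.congr_fun (δ_ι n 0 j) b, h_ι, Fin.succAbove_zero, Fin.cases_succ]

theorem h_δ_succ (n : ℕ) (i : Fin (n + 2)) :
    (h R A (n + 1)).comp (δA (n + 1) i.succ) = (δA n i).comp (h R A n) := by
  refine Algebra.TensorProduct.ext (Subsingleton.elim _ _) (algHom_ext fun j => AlgHom.ext fun b => ?_)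
  show h R A (n + 1) ((1 : A) ⊗ₜ δ R A (n + 1) i.succ (ι R A (n + 1) j b)) =
    δA n i (h R A n ((1 : A) ⊗ₜ ι R A (n + 1) j b))
  rw [show δ R A (n + 1) i.succ (ι R A (n + 1) j b) = ι R A (n + 2) (i.succ.succAbove j) b from
    DFunLike.congr_fun (δ_ι (n + 1) i.succ j) b, h_ι, h_ι]
  induction j using Fin.cases with
  | zero => simp
  | succ j =>
    rw [Fin.succ_succAbove_succ, Fin.cases_succ, Fin.cases_succ, Algebra.TensorProduct.map_tmul]
    rw [show δ R A n i (ι R A n j b) = ι R A (n + 1) (i.succAbove j) b from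
      DFunLike.congr_fun (δ_ι n i j) b]
    rfl

theorem lTensor_D_apply (n : ℕ) (w : A ⊗[R] W R A n) :
    (D R A n).lTensor A w = ∑ i : Fin (n + 2), (-1 : ℤ) ^ (i : ℕ) • δA n i w := by
  induction w with
  | zero => simp
  | tmul a x =>
    simp only [LinearMap.lTensor_tmul, D, LinearMap.sum_apply, LinearMap.smul_apply, AlgHom.toLinearMap_apply,
      tmul_sum, tmul_smul, Algebra.TensorProduct.map_tmul, AlgHom.id_apply]
  | add x y hx hy => simp only [map_add, hx, hy, smul_add, Finset.sum_add_distrib]

/-- The homotopy formula. -/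
theorem homotopy (n : ℕ) (w : A ⊗[R] W R A (n + 1)) :
    h R A (n + 1) ((D R A (n + 1)).lTensor A w) + (D R A n).lTensor A (h R A n w) = w := by
  rw [lTensor_D_apply, lTensor_D_apply, map_sum, Fin.sum_univ_succ, add_assoc]
  have h0 := DFunLike.congr_fun (h_δ_zero (R := R) (A := A) (n + 1)) w
  simp only [AlgHom.comp_apply, AlgHom.id_apply] at h0
  simp only [Fin.val_zero, pow_zero, one_smul, h0, add_eq_left]
  rw [← Finset.sum_add_distrib]
  refine Finset.sum_eq_zero fun i _ => ?_
  have h1 := DFunLike.congr_fun (h_δ_succ (R := R) (A := A) n i) w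
  simp only [AlgHom.comp_apply] at h1
  rw [map_zsmul, h1, Fin.val_succ, pow_succ, mul_neg, mul_one, neg_smul, neg_add_cancel]

omit [CommRing R] [CommRing A] [Algebra R A] in
theorem objD_apply (X : CosimplicialObject AddCommGrpCat.{u}) (m : ℕ) (y : X.obj ⦋m⦌) :
    (AlgebraicTopology.AlternatingCofaceMapComplex.objD X m).hom y =
      ∑ i : Fin (m + 2), (-1 : ℤ) ^ (i : ℕ) • (X.δ i).hom y := by
  unfold AlgebraicTopology.AlternatingCofaceMapComplex.objD
  rw [show ∀ {X Y : AddCommGrpCat.{u}} (φ : X ⟶ Y), φ.hom = AddCommGrpCat.homAddEquiv φ from fun φ => rfl,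
    map_sum, AddMonoidHom.finsetSum_apply]
  refine Finset.sum_congr rfl fun i _ => ?_
  rw [map_zsmul]
  rfl

/-- The complex of the statement. -/
noncomputable abbrev X : CosimplicialObject AddCommGrpCat.{u} :=
  conerve R A ⋙ forget₂ CommRingCat RingCat ⋙ forget₂ RingCat AddCommGrpCat

theorem objD_X (m : ℕ) (y : W R A m) :
    (AlgebraicTopology.AlternatingCofaceMapComplex.objD (X (R := R) (A := A)) m).hom y = D R A m y := by
  refine (objD_apply (X (R := R) (A := A)) m y).trans ?_
  rw [D, LinearMap.sum_apply]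
  refine Finset.sum_congr rfl fun i _ => ?_
  exact congrArg _ (DFunLike.congr_fun (δ_eq m i) y)

theorem D_comp_D_apply (n : ℕ) (x : W R A n) :
    D R A (n + 1) (D R A n x) = 0 := by
  have h0 := AlgebraicTopology.AlternatingCofaceMapComplex.d_squared (X (R := R) (A := A)) n
  rw [← objD_X, ← objD_X]
  exact congrArg (fun φ => φ.hom x) h0

theorem exact_D [Module.FaithfullyFlat R A] (n : ℕ) : Function.Exact (D R A n) (D R A (n + 1)) := by
  rw [← Module.FaithfullyFlat.lTensor_exact_iff_exact R A]
  intro w
  constructor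
  · intro hw
    have := homotopy n w
    rw [hw, map_zero, zero_add] at this
    exact ⟨h R A n w, this⟩
  · rintro ⟨v, rfl⟩
    rw [← LinearMap.comp_apply, ← LinearMap.lTensor_comp,
      show D R A (n + 1) ∘ₗ D R A n = 0 from LinearMap.ext fun x => D_comp_D_apply n x,
      LinearMap.lTensor_zero, LinearMap.zero_apply]

end Groth.AmitsurConerve
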