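import Groth.Agent.PropsBasic2.Spread3
import Mathlib.AlgebraicGeometry.Birational.Birational
import Mathlib.AlgebraicGeometry.FunctionField

/-! Birationality over a base in terms of the local rings at generic points. -/

universe u

open CategoryTheory AlgebraicGeometry TopologicalSpace Groth.PropsBasic2.Spread

namespace Groth.PropsBasic.Birational

variable {X Y S : Scheme.{u}}

/-- Variant of `Spread.exist_iso` for germ-injective points and schemes locally of finite type. -/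
lemma exist_iso_of_isGermInjective (sX : X ⟶ S) (sY : Y ⟶ S)
    [LocallyOfFiniteType sX] [LocallyOfFiniteType sY]
    {x : X} {y : Y} [X.IsGermInjectiveAt x] [Y.IsGermInjectiveAt y] (e : sX x = sY y)
    (φ : Y.presheaf.stalk y ⟶ X.presheaf.stalk x) [IsIso φ]
    (h : sY.stalkMap y ≫ φ =
      S.presheaf.stalkSpecializes (Inseparable.of_eq e).specializes ≫ sX.stalkMap x) :
    ∃ (U : X.Opens) (hxU : x ∈ U) (V : Y.Opens) (f : U.toScheme ⟶ V.toScheme), IsIso f ∧
      Spec.map φ ≫ Y.fromSpecStalk y = U.fromSpecStalkOfMem x hxU ≫ f ≫ V.ι ∧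
        f ≫ V.ι ≫ sY = U.ι ≫ sX := by
  obtain ⟨U₀, hx₀, f₀, hf₀, hf₀S⟩ := spread_out_of_isGermInjective sX sY e φ h
  have h' : sX.stalkMap x ≫ inv φ =
      S.presheaf.stalkSpecializes (Inseparable.of_eq e.symm).specializes ≫ sY.stalkMap y := by
    rw [IsIso.comp_inv_eq, Category.assoc, h, TopCat.Presheaf.stalkSpecializes_comp_assoc,
      TopCat.Presheaf.stalkSpecializes_refl, Category.id_comp]
  obtain ⟨V₀, hy₀, g₀, hg₀, hg₀S⟩ := spread_out_of_isGermInjective sY sX e.symm (inv φ) h'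
  have hfx := apply_of_fac hx₀ f₀ φ hf₀
  have hgy := apply_of_fac hy₀ g₀ (inv φ) hg₀
  obtain ⟨U₁, iU₁, a, ha, hU₁⟩ := exists_restr f₀ V₀
  obtain ⟨V₁, iV₁, b, hb, hV₁⟩ := exists_restr g₀ U₀
  have hx₁ : x ∈ U₁ := (hU₁ x hx₀).mpr (hfx ▸ hy₀)
  have hy₁ : y ∈ V₁ := (hV₁ y hy₀).mpr (hgy ▸ hx₀)
  obtain ⟨U₂, iU₂, hx₂, hU₂⟩ := unique_open sX (a ≫ g₀) U₁.ι (x := x)
    (by rw [Category.assoc, hg₀S, reassoc_of% ha, hf₀S, Scheme.homOfLE_ι_assoc]) hx₁
    (by
      have : U₁.fromSpecStalkOfMem x hx₁ ≫ a = Spec.map φ ≫ V₀.fromSpecStalkOfMem y hy₀ := by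
        rw [← cancel_mono V₀.ι, Category.assoc, ha, Category.assoc,
          Scheme.Opens.fromSpecStalkOfMem_ι, hf₀, ← Category.assoc]
        congr 1
        rw [← cancel_mono U₀.ι]; simp
      rw [reassoc_of% this, ← hg₀, ← Spec.map_comp_assoc, IsIso.inv_hom_id, Spec.map_id,
        Category.id_comp, Scheme.Opens.fromSpecStalkOfMem_ι])
  obtain ⟨V₂, iV₂, hy₂, hV₂⟩ := unique_open sY (b ≫ f₀) V₁.ι (x := y)
    (by rw [Category.assoc, hf₀S, reassoc_of% hb, hg₀S, Scheme.homOfLE_ι_assoc]) hy₁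
    (by
      have : V₁.fromSpecStalkOfMem y hy₁ ≫ b = Spec.map (inv φ) ≫ U₀.fromSpecStalkOfMem x hx₀ := by
        rw [← cancel_mono U₀.ι, Category.assoc, hb, Category.assoc,
          Scheme.Opens.fromSpecStalkOfMem_ι, hg₀, ← Category.assoc]
        congr 1
        rw [← cancel_mono V₀.ι]; simp
      rw [reassoc_of% this, ← hf₀, ← Spec.map_comp_assoc, IsIso.hom_inv_id, Spec.map_id,
        Category.id_comp, Scheme.Opens.fromSpecStalkOfMem_ι])
  obtain ⟨U₃, iU₃, a₃', ha₃', hU₃⟩ := exists_restr (X.homOfLE (iU₂.trans iU₁) ≫ f₀) V₂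
  obtain ⟨V₃, iV₃, b₃, hb₃, hV₃⟩ := exists_restr (Y.homOfLE (iV₂.trans iV₁) ≫ g₀) U₃
  have hUa (p : U₃.toScheme) : (a₃' ≫ V₂.ι) p ∈ V₃ := by
    have hq : (a₃' ≫ V₂.ι) p ∈ V₂ := (a₃' p).2
    refine (hV₃ _ hq).mpr ?_
    have : a₃' ≫ Y.homOfLE (iV₂.trans iV₁) ≫ g₀ = U₃.ι := by
      have h1 : a₃' ≫ Y.homOfLE (iV₂.trans iV₁) = X.homOfLE (iU₃.trans iU₂) ≫ a := by
        rw [← cancel_mono V₀.ι]; simp [ha, ha₃']
      rw [reassoc_of% h1, ← X.homOfLE_homOfLE iU₃ iU₂, Category.assoc, hU₂,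
        Scheme.homOfLE_ι, Scheme.homOfLE_ι]
    change (a₃' ≫ Y.homOfLE (iV₂.trans iV₁) ≫ g₀) p ∈ U₃
    rw [this]
    exact p.2
  have hr : Set.range (a₃' ≫ V₂.ι) ⊆ Set.range V₃.ι := by
    rintro _ ⟨p, rfl⟩; rw [Scheme.Opens.range_ι]; exact hUa p
  let a₃ : U₃.toScheme ⟶ V₃.toScheme := IsOpenImmersion.lift V₃.ι _ hr
  have ha₃ : a₃ ≫ V₃.ι = X.homOfLE (iU₃.trans (iU₂.trans iU₁)) ≫ f₀ := by
    rw [show a₃ ≫ V₃.ι = a₃' ≫ V₂.ι from IsOpenImmersion.lift_fac _ _ _, ha₃']; simp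
  have hx₃ : x ∈ U₃ := by
    refine (hU₃ x hx₂).mpr ?_
    change f₀ (X.homOfLE _ ⟨x, hx₂⟩) ∈ V₂
    rw [show X.homOfLE (iU₂.trans iU₁) ⟨x, hx₂⟩ = (⟨x, hx₀⟩ : U₀) from Subtype.ext (congrArg (fun m ↦ m.base (⟨x, hx₂⟩ : U₂)) (X.homOfLE_ι (iU₂.trans iU₁))), hfx]
    exact hy₂
  refine ⟨U₃, hx₃, V₃, a₃, ⟨b₃, ?_, ?_⟩, ?_, ?_⟩
  · rw [← cancel_mono U₃.ι, Category.assoc, hb₃, Category.id_comp]
    have h1 : a₃ ≫ Y.homOfLE (iV₃.trans (iV₂.trans iV₁)) = X.homOfLE (iU₃.trans iU₂) ≫ a := by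
      rw [← cancel_mono V₀.ι]; simp [ha, ha₃]
    rw [← Category.assoc (Y.homOfLE _), Scheme.homOfLE_homOfLE, reassoc_of% h1,
      ← X.homOfLE_homOfLE iU₃ iU₂, Category.assoc, hU₂, Scheme.homOfLE_ι, Scheme.homOfLE_ι]
  · rw [← cancel_mono V₃.ι, Category.assoc, ha₃, Category.id_comp]
    have h1 : b₃ ≫ X.homOfLE (iU₃.trans (iU₂.trans iU₁)) = Y.homOfLE (iV₃.trans iV₂) ≫ b := by
      rw [← cancel_mono U₀.ι]; simp [hb, hb₃]
    rw [reassoc_of% h1, ← Y.homOfLE_homOfLE iV₃ iV₂, Category.assoc, hV₂, Scheme.homOfLE_ι,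
      Scheme.homOfLE_ι]
  · rw [ha₃, hf₀, ← Category.assoc]
    congr 1
    rw [← cancel_mono U₀.ι]; simp
  · rw [reassoc_of% ha₃, hf₀S, Scheme.homOfLE_ι_assoc]

/-- Two open immersions over `S` out of the same scheme identify local rings over `S`. -/
lemma stalkIso_of_openImmersions {W : Scheme.{u}} (g : W ⟶ X) (h : W ⟶ Y) [IsOpenImmersion g]
    [IsOpenImmersion h] (sX : X ⟶ S) (sY : Y ⟶ S) (w : g ≫ sX = h ≫ sY) (p : W) (x : X) (y : Y)
    (hx : g p = x) (hy : h p = y) :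
    ∃ (hs : sX.base x = sY.base y) (e : X.presheaf.stalk x ≅ Y.presheaf.stalk y),
      sX.stalkMap x ≫ e.hom = eqToHom (congrArg S.presheaf.stalk hs) ≫ sY.stalkMap y := by
  subst hx hy
  refine ⟨congr($w p), asIso (g.stalkMap p) ≪≫ (asIso (h.stalkMap p)).symm, ?_⟩
  simp only [Iso.trans_hom, asIso_hom, Iso.symm_hom, asIso_inv]
  have hw := Scheme.Hom.stalkMap_congr_hom _ _ w p
  rw [Scheme.Hom.stalkMap_comp, Scheme.Hom.stalkMap_comp] at hw
  rw [← Category.assoc, IsIso.comp_inv_eq, Category.assoc]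
  refine hw.trans (congrArg (· ≫ _) ?_)
  have key : ∀ a b : S, ∀ hab : a = b, (S.presheaf.stalkCongr (.of_eq hab)).hom =
      eqToHom (congrArg S.presheaf.stalk hab) := by
    rintro a b rfl
    exact TopCat.Presheaf.stalkSpecializes_refl _ _
  exact key (sX (g p)) (sY (h p)) congr($w p)

/-- A partial isomorphism over `S` of irreducible schemes identifies the local rings at generic points. -/
lemma exists_stalkIso [IrreducibleSpace X] [IrreducibleSpace Y] {sX : X ⟶ S} {sY : Y ⟶ S}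
    (H : Scheme.BirationalOver sX sY) :
    ∃ (hs : sX.base (genericPoint X) = sY.base (genericPoint Y))
      (e : X.presheaf.stalk (genericPoint X) ≅ Y.presheaf.stalk (genericPoint Y)),
      sX.stalkMap (genericPoint X) ≫ e.hom =
        eqToHom (congrArg S.presheaf.stalk hs) ≫ sY.stalkMap (genericPoint Y) := by
  obtain ⟨f, hf⟩ := H
  haveI : Nonempty f.source := (f.dense_source.nonempty).to_subtype
  haveI : IrreducibleSpace f.source :=
    { toNonempty := inferInstance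
      isPreirreducible_univ :=
        ((PreirreducibleSpace.isPreirreducible_univ (X := X)).preimage
          f.source.ι.isOpenEmbedding :) }
  exact stalkIso_of_openImmersions f.source.ι (f.iso.hom ≫ f.target.ι) sX sY
    (by simpa using Eq.symm hf) (genericPoint _) _ _
    (genericPoint_eq_of_isOpenImmersion f.source.ι)
    (genericPoint_eq_of_isOpenImmersion (f.iso.hom ≫ f.target.ι))

/-- An isomorphism of nonempty opens over `S` gives birationality. -/
lemma birationalOver_of_iso [IrreducibleSpace X] [IrreducibleSpace Y] {sX : X ⟶ S} {sY : Y ⟶ S}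
    {U : X.Opens} {V : Y.Opens} (f : U.toScheme ⟶ V.toScheme) [IsIso f] {x : X} (hx : x ∈ U)
    (h : f ≫ V.ι ≫ sY = U.ι ≫ sX) : Scheme.BirationalOver sX sY :=
  ⟨{ source := U, dense_source := U.isOpen.dense ⟨x, hx⟩
     target := V, dense_target := V.isOpen.dense ⟨(f ⟨x, hx⟩).1, (f ⟨x, hx⟩).2⟩
     iso := asIso f }, h⟩

lemma compat {x : X} {y : Y} (sX : X ⟶ S) (sY : Y ⟶ S) (hs : sX.base x = sY.base y)
    (e : X.presheaf.stalk x ≅ Y.presheaf.stalk y)
    (he : sX.stalkMap x ≫ e.hom = eqToHom (congrArg S.presheaf.stalk hs) ≫ sY.stalkMap y) :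
    sY.stalkMap y ≫ e.inv =
      S.presheaf.stalkSpecializes (Inseparable.of_eq hs).specializes ≫ sX.stalkMap x := by
  have key : ∀ a b : S, ∀ hab : a = b,
      S.presheaf.stalkSpecializes (Inseparable.of_eq hab).specializes =
        eqToHom (congrArg S.presheaf.stalk hab.symm) := by
    rintro a b rfl
    exact TopCat.Presheaf.stalkSpecializes_refl _ _
  rw [Iso.comp_inv_eq, Category.assoc, he, key _ _ hs, eqToHom_trans_assoc, eqToHom_refl,
    Category.id_comp]

theorem birationalOver_iff_stalk [IrreducibleSpace X] [IrreducibleSpace Y] (sX : X ⟶ S)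
    (sY : Y ⟶ S) [LocallyOfFinitePresentation sX] [LocallyOfFinitePresentation sY] :
    Scheme.BirationalOver sX sY ↔
      ∃ (hs : sX.base (genericPoint X) = sY.base (genericPoint Y))
        (e : X.presheaf.stalk (genericPoint X) ≅ Y.presheaf.stalk (genericPoint Y)),
        sX.stalkMap (genericPoint X) ≫ e.hom =
          eqToHom (congrArg S.presheaf.stalk hs) ≫ sY.stalkMap (genericPoint Y) := by
  refine ⟨exists_stalkIso, fun ⟨hs, e, he⟩ => ?_⟩
  obtain ⟨U, hxU, V, f, hf, -, h⟩ := exist_iso sX sY hs e.inv (compat sX sY hs e he)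
  exact birationalOver_of_iso f hxU h

instance [IsIntegral X] : IsIso (X.residue (genericPoint X)) := by
  rw [ConcreteCategory.isIso_iff_bijective]
  refine ⟨?_, IsLocalRing.residue_surjective⟩
  exact (show X.functionField →+* _ from (X.residue (genericPoint X)).hom).injective

theorem birationalOver_iff_residueField [IsIntegral X] [IsIntegral Y] (sX : X ⟶ S) (sY : Y ⟶ S)
    [LocallyOfFiniteType sX] [LocallyOfFiniteType sY] :
    Scheme.BirationalOver sX sY ↔
      ∃ (hs : sX.base (genericPoint X) = sY.base (genericPoint Y))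
        (e : X.residueField (genericPoint X) ≅ Y.residueField (genericPoint Y)),
        sX.residueFieldMap (genericPoint X) ≫ e.hom =
          eqToHom (congrArg S.residueField hs) ≫ sY.residueFieldMap (genericPoint Y) := by
  have key : ∀ a b : S, ∀ hab : a = b, S.residue a ≫ eqToHom (congrArg S.residueField hab) =
      eqToHom (congrArg S.presheaf.stalk hab) ≫ S.residue b := by
    rintro a b rfl
    simp
  constructor
  · intro H
    obtain ⟨hs, e, he⟩ := exists_stalkIso H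
    refine ⟨hs, (asIso (X.residue _)).symm ≪≫ e ≪≫ asIso (Y.residue _), ?_⟩
    rw [← cancel_epi (S.residue (sX (genericPoint X))), Scheme.residue_residueFieldMap_assoc,
      reassoc_of% key _ _ hs, Scheme.residue_residueFieldMap]
    simp [reassoc_of% he]
  · rintro ⟨hs, e, he⟩
    let e' : X.presheaf.stalk (genericPoint X) ≅ Y.presheaf.stalk (genericPoint Y) :=
      asIso (X.residue _) ≪≫ e ≪≫ (asIso (Y.residue _)).symm
    have he' : sX.stalkMap (genericPoint X) ≫ e'.hom =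
        eqToHom (congrArg S.presheaf.stalk hs) ≫ sY.stalkMap (genericPoint Y) := by
      simp only [e', Iso.trans_hom, asIso_hom, Iso.symm_hom, asIso_inv]
      rw [← Scheme.residue_residueFieldMap_assoc, ← Category.assoc, ← Category.assoc,
        IsIso.comp_inv_eq, Category.assoc, he, reassoc_of% key _ _ hs,
        Scheme.residue_residueFieldMap, Category.assoc]
    obtain ⟨U, hxU, V, f, hf, -, h⟩ :=
      exist_iso_of_isGermInjective sX sY hs e'.inv (compat sX sY hs e' he')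
    exact birationalOver_of_iso f hxU h

end Groth.PropsBasic.Birational
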