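import Groth.Agent.CanMod.End
import Groth.Agent.LocDual.CanonGorenstein
import Groth.Agent.Gorenstein.Regular
import Mathlib.RingTheory.UniqueFactorizationDomain.Basic
import Mathlib.RingTheory.Regular.RegularSequence

/-!
# A Cohen–Macaulay factorial quotient of a regular local ring is Gorenstein

Helper library (no milestone statements here).
-/

set_option linter.style.haveILetI false
set_option linter.overlappingInstances false

universe u

open IsLocalRing RingTheory.Sequence
open scoped Pointwise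

namespace Groth.PropsBasic

variable {A : Type u} [CommRing A] [IsDomain A]

theorem exists_nonzero_dual [IsNoetherianRing A] {K : Type u} [AddCommGroup K] [Module A K]
    [Module.Finite A K] [Module.IsTorsionFree A K] [Nontrivial K] :
    ∃ φ : K →ₗ[A] A, φ ≠ 0 := by
  haveI := Module.finitePresentation_of_finite A K
  obtain ⟨v, hv⟩ := exists_ne (0 : K)
  let T := nonZeroDivisors A
  let Q := FractionRing A
  have hv' : LocalizedModule.mkLinearMap T K v ≠ 0 := fun h => by
    obtain ⟨t, ht⟩ := (IsLocalizedModule.eq_zero_iff T _).1 h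
    rw [Submonoid.smul_def] at ht
    exact hv ((smul_eq_zero.1 ht).resolve_left (nonZeroDivisors.ne_zero t.2))
  obtain ⟨ψ, hψ⟩ : ∃ ψ : Module.Dual Q (LocalizedModule T K),
      ψ (LocalizedModule.mkLinearMap T K v) ≠ 0 := by
    by_contra hcon
    push Not at hcon
    exact hv' ((Module.forall_dual_apply_eq_zero_iff Q _).1 hcon)
  obtain ⟨h, s, hs⟩ := Module.FinitePresentation.exists_lift_of_isLocalizedModule T
    (Algebra.linearMap A Q) ((ψ.restrictScalars A) ∘ₗ LocalizedModule.mkLinearMap T K)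
  refine ⟨h, fun h0 => hψ ?_⟩
  have h1 : algebraMap A Q (h v) = (s : A) • ψ (LocalizedModule.mkLinearMap T K v) :=
    LinearMap.congr_fun hs v
  rw [h0, LinearMap.zero_apply, map_zero, Algebra.smul_def] at h1
  exact (IsLocalization.map_units Q s).mul_right_eq_zero.1 h1.symm

theorem injective_of_end_scalar {K : Type u} [AddCommGroup K] [Module A K]
    [Module.IsTorsionFree A K]
    (hend : Function.Surjective fun r : A => r • (LinearMap.id : K →ₗ[A] K))
    {φ : K →ₗ[A] A} (hφ : φ ≠ 0) : Function.Injective φ := by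
  rw [injective_iff_map_eq_zero]
  intro k hk
  by_contra hk0
  obtain ⟨r, hr⟩ := hend (φ.smulRight k)
  have hr' : ∀ z, r • z = φ z • k := fun z => LinearMap.congr_fun hr z
  have h0 : r = 0 := by
    have h1 := hr' k
    rw [hk, zero_smul] at h1
    exact (smul_eq_zero.1 h1).resolve_right hk0
  refine hφ (LinearMap.ext fun z => ?_)
  have h1 := hr' z
  rw [h0, zero_smul] at h1
  exact (smul_eq_zero.1 h1.symm).resolve_right hk0

theorem exists_eq_mul_ideal [IsNoetherianRing A] [IsLocalRing A] (I : Ideal A) (hI : I ≠ ⊥) :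
    ∃ (c : A) (J : Ideal A), c ≠ 0 ∧ I = Ideal.span {c} * J ∧
      ∀ q : A, Prime q → ¬ J ≤ Ideal.span {q} := by
  obtain ⟨J, ⟨c, hc, hIc⟩, hmax⟩ := set_has_maximal_iff_noetherian.2 (inferInstance : IsNoetherian A A)
    {J : Ideal A | ∃ c : A, c ≠ 0 ∧ I = Ideal.span {c} * J}
    ⟨I, 1, one_ne_zero, by simp⟩
  refine ⟨c, J, hc, hIc, fun q hq hle => ?_⟩
  let J' : Ideal A := J.colon ((Ideal.span {q} : Ideal A) : Set A)
  have hJ' : J = Ideal.span {q} * J' := by
    refine le_antisymm (fun x hx => ?_) ?_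
    · obtain ⟨y, rfl⟩ := Ideal.mem_span_singleton.1 (hle hx)
      refine Ideal.mul_mem_mul (Ideal.mem_span_singleton_self q) ?_
      rw [Submodule.mem_colon]
      intro z hz
      obtain ⟨w, rfl⟩ := Ideal.mem_span_singleton.1 hz
      rw [smul_eq_mul, show y * (q * w) = w * (q * y) by ring]
      exact Ideal.mul_mem_left J w hx
    · rw [Ideal.span_singleton_mul_le_iff]
      intro z hz
      have h1 := Submodule.mem_colon.1 hz q (Ideal.mem_span_singleton_self q)
      rwa [smul_eq_mul, mul_comm] at h1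
  have hne : J ≠ ⊥ := by
    rintro rfl
    exact hI (by rw [hIc, Submodule.mul_bot])
  have hlt : J < J' := by
    refine lt_of_le_of_ne (hJ' ▸ Ideal.mul_le_right) fun he => hne ?_
    have hfg : J.FG := IsNoetherian.noetherian J
    refine Submodule.eq_bot_of_le_smul_of_le_jacobson_bot (Ideal.span {q}) J hfg ?_ ?_
    · conv_lhs => rw [hJ', ← he]
      exact le_of_eq rfl
    · rw [IsLocalRing.jacobson_eq_maximalIdeal ⊥ bot_ne_top, Ideal.span_singleton_le_iff_mem,
        IsLocalRing.mem_maximalIdeal]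
      exact hq.not_isUnit
  exact hmax J' ⟨c * q, mul_ne_zero hc hq.ne_zero, by
    rw [hIc, ← Ideal.span_singleton_mul_span_singleton, mul_assoc, ← hJ']⟩ hlt

theorem eq_top_of_forall_regular_pair [IsLocalRing A] [UniqueFactorizationMonoid A] (J : Ideal A)
    (hJ : J ≠ ⊥) (hJq : ∀ q : A, Prime q → ¬ J ≤ Ideal.span {q})
    (hreg : ∀ a b : A, a ∈ maximalIdeal A → b ∈ maximalIdeal A →
      IsWeaklyRegular A [a, b] → IsWeaklyRegular J [a, b]) : J = ⊤ := by
  classical
  by_contra htop
  have hJm : J ≤ maximalIdeal A := le_maximalIdeal htop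
  obtain ⟨a, haJ, ha0⟩ := Submodule.exists_mem_ne_zero_of_ne_bot hJ
  let P := (UniqueFactorizationMonoid.factors a).toFinset
  obtain ⟨b, hbJ, hb⟩ : ∃ b ∈ J, ∀ q ∈ P, b ∉ Ideal.span {q} := by
    by_contra hcon
    push Not at hcon
    have hsub : (J : Set A) ⊆ ⋃ q ∈ P, ((Ideal.span {q} : Ideal A) : Set A) := fun x hx => by
      obtain ⟨q, hq, hxq⟩ := hcon x hx
      exact Set.mem_biUnion hq hxq
    have hprime : ∀ q ∈ P, Prime q := fun q hq =>
      UniqueFactorizationMonoid.prime_of_factor q (Multiset.mem_toFinset.1 hq)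
    obtain ⟨q, hq, hle⟩ := (Ideal.subset_union_prime (f := fun q : A => Ideal.span {q}) 0 0
      fun q hq _ _ => (Ideal.span_singleton_prime (hprime q hq).ne_zero).2 (hprime q hq)).1 hsub
    exact hJq q (hprime q hq) hle
  have hrel : IsRelPrime a b := by
    refine WfDvdMonoid.isRelPrime_of_no_irreducible_factors (fun h => ha0 h.1) fun z hz hza hzb => ?_
    obtain ⟨q, hq, hzq⟩ := UniqueFactorizationMonoid.exists_mem_factors_of_dvd ha0 hz hza
    exact hb q (Multiset.mem_toFinset.2 hq) (Ideal.mem_span_singleton.2 (hzq.dvd'.trans hzb))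
  have hA : IsWeaklyRegular A [a, b] := by
    rw [isWeaklyRegular_cons_iff, isWeaklyRegular_singleton_iff]
    refine ⟨IsSMulRegular.of_right_eq_zero_of_smul fun x hx =>
      (mul_eq_zero.1 hx).resolve_left ha0, IsSMulRegular.of_right_eq_zero_of_smul fun x hx => ?_⟩
    obtain ⟨x, rfl⟩ := Submodule.Quotient.mk_surjective _ x
    rw [← Submodule.Quotient.mk_smul, Submodule.Quotient.mk_eq_zero,
      Submodule.mem_smul_pointwise_iff_exists] at hx
    obtain ⟨y, -, hy⟩ := hx
    rw [smul_eq_mul, smul_eq_mul] at hy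
    obtain ⟨w, hw⟩ := hrel.dvd_of_dvd_mul_left ⟨y, hy.symm⟩
    rw [Submodule.Quotient.mk_eq_zero, Submodule.mem_smul_pointwise_iff_exists]
    exact ⟨w, trivial, hw.symm⟩
  have h2 := hreg a b (hJm haJ) (hJm hbJ) hA
  rw [isWeaklyRegular_cons_iff, isWeaklyRegular_singleton_iff] at h2
  have h3 : (Submodule.Quotient.mk (⟨a, haJ⟩ : J) : QuotSMulTop a J) = 0 := by
    refine h2.2.right_eq_zero_of_smul ?_
    rw [← Submodule.Quotient.mk_smul, Submodule.Quotient.mk_eq_zero,
      Submodule.mem_smul_pointwise_iff_exists]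
    exact ⟨⟨b, hbJ⟩, trivial, Subtype.ext (by simp [mul_comm])⟩
  rw [Submodule.Quotient.mk_eq_zero, Submodule.mem_smul_pointwise_iff_exists] at h3
  obtain ⟨⟨y, hyJ⟩, -, hy⟩ := h3
  have hy' : a * y = a := congrArg Subtype.val hy
  have h1 : y = 1 := mul_left_cancel₀ ha0 (by rw [hy', mul_one])
  exact htop ((Ideal.eq_top_iff_one J).2 (h1 ▸ hyJ))

/-- A Cohen–Macaulay factorial local ring which is a quotient of a regular local ring is
Gorenstein. -/
theorem isGorenstein_of_cm_factorial [IsLocalRing A] [IsNoetherianRing A]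
    [UniqueFactorizationMonoid A] (hA : LocCoh.IsCohenMacaulayLocalRing A) (S : Type u) [CommRing S]
    [IsRegularLocalRing S] [Algebra S A] (hπ : Function.Surjective (algebraMap S A)) :
    LocCoh.IsGorensteinLocalRing A := by
  obtain ⟨E, _, _, f, hf⟩ := GrothMatlis.exists_hull A (ResidueField A)
  obtain ⟨n, hn⟩ : ∃ n : ℕ, ringKrullDim A = n := by
    obtain ⟨h1, h2⟩ := And.intro (ringKrullDim_ne_top (R := A)) (ringKrullDim_ne_bot (R := A))
    obtain ⟨a, ha⟩ := WithBot.ne_bot_iff_exists.1 h2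
    cases a with
    | top => exact absurd ha.symm h1
    | coe m => exact ⟨m, ha.symm⟩
  have hS := GrothGoren.exists_injLT_of_regular _ S le_rfl
  obtain ⟨K, hKfin, ⟨eK⟩⟩ := Groth.LocDual.exists_canonical hS hπ hn hf
  haveI := hKfin
  refine (Groth.CanMod.gorenstein_iff hA hn hf eK).2 ?_
  have hP := Groth.CanMod.pair_self hA hn eK
  haveI : Nontrivial K := hP.nontrivial
  haveI : Module.IsTorsionFree A K := ⟨fun r hr => by
    by_cases hu : IsUnit r
    · exact hu.isSMulRegular K
    · have hA1 : IsWeaklyRegular A [r] := (isWeaklyRegular_singleton_iff A r).2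
        (IsSMulRegular.of_right_eq_zero_of_smul fun x hx =>
          (mul_eq_zero.1 hx).resolve_left hr.ne_zero)
      exact (isWeaklyRegular_singleton_iff K r).1
        ((hP.weakly_iff hf [r] (by simpa using hu)).1.1 hA1)⟩
  obtain ⟨φ, hφ⟩ := exists_nonzero_dual (A := A) (K := K)
  have hinj := injective_of_end_scalar (Groth.CanMod.bijective_smul_id hA hn hf eK).2 hφ
  have hI : LinearMap.range φ ≠ ⊥ := fun h => hφ (LinearMap.range_eq_bot.1 h)
  obtain ⟨c, J, hc, hIJ, hJq⟩ := exists_eq_mul_ideal (LinearMap.range φ) hI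
  let μ : J →ₗ[A] A := (LinearMap.lsmul A A c) ∘ₗ J.subtype
  have hμ : Function.Injective μ := fun x y h => Subtype.ext (mul_left_cancel₀ hc h)
  have hμr : LinearMap.range μ = LinearMap.range φ := by
    rw [hIJ]
    ext x
    rw [Ideal.mem_span_singleton_mul]
    exact ⟨fun ⟨y, hy⟩ => ⟨y.1, y.2, hy⟩, fun ⟨y, hy, hyx⟩ => ⟨⟨y, hy⟩, hyx⟩⟩
  let e : K ≃ₗ[A] J := (LinearEquiv.ofInjective φ hinj).trans
    ((LinearEquiv.ofEq _ _ hμr.symm).trans (LinearEquiv.ofInjective μ hμ).symm)
  have hJ : J ≠ ⊥ := fun h => hI (by rw [hIJ, h, Submodule.mul_bot])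
  have htop : J = ⊤ := by
    refine eq_top_of_forall_regular_pair J hJ hJq fun a b ha hb hab => ?_
    refine (e.isWeaklyRegular_congr [a, b]).1 ?_
    exact ((Groth.CanMod.isRegular_iff hA hn hf eK [a, b] (by simpa using And.intro ha hb)).1
      (IsRegular.of_isWeaklyRegular_of_mem_maximalIdeal A (by simpa using And.intro ha hb) hab)).1
  exact ⟨e.trans ((LinearEquiv.ofEq _ _ htop).trans Submodule.topEquiv)⟩

end Groth.PropsBasic
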