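import Groth.Prelude.Def_GLin
import Mathlib.RingTheory.HopfAlgebra.Convolution
import Mathlib.RingTheory.TensorProduct.Free
import Mathlib.LinearAlgebra.Charpoly.Basic
import Mathlib.LinearAlgebra.Charpoly.ToMatrix

/-!
Invariants of a coaction of a finite free Hopf algebra: the algebra is integral over them.
(Universe polymorphic version; the shear is that of `Misc8.CoactGroupoid`.)
-/

set_option autoImplicit false
universe u v w w'

open TensorProduct WithConv

noncomputable section

namespace Groth.CoactIntegral

variable (R : Type u) (A : Type v) (B : Type w) [CommRing R] [CommRing A] [HopfAlgebra R A] [CommRing B] [Algebra R B]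

instance convGrp {C : Type*} [CommRing C] [Algebra R C] : Group (WithConv (A →ₐ[R] C)) where
  inv f := toConv (f.ofConv.comp (HopfAlgebra.antipodeAlgHom R A))
  inv_mul_cancel f := by
    apply WithConv.ofConv_injective
    have h := AlgHom.comp_convMul_distrib f.ofConv (toConv (HopfAlgebra.antipodeAlgHom R A))
      (toConv (AlgHom.id R A))
    rw [AlgHom.antipode_id_cancel, ofConv_toConv, ofConv_toConv, AlgHom.comp_id, toConv_ofConv] at h
    rw [← h]
    apply AlgHom.ext; intro a
    exact f.ofConv.commutes _

/-- first group coordinate -/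
def i1 : A →ₐ[R] (B ⊗[R] A) ⊗[R] A :=
  (Algebra.TensorProduct.includeLeft : B ⊗[R] A →ₐ[R] (B ⊗[R] A) ⊗[R] A).comp Algebra.TensorProduct.includeRight

/-- second group coordinate -/
def i2 : A →ₐ[R] (B ⊗[R] A) ⊗[R] A := Algebra.TensorProduct.includeRight

/-- `(x, g, h) ↦ (x, g, g h)` on functions -/
def shear : (B ⊗[R] A) ⊗[R] A →ₐ[R] (B ⊗[R] A) ⊗[R] A :=
  Algebra.TensorProduct.lift Algebra.TensorProduct.includeLeft (toConv (i1 R A B) * toConv (i2 R A B)).ofConv
    fun _ _ => .all _ _

/-- its inverse -/
def shearInv : (B ⊗[R] A) ⊗[R] A →ₐ[R] (B ⊗[R] A) ⊗[R] A :=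
  Algebra.TensorProduct.lift Algebra.TensorProduct.includeLeft ((toConv (i1 R A B))⁻¹ * toConv (i2 R A B)).ofConv
    fun _ _ => .all _ _

theorem shear_includeLeft (f : A →ₐ[R] (B ⊗[R] A) ⊗[R] A) :
    (Algebra.TensorProduct.lift (Algebra.TensorProduct.includeLeft : B ⊗[R] A →ₐ[R] (B ⊗[R] A) ⊗[R] A) f
      fun _ _ => .all _ _).comp (Algebra.TensorProduct.includeLeft : B ⊗[R] A →ₐ[R] (B ⊗[R] A) ⊗[R] A) =
      Algebra.TensorProduct.includeLeft :=
  Algebra.TensorProduct.lift_comp_includeLeft _ _ _

theorem shear_comp_shearInv : (shear R A B).comp (shearInv R A B) = AlgHom.id R _ := by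
  apply Algebra.TensorProduct.ext
  · rw [AlgHom.comp_assoc]
    unfold shearInv shear
    rw [Algebra.TensorProduct.lift_comp_includeLeft, Algebra.TensorProduct.lift_comp_includeLeft]
    rfl
  · have h1 : (shear R A B).comp (i1 R A B) = i1 R A B := by
      rw [i1, ← AlgHom.comp_assoc, shear, Algebra.TensorProduct.lift_comp_includeLeft]
    have h2 : (shear R A B).comp (i2 R A B) = (toConv (i1 R A B) * toConv (i2 R A B)).ofConv := by
      apply AlgHom.ext; intro a
      simp [shear, i2]
    have h3 : (shear R A B).comp ((toConv (i1 R A B))⁻¹).ofConv = ((toConv (i1 R A B))⁻¹).ofConv := by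
      show (shear R A B).comp ((i1 R A B).comp (HopfAlgebra.antipodeAlgHom R A)) =
        (i1 R A B).comp (HopfAlgebra.antipodeAlgHom R A)
      rw [← AlgHom.comp_assoc, h1]
    apply AlgHom.ext; intro a
    show shear R A B (shearInv R A B ((1 : B ⊗[R] A) ⊗ₜ[R] a)) = (1 : B ⊗[R] A) ⊗ₜ[R] a
    rw [shearInv, Algebra.TensorProduct.lift_tmul, map_one, one_mul, ← AlgHom.comp_apply,
      AlgHom.comp_convMul_distrib, h2, h3]
    simp only [toConv_ofConv, inv_mul_cancel_left]
    rfl

theorem shearInv_comp_shear : (shearInv R A B).comp (shear R A B) = AlgHom.id R _ := by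
  apply Algebra.TensorProduct.ext
  · rw [AlgHom.comp_assoc]
    unfold shearInv shear
    rw [Algebra.TensorProduct.lift_comp_includeLeft, Algebra.TensorProduct.lift_comp_includeLeft]
    rfl
  · have h1 : (shearInv R A B).comp (i1 R A B) = i1 R A B := by
      rw [i1, ← AlgHom.comp_assoc, shearInv, Algebra.TensorProduct.lift_comp_includeLeft]
    have h2 : (shearInv R A B).comp (i2 R A B) = ((toConv (i1 R A B))⁻¹ * toConv (i2 R A B)).ofConv := by
      apply AlgHom.ext; intro a
      simp [shearInv, i2]
    apply AlgHom.ext; intro a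
    show shearInv R A B (shear R A B ((1 : B ⊗[R] A) ⊗ₜ[R] a)) = (1 : B ⊗[R] A) ⊗ₜ[R] a
    rw [shear, Algebra.TensorProduct.lift_tmul, map_one, one_mul, ← AlgHom.comp_apply,
      AlgHom.comp_convMul_distrib]
    simp only [ofConv_toConv, h1, h2, toConv_ofConv, mul_inv_cancel_left]
    rfl

/-- the shear as an isomorphism -/
def shearEquiv : (B ⊗[R] A) ⊗[R] A ≃ₐ[R] (B ⊗[R] A) ⊗[R] A :=
  AlgEquiv.ofAlgHom (shear R A B) (shearInv R A B) (shear_comp_shearInv R A B) (shearInv_comp_shear R A B)

/-- composition of arrows on functions -/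
def gamma : B ⊗[R] A →ₐ[R] (B ⊗[R] A) ⊗[R] A :=
  (shear R A B).comp (Algebra.TensorProduct.map Algebra.TensorProduct.includeLeft (AlgHom.id R A))

theorem gamma_eq : gamma R A B = (Algebra.TensorProduct.assoc R R R B A A).symm.toAlgHom.comp
    (Algebra.TensorProduct.map (AlgHom.id R B) (Bialgebra.comulAlgHom R A)) := by
  apply Algebra.TensorProduct.ext
  · apply AlgHom.ext; intro b
    simp [gamma, shear, Algebra.TensorProduct.one_def, Bialgebra.comul_one]
  · apply AlgHom.ext; intro a
    have e : Algebra.TensorProduct.lift (i1 R A B) (i2 R A B) (fun _ _ => .all _ _) =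
        (Algebra.TensorProduct.assoc R R R B A A).symm.toAlgHom.comp Algebra.TensorProduct.includeRight := by
      apply Algebra.TensorProduct.ext'
      intro x y
      simp [i1, i2]
    show shear R A B (Algebra.TensorProduct.map Algebra.TensorProduct.includeLeft (AlgHom.id R A)
      ((1 : B) ⊗ₜ[R] a)) = (Algebra.TensorProduct.assoc R R R B A A).symm
        (Algebra.TensorProduct.map (AlgHom.id R B) (Bialgebra.comulAlgHom R A) ((1 : B) ⊗ₜ[R] a))
    rw [Algebra.TensorProduct.map_tmul, Algebra.TensorProduct.map_tmul, map_one, AlgHom.id_apply, shear,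
      Algebra.TensorProduct.lift_tmul, map_one, one_mul]
    show (toConv (i1 R A B) * toConv (i2 R A B)) a = _
    rw [AlgHom.convMul_apply]
    simp only [e]
    rfl

variable [HopfRep.Comod R A B] [GLin.IsCoactAlg R A B]

/-- Coassociativity through the shear. -/
theorem shear_coact (b : B) :
    shear R A B (Algebra.TensorProduct.map (Algebra.TensorProduct.includeLeft : B →ₐ[R] B ⊗[R] A)
      (AlgHom.id R A) (GLin.coactAlgHom R A B b)) =
    Algebra.TensorProduct.map (GLin.coactAlgHom R A B) (AlgHom.id R A) (GLin.coactAlgHom R A B b) := by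
  have h := LinearMap.congr_fun (HopfRep.Comod.coassoc (k := R) (A := A) (V := B)) b
  simp only [LinearMap.coe_comp, Function.comp_apply, LinearEquiv.coe_coe] at h
  show gamma R A B (HopfRep.Comod.coact (k := R) (A := A) b) =
    Algebra.TensorProduct.map (GLin.coactAlgHom R A B) (AlgHom.id R A) (HopfRep.Comod.coact (k := R) (A := A) b)
  rw [gamma_eq]
  show (Algebra.TensorProduct.assoc R R R B A A).symm
    (Algebra.TensorProduct.map (AlgHom.id R B) (Bialgebra.comulAlgHom R A) (HopfRep.Comod.coact (k := R) (A := A) b)) = _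
  rw [AlgEquiv.symm_apply_eq]
  exact h.symm

variable [Module.Free R A] [Module.Finite R A]

/-- The basis of `C ⊗ A` over `C`. -/
abbrev bas (C : Type w') [CommRing C] [Algebra R C] := Algebra.TensorProduct.basis C (Module.Free.chooseBasis R A)

/-- Multiplication matrices are natural in the ring. -/
theorem mat_map {C C' : Type*} [CommRing C] [Algebra R C] [CommRing C'] [Algebra R C'] (f : C →ₐ[R] C')
    (z : C ⊗[R] A) :
    Algebra.leftMulMatrix (bas R A C') (Algebra.TensorProduct.map f (AlgHom.id R A) z) =
      (Algebra.leftMulMatrix (bas R A C) z).map f := by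
  have key : ∀ (y : C ⊗[R] A) i, (bas R A C').repr (Algebra.TensorProduct.map f (AlgHom.id R A) y) i =
      f ((bas R A C).repr y i) := fun y i => by
    induction y using TensorProduct.induction_on with
    | zero => simp
    | tmul c a =>
      simp [Algebra.TensorProduct.basis_repr_tmul]
    | add x y hx hy => simp [map_add, hx, hy]
  ext i j
  have hb : Algebra.TensorProduct.map f (AlgHom.id R A) (bas R A C j) = bas R A C' j := by
    simp [Algebra.TensorProduct.basis_apply]
  rw [Matrix.map_apply, Algebra.leftMulMatrix_eq_repr_mul, Algebra.leftMulMatrix_eq_repr_mul, ← key,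
    map_mul (Algebra.TensorProduct.map f (AlgHom.id R A)), hb]

/-- The characteristic polynomial of the coaction. -/
def P (b : B) : Polynomial B :=
  (Algebra.leftMulMatrix (bas R A B) (GLin.coactAlgHom R A B b)).charpoly

theorem P_coeff_mem (b : B) (n : ℕ) : (P R A B b).coeff n ∈ GLin.invariants R A B := by
  classical
  set τ := GLin.coactAlgHom R A B with hτ
  set inl : B →ₐ[R] B ⊗[R] A := Algebra.TensorProduct.includeLeft with hinl
  set w := Algebra.TensorProduct.map inl (AlgHom.id R A) (τ b) with hw
  set u := Algebra.TensorProduct.map τ (AlgHom.id R A) (τ b) with hu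
  have hwu : shear R A B w = u := shear_coact R A B b
  -- the shear is linear over the left factor
  let θ : (B ⊗[R] A) ⊗[R] A ≃ₗ[B ⊗[R] A] (B ⊗[R] A) ⊗[R] A :=
    { (shearEquiv R A B).toLinearEquiv with
      map_smul' := fun c z => by
        show shear R A B (c • z) = c • shear R A B z
        have hs : ∀ y : (B ⊗[R] A) ⊗[R] A, c • y = (c ⊗ₜ[R] (1 : A)) * y := fun y => by
          induction y using TensorProduct.induction_on with
          | zero => simp
          | tmul x a => rw [TensorProduct.smul_tmul', smul_eq_mul, Algebra.TensorProduct.tmul_mul_tmul, one_mul]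
          | add x y hx hy => rw [smul_add, hx, hy, mul_add]
        rw [hs, hs, map_mul]
        congr 1
        exact DFunLike.congr_fun (shear_includeLeft R A B (toConv (i1 R A B) * toConv (i2 R A B)).ofConv) c }
  have hconj : θ.conj (Algebra.lmul (B ⊗[R] A) _ w) = Algebra.lmul (B ⊗[R] A) _ u := by
    refine LinearMap.ext fun z => ?_
    show shear R A B (w * θ.symm z) = u * z
    rw [map_mul, hwu]
    congr 1
    exact θ.apply_symm_apply z
  have hcp : (Algebra.leftMulMatrix (bas R A (B ⊗[R] A)) w).charpoly =
      (Algebra.leftMulMatrix (bas R A (B ⊗[R] A)) u).charpoly := by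
    simp only [Algebra.leftMulMatrix_apply, LinearMap.charpoly_toMatrix]
    rw [← hconj, LinearEquiv.charpoly_conj]
  rw [hw, hu, mat_map, mat_map] at hcp
  have hcp' : (P R A B b).map (inl : B →+* B ⊗[R] A) = (P R A B b).map (τ : B →+* B ⊗[R] A) :=
    (Matrix.charpoly_map _ _).symm.trans (hcp.trans (Matrix.charpoly_map _ _))
  have h := congrArg (fun p => Polynomial.coeff p n) hcp'
  simp only [Polynomial.coeff_map] at h
  exact h.symm

theorem P_eval (b : B) : (P R A B b).eval b = 0 := by
  classical
  have h0 : Polynomial.aeval (GLin.coactAlgHom R A B b) (P R A B b) = 0 := by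
    have h := Matrix.aeval_self_charpoly (Algebra.leftMulMatrix (bas R A B) (GLin.coactAlgHom R A B b))
    rw [Polynomial.aeval_algHom_apply] at h
    exact (Algebra.leftMulMatrix_injective (bas R A B)) (h.trans (map_zero _).symm)
  let ρ : B ⊗[R] A →ₐ[B] B :=
    (Algebra.TensorProduct.rid R B B).toAlgHom.comp
      (Algebra.TensorProduct.map (AlgHom.id B B) (Bialgebra.counitAlgHom R A))
  have hρ : ρ (GLin.coactAlgHom R A B b) = b := by
    have h := LinearMap.congr_fun (HopfRep.Comod.counit_comp (k := R) (A := A) (V := B)) b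
    simp only [LinearMap.coe_comp, Function.comp_apply] at h
    have e : ∀ z : B ⊗[R] A, Algebra.TensorProduct.map (AlgHom.id B B) (Bialgebra.counitAlgHom R A) z =
        (Coalgebra.counit : A →ₗ[R] R).lTensor B z := fun z => rfl
    show Algebra.TensorProduct.rid R B B
      (Algebra.TensorProduct.map (AlgHom.id B B) (Bialgebra.counitAlgHom R A)
        (HopfRep.Comod.coact (k := R) (A := A) b)) = b
    rw [e, h]
    simp
  have := congrArg ρ h0
  rwa [← Polynomial.aeval_algHom_apply, hρ, map_zero, Polynomial.coe_aeval_eq_eval] at this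

/-- `B` is integral over the invariants. -/
theorem isIntegral : Algebra.IsIntegral (GLin.invariants R A B) B := by
  refine ⟨fun b => ⟨(P R A B b).toSubring (GLin.invariants R A B).toSubring ?_, ?_, ?_⟩⟩
  · intro c hc
    obtain ⟨j, -, rfl⟩ := Polynomial.mem_coeffs_iff.1 hc
    exact P_coeff_mem R A B b j
  · exact (Polynomial.monic_toSubring _ _ _).2 (Matrix.charpoly_monic _)
  · rw [← Polynomial.eval_map]
    refine Eq.trans (congrArg (Polynomial.eval b) ?_) (P_eval R A B b)
    exact Polynomial.map_toSubring (P R A B b) (GLin.invariants R A B).toSubring _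

end Groth.CoactIntegral
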