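import Groth.Agent.ReducedNormal.Basic

/-!
# Localizations of dimension one of rings integrally closed in an overring

If `B ⊆ C` are reduced, `B` Noetherian and integrally closed in `C`, and `p` is a prime of `B`
with `B_p` one-dimensional such that every element outside all primes strictly below `p` becomes
invertible in `C_p`, then `B_p` is a discrete valuation ring.
-/

set_option autoImplicit false
set_option linter.style.haveILetI false

universe u

open Polynomial

namespace Groth.PropsBasic

theorem isDVR_of_integrallyClosed {B C A : Type u} [CommRing B] [CommRing C] [CommRing A]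
    [Algebra B C] [Algebra B A] [IsNoetherianRing B] [IsReduced B]
    (p : Ideal B) [p.IsPrime] [IsLocalization.AtPrime A p]
    (hinj : Function.Injective (algebraMap B C))
    (hic : ∀ c : C, IsIntegral B c → c ∈ Set.range (algebraMap B C))
    (hdim : ringKrullDim A = 1)
    (hunit : ∀ s : B, (∀ q : Ideal B, q.IsPrime → q < p → s ∉ q) →
      ∃ u : B, u ∉ p ∧ algebraMap B C s ∣ algebraMap B C u) :
    ∃ _ : IsDomain A, IsDiscreteValuationRing A := by
  classical
  let M := p.primeCompl
  let Cp := Localization (Algebra.algebraMapSubmonoid C M)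
  letI : Algebra A Cp := localizationAlgebra M C
  haveI : IsScalarTower B A Cp := isScalarTower_localizationAlgebra M C
  have hjinj : Function.Injective (algebraMap A Cp) := localizationAlgebra_injective (M := M) A Cp hinj
  haveI : IsNoetherianRing A := IsLocalization.isNoetherianRing M A ‹_›
  haveI : IsReduced A := by
    exact isReduced_localizationPreserves M A ‹_›
  haveI : IsLocalRing A := IsLocalization.AtPrime.isLocalRing A p
  haveI : Ring.KrullDimLE 1 A := Ring.krullDimLE_iff.mpr hdim.le
  -- integrally closed in `Cp`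
  have hclosed : ∀ x : Cp, IsIntegral A x → x ∈ Set.range (algebraMap A Cp) := by
    intro x hx
    obtain ⟨⟨c, _, w, hw, rfl⟩, hxw⟩ :=
      IsLocalization.surj (Algebra.algebraMapSubmonoid C M) x
    obtain ⟨⟨m, hm⟩, hmx⟩ := IsIntegral.exists_multiple_integral_of_isLocalization M x hx
    have h1 : IsIntegral B (algebraMap C Cp (m • c)) := by
      have h2 := hmx.mul (isIntegral_algebraMap (R := B) (A := Cp) (x := w))
      rw [Algebra.smul_def, map_mul, ← hxw, ← IsScalarTower.algebraMap_apply,
        ← IsScalarTower.algebraMap_apply]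
      simpa [Submonoid.smul_def, Algebra.smul_def, mul_assoc] using h2
    obtain ⟨k, hk, hkc⟩ := IsLocalization.exists_isIntegral_smul_of_isIntegral_map (Sₘ := Cp) M h1
    obtain ⟨b, hb⟩ := hic _ hkc
    refine ⟨IsLocalization.mk' A b (⟨k * m * w, mul_mem (mul_mem hk hm) hw⟩ : M), ?_⟩
    have hU : IsUnit (algebraMap B Cp (k * m * w)) := by
      rw [IsScalarTower.algebraMap_apply B A Cp]
      exact (IsLocalization.map_units A (⟨_, mul_mem (mul_mem hk hm) hw⟩ : M)).map _
    refine hU.mul_left_injective ?_
    show algebraMap A Cp _ * algebraMap B Cp (k * m * w) = x * algebraMap B Cp (k * m * w)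
    rw [IsScalarTower.algebraMap_apply B A Cp, ← map_mul, IsLocalization.mk'_spec,
      ← IsScalarTower.algebraMap_apply B A Cp b, IsScalarTower.algebraMap_apply B C Cp b, hb,
      ← IsScalarTower.algebraMap_apply B A Cp]
    rw [Algebra.smul_def, Algebra.smul_def, map_mul, map_mul, ← hxw,
      ← IsScalarTower.algebraMap_apply, ← IsScalarTower.algebraMap_apply,
      ← IsScalarTower.algebraMap_apply, map_mul, map_mul]
    ring
  -- elements outside the minimal primes are units in `Cp`
  have hunit' : ∀ s : A, (∀ Q ∈ minimalPrimes A, s ∉ Q) → IsUnit (algebraMap A Cp s) := by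
    intro s hs
    obtain ⟨s₀, v, rfl⟩ := IsLocalization.exists_mk'_eq M s
    obtain ⟨u, hu, d, hd⟩ := hunit s₀ fun q hq hqp hsq => by
      have hdisj : Disjoint (M : Set B) (q : Set B) :=
        Set.disjoint_left.mpr fun z hz hzq => hz (hqp.le hzq)
      have hQ := IsLocalization.isPrime_of_isPrime_disjoint M A q hq hdisj
      have hmin : q.map (algebraMap B A) ∈ minimalPrimes A := by
        refine ((Ring.krullDimLE_one_iff.mp inferInstance) _ hQ).resolve_right fun hmax => ?_
        have h3 : (q.map (algebraMap B A)).under B = p := by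
          rw [IsLocalRing.eq_maximalIdeal hmax]
          exact IsLocalization.AtPrime.under_maximalIdeal A p
        rw [IsLocalization.under_map_of_isPrime_disjoint M A hq hdisj] at h3
        exact hqp.ne h3
      exact hs _ hmin ((IsLocalization.mk'_mem_iff).mpr (Ideal.mem_map_of_mem _ hsq))
    have h4 : IsUnit (algebraMap B Cp s₀) := by
      rw [IsScalarTower.algebraMap_apply B C Cp]
      refine isUnit_of_dvd_unit (map_dvd _ ⟨d, hd⟩) ?_
      rw [← IsScalarTower.algebraMap_apply B C Cp, IsScalarTower.algebraMap_apply B A Cp]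
      exact (IsLocalization.map_units A (⟨u, hu⟩ : M)).map _
    have h5 : algebraMap A Cp (IsLocalization.mk' A s₀ v) * algebraMap B Cp v =
        algebraMap B Cp s₀ := by
      rw [IsScalarTower.algebraMap_apply B A Cp, ← map_mul, IsLocalization.mk'_spec,
        ← IsScalarTower.algebraMap_apply]
    exact isUnit_of_mul_isUnit_left (h5 ▸ h4)
  have hdiv : ∀ a s : A, ∀ y : Cp, algebraMap A Cp s * y = algebraMap A Cp a →
      IsIntegral A y → s ∣ a := by
    intro a s y hy hyint
    obtain ⟨t, rfl⟩ := hclosed y hyint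
    exact ⟨t, hjinj (by rw [map_mul, hy])⟩
  haveI : IsDomain A := by
    haveI : Fintype (minimalPrimes A) :=
      (minimalPrimes.finite_of_isNoetherianRing A).fintype
    obtain ⟨a, ha⟩ := Groth.ReducedNormal.exists_sep A
    have hsub : ∀ P Q : minimalPrimes A, P = Q := by
      by_contra! hne
      obtain ⟨P, Q, hPQ⟩ := hne
      set s := ∑ R : minimalPrimes A, a R with hs_def
      have hs : ∀ R ∈ minimalPrimes A, s ∉ R := by
        intro R hR hsR
        have h6 : ∑ T ∈ Finset.univ.erase (⟨R, hR⟩ : minimalPrimes A), a T ∈ R :=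
          Ideal.sum_mem _ fun T hT => (ha T ⟨R, hR⟩).mpr (Finset.ne_of_mem_erase hT)
        rw [hs_def, ← Finset.add_sum_erase _ _ (Finset.mem_univ (⟨R, hR⟩ : minimalPrimes A))]
          at hsR
        exact (ha ⟨R, hR⟩ ⟨R, hR⟩).mp ((Ideal.add_mem_iff_left _ h6).mp hsR) rfl
      have hmul : a P * s = a P * a P := by
        rw [hs_def, Finset.mul_sum]
        refine Finset.sum_eq_single P (fun T _ hT => ?_) (fun h => absurd (Finset.mem_univ P) h)
        have h7 : a P * a T ∈ nilradical A := by
          rw [nilradical, ← Ideal.sInf_minimalPrimes, Submodule.mem_sInf]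
          intro R hR
          rcases eq_or_ne P ⟨R, hR⟩ with h8 | h8
          · exact Ideal.mul_mem_left _ _ ((ha T ⟨R, hR⟩).mpr (h8 ▸ hT))
          · exact Ideal.mul_mem_right _ _ ((ha P ⟨R, hR⟩).mpr h8)
        rwa [nilradical_eq_zero] at h7
      obtain ⟨σ, hσ⟩ := hunit' s hs
      let y : Cp := (↑σ⁻¹ : Cp) * algebraMap A Cp (a P)
      have hy : algebraMap A Cp s * y = algebraMap A Cp (a P) := by
        rw [← hσ, Units.mul_inv_cancel_left]
      have hy2 : y * y = y := by
        refine σ.isUnit.mul_right_injective (σ.isUnit.mul_right_injective ?_)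
        show (σ : Cp) * (σ * (y * y)) = σ * (σ * y)
        have h9 : (σ : Cp) * y = algebraMap A Cp (a P) := by rw [hσ, hy]
        rw [show (σ : Cp) * (σ * (y * y)) = (σ * y) * (σ * y) by ring, h9, ← map_mul, ← hmul,
          map_mul, hσ, mul_comm]
      obtain ⟨t, ht⟩ := hdiv (a P) s y hy
        ⟨X ^ 2 - X, monic_X_pow_sub (by simp), by simp [pow_two, hy2]⟩
      have hnz := Groth.ReducedNormal.mem_nonZeroDivisors_of_forall A hs
      have htt : t * t = t := by
        have h10 : s * s * (t * t) = s * s * t := by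
          rw [show s * s * (t * t) = (s * t) * (s * t) by ring, ← ht, ← hmul, ht]; ring
        exact (mul_cancel_left_mem_nonZeroDivisors (mul_mem hnz hnz)).mp h10
      have ht0 : t * (1 - t) = 0 := by rw [mul_sub, mul_one, htt, sub_self]
      rcases IsLocalRing.isUnit_or_isUnit_one_sub_self t with h11 | h11
      · have ht1 : t = 1 := (sub_eq_zero.mp (h11.mul_right_eq_zero.mp ht0)).symm
        rw [ht1, mul_one] at ht
        exact hs Q.1 Q.2 (ht ▸ (ha P Q).mpr hPQ)
      · have ht1 : t = 0 := h11.mul_left_eq_zero.mp ht0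
        rw [ht1, mul_zero] at ht
        exact (ha P P).mp (ht ▸ P.1.zero_mem) rfl
    obtain ⟨P, hP⟩ : (minimalPrimes A).Nonempty := Set.nonempty_iff_ne_empty.mpr fun h => by
      obtain ⟨P, hP, -⟩ := Ideal.exists_minimalPrimes_le (bot_le : (⊥ : Ideal A) ≤ IsLocalRing.maximalIdeal A)
      exact (Set.ext_iff.mp h P).mp hP
    have hPbot : P = ⊥ := by
      rw [eq_bot_iff]
      intro x hx
      have : x ∈ nilradical A := by
        rw [nilradical, ← Ideal.sInf_minimalPrimes, Submodule.mem_sInf]
        intro Q hQ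
        have hPQ : P = Q := congrArg Subtype.val (hsub ⟨P, hP⟩ ⟨Q, hQ⟩)
        rwa [← hPQ]
      rwa [nilradical_eq_zero] at this
    haveI : (⊥ : Ideal A).IsPrime := hPbot ▸ hP.1.1
    exact IsDomain.of_bot_isPrime A
  refine ⟨inferInstance, ?_⟩
  have hnf : ¬ IsField A := fun h => by
    letI := h.toField
    rw [ringKrullDim_eq_zero_of_field] at hdim
    exact zero_ne_one hdim
  suffices h : IsIntegrallyClosed A ∧ ∃! P : Ideal A, P ≠ ⊥ ∧ P.IsPrime from
    ((IsDiscreteValuationRing.TFAE A hnf).out 3 0).mp h
  refine ⟨?_, ?_⟩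
  · refine (isIntegrallyClosed_iff (FractionRing A)).mpr fun {x} hx => ?_
    obtain ⟨a, ⟨s, hs⟩, hxs⟩ := IsLocalization.exists_mk'_eq (nonZeroDivisors A) x
    obtain ⟨σ, hσ⟩ := hunit' s fun Q hQ hsQ => by
      have hQ0 : Q = ⊥ := le_bot_iff.mp (hQ.2 ⟨Ideal.isPrime_bot, bot_le⟩ bot_le)
      rw [hQ0, Ideal.mem_bot] at hsQ
      exact nonZeroDivisors.ne_zero hs hsQ
    obtain ⟨q, hq, hq0⟩ := hx
    have h12 : algebraMap A (FractionRing A) s * x = algebraMap A _ a := by
      rw [← hxs, mul_comm, IsLocalization.mk'_spec _ a ⟨s, hs⟩]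
    have h13 : (q.scaleRoots s).eval a = 0 := by
      apply IsFractionRing.injective A (FractionRing A)
      rw [← eval₂_at_apply, ← h12, scaleRoots_eval₂_mul, hq0, mul_zero, map_zero]
    let y : Cp := (↑σ⁻¹ : Cp) * algebraMap A Cp a
    have hy : algebraMap A Cp s * y = algebraMap A Cp a := by
      rw [← hσ, Units.mul_inv_cancel_left]
    have h14 : eval₂ (algebraMap A Cp) y q = 0 := by
      have h15 := congrArg (algebraMap A Cp) h13
      rw [← eval₂_at_apply, ← hy, scaleRoots_eval₂_mul, map_zero] at h15
      exact ((IsUnit.pow _ ⟨σ, hσ⟩).mul_right_eq_zero).mp h15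
    obtain ⟨t, rfl⟩ := hdiv a s y hy ⟨q, hq, h14⟩
    refine ⟨t, ?_⟩
    rw [map_mul] at h12
    exact (mul_left_cancel₀ (fun h => nonZeroDivisors.ne_zero hs
      (IsFractionRing.injective A (FractionRing A) (h.trans (map_zero _).symm))) h12).symm
  · refine ⟨IsLocalRing.maximalIdeal A, ⟨fun h => hnf (IsLocalRing.isField_iff_maximalIdeal_eq.mpr h),
      inferInstance⟩, fun P hP => ?_⟩
    exact IsLocalRing.eq_maximalIdeal
      ((Ring.krullDimLE_one_iff_of_noZeroDivisors.mp inferInstance) P hP.1 hP.2)

end Groth.PropsBasic
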