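import Groth.Agent.PropsBasic.GRingMaximal
import Groth.Agent.RefRank.ClosedPoints

/-!
# G-schemes can be tested at closed points
-/

set_option autoImplicit false
set_option linter.style.haveILetI false
set_option backward.isDefEq.respectTransparency.types false

universe u

open CategoryTheory AlgebraicGeometry IsLocalRing

namespace Groth.PropsBasic.GRingMaximal

/-- The local ring of a point of an affine open as a localization of the sections. -/
noncomputable def stalkEquiv {X : Scheme.{u}} {V : X.Opens} (hV : IsAffineOpen V) (x : V) :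
    Localization.AtPrime (hV.primeIdealOf x).asIdeal ≃+* X.presheaf.stalk x.1 :=
  haveI := hV.isLocalization_stalk x
  (IsLocalization.algEquiv (hV.primeIdealOf x).asIdeal.primeCompl
    (Localization.AtPrime (hV.primeIdealOf x).asIdeal) (X.presheaf.stalk x.1)).toRingEquiv

theorem gScheme_iff
    (hC : ∀ (C : Type u) [CommRing C] [IsLocalRing C] [IsNoetherianRing C]
      [IsAdicComplete (maximalIdeal C) C], CAlg.IsGRing C)
    (X : Scheme.{u}) :
    (∀ x : X, ∃ U : X.Opens, x ∈ U ∧ IsAffineOpen U ∧ CAlg.IsGRing Γ(X, U)) ↔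
      IsLocallyNoetherian X ∧ ∀ x : X, IsClosed ({x} : Set X) →
        CAlg.IsRegularHom (X.presheaf.stalk x)
          (AdicCompletion (maximalIdeal (X.presheaf.stalk x)) (X.presheaf.stalk x)) := by
  constructor
  · intro h
    choose U hxU hU hG using h
    refine ⟨isLocallyNoetherian_of_affine_cover (S := fun x => ⟨U x, hU x⟩)
      (top_le_iff.mp fun x _ => TopologicalSpace.Opens.mem_iSup.mpr ⟨x, hxU x⟩)
      fun x => (hG x).1, fun x _ => ?_⟩
    exact GRingLocal.isRegularHom_completion_of_equiv (stalkEquiv (hU x) ⟨x, hxU x⟩)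
      ((hG x).2 ((hU x).primeIdealOf ⟨x, hxU x⟩).asIdeal)
  · rintro ⟨hN, h⟩
    have hpt : ∀ y : X, CAlg.IsRegularHom (X.presheaf.stalk y)
        (AdicCompletion (maximalIdeal (X.presheaf.stalk y)) (X.presheaf.stalk y)) := by
      intro y
      obtain ⟨z, hz, hzc⟩ := Groth.RefRank.exists_isClosed_singleton
        (isClosed_closure (s := ({y} : Set X))) ⟨y, subset_closure rfl⟩
      obtain ⟨V, hV, hzV, -⟩ := TopologicalSpace.Opens.isBasis_iff_nbhd.mp X.isBasis_affineOpens
        (TopologicalSpace.Opens.mem_top z)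
      have hyz : y ⤳ z := specializes_iff_mem_closure.mpr hz
      have hyV : y ∈ V := hyz.mem_open V.isOpen hzV
      haveI : IsNoetherianRing Γ(X, V) := IsLocallyNoetherian.component_noetherian ⟨V, hV⟩
      have hle : (hV.primeIdealOf ⟨y, hyV⟩).asIdeal ≤ (hV.primeIdealOf ⟨z, hzV⟩).asIdeal := by
        refine (PrimeSpectrum.le_iff_specializes _ _).mpr
          (hV.fromSpec.isOpenEmbedding.isInducing.specializes_iff.mp ?_)
        rw [hV.fromSpec_primeIdealOf, hV.fromSpec_primeIdealOf]
        exact hyz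
      exact GRingLocal.isRegularHom_completion_of_equiv (stalkEquiv hV ⟨y, hyV⟩)
        (isRegularHom_completion_of_le hC _ _ _ hle
          (GRingLocal.isRegularHom_completion_of_equiv (stalkEquiv hV ⟨z, hzV⟩).symm (h z hzc)))
    intro x
    obtain ⟨U, hU, hxU, -⟩ := TopologicalSpace.Opens.isBasis_iff_nbhd.mp X.isBasis_affineOpens
      (TopologicalSpace.Opens.mem_top x)
    refine ⟨U, hxU, hU, IsLocallyNoetherian.component_noetherian ⟨U, hU⟩, fun p hp => ?_⟩
    have hyU : hU.fromSpec.base ⟨p, hp⟩ ∈ U := hU.range_fromSpec.subset ⟨_, rfl⟩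
    have hpe : hU.primeIdealOf ⟨_, hyU⟩ = ⟨p, hp⟩ := by
      apply hU.fromSpec.isOpenEmbedding.injective
      exact hU.fromSpec_primeIdealOf ⟨_, hyU⟩
    have := GRingLocal.isRegularHom_completion_of_equiv (stalkEquiv hU ⟨_, hyU⟩).symm (hpt _)
    rw [hpe] at this
    exact this

end Groth.PropsBasic.GRingMaximal
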