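import Mathlib

/-!
# Germ injectivity for reduced schemes with finitely many irreducible components
-/

universe u

open CategoryTheory AlgebraicGeometry TopologicalSpace

set_option backward.isDefEq.respectTransparency.types false

namespace Groth.PropsBasic

/-- In a reduced ring with finitely many minimal primes, some element outside a prime kills the
kernel of the localization at that prime. -/
theorem exists_notMem_forall_mul_eq_zero {A : Type u} [CommRing A] [_root_.IsReduced A]
    (hfin : (minimalPrimes A).Finite) (p : Ideal A) [p.IsPrime] :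
    ∃ h ∉ p, ∀ a : A, ∀ s ∉ p, s * a = 0 → h * a = 0 := by
  classical
  let M := hfin.toFinset.filter fun P => ¬ P ≤ p
  have hM : ¬ M.inf id ≤ p := by
    intro hle
    obtain ⟨P, hP, hPp⟩ := (Ideal.IsPrime.inf_le' ‹p.IsPrime›).1 hle
    exact (Finset.mem_filter.1 hP).2 hPp
  obtain ⟨h, hhM, hhp⟩ := SetLike.not_le_iff_exists.1 hM
  refine ⟨h, hhp, fun a s hs hsa => IsNilpotent.eq_zero ?_⟩
  rw [nilpotent_iff_mem_prime]
  intro J hJ
  haveI := hJ
  obtain ⟨P, hP, hPJ⟩ := Ideal.exists_minimalPrimes_le (bot_le : (⊥ : Ideal A) ≤ J)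
  apply hPJ
  by_cases hPp : P ≤ p
  · exact P.mul_mem_left _ ((hP.1.1.mem_or_mem (hsa ▸ P.zero_mem)).resolve_left fun hh => hs (hPp hh))
  · have hmem : P ∈ M := Finset.mem_filter.2 ⟨hfin.mem_toFinset.2 hP, hPp⟩
    exact P.mul_mem_right _ (show h ∈ id P from (Finset.inf_le (f := id) hmem) hhM)

/-- A reduced scheme with finitely many irreducible components is germ-injective. -/
theorem isGermInjectiveAt_of_isReduced {X : Scheme.{u}} [IsReduced X]
    (hfin : (irreducibleComponents X).Finite) (x : X) : X.IsGermInjectiveAt x := by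
  obtain ⟨V, hV, hxV, -⟩ := exists_isAffineOpen_mem_and_subset (x := x) (U := (⊤ : X.Opens)) trivial
  let A := Γ(X, V)
  have hcomp : (irreducibleComponents (PrimeSpectrum A)).Finite := by
    refine (hfin.image (hV.fromSpec ⁻¹' ·)).subset fun C hC => ?_
    obtain ⟨T, hT, hCT, -⟩ : ∃ T, T ∈ irreducibleComponents X ∧ hV.fromSpec '' C ⊆ T ∧ True := by
      obtain ⟨T, hT, hCT⟩ := exists_mem_irreducibleComponents_subset_of_isIrreducible _
        (hC.1.image hV.fromSpec hV.fromSpec.continuous.continuousOn)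
      exact ⟨T, hT, hCT, trivial⟩
    refine ⟨T, hT, ?_⟩
    have hne : (T ∩ Set.range hV.fromSpec).Nonempty := by
      obtain ⟨c, hc⟩ := hC.1.1
      exact ⟨_, hCT ⟨c, hc, rfl⟩, c, rfl⟩
    have hT' := preimage_mem_irreducibleComponents hT hV.fromSpec.isOpenEmbedding hne
    exact ((hC.2 hT'.1 (Set.image_subset_iff.1 hCT)).antisymm' (Set.image_subset_iff.1 hCT)).symm
  have hmin : (minimalPrimes A).Finite := by
    rw [← PrimeSpectrum.vanishingIdeal_irreducibleComponents]
    exact hcomp.image _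
  let p := (hV.primeIdealOf ⟨x, hxV⟩).asIdeal
  obtain ⟨h, hhp, hh⟩ := exists_notMem_forall_mul_eq_zero hmin p
  have hxh : x ∈ X.basicOpen h := by
    have h1 : hV.primeIdealOf ⟨x, hxV⟩ ∈ hV.fromSpec ⁻¹ᵁ X.basicOpen h := by
      rw [hV.fromSpec_preimage_basicOpen h]
      exact hhp
    have h2 : hV.fromSpec (hV.primeIdealOf ⟨x, hxV⟩) ∈ X.basicOpen h := h1
    rwa [hV.fromSpec_primeIdealOf] at h2
  refine ⟨⟨X.basicOpen h, hxh, hV.basicOpen h, ?_⟩⟩
  rw [injective_iff_map_eq_zero]
  intro t ht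
  letI := TopCat.Presheaf.algebra_section_stalk X.presheaf (⟨x, hxV⟩ : V)
  haveI : IsLocalization.AtPrime (X.presheaf.stalk x) p := hV.isLocalization_stalk ⟨x, hxV⟩
  haveI := hV.isLocalization_basicOpen h
  obtain ⟨a, s, rfl⟩ := IsLocalization.exists_mk'_eq (Submonoid.powers h) t
  have ha : X.presheaf.germ V x hxV a = 0 := by
    have h1 := congrArg (X.presheaf.germ (X.basicOpen h) x hxh)
      (IsLocalization.mk'_spec Γ(X, X.basicOpen h) a s)
    rw [map_mul, ht, zero_mul] at h1
    rw [h1]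
    exact (TopCat.Presheaf.germ_res_apply X.presheaf (homOfLE (X.basicOpen_le h)) x hxh a).symm
  obtain ⟨⟨u, hu⟩, hua⟩ := (IsLocalization.map_eq_zero_iff p.primeCompl
    (X.presheaf.stalk x) a).1 ha
  refine (IsLocalization.mk'_eq_zero_iff a s).2 ⟨⟨h, Submonoid.mem_powers h⟩, ?_⟩
  exact hh a u hu hua

end Groth.PropsBasic

namespace Groth.PropsBasic

open CategoryTheory.Limits in
/-- Two morphisms on opens agreeing on the intersection glue on the union. -/
theorem exists_hom_sup {X Y : Scheme.{u}} {A B : X.Opens} (a : (A : Scheme.{u}) ⟶ Y)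
    (b : (B : Scheme.{u}) ⟶ Y)
    (h : X.homOfLE (inf_le_left : A ⊓ B ≤ A) ≫ a = X.homOfLE (inf_le_right : A ⊓ B ≤ B) ≫ b) :
    ∃ g : ((A ⊔ B : X.Opens) : Scheme.{u}) ⟶ Y,
      X.homOfLE (le_sup_left : A ≤ A ⊔ B) ≫ g = a ∧ X.homOfLE (le_sup_right : B ≤ A ⊔ B) ≫ g = b := by
  let O : Bool → X.Opens := fun t => match t with | true => A | false => B
  let m : ∀ t, (O t : Scheme.{u}) ⟶ Y := fun t => match t with | true => a | false => b
  have hle : ∀ t, O t ≤ A ⊔ B := fun t => match t with | true => le_sup_left | false => le_sup_right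
  let 𝒰 : ((A ⊔ B : X.Opens) : Scheme.{u}).OpenCover :=
    Scheme.Cover.mkOfCovers (ULift.{u} Bool) (fun t => (O t.down : Scheme.{u}))
      (fun t => X.homOfLE (hle t.down)) (fun x => by
        rcases x.2 with hx | hx
        · exact ⟨⟨true⟩, ⟨x.1, hx⟩, by apply Subtype.ext; simp [Scheme.homOfLE_apply]⟩
        · exact ⟨⟨false⟩, ⟨x.1, hx⟩, by apply Subtype.ext; simp [Scheme.homOfLE_apply]⟩)
      (fun t => inferInstanceAs (IsOpenImmersion (X.homOfLE (hle t.down))))
  have compat : ∀ s t : Bool,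
      pullback.fst (X.homOfLE (hle s)) (X.homOfLE (hle t)) ≫ m s =
        pullback.snd (X.homOfLE (hle s)) (X.homOfLE (hle t)) ≫ m t := by
    have hAB : ∀ {P : Scheme.{u}} (u : P ⟶ (A : Scheme.{u})) (v : P ⟶ (B : Scheme.{u})),
        u ≫ A.ι = v ≫ B.ι → u ≫ a = v ≫ b := by
      intro P u v huv
      have hr : Set.range (u ≫ A.ι) ⊆ Set.range (A ⊓ B).ι := by
        rintro _ ⟨p, rfl⟩
        rw [Scheme.Opens.range_ι]
        refine ⟨(u p).2, ?_⟩
        rw [huv]
        exact (v p).2
      let w := IsOpenImmersion.lift (A ⊓ B).ι (u ≫ A.ι) hr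
      have hu : w ≫ X.homOfLE (inf_le_left : A ⊓ B ≤ A) = u := by
        rw [← cancel_mono A.ι, Category.assoc, Scheme.homOfLE_ι, IsOpenImmersion.lift_fac]
      have hv : w ≫ X.homOfLE (inf_le_right : A ⊓ B ≤ B) = v := by
        rw [← cancel_mono B.ι, Category.assoc, Scheme.homOfLE_ι, IsOpenImmersion.lift_fac, huv]
      rw [← hu, ← hv, Category.assoc, Category.assoc, h]
    intro s t
    have hc : pullback.fst (X.homOfLE (hle s)) (X.homOfLE (hle t)) ≫ (O s).ι =
        pullback.snd (X.homOfLE (hle s)) (X.homOfLE (hle t)) ≫ (O t).ι := by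
      have := congrArg (· ≫ (A ⊔ B).ι) (pullback.condition (f := X.homOfLE (hle s)) (g := X.homOfLE (hle t)))
      simpa only [Category.assoc, Scheme.homOfLE_ι] using this
    match s, t, hc with
    | true, true, hc => exact congrArg (· ≫ a) ((cancel_mono A.ι).1 hc)
    | false, false, hc => exact congrArg (· ≫ b) ((cancel_mono B.ι).1 hc)
    | true, false, hc => exact hAB _ _ hc
    | false, true, hc => exact (hAB _ _ hc.symm).symm
  refine ⟨𝒰.glueMorphisms (fun t => m t.down) (fun s t => compat s.down t.down), ?_, ?_⟩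
  · exact 𝒰.ι_glueMorphisms (fun t => m t.down) (fun s t => compat s.down t.down) ⟨true⟩
  · exact 𝒰.ι_glueMorphisms (fun t => m t.down) (fun s t => compat s.down t.down) ⟨false⟩

end Groth.PropsBasic
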