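import Groth.Prelude.Def_CAlg
import Groth.Agent.LocDual.Duality
import Groth.Agent.LocCohBase.CM
import Groth.Agent.CanMod.Basic
import Groth.Agent.Gorenstein.Basic
import Groth.Agent.Smt.GlueLocal
import Mathlib.RingTheory.Regular.RegularSequence
import Mathlib.RingTheory.Ideal.Colon

/-!
Residual intersections in codimension zero over a Gorenstein local ring: for `A/I` maximal
Cohen–Macaulay and `J = 0 : I`, regular sequences of `A` are regular on `A/I` and on `A/J`, and
`J/rJ` is the annihilator of the image of `I` modulo `r`.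
-/

set_option autoImplicit false
set_option linter.style.haveILetI false
universe u

open CategoryTheory IsLocalRing InjHull GrothGoren Groth.LocCohBase Groth.LocDual RingTheory.Sequence
open scoped Pointwise

namespace Groth.GorResidual

variable {A : Type u} [CommRing A] [IsLocalRing A] [IsNoetherianRing A]

/-- `A/I` has depth at least `dim A`. -/
def IsMaxDepth (I : Ideal A) : Prop :=
  ∀ r : ℕ, ringKrullDim A = r → (r : ℕ∞) ≤ LocCoh.depth A (A ⧸ I)

theorem isSMulRegular_quotient (hA : ∃ n, InjLT A A n) {I : Ideal A} (hI : IsMaxDepth I) {x : A}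
    (hx : IsSMulRegular A x) : IsSMulRegular (A ⧸ I) x := by
  obtain ⟨r, hr, -⟩ := exists_dim A hA
  by_contra hxM
  obtain ⟨p, hp, hxp⟩ : ∃ p ∈ associatedPrimes A (A ⧸ I), x ∈ p := by
    have : x ∈ ⋃ p ∈ associatedPrimes A (A ⧸ I), (p : Set A) := by
      rw [biUnion_associatedPrimes_eq_compl_regular]
      exact hxM
    simpa using this
  haveI : p.IsPrime := hp.isPrime
  have hrp := le_ringKrullDim_quotient_of_mem_associatedPrimes r (A ⧸ I) (hI r hr) p hp
  have hpm : p ∈ minimalPrimes A := by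
    obtain ⟨q, hq, hqp⟩ := Ideal.exists_minimalPrimes_le (bot_le : (⊥ : Ideal A) ≤ p)
    rcases hqp.eq_or_lt with h | h
    · exact h ▸ hq
    · exfalso
      haveI : q.IsPrime := hq.1.1
      have h1 := ringKrullDim_quotient_add_one_le (Ideal.IsPrime.ne_top (I := p) inferInstance) h
      have h2 : ringKrullDim (A ⧸ q) ≤ ringKrullDim A := ringKrullDim_quotient_le q
      rw [hr] at h2
      obtain ⟨e, he⟩ : ∃ e, ringKrullDim (A ⧸ p) = e := ⟨_, rfl⟩
      rw [he] at h1 hrp
      have h3 : (r : WithBot ℕ∞) + 1 ≤ (r : WithBot ℕ∞) := ((add_le_add_left hrp 1).trans h1).trans h2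
      have h3' : ((r + 1 : ℕ) : WithBot ℕ∞) ≤ ((r : ℕ) : WithBot ℕ∞) := by push_cast; exact h3
      have := Nat.cast_le.1 h3'
      omega
  exact Set.disjoint_left.1 (Ideal.disjoint_nonZeroDivisors_of_mem_minimalPrimes hpm) hxp
    (isRegular_iff_mem_nonZeroDivisors.1 ⟨hx, fun a b hab => hx (by simpa [mul_comm] using hab)⟩)

theorem subsingleton_ext_one (hA : ∃ n, InjLT A A n) {I : Ideal A} (hI : IsMaxDepth I)
    {r : ℕ} (hr : ringKrullDim A = r) (hr1 : 1 ≤ r) :
    Subsingleton (Abelian.Ext (ModuleCat.of A (A ⧸ I)) (ModuleCat.of A A) 1) := by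
  obtain ⟨-, f, hf⟩ := exists_hull_H_top r A hA hr
  obtain ⟨D⟩ := nonempty_duality_of_hull hA hr hf (A ⧸ I) (i := r - 1) (j := 1) (by omega)
  have := (le_idealDepth_iff_localCohomology (maximalIdeal A) r (A ⧸ I)).1 (hI r hr) (r - 1) (by omega)
  haveI : Subsingleton (Hm (A := A) (r - 1) (A ⧸ I)) := this
  exact CanMod.subsingleton_of_dual hf _ D.symm.toEquiv.subsingleton

theorem colon_le (hA : ∃ n, InjLT A A n) {I : Ideal A} (hI : IsMaxDepth I) {x : A}
    (hxm : x ∈ maximalIdeal A) (hx : IsSMulRegular A x) :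
    Submodule.colon (Ideal.span {x}) (I : Set A) ≤ Submodule.annihilator I ⊔ Ideal.span {x} := by
  obtain ⟨r, hr, -⟩ := exists_dim A hA
  have hr1 : 1 ≤ r := by
    by_contra h
    obtain rfl : r = 0 := by omega
    haveI : Ring.KrullDimLE 0 A := Ring.krullDimLE_iff.2 (by rw [hr])
    obtain ⟨k, hk⟩ : IsNilpotent x :=
      Ring.KrullDimLE.isNilpotent_iff_mem_maximalIdeal.2 hxm
    have h1 : (1 : A) = 0 := hx.pow k (show x ^ k • (1 : A) = x ^ k • 0 by simp [hk])
    exact one_ne_zero h1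
  intro a ha
  let M₃ := A ⧸ Ideal.span {x}
  let g : A →ₗ[A] M₃ := Submodule.mkQ (Ideal.span {x})
  have hex : Function.Exact (LinearMap.lsmul A A x) g := fun y => by
    show Submodule.Quotient.mk y = 0 ↔ _
    rw [Submodule.Quotient.mk_eq_zero, Ideal.mem_span_singleton']
    exact ⟨fun ⟨c, hc⟩ => ⟨c, by simp [← hc, mul_comm]⟩, fun ⟨c, hc⟩ => ⟨c, by simp [← hc, mul_comm]⟩⟩
  have hS := seqCx_shortExact (LinearMap.lsmul A A x) g hex hx (Submodule.mkQ_surjective _)
  let φ : (A ⧸ I) →ₗ[A] M₃ := Submodule.liftQ I (LinearMap.toSpanSingleton A M₃ (g a)) fun i hi => by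
    show i • g a = 0
    rw [← map_smul, ← LinearMap.mem_ker, Submodule.ker_mkQ, smul_eq_mul, mul_comm]
    exact Submodule.mem_colon.1 ha i hi
  haveI := subsingleton_ext_one hA hI hr hr1
  obtain ⟨ψ, hψ⟩ := Abelian.Ext.covariant_sequence_exact₃ (ModuleCat.of A (A ⧸ I)) hS
    (Abelian.Ext.mk₀ (ModuleCat.ofHom φ)) (n₁ := 1) rfl (Subsingleton.elim _ _)
  obtain ⟨ψ, rfl⟩ := (Abelian.Ext.mk₀_bijective _ _).2 ψ
  rw [Abelian.Ext.mk₀_comp_mk₀] at hψ
  have hψ' := (Abelian.Ext.mk₀_bijective _ _).1 hψ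
  have h1 : g (ψ.hom (Submodule.Quotient.mk 1)) = φ (Submodule.Quotient.mk 1) := by
    rw [← ModuleCat.hom_ofHom φ, ← hψ']
    rfl
  have h2 : φ (Submodule.Quotient.mk 1) = g a := by
    show (1 : A) • g a = g a
    rw [one_smul]
  set b : A := ψ.hom (Submodule.Quotient.mk 1) with hb
  have hb' : b ∈ Submodule.annihilator I := Submodule.mem_annihilator.2 fun i hi => by
    rw [smul_eq_mul, hb, mul_comm, ← smul_eq_mul i, ← map_smul]
    have : i • (Submodule.Quotient.mk (1 : A) : A ⧸ I) = 0 := by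
      rw [← Submodule.Quotient.mk_smul, Submodule.Quotient.mk_eq_zero]
      simpa using hi
    rw [this, map_zero]
  have h3 : a - b ∈ Ideal.span {x} := (Submodule.Quotient.eq _).1 (h1.trans h2).symm
  exact Submodule.mem_sup.2 ⟨b, hb', a - b, h3, by ring⟩

theorem le_colon (J : Ideal A) (I : Ideal A) :
    Submodule.annihilator I ⊔ J ≤ Submodule.colon J (I : Set A) := by
  refine sup_le (fun a ha => Submodule.mem_colon.2 fun i hi => ?_)
    (fun a ha => Submodule.mem_colon.2 fun i _ => J.mul_mem_right i ha)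
  rw [Submodule.mem_annihilator.1 ha i hi]
  exact J.zero_mem

section Quot

variable (x : A) (K : Ideal A)

/-- `A/K → A'/K'` for `A' = A/xA`. -/
noncomputable def redMap : (A ⧸ K) →ₗ[A]
    ((A ⧸ Ideal.span {x}) ⧸ K.map (Ideal.Quotient.mk (Ideal.span {x}))) :=
  Submodule.liftQ K (Algebra.linearMap A _) fun k hk => by
    show algebraMap A _ k = 0
    exact Ideal.Quotient.eq_zero_iff_mem.2 (Ideal.mem_map_of_mem _ hk)

theorem redMap_surjective : Function.Surjective (redMap x K) := fun y => by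
  obtain ⟨y, rfl⟩ := Ideal.Quotient.mk_surjective y
  obtain ⟨a, rfl⟩ := Ideal.Quotient.mk_surjective y
  exact ⟨Submodule.Quotient.mk a, rfl⟩

theorem ker_redMap : LinearMap.ker (redMap x K) = x • (⊤ : Submodule A (A ⧸ K)) := by
  ext y
  obtain ⟨a, rfl⟩ := Submodule.Quotient.mk_surjective _ y
  rw [LinearMap.mem_ker, Submodule.mem_smul_pointwise_iff_exists]
  show Ideal.Quotient.mk _ (Ideal.Quotient.mk _ a) = 0 ↔ _
  rw [Ideal.Quotient.eq_zero_iff_mem, ← Ideal.mem_comap,
    Ideal.comap_map_of_surjective' _ Ideal.Quotient.mk_surjective, Ideal.mk_ker, Submodule.mem_sup]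
  constructor
  · rintro ⟨k, hk, s, hs, rfl⟩
    obtain ⟨c, rfl⟩ := Ideal.mem_span_singleton'.1 hs
    refine ⟨Submodule.Quotient.mk c, trivial, ?_⟩
    rw [← Submodule.Quotient.mk_smul, Submodule.Quotient.eq]
    convert K.neg_mem hk using 1
    rw [smul_eq_mul]; ring
  · rintro ⟨y, -, hy⟩
    obtain ⟨c, rfl⟩ := Submodule.Quotient.mk_surjective _ y
    rw [← Submodule.Quotient.mk_smul, Submodule.Quotient.eq] at hy
    exact ⟨a - c * x, by convert K.neg_mem hy using 1; rw [smul_eq_mul]; ring, c * x,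
      Ideal.mem_span_singleton'.2 ⟨c, rfl⟩, by ring⟩

/-- `(A/K)/x(A/K) ≅ A'/K'`. -/
noncomputable def redEquiv : QuotSMulTop x (A ⧸ K) ≃ₗ[A]
    ((A ⧸ Ideal.span {x}) ⧸ K.map (Ideal.Quotient.mk (Ideal.span {x}))) :=
  (Submodule.quotEquivOfEq _ _ (ker_redMap x K).symm).trans
    ((redMap x K).quotKerEquivOfSurjective (redMap_surjective x K))

theorem isWeaklyRegular_cons {rs : List A} (hK : IsSMulRegular (A ⧸ K) x)
    (h : IsWeaklyRegular ((A ⧸ Ideal.span {x}) ⧸ K.map (Ideal.Quotient.mk (Ideal.span {x})))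
      (rs.map (Ideal.Quotient.mk (Ideal.span {x})))) :
    IsWeaklyRegular (A ⧸ K) (x :: rs) := by
  rw [isWeaklyRegular_cons_iff]
  exact ⟨hK, ((redEquiv x K).isWeaklyRegular_congr rs).2
    ((isWeaklyRegular_map_algebraMap_iff (A ⧸ Ideal.span {x}) _ rs).1 h)⟩

end Quot

theorem isMaxDepth_map (hA : ∃ n, InjLT A A n) {I : Ideal A} (hI : IsMaxDepth I) (hI1 : I ≠ ⊤) {x : A}
    (hxm : x ∈ maximalIdeal A) (hx : IsSMulRegular A x) [IsLocalRing (A ⧸ Ideal.span {x})] :
    IsMaxDepth (I.map (Ideal.Quotient.mk (Ideal.span {x}))) := by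
  set I' := I.map (Ideal.Quotient.mk (Ideal.span {x}))
  intro r' hr'
  have hd := ringKrullDim_quotient_span_singleton_succ_eq_ringKrullDim hx hxm
  rw [hr'] at hd
  have hr : ringKrullDim A = (r' + 1 : ℕ) := by rw [← hd]; push_cast; rfl
  have hM := isSMulRegular_quotient hA hI hx
  have hle : (r' : ℕ∞) ≤ LocCoh.depth A (QuotSMulTop x (A ⧸ I)) := by
    refine (le_idealDepth_iff (maximalIdeal A) _ r').2 fun i hi => ?_
    have h0 := (le_idealDepth_iff (maximalIdeal A) (A ⧸ I) (r' + 1)).1 (hI _ hr)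
    exact ext_subsingleton_X₃ (hS := seqCx_shortExact (LinearMap.lsmul A (A ⧸ I) x)
      (Submodule.mkQ (x • (⊤ : Submodule A (A ⧸ I))))
      (fun y => by
        show Submodule.Quotient.mk y = 0 ↔ _
        rw [Submodule.Quotient.mk_eq_zero, Submodule.mem_smul_pointwise_iff_exists]
        exact ⟨fun ⟨z, _, hz⟩ => ⟨z, hz⟩, fun ⟨z, hz⟩ => ⟨z, trivial, hz⟩⟩)
      hM (Submodule.mkQ_surjective _)) _ i (h0 i (by omega)) (h0 (i + 1) (by omega))
  have hI' : I' ≠ ⊤ := fun h => by
    have h' : (⊤ : Ideal A) = I ⊔ Ideal.span {x} := by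
      rw [← Ideal.mk_ker (I := Ideal.span {x}),
        ← Ideal.comap_map_of_surjective' _ Ideal.Quotient.mk_surjective I, show Ideal.map _ I = ⊤ from h,
        Ideal.comap_top]
    exact (maximalIdeal.isMaximal A).ne_top (top_le_iff.1 (h' ▸ sup_le (IsLocalRing.le_maximalIdeal hI1)
      ((Ideal.span_singleton_le_iff_mem _).2 hxm)))
  haveI : Nontrivial ((A ⧸ Ideal.span {x}) ⧸ I') := Ideal.Quotient.nontrivial_iff.2 hI'
  haveI : IsLocalRing ((A ⧸ Ideal.span {x}) ⧸ I') :=
    IsLocalRing.of_surjective' (Ideal.Quotient.mk I') Ideal.Quotient.mk_surjective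
  have e : LocCoh.depth A (QuotSMulTop x (A ⧸ I)) = LocCoh.depth A ((A ⧸ Ideal.span {x}) ⧸ I') :=
    idealDepth_congr (redEquiv x I)
  rw [e, Groth.Smt.depth_eq_of_surjective A ((A ⧸ Ideal.span {x}) ⧸ I')
    (fun y => by
      obtain ⟨y, rfl⟩ := Ideal.Quotient.mk_surjective y
      obtain ⟨a, rfl⟩ := Ideal.Quotient.mk_surjective y
      exact ⟨a, rfl⟩)] at hle
  rwa [Groth.Smt.depth_eq_of_surjective (A ⧸ Ideal.span {x}) ((A ⧸ Ideal.span {x}) ⧸ I')
    Ideal.Quotient.mk_surjective]

/-- The identities and regularity on `A/I`, `A/J` for a regular sequence. -/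
theorem main : ∀ (n : ℕ) (rs : List A), rs.length = n → (∃ m, InjLT A A m) → ∀ (I : Ideal A),
    IsMaxDepth I → I ≠ ⊤ → IsWeaklyRegular A rs → (∀ r ∈ rs, r ∈ maximalIdeal A) →
    Submodule.colon (Ideal.ofList rs) (I : Set A) = Submodule.annihilator I ⊔ Ideal.ofList rs ∧
      Submodule.annihilator I ⊓ Ideal.ofList rs = Ideal.ofList rs * Submodule.annihilator I ∧
      IsWeaklyRegular (A ⧸ I) rs ∧ IsWeaklyRegular (A ⧸ Submodule.annihilator I) rs := by
  intro n
  induction n generalizing A with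
  | zero =>
    intro rs hlen _ I _ _ _ _
    obtain rfl := List.eq_nil_of_length_eq_zero hlen
    refine ⟨le_antisymm (fun a ha => ?_) (le_colon _ I), by simp, IsWeaklyRegular.nil _ _,
      IsWeaklyRegular.nil _ _⟩
    rw [Ideal.ofList_nil] at ha ⊢
    rw [sup_bot_eq]
    exact Submodule.mem_annihilator.2 fun i hi => (Submodule.mem_bot A).1 (Submodule.mem_colon.1 ha i hi)
  | succ n ih =>
    intro l hlen hA I hI hI1 hreg hmem
    obtain ⟨x, rs, rfl⟩ := List.exists_cons_of_length_eq_add_one hlen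
    obtain ⟨hx, hrs⟩ := (isWeaklyRegular_cons_iff A x rs).1 hreg
    have hxm : x ∈ maximalIdeal A := hmem x (by simp)
    set S := Ideal.span {x} with hSdef
    haveI : Nontrivial (A ⧸ S) := Ideal.Quotient.nontrivial_iff.2 fun h =>
      (maximalIdeal.isMaximal A).ne_top (top_le_iff.1 (h ▸ (Ideal.span_singleton_le_iff_mem _).2 hxm))
    haveI : IsLocalRing (A ⧸ S) := IsLocalRing.of_surjective' (Ideal.Quotient.mk S) Ideal.Quotient.mk_surjective
    set π := Ideal.Quotient.mk S with hπ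
    have hπs : Function.Surjective π := Ideal.Quotient.mk_surjective
    have hA' : ∃ m, InjLT (A ⧸ S) (A ⧸ S) m := (exists_injLT_quotient_iff A hxm hx).1 hA
    set I' := I.map π with hI'def
    have hI' : IsMaxDepth I' := isMaxDepth_map hA hI hI1 hxm hx
    have hcomap : ∀ K : Ideal A, (K.map π).comap π = K ⊔ S := fun K => by
      rw [Ideal.comap_map_of_surjective' _ hπs, Ideal.mk_ker]
    have hI'1 : I' ≠ ⊤ := fun h => by
      have h' : (⊤ : Ideal A) = I ⊔ S := by
        rw [← hcomap I, show Ideal.map π I = ⊤ from h, Ideal.comap_top]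
      exact (maximalIdeal.isMaximal A).ne_top (top_le_iff.1 (h' ▸ sup_le (IsLocalRing.le_maximalIdeal hI1)
        ((Ideal.span_singleton_le_iff_mem _).2 hxm)))
    have hrs' : IsWeaklyRegular (A ⧸ S) (rs.map π) := by
      refine (isWeaklyRegular_map_algebraMap_iff (A ⧸ S) (A ⧸ S) rs).2 ?_
      refine (LinearEquiv.isWeaklyRegular_congr (Submodule.quotEquivOfEq (x • (⊤ : Submodule A A)) S ?_)
        rs).1 hrs
      rw [← Submodule.ideal_span_singleton_smul, smul_eq_mul, Ideal.mul_top]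
    obtain ⟨hcol, hinf, hregI, hregJ⟩ := ih (rs.map π) (by simpa using hlen) hA' I' hI' hI'1 hrs'
      (fun r hr => by
        obtain ⟨s, hs, rfl⟩ := List.mem_map.1 hr
        intro hu
        obtain ⟨y, hy⟩ := hu.exists_right_inv
        obtain ⟨y, rfl⟩ := hπs y
        rw [← map_mul, ← map_one π, Ideal.Quotient.eq] at hy
        have hsm : s ∈ maximalIdeal A := hmem s (by simp [hs])
        have h1 : (1 : A) ∈ maximalIdeal A := by
          have := (maximalIdeal A).sub_mem (Ideal.mul_mem_right y _ hsm)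
            ((Ideal.span_singleton_le_iff_mem _).2 hxm hy)
          simp at this
        exact (maximalIdeal.isMaximal A).ne_top ((Ideal.eq_top_iff_one _).2 h1))
    set J := Submodule.annihilator I with hJdef
    set J' := Submodule.annihilator I' with hJ'def
    have hJ'c : J'.comap π = J ⊔ S := by
      refine le_antisymm (fun a ha => colon_le hA hI hxm hx (Submodule.mem_colon.2 fun i hi => ?_)) ?_
      · have := Submodule.mem_annihilator.1 (show π a ∈ J' from ha) (π i) (Ideal.mem_map_of_mem π hi)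
        rw [smul_eq_mul, ← map_mul] at this
        exact Ideal.Quotient.eq_zero_iff_mem.1 this
      · refine (le_colon S I).trans fun a ha => ?_
        show π a ∈ J'
        refine Submodule.mem_annihilator.2 fun i hi => ?_
        obtain ⟨j, hj, rfl⟩ := (Ideal.mem_map_iff_of_surjective π hπs).1 hi
        rw [smul_eq_mul, ← map_mul]
        exact Ideal.Quotient.eq_zero_iff_mem.2 (Submodule.mem_colon.1 ha j hj)
    have hJ' : J' = J.map π := by
      rw [← Ideal.map_comap_of_surjective π hπs J', hJ'c, Ideal.map_sup, Ideal.map_quotient_self,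
        sup_bot_eq]
    set 𝔯 := Ideal.ofList (x :: rs) with hrdef
    have hS𝔯 : S ≤ 𝔯 := by rw [hrdef, Ideal.ofList_cons]; exact le_sup_left
    have hmap : Ideal.ofList (rs.map π) = 𝔯.map π := by
      rw [hrdef, Ideal.ofList_cons, Ideal.map_sup, Ideal.map_quotient_self, bot_sup_eq, Ideal.map_ofList]
    have hxJ : ∀ b, x * b ∈ J → b ∈ J := fun b hb => Submodule.mem_annihilator.2 fun i hi =>
      hx.right_eq_zero_of_smul (by
        rw [smul_eq_mul, smul_eq_mul, ← mul_assoc]
        exact Submodule.mem_annihilator.1 hb i hi)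
    refine ⟨le_antisymm (fun a ha => ?_) (le_colon _ I), le_antisymm (fun a ha => ?_)
      (le_inf Ideal.mul_le_right Ideal.mul_le_left), ?_, ?_⟩
    · have h1 : π a ∈ J' ⊔ Ideal.ofList (rs.map π) := by
        rw [← hcol]
        refine Submodule.mem_colon.2 fun i hi => ?_
        obtain ⟨j, hj, rfl⟩ := (Ideal.mem_map_iff_of_surjective π hπs).1 hi
        rw [smul_eq_mul, ← map_mul, hmap]
        exact Ideal.mem_map_of_mem π (Submodule.mem_colon.1 ha j hj)
      rw [hJ', hmap, ← Ideal.map_sup, ← Ideal.mem_comap, hcomap,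
        sup_eq_left.2 (hS𝔯.trans le_sup_right)] at h1
      exact h1
    · obtain ⟨haJ, har⟩ := ha
      have h1 : π a ∈ J' ⊓ Ideal.ofList (rs.map π) :=
        ⟨hJ' ▸ Ideal.mem_map_of_mem π haJ, hmap ▸ Ideal.mem_map_of_mem π har⟩
      rw [hinf, hJ', hmap, ← Ideal.map_mul, ← Ideal.mem_comap, hcomap] at h1
      obtain ⟨c, hc, s, hs, rfl⟩ := Submodule.mem_sup.1 h1
      obtain ⟨b, rfl⟩ := Ideal.mem_span_singleton'.1 hs
      refine Ideal.add_mem _ hc ?_
      rw [mul_comm b x]
      refine Ideal.mul_mem_mul (hS𝔯 (Ideal.mem_span_singleton_self x)) (hxJ b ?_)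
      have hcJ : c ∈ J := Ideal.mul_le_right hc
      have := J.sub_mem haJ hcJ
      simpa [mul_comm] using this
    · exact isWeaklyRegular_cons x I (isSMulRegular_quotient hA hI hx) hregI
    · refine isWeaklyRegular_cons x J (isSMulRegular_iff_right_eq_zero_of_smul.2 fun y hy => ?_) ?_
      · obtain ⟨b, rfl⟩ := Submodule.Quotient.mk_surjective _ y
        rw [← Submodule.Quotient.mk_smul, Submodule.Quotient.mk_eq_zero, smul_eq_mul] at hy
        exact (Submodule.Quotient.mk_eq_zero _).2 (hxJ b hy)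
      · rw [← hJ']
        exact hregJ

/-- The hypotheses of the statements give maximal depth. -/
theorem isMaxDepth_of_cm {I : Ideal A} (hI : ringKrullDim (A ⧸ I) = ringKrullDim A)
    [h : LocCoh.IsCohenMacaulayLocalRing (A ⧸ I)] : IsMaxDepth I ∧ I ≠ ⊤ := by
  refine ⟨fun r hr => ?_, Ideal.Quotient.nontrivial_iff.1 inferInstance⟩
  rw [Groth.Smt.depth_eq_of_surjective A (A ⧸ I) Ideal.Quotient.mk_surjective]
  have h1 := h.supportDim_eq_depth
  rw [Module.supportDim_self_eq_ringKrullDim, hI, hr] at h1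
  exact (WithBot.coe_le_coe.1 h1.le)

end Groth.GorResidual
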