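import Mathlib.RingTheory.GradedAlgebra.Basic
import Mathlib.RingTheory.Jacobson.Artinian
import Mathlib.RingTheory.KrullDimension.NonZeroDivisors
import Mathlib.RingTheory.KrullDimension.Field
import Mathlib.LinearAlgebra.Eigenspace.Triangularizable
import Mathlib.FieldTheory.IsAlgClosed.Basic
import Mathlib.GroupTheory.Archimedean
import Mathlib.Algebra.MonoidAlgebra.Basic
import Mathlib.RingTheory.Localization.FractionRing

/-!
One-dimensional graded domains over an algebraically closed field are semigroup rings.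
-/

set_option autoImplicit false
set_option linter.style.haveILetI false
universe u

open DirectSum

namespace Groth.GradedDimOne

variable {k : Type u} [Field k] [IsAlgClosed k] {R : Type u} [CommRing R] [IsDomain R] [Algebra k R]
  (𝒜 : ℤ → Submodule k R) [GradedAlgebra 𝒜]

variable (hpos : ∀ n : ℤ, n < 0 → 𝒜 n = ⊥) (h0 : 𝒜 0 = Submodule.span k {(1 : R)})
  [Algebra.FiniteType k R] (h1 : ringKrullDim R = 1)

include h1 in
theorem finite_quotient {y : R} (hy0 : y ≠ 0) : Module.Finite k (R ⧸ Ideal.span {y}) := by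
  rw [Module.finite_iff_krullDimLE_zero]
  refine Ring.krullDimLE_iff.2 ?_
  have h := ringKrullDim_quotient_succ_le_of_nonZeroDivisor (mem_nonZeroDivisors_of_ne_zero hy0)
  rw [h1] at h
  rcases eq_or_ne (ringKrullDim (R ⧸ Ideal.span {y})) ⊥ with hb | hb
  · rw [hb]; exact bot_le
  · obtain ⟨a, ha⟩ := WithBot.ne_bot_iff_exists.1 hb
    rw [← ha] at h ⊢
    have h' : a + 1 ≤ 1 := WithBot.coe_le_coe.1 h
    have : a = 0 := by
      have := (ENat.add_le_add_iff_right ENat.one_ne_top).1 (show a + 1 ≤ 0 + 1 by simpa using h')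
      exact le_antisymm this bot_le
    rw [this]; simp

theorem mem_span_of_mem {n i : ℤ} {x y : R} (hx : x ∈ 𝒜 i) (hy : y ∈ 𝒜 n)
    (hxy : x ∈ Ideal.span {y}) : ∃ w ∈ 𝒜 (i - n), x = y * w := by
  obtain ⟨w, hw⟩ := Ideal.mem_span_singleton'.1 hxy
  refine ⟨decompose 𝒜 w (i - n), (decompose 𝒜 w (i - n)).2, ?_⟩
  have h := coe_decompose_mul_add_of_left_mem 𝒜 (b := w) (j := i - n) hy
  rw [mul_comm y w, hw, add_sub_cancel, decompose_of_mem_same 𝒜 hx] at h
  exact h

include hpos h1 in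
/-- The graded pieces are finite dimensional. -/
theorem finite_piece {n : ℤ} (hn : 0 < n) {y : R} (hy : y ∈ 𝒜 n) (hy0 : y ≠ 0) :
    ∀ (m : ℕ) (i : ℤ), i < m → Module.Finite k (𝒜 i) := by
  haveI := finite_quotient (k := k) h1 hy0
  intro m
  induction m with
  | zero =>
    intro i hi
    rw [hpos i (by simpa using hi)]
    infer_instance
  | succ m ih =>
    intro i hi
    haveI := ih (i - n) (by push_cast at hi; omega)
    let f : 𝒜 i →ₗ[k] R ⧸ Ideal.span {y} := (Ideal.Quotient.mkₐ k _).toLinearMap ∘ₗ (𝒜 i).subtype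
    let g : 𝒜 (i - n) →ₗ[k] 𝒜 i := LinearMap.codRestrict (𝒜 i)
      ((LinearMap.mulLeft k y) ∘ₗ (𝒜 (i - n)).subtype) fun w => by
        simpa using SetLike.mul_mem_graded (A := 𝒜) hy w.2
    have hker : LinearMap.ker f ≤ LinearMap.range g := fun x hx => by
      obtain ⟨w, hw, hxw⟩ := mem_span_of_mem 𝒜 x.2 hy (Ideal.Quotient.eq_zero_iff_mem.1 hx)
      exact ⟨⟨w, hw⟩, Subtype.ext hxw.symm⟩
    haveI : Module.Finite k (LinearMap.ker f) := Submodule.finiteDimensional_of_le hker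
    have hfg : (⊤ : Submodule k (𝒜 i)).FG := Submodule.fg_of_fg_map_of_fg_inf_ker f
      (IsNoetherian.noetherian _) (by rw [top_inf_eq]; exact Module.Finite.iff_fg.1 inferInstance)
    exact ⟨hfg⟩

include hpos h1 in
/-- Homogeneous elements of the same positive degree are proportional. -/
theorem exists_smul_eq {n : ℤ} (hn : 0 < n) {x y : R} (hx : x ∈ 𝒜 n) (hy : y ∈ 𝒜 n) (hy0 : y ≠ 0) :
    ∃ c : k, x = c • y := by
  classical
  haveI := finite_quotient (k := k) h1 hy0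
  -- some degree is reached entirely by `y`
  obtain ⟨m, hm⟩ : ∃ m : ℕ, ∀ v ∈ 𝒜 (n * (m + 1 : ℕ)), v ∈ Ideal.span {y} := by
    by_contra hcon
    push Not at hcon
    choose v hv hvy using hcon
    have hind : LinearIndependent k fun m => Ideal.Quotient.mk (Ideal.span {y}) (v m) := by
      rw [linearIndependent_iff']
      intro s g hg j hj
      by_contra hgj
      have hmem : ∑ m ∈ s, g m • v m ∈ Ideal.span {y} := by
        rw [← Ideal.Quotient.eq_zero_iff_mem, ← hg, map_sum]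
        rfl
      obtain ⟨w, hw⟩ := Ideal.mem_span_singleton'.1 hmem
      have h := coe_decompose_mul_add_of_left_mem 𝒜 (b := w) (j := n * (j + 1 : ℕ) - n) hy
      rw [mul_comm y w, hw, add_sub_cancel, decompose_sum, DFinsupp.finsetSum_apply,
        AddSubmonoidClass.coe_finsetSum, Finset.sum_eq_single j] at h
      · rw [decompose_of_mem_same 𝒜 (Submodule.smul_mem _ _ (hv j))] at h
        refine hvy j ?_
        have hinv : v j = (g j)⁻¹ • (y * (decompose 𝒜 w (n * (j + 1 : ℕ) - n) : R)) := by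
          rw [← h, smul_smul, inv_mul_cancel₀ hgj, one_smul]
        rw [hinv, Algebra.smul_def]
        exact Ideal.mul_mem_left _ _ (Ideal.mul_mem_right _ _ (Ideal.mem_span_singleton_self y))
      · intro b _ hb
        refine decompose_of_mem_ne 𝒜 (Submodule.smul_mem _ _ (hv b)) ?_
        intro he
        have := mul_left_cancel₀ hn.ne' he
        omega
      · exact fun h' => absurd hj h'
    haveI := hind.finite
    exact not_finite ℕ
  set V := 𝒜 (n * (m : ℕ)) with hVdef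
  haveI : Module.Finite k V := finite_piece 𝒜 hpos h1 hn hy hy0 ((n * (m : ℕ)).toNat + 1) _ (by omega)
  haveI : Nontrivial V := by
    refine ⟨⟨⟨y ^ m, ?_⟩, 0, fun h => pow_ne_zero m hy0 (congrArg Subtype.val h)⟩⟩
    have := SetLike.pow_mem_graded (A := 𝒜) m hy
    rwa [show m • n = n * (m : ℕ) by rw [nsmul_eq_mul, mul_comm]] at this
  have hT : ∀ v : V, ∃ w : V, x * v = y * w := fun v => by
    have hxv : x * (v : R) ∈ 𝒜 (n * (m + 1 : ℕ)) := by
      have := SetLike.mul_mem_graded (A := 𝒜) hx v.2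
      rwa [show n + n * (m : ℕ) = n * (m + 1 : ℕ) by push_cast; ring] at this
    obtain ⟨w, hw, he⟩ := mem_span_of_mem 𝒜 hxv hy (hm _ hxv)
    exact ⟨⟨w, by rwa [show n * (m + 1 : ℕ) - n = n * (m : ℕ) by push_cast; ring] at hw⟩, he⟩
  choose T hT using hT
  have hcancel : ∀ {a b : V}, y * (a : R) = y * b → a = b := fun h => Subtype.ext (mul_left_cancel₀ hy0 h)
  let T' : Module.End k V :=
    { toFun := T
      map_add' := fun a b => hcancel (by
        rw [← hT, Submodule.coe_add, Submodule.coe_add, mul_add, mul_add, hT, hT])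
      map_smul' := fun c a => hcancel (by
        rw [← hT, RingHom.id_apply, Submodule.coe_smul, Submodule.coe_smul, mul_smul_comm,
          mul_smul_comm, hT]) }
  obtain ⟨c, hc⟩ := Module.End.exists_eigenvalue T'
  obtain ⟨v, hv⟩ := hc.exists_hasEigenvector
  refine ⟨c, ?_⟩
  have h := hT v
  rw [show T v = c • v from hv.apply_eq_smul, Submodule.coe_smul, mul_smul_comm, ← smul_mul_assoc] at h
  exact mul_right_cancel₀ (fun h0 => hv.2 (Subtype.ext h0)) h

/-- The degrees of the nonzero homogeneous elements. -/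
def degrees : AddSubmonoid ℕ where
  carrier := {h | 𝒜 (h : ℤ) ≠ ⊥}
  zero_mem' := fun h => one_ne_zero ((Submodule.mem_bot k).1 (h ▸ SetLike.one_mem_graded 𝒜 : (1 : R) ∈ (⊥ : Submodule k R)))
  add_mem' := fun {a b} ha hb h => by
    obtain ⟨x, hx, hx0⟩ := Submodule.exists_mem_ne_zero_of_ne_bot ha
    obtain ⟨z, hz, hz0⟩ := Submodule.exists_mem_ne_zero_of_ne_bot hb
    have := SetLike.mul_mem_graded (A := 𝒜) hx hz
    rw [← Nat.cast_add, h, Submodule.mem_bot] at this
    exact mul_ne_zero hx0 hz0 this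

include hpos h0 h1 in
theorem exists_pos : ∃ (n : ℤ) (y : R), 0 < n ∧ y ∈ 𝒜 n ∧ y ≠ 0 := by
  classical
  by_contra hcon
  push Not at hcon
  have hsurj : Function.Surjective (algebraMap k R) := fun r => by
    rw [← sum_support_decompose 𝒜 r]
    show ∑ i ∈ _, (decompose 𝒜 r i : R) ∈ (Algebra.ofId k R).range
    refine Subalgebra.sum_mem _ fun i _ => ?_
    rcases lt_trichotomy i 0 with hi | hi | hi
    · rw [(Submodule.eq_bot_iff _).1 (hpos i hi) _ (decompose 𝒜 r i).2]; exact zero_mem _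
    · subst hi
      obtain ⟨c, hc⟩ := Submodule.mem_span_singleton.1 (h0.le (decompose 𝒜 r (0:ℤ)).2)
      rw [← hc, ← Algebra.algebraMap_eq_smul_one]
      exact Subalgebra.algebraMap_mem _ c
    · rw [hcon i _ hi (decompose 𝒜 r i).2]; exact zero_mem _
  have := ringKrullDim_le_of_surjective _ hsurj
  rw [h1, ringKrullDim_eq_zero_of_field] at this
  exact absurd this (by decide)

include hpos h0 h1 in
/-- The structure theorem. -/
theorem nonempty_algEquiv : Nonempty (AddMonoidAlgebra k (degrees 𝒜) ≃ₐ[k] R) := by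
  classical
  obtain ⟨n₀, y₀, hn₀, hy₀, hy₀0⟩ := exists_pos 𝒜 hpos h0 h1
  let K := FractionRing R
  let i : R →ₐ[k] K := IsScalarTower.toAlgHom k R K
  have hi : Function.Injective i := IsFractionRing.injective R K
  -- homogeneous fractions
  let D : AddSubgroup ℤ :=
    { carrier := {d | ∃ (a b : ℤ) (x z : R), x ∈ 𝒜 a ∧ z ∈ 𝒜 b ∧ x ≠ 0 ∧ z ≠ 0 ∧ a - b = d}
      zero_mem' := ⟨0, 0, 1, 1, SetLike.one_mem_graded 𝒜, SetLike.one_mem_graded 𝒜, one_ne_zero,
        one_ne_zero, sub_self _⟩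
      add_mem' := by
        rintro _ _ ⟨a, b, x, z, hx, hz, hx0, hz0, rfl⟩ ⟨a', b', x', z', hx', hz', hx0', hz0', rfl⟩
        exact ⟨a + a', b + b', x * x', z * z', SetLike.mul_mem_graded hx hx', SetLike.mul_mem_graded hz hz',
          mul_ne_zero hx0 hx0', mul_ne_zero hz0 hz0', by ring⟩
      neg_mem' := by
        rintro _ ⟨a, b, x, z, hx, hz, hx0, hz0, rfl⟩
        exact ⟨b, a, z, x, hz, hx, hz0, hx0, by ring⟩ }
  obtain ⟨g, hg⟩ := Int.subgroup_cyclic D
  have hgD : g ∈ D := hg ▸ AddSubgroup.subset_closure rfl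
  obtain ⟨a, b, x₁, z₁, hx₁, hz₁, hx₁0, hz₁0, hab⟩ := hgD
  set u : K := i x₁ / i z₁ with hu
  have hu0 : u ≠ 0 := div_ne_zero ((map_ne_zero_iff i hi).2 hx₁0) ((map_ne_zero_iff i hi).2 hz₁0)
  have hdvd : ∀ (h : ℤ) (x : R), x ∈ 𝒜 h → x ≠ 0 → ∃ q : ℤ, h = q * g := by
    intro h x hx hx0
    have : h ∈ D := ⟨h, 0, x, 1, hx, SetLike.one_mem_graded 𝒜, hx0, one_ne_zero, sub_zero h⟩
    rw [hg, AddSubgroup.mem_closure_singleton] at this
    obtain ⟨q, rfl⟩ := this
    exact ⟨q, zsmul_int_int q g⟩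
  have hg0 : g ≠ 0 := fun h => by
    obtain ⟨q, hq⟩ := hdvd n₀ y₀ hy₀ hy₀0
    rw [h, mul_zero] at hq
    omega
  -- every homogeneous element is a scalar times a power of `u`
  have key : ∀ (h q : ℤ) (x : R), x ∈ 𝒜 h → h = q * g → ∃ c : k, i x = c • u ^ q := by
    intro h q x hx hq
    -- write `u ^ q` as a fraction
    obtain ⟨A, B, X, Z, hX, hZ, hX0, hZ0, hAB, huq⟩ : ∃ (A B : ℤ) (X Z : R), X ∈ 𝒜 A ∧ Z ∈ 𝒜 B ∧
        X ≠ 0 ∧ Z ≠ 0 ∧ A - B = q * g ∧ u ^ q = i X / i Z := by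
      rcases Int.eq_nat_or_neg q with ⟨s, rfl | rfl⟩
      · refine ⟨s • a, s • b, x₁ ^ s, z₁ ^ s, SetLike.pow_mem_graded s hx₁, SetLike.pow_mem_graded s hz₁,
          pow_ne_zero _ hx₁0, pow_ne_zero _ hz₁0, ?_, ?_⟩
        · rw [nsmul_eq_mul, nsmul_eq_mul, ← mul_sub, hab]
        · rw [zpow_natCast, hu, div_pow, map_pow, map_pow]
      · refine ⟨s • b, s • a, z₁ ^ s, x₁ ^ s, SetLike.pow_mem_graded s hz₁, SetLike.pow_mem_graded s hx₁,
          pow_ne_zero _ hz₁0, pow_ne_zero _ hx₁0, ?_, ?_⟩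
        · rw [nsmul_eq_mul, nsmul_eq_mul, ← mul_sub, ← hab]; ring
        · rw [zpow_neg, zpow_natCast, hu, div_pow, inv_div, map_pow, map_pow]
    -- pad by `y₀` to a positive degree
    obtain ⟨t, ht⟩ : ∃ t : ℕ, 0 < t • n₀ + A := ⟨(1 - A).toNat, by
      rw [nsmul_eq_mul]
      have h1 : ((1 - A).toNat : ℤ) ≤ ((1 - A).toNat : ℤ) * n₀ :=
        le_mul_of_one_le_right (Int.natCast_nonneg _) hn₀
      omega⟩
    have hy' : y₀ ^ t * X ∈ 𝒜 (t • n₀ + A) := SetLike.mul_mem_graded (SetLike.pow_mem_graded t hy₀) hX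
    have hx' : y₀ ^ t * (x * Z) ∈ 𝒜 (t • n₀ + A) := by
      have := SetLike.mul_mem_graded (SetLike.pow_mem_graded t hy₀) (SetLike.mul_mem_graded hx hZ)
      rwa [show t • n₀ + (h + B) = t • n₀ + A by rw [hq, ← hAB]; ring] at this
    obtain ⟨c, hc⟩ := exists_smul_eq 𝒜 hpos h1 ht hx' hy' (mul_ne_zero (pow_ne_zero _ hy₀0) hX0)
    have hc' : x * Z = c • X := mul_left_cancel₀ (pow_ne_zero t hy₀0) (by rw [hc, mul_smul_comm])
    refine ⟨c, ?_⟩
    have hZ' : i Z ≠ 0 := (map_ne_zero_iff i hi).2 hZ0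
    rw [huq, Algebra.smul_def, mul_div_assoc', ← Algebra.smul_def, ← map_smul, ← hc', map_mul,
      mul_div_cancel_right₀ _ hZ']
  -- the quotient of a degree by `g`
  have hH : ∀ h : degrees 𝒜, ∃ (q : ℤ) (r : R), ((h : ℕ) : ℤ) = q * g ∧ r ∈ 𝒜 ((h : ℕ) : ℤ) ∧ i r = u ^ q := by
    rintro ⟨h, hh⟩
    obtain ⟨x, hx, hx0⟩ := Submodule.exists_mem_ne_zero_of_ne_bot hh
    obtain ⟨q, hq⟩ := hdvd _ x hx hx0
    obtain ⟨c, hc⟩ := key _ q x hx hq
    have hc0 : c ≠ 0 := fun h' => (map_ne_zero_iff i hi).2 hx0 (by rw [hc, h', zero_smul])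
    exact ⟨q, c⁻¹ • x, hq, Submodule.smul_mem _ _ hx, by rw [map_smul, hc, smul_smul, inv_mul_cancel₀ hc0, one_smul]⟩
  choose q r hq hr hir using hH
  have hqadd : ∀ s t, q (s + t) = q s + q t := fun s t => mul_right_cancel₀ hg0 (by
    rw [add_mul, ← hq, ← hq, ← hq, AddSubmonoid.coe_add, Nat.cast_add])
  have hq0 : q 0 = 0 := mul_right_cancel₀ hg0 (by rw [← hq, zero_mul]; rfl)
  let F : Multiplicative (degrees 𝒜) →* R :=
    { toFun := fun s => r s.toAdd
      map_one' := hi (by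
        show i (r 0) = i 1
        rw [hir, map_one, hq0, zpow_zero])
      map_mul' := fun s t => hi (by
        show i (r (s.toAdd + t.toAdd)) = i (r s.toAdd * r t.toAdd)
        rw [map_mul, hir, hir, hir, hqadd, zpow_add₀ hu0]) }
  let φ := AddMonoidAlgebra.lift k R (degrees 𝒜) F
  refine ⟨AlgEquiv.ofBijective φ ⟨?_, ?_⟩⟩
  · rw [injective_iff_map_eq_zero]
    intro f hf
    have hr0 : ∀ s, r s ≠ 0 := fun s h' => zpow_ne_zero (q s) hu0 (by rw [← hir, h', map_zero])
    ext s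
    by_contra hs
    rw [show φ f = f.coeff.sum fun s c => c • r s from AddMonoidAlgebra.lift_apply ..] at hf
    have h := congrArg (GradedRing.proj 𝒜 ((s : ℕ) : ℤ)) hf
    rw [Finsupp.sum, map_sum, map_zero, Finset.sum_eq_single_of_mem s (Finsupp.mem_support_iff.2 hs),
      GradedRing.proj_apply, decompose_of_mem_same 𝒜 (Submodule.smul_mem _ _ (hr s))] at h
    · exact hs ((smul_eq_zero.1 h).resolve_right (hr0 s))
    · intro t _ ht
      rw [GradedRing.proj_apply]
      refine decompose_of_mem_ne 𝒜 (Submodule.smul_mem _ _ (hr t)) ?_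
      exact fun e => ht (Subtype.ext (Nat.cast_injective e))
  · intro z
    rw [← sum_support_decompose 𝒜 z]
    show ∑ j ∈ _, (decompose 𝒜 z j : R) ∈ φ.range
    refine Subalgebra.sum_mem _ fun j _ => ?_
    by_cases hz : (decompose 𝒜 z j : R) = 0
    · rw [hz]; exact zero_mem _
    have hmem := (decompose 𝒜 z j).2
    have hjne : 𝒜 j ≠ ⊥ := fun h' => hz ((Submodule.eq_bot_iff _).1 h' _ hmem)
    obtain ⟨m, rfl⟩ : ∃ m : ℕ, (m : ℤ) = j :=
      ⟨j.toNat, Int.toNat_of_nonneg (not_lt.1 fun h' => hjne (hpos j h'))⟩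
    obtain ⟨c, hc⟩ := key _ (q ⟨m, hjne⟩) _ hmem (hq ⟨m, hjne⟩)
    rw [← hir, ← map_smul] at hc
    rw [hi hc]
    refine ⟨AddMonoidAlgebra.single ⟨m, hjne⟩ c, ?_⟩
    show φ _ = _
    rw [AddMonoidAlgebra.lift_single]
    rfl

end Groth.GradedDimOne
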