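import Mathlib.RingTheory.Filtration
import Mathlib.RingTheory.Jacobson.Ring
import Mathlib.RingTheory.Ideal.AssociatedPrime.Finiteness
import Mathlib.RingTheory.Ideal.MinimalPrime.Noetherian

/-!
A connected Noetherian Jacobson ring whose automorphisms act transitively on maximal ideals is
irreducible, has no embedded primes, and is separated for the adic topology of every maximal ideal.
-/

set_option autoImplicit false
set_option linter.style.haveILetI false
universe u

namespace Groth.HomogKrull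

variable {A : Type u} [CommRing A] [IsNoetherianRing A] [IsJacobsonRing A] [Nontrivial A]
  (htrans : ∀ M M' : Ideal A, M.IsMaximal → M'.IsMaximal → ∃ σ : A ≃+* A, M'.comap σ.toRingHom = M)

omit [IsNoetherianRing A] [Nontrivial A] in
theorem exists_maximal_not_mem {P : Ideal A} [hP : P.IsPrime] {f : A} (hf : f ∉ P) :
    ∃ M : Ideal A, M.IsMaximal ∧ P ≤ M ∧ f ∉ M := by
  by_contra h
  push Not at h
  apply hf
  rw [← IsJacobsonRing.out inferInstance hP.isRadical]
  exact Submodule.mem_sInf.2 fun M hM => h M hM.2 hM.1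

omit [IsNoetherianRing A] [IsJacobsonRing A] [Nontrivial A] in
theorem comap_symm_comap (σ : A ≃+* A) (T : Ideal A) :
    Ideal.comap σ.symm.toRingHom (Ideal.comap σ.toRingHom T) = T := by
  ext x
  show σ (σ.symm x) ∈ T ↔ x ∈ T
  rw [RingEquiv.apply_symm_apply]

omit [IsNoetherianRing A] [IsJacobsonRing A] [Nontrivial A] in
theorem comap_comap_symm (σ : A ≃+* A) (T : Ideal A) :
    Ideal.comap σ.toRingHom (Ideal.comap σ.symm.toRingHom T) = T :=
  comap_symm_comap σ.symm T

include htrans in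
theorem isPrime_nilradical (hconn : ∀ e : A, IsIdempotentElem e → e = 0 ∨ e = 1) :
    (nilradical A).IsPrime := by
  classical
  have hfin := minimalPrimes.finite_of_isNoetherianRing A
  obtain ⟨M₁, hM₁⟩ := Ideal.exists_maximal A
  haveI := hM₁.isPrime
  obtain ⟨P, hP⟩ := Ideal.exists_minimalPrimes_le (bot_le (a := M₁))
  have hPmin : P ∈ minimalPrimes A := hP.1
  haveI hPprime : P.IsPrime := hPmin.1.1
  set s := hfin.toFinset.erase P with hs
  have hmem : ∀ Q ∈ s, Q ∈ minimalPrimes A ∧ Q ≠ P := fun Q hQ =>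
    ⟨hfin.mem_toFinset.1 (Finset.mem_of_mem_erase hQ), Finset.ne_of_mem_erase hQ⟩
  set J := s.inf id with hJ
  have hJP : ¬ J ≤ P := fun h => by
    obtain ⟨Q, hQ, hQP⟩ := (Ideal.IsPrime.inf_le' hPprime).1 h
    obtain ⟨hQmin, hne⟩ := hmem Q hQ
    exact hne (le_antisymm hQP (hPmin.2 hQmin.1 hQP))
  obtain ⟨f, hfJ, hfP⟩ := SetLike.not_le_iff_exists.1 hJP
  obtain ⟨M₀, hM₀, hPM₀, hfM₀⟩ := exists_maximal_not_mem hfP
  have huniq₀ : ∀ Q ∈ minimalPrimes A, Q ≤ M₀ → Q = P := fun Q hQ hle => by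
    by_contra hne
    exact hfM₀ (hle ((Finset.inf_le (f := id) (Finset.mem_erase.2 ⟨hne, hfin.mem_toFinset.2 hQ⟩)) hfJ))
  have huniq : ∀ M : Ideal A, M.IsMaximal → ∀ Q ∈ minimalPrimes A, ∀ Q' ∈ minimalPrimes A,
      Q ≤ M → Q' ≤ M → Q = Q' := fun M hM Q hQ Q' hQ' hQM hQ'M => by
    obtain ⟨σ, hσ⟩ := htrans M₀ M hM₀ hM
    have hmap : ∀ T ∈ minimalPrimes A, Ideal.comap σ.toRingHom T ∈ minimalPrimes A := fun T hT => by
      refine ⟨⟨hT.1.1.comap _, bot_le⟩, fun U hU hle => ?_⟩
      have h1 : Ideal.comap σ.symm.toRingHom U ≤ T :=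
        (Ideal.comap_mono hle).trans_eq (comap_symm_comap σ T)
      exact (Ideal.comap_mono (hT.2 ⟨hU.1.comap _, bot_le⟩ h1)).trans_eq (comap_comap_symm σ U)
    have h1 := huniq₀ _ (hmap Q hQ) (hσ ▸ Ideal.comap_mono hQM)
    have h2 := huniq₀ _ (hmap Q' hQ') (hσ ▸ Ideal.comap_mono hQ'M)
    rw [← comap_symm_comap σ Q, ← comap_symm_comap σ Q', h1, h2]
  have htop : P ⊔ J = ⊤ := by
    by_contra h
    obtain ⟨M, hM, hle⟩ := Ideal.exists_le_maximal _ h
    obtain ⟨Q, hQ, hQM⟩ := (Ideal.IsPrime.inf_le' hM.isPrime).1 (le_sup_right.trans hle : s.inf id ≤ M)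
    obtain ⟨hQmin, hne⟩ := hmem Q hQ
    exact hne (huniq M hM Q hQmin P hPmin hQM (le_sup_left.trans hle))
  obtain ⟨x, hx, y, hy, hxy⟩ := Submodule.mem_sup.1 (htop ▸ Submodule.mem_top : (1 : A) ∈ P ⊔ J)
  have hother : ∀ Q ∈ minimalPrimes A, Q ≠ P → y ∈ Q := fun Q hQ hne =>
    (Finset.inf_le (f := id) (Finset.mem_erase.2 ⟨hne, hfin.mem_toFinset.2 hQ⟩)) hy
  have hnil : x * y ∈ nilradical A := by
    rw [nilradical_eq_sInf]
    refine Submodule.mem_sInf.2 fun Q hQ => ?_
    haveI : Ideal.IsPrime Q := hQ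
    obtain ⟨Q', hQ', hle⟩ := Ideal.exists_minimalPrimes_le (bot_le (a := Q))
    apply hle
    rcases eq_or_ne Q' P with rfl | hne
    · exact Ideal.mul_mem_right _ _ hx
    · exact Ideal.mul_mem_left _ _ (hother _ hQ' hne)
  obtain ⟨n, hn⟩ := hnil
  rcases Nat.eq_zero_or_pos n with rfl | hn0
  · exact absurd hn (by simp)
  rw [mul_pow] at hn
  have hn' : x ^ n * y ^ n = 0 := hn
  obtain ⟨a, b, hab⟩ :=
    (IsCoprime.pow (m := n) (n := n) (⟨1, 1, by rw [one_mul, one_mul, hxy]⟩ : IsCoprime x y))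
  have hidem : IsIdempotentElem (a * x ^ n) := by
    show a * x ^ n * (a * x ^ n) = a * x ^ n
    linear_combination (a * x ^ n) * hab - a * b * hn'
  rcases hconn _ hidem with h | h
  · -- no other minimal prime
    rw [h, zero_add] at hab
    refine (le_antisymm (nilradical_le_prime P) fun z hz => ?_) ▸ hPprime
    rw [nilradical_eq_sInf]
    refine Submodule.mem_sInf.2 fun Q hQ => ?_
    haveI : Ideal.IsPrime Q := hQ
    obtain ⟨Q', hQ', hle⟩ := Ideal.exists_minimalPrimes_le (bot_le (a := Q))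
    rcases eq_or_ne Q' P with rfl | hne
    · exact hle hz
    · exfalso
      have : (1 : A) ∈ Q' := hab ▸ Ideal.mul_mem_left _ _
        (Ideal.pow_mem_of_mem _ (hother _ hQ' hne) n hn0)
      exact hQ'.1.1.ne_top ((Ideal.eq_top_iff_one _).2 this)
  · exfalso
    exact hPprime.ne_top ((Ideal.eq_top_iff_one _).2
      (h ▸ Ideal.mul_mem_left _ _ (Ideal.pow_mem_of_mem _ hx n hn0)))

include htrans in
theorem iInf_pow_eq_bot (hconn : ∀ e : A, IsIdempotentElem e → e = 0 ∨ e = 1) (m : Ideal A)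
    (hm : m.IsMaximal) : ⨅ n : ℕ, m ^ n = ⊥ := by
  classical
  haveI := isPrime_nilradical htrans hconn
  have hass : ∀ P ∈ associatedPrimes A A, P = nilradical A := fun P hP => by
    have hPp : P.IsPrime := hP.isPrime
    by_contra hne
    have hstab : ∀ σ : A ≃+* A, Ideal.comap σ.toRingHom P ∈ associatedPrimes A A := fun σ => by
      obtain ⟨hp, x, hx⟩ := isAssociatedPrime_iff.1 hP
      refine isAssociatedPrime_iff.2 ⟨hp.comap _, σ.symm x, ?_⟩
      ext a
      rw [Ideal.mem_comap, hx, Submodule.mem_colon_singleton, Submodule.mem_colon_singleton,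
        Submodule.mem_bot, Submodule.mem_bot, smul_eq_mul, smul_eq_mul]
      rw [← map_eq_zero_iff σ σ.injective (x := a * σ.symm x), map_mul, RingEquiv.apply_symm_apply]
      rfl
    have hne' : ∀ σ : A ≃+* A, Ideal.comap σ.toRingHom P ≠ nilradical A := fun σ h => by
      refine hne (le_antisymm (fun x hx => ?_) (nilradical_le_prime P))
      have h' : σ.symm x ∈ nilradical A := by
        rw [← h, Ideal.mem_comap]
        show σ (σ.symm x) ∈ P
        rwa [RingEquiv.apply_symm_apply]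
      have := IsNilpotent.map (show IsNilpotent (σ.symm x) from h') σ
      rwa [RingEquiv.apply_symm_apply] at this
    set T := (associatedPrimes.finite A A).toFinset.erase (nilradical A) with hT
    have hTn : ¬ T.inf id ≤ nilradical A := fun h => by
      obtain ⟨Q, hQ, hle⟩ := (Ideal.IsPrime.inf_le' (inferInstance : (nilradical A).IsPrime)).1 h
      haveI : Ideal.IsPrime Q :=
        ((associatedPrimes.finite A A).mem_toFinset.1 (Finset.mem_of_mem_erase hQ)).isPrime
      exact Finset.ne_of_mem_erase hQ (le_antisymm hle (nilradical_le_prime Q))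
    obtain ⟨f, hf, hfn⟩ := SetLike.not_le_iff_exists.1 hTn
    obtain ⟨M, hM, -, hfM⟩ := exists_maximal_not_mem hfn
    obtain ⟨M', hM', hle⟩ := Ideal.exists_le_maximal _ hPp.ne_top
    obtain ⟨σ, hσ⟩ := htrans M M' hM hM'
    apply hfM
    rw [← hσ]
    refine Ideal.comap_mono hle ?_
    exact (Finset.inf_le (f := id) (Finset.mem_erase.2
      ⟨hne' σ, (associatedPrimes.finite A A).mem_toFinset.2 (hstab σ)⟩)) hf
  rw [eq_bot_iff]
  intro a ha
  have ha' : a ∈ (⨅ i : ℕ, m ^ i • ⊤ : Submodule A A) := by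
    rw [Submodule.mem_iInf]
    intro i
    rw [smul_eq_mul, Ideal.mul_top]
    exact Submodule.mem_iInf _ |>.1 ha i
  obtain ⟨⟨b, hb⟩, hba⟩ := (m.mem_iInf_smul_pow_eq_bot_iff a).1 ha'
  rw [Submodule.mem_bot]
  by_contra ha0
  obtain ⟨P, hP, hle⟩ := exists_le_isAssociatedPrime_of_isNoetherianRing A a ha0
  have h1 : 1 - b ∈ P := hle (Submodule.mem_colon_singleton.2 (by
    rw [Submodule.mem_bot, sub_smul, one_smul, hba, sub_self]))
  rw [hass P hP] at h1
  haveI := hm.isPrime
  have h2 : 1 - b ∈ m := nilradical_le_prime m h1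
  exact hm.ne_top ((Ideal.eq_top_iff_one _).2 (by simpa using m.add_mem h2 hb))

end Groth.HomogKrull
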