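import Groth.Agent.PropsBasic.HopfGalois
import Groth.Agent.Misc12.AntipodeComul
import Groth.Prelude.Def_SGA3

/-!
The connected component of a finite flat group over a local ring: the idempotent cuts a Hopf ideal,
homomorphisms from unramified algebras are invariant, and the invariants are an étale Hopf subalgebra.
-/

set_option autoImplicit false
set_option linter.style.haveILetI false

universe u v w

open TensorProduct WithConv

namespace Groth.HopfConn

variable {R : Type u} [CommRing R]

theorem idem_eq_of_sub_mem_jacobson {C : Type*} [CommRing C] {x y : C} (hx : IsIdempotentElem x)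
    (hy : IsIdempotentElem y) (h : x - y ∈ Ideal.jacobson (⊥ : Ideal C)) : x = y := by
  have h3 : (x - y) * (1 - (x - y) * (x - y)) = 0 := by
    have e1 : x * x = x := hx
    have e2 : y * y = y := hy
    linear_combination (-(x : C) - 1 + 3 * y) * e1 + (y + 1 - 3 * x) * e2
  have hu : IsUnit (1 - (x - y) * (x - y)) := by
    have := Ideal.mem_jacobson_bot.1 h (-(x - y))
    rwa [show (x - y) * -(x - y) + 1 = 1 - (x - y) * (x - y) by ring] at this
  exact sub_eq_zero.1 (hu.mul_left_eq_zero.1 h3)

/-- Two maps from an unramified algebra that agree modulo the radical are equal. -/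
theorem hom_eq {B : Type*} [CommRing B] [Algebra R B] [Algebra.EssFiniteType R B] [Algebra.FormallyUnramified R B]
    {C : Type*} [CommRing C] [Algebra R C] (f g : B →ₐ[R] C)
    (h : ∀ b, g b - f b ∈ Ideal.jacobson (⊥ : Ideal C)) : f = g := by
  set t := Algebra.FormallyUnramified.elem R B
  let Φ : B ⊗[R] B →ₐ[R] C := Algebra.TensorProduct.lift f g fun _ _ => .all _ _
  have hJ : ∀ z : B ⊗[R] B, Φ z - f (Algebra.TensorProduct.lmul' R z) ∈ Ideal.jacobson (⊥ : Ideal C) := by
    intro z
    induction z using TensorProduct.induction_on with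
    | zero => simp
    | add p q hp hq =>
      have := add_mem hp hq
      rw [map_add, map_add, map_add]
      rwa [add_sub_add_comm]
    | tmul p q =>
      simp only [Φ, Algebra.TensorProduct.lift_tmul, Algebra.TensorProduct.lmul'_apply_tmul, map_mul, ← mul_sub]
      exact Ideal.mul_mem_left _ _ (h q)
  have hu : IsUnit (Φ t) := by
    have h1 := hJ t
    rw [Algebra.FormallyUnramified.lmul_elem, map_one] at h1
    have h2 := Ideal.mem_jacobson_bot.1 h1 1
    rwa [mul_one, sub_add_cancel] at h2
  refine AlgHom.ext fun b => ?_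
  have h3 := congrArg Φ (Algebra.FormallyUnramified.one_tmul_sub_tmul_one_mul_elem (R := R) b)
  rw [map_mul, map_zero, hu.mul_left_eq_zero, map_sub] at h3
  simp [Φ] at h3
  exact (sub_eq_zero.1 h3).symm

variable {A : Type v} [CommRing A] [HopfAlgebra R A]

theorem antipode_antipode (a : A) : HopfAlgebra.antipode R (HopfAlgebra.antipode R a) = a :=
  congrArg (fun f : WithConv (A →ₐ[R] A) => f.ofConv a) (inv_inv (WithConv.toConv (AlgHom.id R A)))

/-- Evaluation of the second factor. -/
noncomputable def ev {C : Type*} [CommRing C] [Algebra R C] {H : Type*} [CommRing H] [Algebra R H]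
    (ε : H →ₐ[R] R) : C ⊗[R] H →ₐ[R] C :=
  Algebra.TensorProduct.lift (AlgHom.id R C) ((Algebra.ofId R C).comp ε) fun _ _ => .all _ _

theorem ev_tmul {C : Type*} [CommRing C] [Algebra R C] {H : Type*} [CommRing H] [Algebra R H]
    (ε : H →ₐ[R] R) (c : C) (h : H) : ev ε (c ⊗ₜ h) = c * algebraMap R C (ε h) := by
  simp [ev, Algebra.ofId_apply]

/-- For a local finite algebra the second factor is infinitesimal. -/
theorem ker_ev_le_jacobson {C : Type*} [CommRing C] [Algebra R C] [Module.Finite R C]
    {H : Type*} [CommRing H] [Algebra R H] [Module.Finite R H] [IsLocalRing H]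
    (ε : H →ₐ[R] R) {z : C ⊗[R] H} (hz : ev ε z = 0) : z ∈ Ideal.jacobson (⊥ : Ideal (C ⊗[R] H)) := by
  have hε : RingHom.ker ε ≤ IsLocalRing.maximalIdeal H := by
    rcases subsingleton_or_nontrivial R with hR | hR
    · exact absurd (Module.subsingleton R H) (not_subsingleton H)
    · exact IsLocalRing.le_maximalIdeal (RingHom.ker_ne_top ε)
  letI : Algebra H (C ⊗[R] H) := Algebra.TensorProduct.rightAlgebra
  haveI : Module.Finite H (C ⊗[R] H) := Module.Finite.of_restrictScalars_finite R H (C ⊗[R] H)
  have h1 : ∀ h ∈ RingHom.ker ε, (1 : C) ⊗ₜ[R] h ∈ Ideal.jacobson (⊥ : Ideal (C ⊗[R] H)) := by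
    intro h hh
    refine Submodule.mem_sInf.2 fun M hM => ?_
    haveI := hM.2
    haveI : (Ideal.comap (algebraMap H (C ⊗[R] H)) M).IsMaximal :=
      Ideal.isMaximal_comap_of_isIntegral_of_isMaximal M
    have := hε hh
    rw [← IsLocalRing.eq_maximalIdeal (inferInstance : (Ideal.comap (algebraMap H (C ⊗[R] H)) M).IsMaximal)] at this
    exact this
  have key : ∀ z : C ⊗[R] H, z - ev ε z ⊗ₜ 1 ∈ Ideal.jacobson (⊥ : Ideal (C ⊗[R] H)) := by
    intro z
    induction z using TensorProduct.induction_on with
    | zero => simp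
    | add p q hp hq =>
      have := add_mem hp hq
      rw [map_add, TensorProduct.add_tmul]
      rwa [add_sub_add_comm]
    | tmul c h =>
      have e : c ⊗ₜ[R] h - ev ε (c ⊗ₜ h) ⊗ₜ 1 =
          (c ⊗ₜ[R] (1 : H)) * ((1 : C) ⊗ₜ[R] (h - algebraMap R H (ε h))) := by
        rw [ev_tmul, Algebra.TensorProduct.tmul_mul_tmul, mul_one, one_mul, TensorProduct.tmul_sub,
          Algebra.algebraMap_eq_smul_one, Algebra.algebraMap_eq_smul_one, mul_smul_comm, mul_one,
          TensorProduct.smul_tmul]
      rw [e]
      exact Ideal.mul_mem_left _ _ (h1 _ (by simp))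
  simpa [hz] using key z

theorem map_mkQ_eq_zero_iff {I : Ideal A} (z : A ⊗[R] A) :
    TensorProduct.map (I.restrictScalars R).mkQ (I.restrictScalars R).mkQ z = 0 ↔
      Algebra.TensorProduct.map (Ideal.Quotient.mkₐ R I) (Ideal.Quotient.mkₐ R I) z = 0 := by
  let e := (Submodule.Quotient.restrictScalarsEquiv R I)
  have h : TensorProduct.congr e e (TensorProduct.map (I.restrictScalars R).mkQ (I.restrictScalars R).mkQ z) =
      Algebra.TensorProduct.map (Ideal.Quotient.mkₐ R I) (Ideal.Quotient.mkₐ R I) z := by
    induction z using TensorProduct.induction_on with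
    | zero => simp
    | tmul x y => rfl
    | add x y hx hy => simp only [map_add, hx, hy]
  rw [← h]
  exact (LinearEquiv.map_eq_zero_iff _).symm

section ExtendD

variable (R) (B : Type*) [CommRing B] [Algebra R B] (A' : Type*) [CommRing A'] [Algebra R A'] [Algebra B A']
  [IsScalarTower R B A']

/-- `a ⊗ b ↦ a ⊗ d b`. -/
noncomputable def extendD : A' ⊗[R] B →ₗ[A'] A' ⊗[B] Ω[B⁄R] :=
  AlgebraTensorModule.lift
    ((LinearMap.toSpanSingleton A' (B →ₗ[R] A' ⊗[B] Ω[B⁄R])
      (((TensorProduct.mk B A' Ω[B⁄R]) 1).restrictScalars R ∘ₗ (KaehlerDifferential.D R B).toLinearMap)))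

variable {R B A'}

theorem extendD_tmul (a : A') (b : B) :
    extendD R B A' (a ⊗ₜ b) = a • ((1 : A') ⊗ₜ[B] KaehlerDifferential.D R B b) := by
  rfl

theorem extendD_one : extendD R B A' 1 = 0 := by
  rw [Algebra.TensorProduct.one_def, extendD_tmul, Derivation.map_one_eq_zero, TensorProduct.tmul_zero, smul_zero]

theorem extendD_tmul' (a : A') (b : B) :
    extendD R B A' (a ⊗ₜ b) = a ⊗ₜ[B] KaehlerDifferential.D R B b := by
  rw [extendD_tmul, TensorProduct.smul_tmul', smul_eq_mul, mul_one]

theorem extendD_mul (x y : A' ⊗[R] B) :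
    extendD R B A' (x * y) =
      Algebra.TensorProduct.lift (Algebra.ofId A' A') (IsScalarTower.toAlgHom R B A') (fun _ _ => .all _ _) x •
        extendD R B A' y +
      Algebra.TensorProduct.lift (Algebra.ofId A' A') (IsScalarTower.toAlgHom R B A') (fun _ _ => .all _ _) y •
        extendD R B A' x := by
  induction x using TensorProduct.induction_on with
  | zero => simp
  | add p q hp hq => simp only [add_mul, map_add, hp, hq, add_smul, smul_add]; abel
  | tmul a b =>
    induction y using TensorProduct.induction_on with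
    | zero => simp
    | add p q hp hq => simp only [mul_add, map_add, hp, hq, add_smul, smul_add]; abel
    | tmul c d =>
      rw [Algebra.TensorProduct.tmul_mul_tmul, extendD_tmul', extendD_tmul', extendD_tmul', Derivation.leibniz,
        TensorProduct.tmul_add, ← TensorProduct.smul_tmul, ← TensorProduct.smul_tmul, TensorProduct.smul_tmul',
        TensorProduct.smul_tmul', Algebra.TensorProduct.lift_tmul, Algebra.TensorProduct.lift_tmul,
        Algebra.smul_def, Algebra.smul_def]
      simp only [Algebra.ofId_apply, Algebra.algebraMap_self_apply, IsScalarTower.coe_toAlgHom', smul_eq_mul]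
      congr 1
      · congr 1; ring
      · congr 1; ring

end ExtendD

section Component

variable [Module.Finite R A] (e : A) (he : IsIdempotentElem e) (hε : Bialgebra.counitAlgHom R A e = 1)
  [IsLocalRing (A ⧸ Ideal.span ({1 - e} : Set A))]

include he hε in
theorem isHopfIdeal : (Ideal.span ({1 - e} : Set A)).IsHopfIdeal R := by
  set I := Ideal.span ({1 - e} : Set A)
  have hI : I ≤ RingHom.ker (Bialgebra.counitAlgHom R A) :=
    Ideal.span_le.2 (by simp [show Coalgebra.counit (R := R) e = 1 from hε])
  let εI : A ⧸ I →ₐ[R] R := Ideal.Quotient.liftₐ I (Bialgebra.counitAlgHom R A) hI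
  let q := Ideal.Quotient.mkₐ R I
  haveI : Module.Finite R (A ⧸ I) := Module.Finite.of_surjective q.toLinearMap (Ideal.Quotient.mkₐ_surjective R I)
  have hqe : q e = 1 := by
    rw [← sub_eq_zero, ← map_one q, ← map_sub, ← neg_sub, map_neg, neg_eq_zero]
    exact Ideal.Quotient.eq_zero_iff_mem.2 (Ideal.mem_span_singleton_self _)
  have hy : ∀ (J : Ideal A), 1 - e ∈ J → I ≤ J := fun J h => Ideal.span_le.2 (by simpa using h)
  refine { counit_eq_zero := fun x hx => hI hx, map_mkQ_comul_eq_zero := fun x hx => ?_,
           antipode_mem := fun x hx => ?_ }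
  · refine (map_mkQ_eq_zero_iff _).2
      (hy (RingHom.ker ((Algebra.TensorProduct.map q q).comp (Bialgebra.comulAlgHom R A))) ?_ hx)
    rw [RingHom.mem_ker, map_sub, map_one, sub_eq_zero, eq_comm]
    refine idem_eq_of_sub_mem_jacobson (he.map _) IsIdempotentElem.one (ker_ev_le_jacobson εI ?_)
    rw [map_sub, map_one, sub_eq_zero]
    have h1 : ∀ t : A ⊗[R] A, ev εI (Algebra.TensorProduct.map q q t) =
        q (TensorProduct.rid R A ((Coalgebra.counit (R := R) (A := A)).lTensor A t)) := by
      intro t
      induction t using TensorProduct.induction_on with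
      | zero => simp
      | add a b ha hb => simp only [map_add, ha, hb]
      | tmul a b =>
        rw [Algebra.TensorProduct.map_tmul, ev_tmul, LinearMap.lTensor_tmul, TensorProduct.rid_tmul, map_smul,
          Algebra.smul_def, mul_comm]
        rfl
    rw [AlgHom.comp_apply, Bialgebra.comulAlgHom_apply, h1, Coalgebra.lTensor_counit_comul]
    simpa using hqe
  · refine hy (I.comap (HopfAlgebra.antipodeAlgHom R A)) ?_ hx
    rw [Ideal.mem_comap, ← Ideal.Quotient.eq_zero_iff_mem]
    show q (HopfAlgebra.antipodeAlgHom R A (1 - e)) = 0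
    rw [map_sub, map_sub, map_one, map_one, sub_eq_zero, eq_comm]
    rcases (IsLocalRing.isUnit_or_isUnit_one_sub_self (q (HopfAlgebra.antipodeAlgHom R A e))) with h | h
    · exact ((IsIdempotentElem.iff_eq_one_of_isUnit h).1 ((he.map _).map q))
    · have h0 : q (HopfAlgebra.antipodeAlgHom R A e) = 0 := by
        have h2 := ((he.map (HopfAlgebra.antipodeAlgHom R A)).map q).one_sub
        have := (IsIdempotentElem.iff_eq_one_of_isUnit h).1 h2
        simpa using this
      exfalso
      have h3 : Bialgebra.counitAlgHom R A (HopfAlgebra.antipodeAlgHom R A e) = 0 :=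
        (congrArg εI h0).trans (map_zero εI)
      rw [← AlgHom.comp_apply, AlgHom.counitAlgHom_comp_antipodeAlgHom, hε] at h3
      haveI : Nontrivial R := by
        rcases subsingleton_or_nontrivial R with hR | hR
        · exact absurd (Module.subsingleton R (A ⧸ I)) (not_subsingleton _)
        · exact hR
      exact one_ne_zero h3

end Component

section Invariants

variable {H : Type w} [CommRing H] [HopfAlgebra R H] (π : A →ₐc[R] H)
  [Module.Finite R A] [Module.Finite R H] [IsLocalRing H]

theorem ev_rho (a : A) : ev (Bialgebra.counitAlgHom R H) (HopfGalois.rho π a) = a := by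
  have h : ∀ t : A ⊗[R] A, ev (Bialgebra.counitAlgHom R H)
      (Algebra.TensorProduct.map (AlgHom.id R A) (π : A →ₐ[R] H) t) =
      TensorProduct.rid R A ((Coalgebra.counit (R := R) (A := A)).lTensor A t) := by
    intro t
    induction t using TensorProduct.induction_on with
    | zero => simp
    | add a b ha hb => simp only [map_add, ha, hb]
    | tmul a b =>
      simp [ev_tmul, CoalgHomClass.counit_comp_apply π b, Algebra.smul_def, mul_comm]
  show ev _ (Algebra.TensorProduct.map (AlgHom.id R A) (π : A →ₐ[R] H) (Coalgebra.comul (R := R) a)) = a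
  rw [h, Coalgebra.lTensor_counit_comul]
  simp

theorem rho_sub_mem (a : A) :
    HopfGalois.rho π a - a ⊗ₜ 1 ∈ Ideal.jacobson (⊥ : Ideal (A ⊗[R] H)) := by
  refine ker_ev_le_jacobson (Bialgebra.counitAlgHom R H) ?_
  rw [map_sub, ev_rho, ev_tmul, map_one, map_one, mul_one, sub_self]

theorem idem_mem_inv {x : A} (hx : IsIdempotentElem x) : x ∈ HopfGalois.inv π :=
  (HopfGalois.mem_inv π).2 (idem_eq_of_sub_mem_jacobson (hx.map _)
    (hx.map (Algebra.TensorProduct.includeLeft : A →ₐ[R] A ⊗[R] H)) (rho_sub_mem π x))

theorem hom_mem_inv {C : Type*} [CommRing C] [Algebra R C] [Algebra.EssFiniteType R C]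
    [Algebra.FormallyUnramified R C] (φ : C →ₐ[R] A) (c : C) : φ c ∈ HopfGalois.inv π := by
  refine (HopfGalois.mem_inv π).2 ?_
  exact (DFunLike.congr_fun (hom_eq ((Algebra.TensorProduct.includeLeft : A →ₐ[R] A ⊗[R] H).comp φ)
    ((HopfGalois.rho π).comp φ) fun b => rho_sub_mem π (φ b)) c).symm

variable [Module.Projective R A] [Module.Projective R H]

omit [IsLocalRing H] [Module.Finite R A] [Module.Projective R A] in
theorem aug_le (hπ : Function.Surjective π) :
    RingHom.ker (π : A →ₐ[R] H) ≤ Ideal.span {a : A | a ∈ HopfGalois.inv π ∧ Coalgebra.counit (R := R) a = 0} := by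
  intro a ha
  obtain ⟨N, x, y, l, hl, hxy⟩ := HopfGalois.exists_dual_family π hπ
  rw [← hxy a]
  refine Ideal.sum_mem _ fun i _ => Ideal.mul_mem_left _ _ (Ideal.subset_span ⟨HopfGalois.traceMap_mem π (hl i) _, ?_⟩)
  have h : ∀ t : A ⊗[R] A, Coalgebra.counit (R := R)
      (HopfGalois.pairing (l i) (Algebra.TensorProduct.map (AlgHom.id R A) (π : A →ₐ[R] H) t)) =
      l i (π (TensorProduct.lid R A ((Coalgebra.counit (R := R) (A := A)).rTensor A t))) := by
    intro t
    induction t using TensorProduct.induction_on with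
    | zero => simp
    | add a b ha hb => simp only [map_add, ha, hb]
    | tmul a b => simp [HopfGalois.pairing_tmul, mul_comm]
  show Coalgebra.counit (R := R) (HopfGalois.pairing (l i)
    (Algebra.TensorProduct.map (AlgHom.id R A) (π : A →ₐ[R] H) (Coalgebra.comul (R := R) (y i * a)))) = 0
  rw [h, Coalgebra.rTensor_counit_comul]
  simp [map_mul, show π a = 0 from ha]

omit [IsLocalRing H] [Module.Finite R A] [Module.Finite R H] [Module.Projective R A] [Module.Projective R H] in
theorem aug_ge : Ideal.span {a : A | a ∈ HopfGalois.inv π ∧ Coalgebra.counit (R := R) a = 0} ≤ RingHom.ker (π : A →ₐ[R] H) := by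
  refine Ideal.span_le.2 fun a ⟨ha, h0⟩ => ?_
  have h : ∀ t : A ⊗[R] A, TensorProduct.lid R H ((Coalgebra.counit (R := R) (A := A)).rTensor H
      (Algebra.TensorProduct.map (AlgHom.id R A) (π : A →ₐ[R] H) t)) =
      π (TensorProduct.lid R A ((Coalgebra.counit (R := R) (A := A)).rTensor A t)) := by
    intro t
    induction t using TensorProduct.induction_on with
    | zero => simp
    | add a b ha hb => simp only [map_add, ha, hb]
    | tmul a b => simp
  have h1 := h (Coalgebra.comul (R := R) a)
  rw [show Algebra.TensorProduct.map (AlgHom.id R A) (π : A →ₐ[R] H) (Coalgebra.comul (R := R) a) = a ⊗ₜ 1 from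
    (HopfGalois.mem_inv π).1 ha, Coalgebra.rTensor_counit_comul] at h1
  have h2 : π a = 0 := by simpa [h0] using h1.symm
  exact h2

omit [IsLocalRing H] in
theorem faithfullyFlat (hπ : Function.Surjective π) : Module.FaithfullyFlat (HopfGalois.inv π) A := by
  obtain ⟨hf, hp⟩ := HopfGalois.finite_inv π hπ
  exact Module.FaithfullyFlat.of_comap_surjective
    ((PrimeSpectrum.comap_surjective_iff_injective_of_finite (R := HopfGalois.inv π) (S := A)).2 Subtype.val_injective)

omit [IsLocalRing H] in
theorem comul_mem_right (hπ : Function.Surjective π) :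
    ∃ σ : A →ₗ[R] HopfGalois.inv π, σ ∘ₗ (HopfGalois.inv π).val.toLinearMap = LinearMap.id ∧
      ∀ b ∈ HopfGalois.inv π, ((HopfGalois.inv π).val.toLinearMap ∘ₗ σ).lTensor A (Coalgebra.comul (R := R) b) =
        Coalgebra.comul (R := R) b := by
  obtain ⟨Φ, h1, h2⟩ := HopfGalois.exists_retraction π hπ
  refine ⟨LinearMap.codRestrict (HopfGalois.inv π).toSubmodule (Φ ∘ₗ (HopfGalois.rho π).toLinearMap) h2,
    LinearMap.ext fun b => Subtype.ext (by
      show Φ (HopfGalois.rho π (b : A)) = (b : A)
      rw [(HopfGalois.mem_inv π).1 b.2, h1]), fun b hb => ?_⟩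
  show (Φ ∘ₗ (HopfGalois.rho π).toLinearMap).lTensor A (Coalgebra.comul (R := R) b) = _
  have key : (HopfGalois.rho π).toLinearMap.lTensor A (Coalgebra.comul (R := R) b) =
      (Algebra.TensorProduct.includeLeft : A →ₐ[R] A ⊗[R] H).toLinearMap.lTensor A (Coalgebra.comul (R := R) b) := by
    have e1 : ∀ t : A ⊗[R] A, (HopfGalois.rho π).toLinearMap.lTensor A t =
        TensorProduct.map (LinearMap.id (R := R) (M := A))
          (TensorProduct.map (LinearMap.id (R := R) (M := A)) (π : A →ₐ[R] H).toLinearMap)
          ((Coalgebra.comul (R := R) (A := A)).lTensor A t) := by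
      intro t
      induction t using TensorProduct.induction_on with
      | zero => simp
      | add a c ha hc => simp only [map_add, ha, hc]
      | tmul a c => rfl
    have e2 : ∀ t : A ⊗[R] A, TensorProduct.map (LinearMap.id (R := R) (M := A))
          (TensorProduct.map (LinearMap.id (R := R) (M := A)) (π : A →ₐ[R] H).toLinearMap)
          (TensorProduct.assoc R A A A ((Coalgebra.comul (R := R) (A := A)).rTensor A t)) =
        TensorProduct.assoc R A A H ((Coalgebra.comul (R := R) (A := A)).rTensor H
          (Algebra.TensorProduct.map (AlgHom.id R A) (π : A →ₐ[R] H) t)) := by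
      intro t
      induction t using TensorProduct.induction_on with
      | zero => simp
      | add a c ha hc => simp only [map_add, ha, hc]
      | tmul a c =>
        simp only [LinearMap.rTensor_tmul, Algebra.TensorProduct.map_tmul, AlgHom.id_apply]
        induction Coalgebra.comul (R := R) a using TensorProduct.induction_on with
        | zero => simp
        | add p q hp hq => simp only [TensorProduct.add_tmul, map_add, hp, hq]
        | tmul p q => simp
    rw [e1, ← Coalgebra.coassoc_apply, e2,
      show Algebra.TensorProduct.map (AlgHom.id R A) (π : A →ₐ[R] H) (Coalgebra.comul (R := R) b) = b ⊗ₜ 1 from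
        (HopfGalois.mem_inv π).1 hb, LinearMap.rTensor_tmul]
    induction Coalgebra.comul (R := R) b using TensorProduct.induction_on with
    | zero => simp
    | add p q hp hq => simp only [TensorProduct.add_tmul, map_add, hp, hq]
    | tmul p q => simp
  rw [LinearMap.lTensor_comp_apply, key, ← LinearMap.lTensor_comp_apply]
  have : Φ ∘ₗ (Algebra.TensorProduct.includeLeft : A →ₐ[R] A ⊗[R] H).toLinearMap = LinearMap.id :=
    LinearMap.ext h1
  rw [this]
  simp

/-- The invariants of the connected component are formally unramified. -/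
theorem formallyUnramified (hπ : Function.Surjective π) (e : A) (he : IsIdempotentElem e)
    (hker : RingHom.ker (π : A →ₐ[R] H) = Ideal.span {1 - e}) :
    Algebra.FormallyUnramified R (HopfGalois.inv π) := by
  set B := HopfGalois.inv π
  have heB : e ∈ B := idem_mem_inv π he
  have hεe : Bialgebra.counitAlgHom R A e = 1 := by
    have h1 : π (1 - e) = 0 := by
      have : 1 - e ∈ RingHom.ker (π : A →ₐ[R] H) := hker ▸ Ideal.mem_span_singleton_self _
      exact this
    have h2 := congrArg (Coalgebra.counit (R := R)) h1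
    rw [CoalgHomClass.counit_comp_apply, map_zero, map_sub, Bialgebra.counit_one, sub_eq_zero] at h2
    exact h2.symm
  have haug : ∀ b : B, Coalgebra.counit (R := R) (b : A) = 0 → b * ⟨e, heB⟩ = 0 := by
    intro b h0
    have h1 : (b : A) ∈ Ideal.span {1 - e} := hker ▸ aug_ge π (Ideal.subset_span ⟨b.2, h0⟩)
    obtain ⟨c, hc⟩ := Ideal.mem_span_singleton'.1 h1
    refine Subtype.ext ?_
    show (b : A) * e = 0
    have e1 : e * e = e := he
    rw [← hc]
    linear_combination (-c) * e1
  obtain ⟨σ, hσ, hΔ⟩ := comul_mem_right π hπ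
  let ι := B.val.toLinearMap
  have hinj : Function.Injective (Algebra.TensorProduct.map (AlgHom.id R A) B.val) := by
    refine Function.LeftInverse.injective (g := σ.lTensor A) fun t => ?_
    show σ.lTensor A (ι.lTensor A t) = t
    rw [← LinearMap.lTensor_comp_apply, hσ]
    simp
  let E := AlgEquiv.ofInjective _ hinj
  have hmem : ∀ b : B, HopfGalois.shearInv R A ((1 : A) ⊗ₜ (b : A)) ∈
      (Algebra.TensorProduct.map (AlgHom.id R A) B.val).range := by
    intro b
    refine ⟨TensorProduct.map (HopfAlgebra.antipode R) σ (Coalgebra.comul (R := R) (b : A)), ?_⟩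
    have h2 : ∀ t : A ⊗[R] A, Algebra.TensorProduct.map (AlgHom.id R A) B.val
        (TensorProduct.map (HopfAlgebra.antipode R) σ t) =
        (HopfAlgebra.antipode R).rTensor A ((ι ∘ₗ σ).lTensor A t) := by
      intro t
      induction t using TensorProduct.induction_on with
      | zero => simp
      | add p q hp hq => simp only [map_add, hp, hq]
      | tmul p q => simp [ι]
    refine (h2 _).trans ?_
    rw [hΔ _ b.2, HopfGalois.shearInv, Algebra.TensorProduct.lift_tmul, map_one, one_mul, AlgHom.convMul_apply]
    induction Coalgebra.comul (R := R) (b : A) using TensorProduct.induction_on with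
    | zero => simp
    | add p q hp hq => simp only [map_add, hp, hq]
    | tmul p q =>
      rw [LinearMap.rTensor_tmul, Algebra.TensorProduct.lift_tmul]
      show _ = (HopfAlgebra.antipode R p ⊗ₜ[R] (1 : A)) * ((1 : A) ⊗ₜ[R] q)
      simp
  let Λ : B →ₐ[R] A ⊗[R] B := E.symm.toAlgHom.comp
    ((((HopfGalois.shearInv R A).restrictScalars R).comp
      ((Algebra.TensorProduct.includeRight : A →ₐ[R] A ⊗[R] A).comp B.val)).codRestrict _ hmem)
  have hΛ : ∀ b : B, Algebra.TensorProduct.map (AlgHom.id R A) B.val (Λ b) =
      HopfGalois.shearInv R A ((1 : A) ⊗ₜ (b : A)) := fun b => congrArg Subtype.val (E.apply_symm_apply _)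
  -- multiplication
  let μ : A ⊗[R] B →ₐ[A] A :=
    Algebra.TensorProduct.lift (Algebra.ofId A A) B.val fun _ _ => .all _ _
  have hμΛ : ∀ b : B, μ (Λ b) = algebraMap R A (Coalgebra.counit (R := R) (b : A)) := by
    intro b
    have h1 : ∀ t : A ⊗[R] B, μ t =
        LinearMap.mul' R A (Algebra.TensorProduct.map (AlgHom.id R A) B.val t) := by
      intro t
      induction t using TensorProduct.induction_on with
      | zero => simp
      | add p q hp hq => simp only [map_add, hp, hq]
      | tmul p q => simp [μ, Algebra.ofId_apply]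
    rw [h1, hΛ, HopfGalois.shearInv, Algebra.TensorProduct.lift_tmul, map_one, one_mul, AlgHom.convMul_apply,
      ← HopfAlgebra.mul_antipode_rTensor_comul_apply (R := R) (b : A)]
    induction Coalgebra.comul (R := R) (b : A) using TensorProduct.induction_on with
    | zero => simp
    | add p q hp hq => simp only [map_add, hp, hq]
    | tmul p q =>
      rw [Algebra.TensorProduct.lift_tmul, LinearMap.rTensor_tmul, LinearMap.mul'_apply]
      show LinearMap.mul' R A ((HopfAlgebra.antipode R p ⊗ₜ[R] (1 : A)) * ((1 : A) ⊗ₜ[R] q)) = _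
      simp
  -- the universal derivation over A
  let L := extendD R B A
  have hLt : ∀ (a : A) (b : B), L (a ⊗ₜ b) = a • ((1 : A) ⊗ₜ[B] KaehlerDifferential.D R B b) := extendD_tmul
  have hLmul : ∀ x y, L (x * y) = μ x • L y + μ y • L x := extendD_mul
  have hL1 : L 1 = 0 := extendD_one
  have hδ0 : ∀ b : B, Coalgebra.counit (R := R) (b : A) = 0 → L (Λ b) = 0 := by
    intro b h0
    have h1 : b = b * (1 - ⟨e, heB⟩) := by rw [mul_sub, mul_one, haug b h0, sub_zero]
    rw [h1, map_mul, hLmul, hμΛ, hμΛ]
    have h2 : Coalgebra.counit (R := R) ((1 - ⟨e, heB⟩ : B) : A) = 0 := by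
      show Bialgebra.counitAlgHom R A (1 - e) = 0
      rw [map_sub, map_one, hεe, sub_self]
    rw [h0, h2, map_zero, zero_smul, zero_smul, add_zero]
  have hδ : ∀ b : B, L (Λ b) = 0 := by
    intro b
    set c := Coalgebra.counit (R := R) (b : A)
    have h := hδ0 (b - algebraMap R B c) (by
      show Bialgebra.counitAlgHom R A ((b : A) - algebraMap R A c) = 0
      rw [map_sub, AlgHom.commutes]
      exact sub_self _)
    have hc : L (Λ (algebraMap R B c)) = 0 := by
      rw [AlgHom.commutes, Algebra.algebraMap_eq_smul_one, LinearMap.map_smul_of_tower, hL1, smul_zero]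
    rw [map_sub, map_sub, hc, sub_zero] at h
    exact h
  -- recover `d b` from `δ`
  let Ψ : A ⊗[R] B →ₗ[R] A ⊗[R] B :=
    TensorProduct.lift (((Algebra.lsmul R R (A ⊗[R] B) : A →ₐ[R] Module.End R (A ⊗[R] B)).toLinearMap).compl₂
      Λ.toLinearMap)
  have hΨt : ∀ (a : A) (b : B), Ψ (a ⊗ₜ b) = a • Λ b := fun a b => by simp [Ψ]
  have hD : ∀ b : B, (1 : A) ⊗ₜ[B] KaehlerDifferential.D R B b = 0 := by
    intro b
    have h1 : Ψ (σ.lTensor A (Coalgebra.comul (R := R) (b : A))) = (1 : A) ⊗ₜ b := by
      refine hinj ?_
      have h2 : ∀ t : A ⊗[R] B, Algebra.TensorProduct.map (AlgHom.id R A) B.val (Ψ t) =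
          HopfGalois.shearInv R A (Algebra.TensorProduct.map (AlgHom.id R A) B.val t) := by
        intro t
        induction t using TensorProduct.induction_on with
        | zero => simp
        | add p q hp hq => simp only [map_add, hp, hq]
        | tmul p q =>
          rw [hΨt, Algebra.TensorProduct.map_tmul, AlgHom.id_apply,
            show p ⊗ₜ[R] B.val q = p • ((1 : A) ⊗ₜ[R] (q : A)) by simp [TensorProduct.smul_tmul'],
            map_smul (HopfGalois.shearInv R A), ← hΛ]
          induction Λ q using TensorProduct.induction_on with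
          | zero => simp
          | add r s hr hs => simp only [smul_add, map_add, hr, hs]
          | tmul r s => simp [TensorProduct.smul_tmul']
      rw [h2]
      have h3 : Algebra.TensorProduct.map (AlgHom.id R A) B.val (σ.lTensor A (Coalgebra.comul (R := R) (b : A))) =
          Coalgebra.comul (R := R) (b : A) := by
        refine Eq.trans ?_ (hΔ _ b.2)
        rw [LinearMap.lTensor_comp_apply]
        rfl
      rw [h3, Algebra.TensorProduct.map_tmul, AlgHom.id_apply]
      have h4 := HopfGalois.shearInv_shear ((1 : A) ⊗ₜ[R] (b : A))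
      rw [HopfGalois.shear, Algebra.TensorProduct.lift_tmul, map_one, one_mul] at h4
      exact h4
    have h5 := congrArg L h1
    rw [hLt, one_smul] at h5
    rw [← h5]
    generalize σ.lTensor A (Coalgebra.comul (R := R) (b : A)) = t
    induction t using TensorProduct.induction_on with
    | zero => simp
    | add p q hp hq => rw [map_add, map_add, hp, hq, add_zero]
    | tmul p q => rw [hΨt, map_smul, hδ, smul_zero]
  haveI := faithfullyFlat π hπ
  refine ⟨subsingleton_of_forall_eq 0 fun w => ?_⟩
  have hw : ∀ w : Ω[B⁄R], (1 : A) ⊗ₜ[B] w = 0 := by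
    intro w
    have : w ∈ Submodule.span B (Set.range (KaehlerDifferential.D R B)) := by
      rw [KaehlerDifferential.span_range_derivation]; trivial
    induction this using Submodule.span_induction with
    | mem x hx => obtain ⟨b, rfl⟩ := hx; exact hD b
    | zero => exact TensorProduct.tmul_zero _ _
    | add x y _ _ hx hy => rw [TensorProduct.tmul_add, hx, hy, add_zero]
    | smul c x _ hx => rw [TensorProduct.tmul_smul, hx]; exact smul_zero c
  exact (Module.FaithfullyFlat.one_tmul_eq_zero_iff B (Ω[B⁄R]) (A := A) w).1 (hw w)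

/-- The invariants form a Hopf subalgebra. -/
theorem isHopfSubalgebra (hπ : Function.Surjective π) [Algebra.EssFiniteType R (HopfGalois.inv π)]
    [Algebra.FormallyUnramified R (HopfGalois.inv π)] :
    (∀ b ∈ HopfGalois.inv π, Coalgebra.comul (R := R) b ∈
        LinearMap.range (TensorProduct.map (HopfGalois.inv π).val.toLinearMap (HopfGalois.inv π).val.toLinearMap)) ∧
      ∀ b ∈ HopfGalois.inv π, HopfAlgebra.antipode R b ∈ HopfGalois.inv π := by
  have hS : ∀ b ∈ HopfGalois.inv π, HopfAlgebra.antipode R b ∈ HopfGalois.inv π := fun b hb =>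
    hom_mem_inv π ((HopfAlgebra.antipodeAlgHom R A).comp (HopfGalois.inv π).val) ⟨b, hb⟩
  refine ⟨fun b hb => ?_, hS⟩
  obtain ⟨σ, hσ, hΔ⟩ := comul_mem_right π hπ
  set ι := (HopfGalois.inv π).val.toLinearMap
  have h1 := hΔ b hb
  have h2 : Coalgebra.comul (R := R) b ∈ LinearMap.range (ι.rTensor A) := by
    rw [← antipode_antipode (R := R) b, Groth.Misc12.comul_antipode_eq,
      ← hΔ _ (hS b hb)]
    generalize Coalgebra.comul (R := R) (HopfAlgebra.antipode R b) = t
    induction t using TensorProduct.induction_on with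
    | zero => simp
    | add p q hp hq => simp only [map_add]; exact add_mem hp hq
    | tmul p q =>
      exact ⟨(⟨HopfAlgebra.antipode R (σ q : A), hS _ (σ q).2⟩ : HopfGalois.inv π) ⊗ₜ HopfAlgebra.antipode R p,
        by simp [ι]⟩
  obtain ⟨w, hw⟩ := h2
  refine ⟨σ.lTensor _ w, ?_⟩
  refine Eq.trans ?_ h1
  rw [← hw]
  clear hw
  induction w using TensorProduct.induction_on with
  | zero => simp
  | add p q hp hq => simp only [map_add, hp, hq]
  | tmul p q => simp

end Invariants

end Groth.HopfConn
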