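import Groth.Agent.PropsBasic.HopfConnected
import Groth.Prelude.Def_CartDual

/-!
Local quotients by idempotents: flatness, faithful flatness of local finite extensions, comparison
of pointed idempotents, pointed local unramified algebras are trivial.
-/

set_option autoImplicit false
set_option linter.style.haveILetI false

open TensorProduct

namespace Groth.HopfConn

/-- A quotient by `1 - e` stays flat. -/
theorem flat_quot_idem {B A : Type*} [CommRing B] [CommRing A] [Algebra B A] [Module.Flat B A] {e : A}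
    (he : IsIdempotentElem e) : Module.Flat B (A ⧸ Ideal.span ({1 - e} : Set A)) := by
  refine Module.Flat.of_retract
    (Submodule.liftQ (Submodule.restrictScalars B (Ideal.span ({1 - e} : Set A))) (LinearMap.mulLeft B e) ?_ ∘ₗ
      (Submodule.Quotient.restrictScalarsEquiv B _).symm.toLinearMap)
    (Ideal.Quotient.mkₐ B _).toLinearMap ?_
  · intro x hx
    obtain ⟨c, rfl⟩ := Ideal.mem_span_singleton'.1 hx
    show e * (c * (1 - e)) = 0
    have e1 : e * e = e := he
    linear_combination (-c) * e1
  · refine LinearMap.ext fun x => ?_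
    obtain ⟨a, rfl⟩ := Ideal.Quotient.mk_surjective x
    show Ideal.Quotient.mk _ (e * a) = Ideal.Quotient.mk _ a
    rw [Ideal.Quotient.eq, Ideal.mem_span_singleton']
    exact ⟨-a, by ring⟩

/-- A finite flat extension of local rings is faithfully flat. -/
theorem faithfullyFlat_of_local {B C : Type*} [CommRing B] [CommRing C] [Algebra B C] [IsLocalRing B]
    [IsLocalRing C] [Algebra.IsIntegral B C] [Module.Flat B C] : Module.FaithfullyFlat B C := by
  haveI : IsLocalHom (algebraMap B C) := by
    refine ((IsLocalRing.local_hom_TFAE (algebraMap B C)).out 0 4).mpr ?_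
    exact IsLocalRing.eq_maximalIdeal
      (Ideal.isMaximal_comap_of_isIntegral_of_isMaximal (R := B) (IsLocalRing.maximalIdeal C))
  exact Module.FaithfullyFlat.of_flat_of_isLocalHom

/-- In a local ring an idempotent with nonzero image under a ring hom to a nontrivial ring is one. -/
theorem idem_eq_one_of_map {C R : Type*} [CommRing C] [IsLocalRing C] [CommRing R] [Nontrivial R]
    (f : C →+* R) {x : C} (hx : IsIdempotentElem x) (h : f x = 1) : x = 1 := by
  rcases IsLocalRing.isUnit_or_isUnit_one_sub_self x with hu | hu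
  · exact (IsIdempotentElem.iff_eq_one_of_isUnit hu).1 hx
  · have h0 : x = 0 := by simpa using (IsIdempotentElem.iff_eq_one_of_isUnit hu).1 hx.one_sub
    rw [h0, map_zero] at h
    exact absurd h zero_ne_one

/-- A local unramified algebra with a rational point is trivial. -/
theorem algebraMap_bijective_of_unramified {R C : Type*} [CommRing R] [CommRing C] [Algebra R C]
    [IsLocalRing C] [Algebra.EssFiniteType R C] [Algebra.FormallyUnramified R C] [Nontrivial R]
    (ε : C →ₐ[R] R) : Function.Bijective (algebraMap R C) := by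
  have h : AlgHom.id R C = (Algebra.ofId R C).comp ε := by
    refine hom_eq _ _ fun c => ?_
    refine (Ideal.neg_mem_iff _).1 ?_
    rw [IsLocalRing.jacobson_eq_maximalIdeal (⊥ : Ideal C) bot_ne_top, neg_sub]
    refine IsLocalRing.le_maximalIdeal (RingHom.ker_ne_top ε) ?_
    rw [RingHom.mem_ker]
    simp [Algebra.ofId_apply]
  refine ⟨fun a b hab => ?_, fun c => ⟨ε c, ?_⟩⟩
  · have := congrArg ε hab
    simpa using this
  · exact (DFunLike.congr_fun h c).symm

end Groth.HopfConn

namespace Groth.HopfConn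

/-- A quotient by `1 - e` stays projective. -/
theorem projective_quot_idem {B A : Type*} [CommRing B] [CommRing A] [Algebra B A] [Module.Projective B A] {e : A}
    (he : IsIdempotentElem e) : Module.Projective B (A ⧸ Ideal.span ({1 - e} : Set A)) := by
  refine Module.Projective.of_split
    (Submodule.liftQ (Submodule.restrictScalars B (Ideal.span ({1 - e} : Set A))) (LinearMap.mulLeft B e) ?_ ∘ₗ
      (Submodule.Quotient.restrictScalarsEquiv B _).symm.toLinearMap)
    (Ideal.Quotient.mkₐ B _).toLinearMap ?_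
  · intro x hx
    obtain ⟨c, rfl⟩ := Ideal.mem_span_singleton'.1 hx
    show e * (c * (1 - e)) = 0
    have e1 : e * e = e := he
    linear_combination (-c) * e1
  · refine LinearMap.ext fun x => ?_
    obtain ⟨a, rfl⟩ := Ideal.Quotient.mk_surjective x
    show Ideal.Quotient.mk _ (e * a) = Ideal.Quotient.mk _ a
    rw [Ideal.Quotient.eq, Ideal.mem_span_singleton']
    exact ⟨-a, by ring⟩

/-- Invariance read through multiplication by the idempotent. -/
theorem mem_inv_iff_mulLeft {R A : Type*} [CommRing R] [CommRing A] [HopfAlgebra R A] {e : A}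
    (he : IsIdempotentElem e) [(Ideal.span ({1 - e} : Set A)).IsHopfIdeal R] (x : A) :
    x ∈ HopfGalois.inv (Bialgebra.Quotient.mkBialgHom (R := R) (Ideal.span ({1 - e} : Set A))) ↔
      LinearMap.lTensor A (LinearMap.mulLeft R e) (Coalgebra.comul (R := R) x) = x ⊗ₜ[R] e := by
  set I := Ideal.span ({1 - e} : Set A)
  let s : A ⧸ I →ₗ[R] A :=
    Submodule.liftQ (Submodule.restrictScalars R I) (LinearMap.mulLeft R e) (fun c hc => by
      obtain ⟨d, rfl⟩ := Ideal.mem_span_singleton'.1 hc
      show e * (d * (1 - e)) = 0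
      have e1 : e * e = e := he
      linear_combination (-d) * e1) ∘ₗ (Submodule.Quotient.restrictScalarsEquiv R I).symm.toLinearMap
  have hs : ∀ a, s (Ideal.Quotient.mk I a) = e * a := fun a => rfl
  have hme : ∀ a, Ideal.Quotient.mk I (e * a) = Ideal.Quotient.mk I a := fun a => by
    rw [Ideal.Quotient.eq, Ideal.mem_span_singleton']
    exact ⟨-a, by ring⟩
  have h1 : ∀ t : A ⊗[R] A, s.lTensor A (Algebra.TensorProduct.map (AlgHom.id R A) (Ideal.Quotient.mkₐ R I) t) =
      LinearMap.lTensor A (LinearMap.mulLeft R e) t := by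
    intro t
    induction t using TensorProduct.induction_on with
    | zero => simp
    | add p q hp hq => simp only [map_add, hp, hq]
    | tmul p q => simp [hs]
  have h2 : ∀ t : A ⊗[R] A, Algebra.TensorProduct.map (AlgHom.id R A) (Ideal.Quotient.mkₐ R I)
      (LinearMap.lTensor A (LinearMap.mulLeft R e) t) =
      Algebra.TensorProduct.map (AlgHom.id R A) (Ideal.Quotient.mkₐ R I) t := by
    intro t
    induction t using TensorProduct.induction_on with
    | zero => simp
    | add p q hp hq => simp only [map_add, hp, hq]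
    | tmul p q => simp only [LinearMap.lTensor_tmul, LinearMap.mulLeft_apply, Algebra.TensorProduct.map_tmul,
        Ideal.Quotient.mkₐ_eq_mk, hme]
  constructor
  · intro hx
    have hx' : Algebra.TensorProduct.map (AlgHom.id R A) (Ideal.Quotient.mkₐ R I) (Coalgebra.comul (R := R) x) =
        x ⊗ₜ[R] (1 : A ⧸ I) := hx
    rw [← h1, hx', LinearMap.lTensor_tmul, ← map_one (Ideal.Quotient.mk I), hs, mul_one]
  · intro hx
    show Algebra.TensorProduct.map (AlgHom.id R A) (Ideal.Quotient.mkₐ R I) (Coalgebra.comul (R := R) x) = x ⊗ₜ 1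
    rw [← h2, hx, Algebra.TensorProduct.map_tmul, AlgHom.id_apply, Ideal.Quotient.mkₐ_eq_mk, ← mul_one e,
      hme, map_one]

end Groth.HopfConn

namespace Groth.HopfConn

/-- Algebra maps carry unit-component invariants to unit-component invariants. -/
theorem invariant_map {R A B : Type*} [CommRing R] [CommRing A] [HopfAlgebra R A] [Module.Finite R A]
    [Module.Projective R A] [CommRing B] [HopfAlgebra R B] [Module.Finite R B]
    {e : A} (he : IsIdempotentElem e) (heε : Bialgebra.counitAlgHom R A e = 1)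
    [IsLocalRing (A ⧸ Ideal.span ({1 - e} : Set A))]
    {f : B} (hf : IsIdempotentElem f) (hfε : Bialgebra.counitAlgHom R B f = 1)
    [IsLocalRing (B ⧸ Ideal.span ({1 - f} : Set B))] (Φ : A →ₐ[R] B) {x : A}
    (hx : LinearMap.lTensor A (LinearMap.mulLeft R e) (Coalgebra.comul (R := R) x) = x ⊗ₜ[R] e) :
    LinearMap.lTensor B (LinearMap.mulLeft R f) (Coalgebra.comul (R := R) (Φ x)) = Φ x ⊗ₜ[R] f := by
  haveI := isHopfIdeal (R := R) e he heε
  haveI := isHopfIdeal (R := R) f hf hfε
  haveI : Module.Finite R (A ⧸ Ideal.span ({1 - e} : Set A)) :=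
    Module.Finite.of_surjective (Ideal.Quotient.mkₐ R _).toLinearMap (Ideal.Quotient.mkₐ_surjective R _)
  haveI : Module.Finite R (B ⧸ Ideal.span ({1 - f} : Set B)) :=
    Module.Finite.of_surjective (Ideal.Quotient.mkₐ R _).toLinearMap (Ideal.Quotient.mkₐ_surjective R _)
  haveI : Module.Projective R (A ⧸ Ideal.span ({1 - e} : Set A)) := projective_quot_idem he
  let πA := Bialgebra.Quotient.mkBialgHom (R := R) (Ideal.span ({1 - e} : Set A))
  obtain ⟨hEf, -⟩ := HopfGalois.finite_projective_inv πA Ideal.Quotient.mk_surjective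
  haveI := hEf
  haveI : Algebra.FormallyUnramified R (HopfGalois.inv πA) :=
    formallyUnramified πA Ideal.Quotient.mk_surjective e he (Ideal.ext fun _ => Ideal.Quotient.eq_zero_iff_mem)
  exact (mem_inv_iff_mulLeft hf (Φ x)).1
    (hom_mem_inv _ (Φ.comp (HopfGalois.inv πA).val) ⟨x, (mem_inv_iff_mulLeft he x).2 hx⟩)

/-- The transpose of a coalgebra map of commutative bialgebras is an algebra map of duals. -/
theorem exists_transpose {R A B : Type*} [CommRing R] [CommRing A] [HopfAlgebra R A] [CommRing B]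
    [HopfAlgebra R B] (φ : B →ₐc[R] A) :
    ∃ Φ : WithConv (A →ₗ[R] R) →ₐ[R] WithConv (B →ₗ[R] R), ∀ z b, Φ z b = z (φ b) := by
  let T : WithConv (A →ₗ[R] R) →ₗ[R] WithConv (B →ₗ[R] R) :=
    { toFun := fun z => WithConv.toConv (z.ofConv.comp (φ : B →ₗc[R] A).toLinearMap)
      map_add' := fun _ _ => rfl
      map_smul' := fun _ _ => rfl }
  refine ⟨AlgHom.ofLinearMap T ?_ fun z w =>
    WithConv.ofConv_injective (LinearMap.convMul_comp_coalgHom_distrib z w (φ : B →ₗc[R] A)), fun z b => rfl⟩
  apply WithConv.ofConv_injective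
  refine LinearMap.ext fun c => ?_
  show (1 : WithConv (A →ₗ[R] R)) (φ c) = (1 : WithConv (B →ₗ[R] R)) c
  simp [LinearMap.convOne_def]

/-- A bialgebra map killing the complement of a unit component descends to the unit components. -/
theorem exists_unitComponent_map {R A B : Type*} [CommRing R] [Nontrivial R] [CommRing A] [HopfAlgebra R A]
    [CommRing B] [HopfAlgebra R B] (ψ : B →ₐc[R] A)
    {eA : A} [(Ideal.span ({1 - eA} : Set A)).IsHopfIdeal R] [IsLocalRing (A ⧸ Ideal.span ({1 - eA} : Set A))]
    {eB : B} (heB : IsIdempotentElem eB) (heBε : Bialgebra.counitAlgHom R B eB = 1)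
    [(Ideal.span ({1 - eB} : Set B)).IsHopfIdeal R] :
    ∃ ψ0 : (B ⧸ Ideal.span ({1 - eB} : Set B)) →ₐc[R] (A ⧸ Ideal.span ({1 - eA} : Set A)),
      ∀ b, ψ0 (Ideal.Quotient.mk _ b) = Ideal.Quotient.mk _ (ψ b) := by
  let qA : A →ₐc[R] A ⧸ Ideal.span ({1 - eA} : Set A) := Bialgebra.Quotient.mkBialgHom (R := R) _
  let qB : B →ₐc[R] B ⧸ Ideal.span ({1 - eB} : Set B) := Bialgebra.Quotient.mkBialgHom (R := R) _
  have hψe : Ideal.Quotient.mk (Ideal.span ({1 - eA} : Set A)) (ψ eB) = 1 := by
    refine idem_eq_one_of_map (Bialgebra.counitAlgHom R (A ⧸ Ideal.span ({1 - eA} : Set A))).toRingHom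
      ((heB.map (ψ : B →ₐ[R] A)).map (Ideal.Quotient.mk _)) ?_
    show Coalgebra.counit (R := R) (qA (ψ eB)) = 1
    rw [CoalgHomClass.counit_comp_apply, CoalgHomClass.counit_comp_apply]
    exact heBε
  have hker : ∀ c ∈ Ideal.span ({1 - eB} : Set B),
      ((qA.comp ψ : B →ₐc[R] _) : B →ₐ[R] A ⧸ Ideal.span ({1 - eA} : Set A)) c = 0 := by
    intro c hc
    obtain ⟨d, rfl⟩ := Ideal.mem_span_singleton'.1 hc
    rw [map_mul, map_sub, map_one]
    show _ * (1 - Ideal.Quotient.mk _ (ψ eB)) = 0
    rw [hψe, sub_self, mul_zero]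
  let ψ0a := Ideal.Quotient.liftₐ (Ideal.span ({1 - eB} : Set B))
    ((qA.comp ψ : B →ₐc[R] _) : B →ₐ[R] A ⧸ Ideal.span ({1 - eA} : Set A)) hker
  have hψ0 : ∀ c, ψ0a (qB c) = qA (ψ c) := fun c => rfl
  refine ⟨BialgHom.ofAlgHom ψ0a ?_ ?_, fun b => rfl⟩
  · refine Ideal.Quotient.algHom_ext _ (AlgHom.ext fun c => ?_)
    show Coalgebra.counit (ψ0a (qB c)) = Coalgebra.counit (qB c)
    rw [hψ0, CoalgHomClass.counit_comp_apply, CoalgHomClass.counit_comp_apply,
      CoalgHomClass.counit_comp_apply]
  · refine Ideal.Quotient.algHom_ext _ (AlgHom.ext fun c => ?_)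
    show Algebra.TensorProduct.map ψ0a ψ0a (Coalgebra.comul (qB c)) = Coalgebra.comul (ψ0a (qB c))
    rw [hψ0, ← CoalgHomClass.map_comp_comul_apply qB c, ← CoalgHomClass.map_comp_comul_apply qA (ψ c),
      ← CoalgHomClass.map_comp_comul_apply ψ c]
    generalize Coalgebra.comul (R := R) c = t
    induction t using TensorProduct.induction_on with
    | zero => simp
    | add p q hp hq => simp only [map_add, hp, hq]
    | tmul p q => rfl

end Groth.HopfConn

namespace Groth.HopfConn

/-- A bialgebra map to a local Hopf algebra factors through the unit component. -/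
theorem exists_factor_local {R B C : Type*} [CommRing R] [Nontrivial R] [CommRing B] [HopfAlgebra R B]
    [CommRing C] [HopfAlgebra R C] [IsLocalRing C] (ψ : B →ₐc[R] C) {e : B} (he : IsIdempotentElem e)
    (hε : Bialgebra.counitAlgHom R B e = 1) [(Ideal.span ({1 - e} : Set B)).IsHopfIdeal R] :
    ∃ ψ0 : (B ⧸ Ideal.span ({1 - e} : Set B)) →ₐc[R] C,
      ∀ b, ψ0 (Ideal.Quotient.mk _ b) = ψ b := by
  let qB : B →ₐc[R] B ⧸ Ideal.span ({1 - e} : Set B) := Bialgebra.Quotient.mkBialgHom (R := R) _
  have hψe : ψ e = 1 := by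
    refine idem_eq_one_of_map (Bialgebra.counitAlgHom R C).toRingHom (he.map (ψ : B →ₐ[R] C)) ?_
    show Coalgebra.counit (R := R) (ψ e) = 1
    rw [CoalgHomClass.counit_comp_apply]
    exact hε
  have hker : ∀ c ∈ Ideal.span ({1 - e} : Set B), (ψ : B →ₐ[R] C) c = 0 := by
    intro c hc
    obtain ⟨d, rfl⟩ := Ideal.mem_span_singleton'.1 hc
    rw [map_mul, map_sub, map_one]
    show _ * (1 - ψ e) = 0
    rw [hψe, sub_self, mul_zero]
  let ψ0a := Ideal.Quotient.liftₐ (Ideal.span ({1 - e} : Set B)) (ψ : B →ₐ[R] C) hker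
  have hψ0 : ∀ c, ψ0a (qB c) = ψ c := fun c => rfl
  refine ⟨BialgHom.ofAlgHom ψ0a ?_ ?_, fun b => rfl⟩
  · refine Ideal.Quotient.algHom_ext _ (AlgHom.ext fun c => ?_)
    show Coalgebra.counit (ψ0a (qB c)) = Coalgebra.counit (qB c)
    rw [hψ0, CoalgHomClass.counit_comp_apply, CoalgHomClass.counit_comp_apply]
  · refine Ideal.Quotient.algHom_ext _ (AlgHom.ext fun c => ?_)
    show Algebra.TensorProduct.map ψ0a ψ0a (Coalgebra.comul (qB c)) = Coalgebra.comul (ψ0a (qB c))
    rw [hψ0, ← CoalgHomClass.map_comp_comul_apply qB c, ← CoalgHomClass.map_comp_comul_apply ψ c]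
    generalize Coalgebra.comul (R := R) c = t
    induction t using TensorProduct.induction_on with
    | zero => simp
    | add p q hp hq => simp only [map_add, hp, hq]
    | tmul p q => rfl

/-- Algebra maps from unramified algebras land in the invariants of the unit component. -/
theorem invariant_of_unramified {R A C : Type*} [CommRing R] [CommRing A] [HopfAlgebra R A] [Module.Finite R A]
    {e : A} (he : IsIdempotentElem e) (heε : Bialgebra.counitAlgHom R A e = 1)
    [IsLocalRing (A ⧸ Ideal.span ({1 - e} : Set A))]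
    [CommRing C] [Algebra R C] [Algebra.EssFiniteType R C] [Algebra.FormallyUnramified R C] (Φ : C →ₐ[R] A) (c : C) :
    LinearMap.lTensor A (LinearMap.mulLeft R e) (Coalgebra.comul (R := R) (Φ c)) = Φ c ⊗ₜ[R] e := by
  haveI := isHopfIdeal (R := R) e he heε
  haveI : Module.Finite R (A ⧸ Ideal.span ({1 - e} : Set A)) :=
    Module.Finite.of_surjective (Ideal.Quotient.mkₐ R _).toLinearMap (Ideal.Quotient.mkₐ_surjective R _)
  exact (mem_inv_iff_mulLeft he (Φ c)).1 (hom_mem_inv _ Φ c)

end Groth.HopfConn

namespace Groth.HopfConn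

/-- An unramified augmented algebra has idempotent augmentation ideal. -/
theorem aug_idempotent_of_unramified {R A : Type*} [CommRing R] [CommRing A] [HopfAlgebra R A]
    [Algebra.EssFiniteType R A] [Algebra.FormallyUnramified R A] :
    RingHom.ker (Bialgebra.counitAlgHom R A) ^ 2 = RingHom.ker (Bialgebra.counitAlgHom R A) := by
  set I := RingHom.ker (Bialgebra.counitAlgHom R A)
  refine le_antisymm (Ideal.pow_le_self two_ne_zero) fun a ha => ?_
  have hnil : ∀ y ∈ I, IsNilpotent (Ideal.Quotient.mk (I ^ 2) y) := fun y hy =>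
    ⟨2, by rw [← map_pow, Ideal.Quotient.eq_zero_iff_mem]; exact Ideal.pow_mem_pow hy 2⟩
  have h : Ideal.Quotient.mkₐ R (I ^ 2) =
      (Algebra.ofId R (A ⧸ I ^ 2)).comp (Bialgebra.counitAlgHom R A) := by
    refine hom_eq _ _ fun b => ?_
    have h1 := hnil (algebraMap R A (Bialgebra.counitAlgHom R A b) - b) (by simp [I])
    rw [map_sub] at h1
    refine Ideal.mem_jacobson_bot.2 fun y => IsNilpotent.isUnit_add_one ?_
    exact (Commute.all _ y).isNilpotent_mul_right h1
  have := DFunLike.congr_fun h a
  rw [AlgHom.comp_apply, RingHom.mem_ker.1 ha, map_zero] at this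
  exact Ideal.Quotient.eq_zero_iff_mem.1 this

/-- A Hopf algebra with idempotent augmentation ideal is unramified. -/
theorem formallyUnramified_of_aug {R A : Type*} [CommRing R] [CommRing A] [HopfAlgebra R A]
    (h : RingHom.ker (Bialgebra.counitAlgHom R A) ^ 2 = RingHom.ker (Bialgebra.counitAlgHom R A)) :
    Algebra.FormallyUnramified R A := by
  let L := extendD R A A
  let μ : A ⊗[R] A →ₐ[A] A :=
    Algebra.TensorProduct.lift (Algebra.ofId A A) (IsScalarTower.toAlgHom R A A) (fun _ _ => .all _ _)
  let Λ : A →ₐ[R] A ⊗[R] A :=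
    ((HopfGalois.shearInv R A).restrictScalars R).comp Algebra.TensorProduct.includeRight
  have hμΛ : ∀ b, μ (Λ b) = algebraMap R A (Coalgebra.counit (R := R) b) := by
    intro b
    show μ (HopfGalois.shearInv R A ((1 : A) ⊗ₜ b)) = _
    rw [HopfGalois.shearInv, Algebra.TensorProduct.lift_tmul, map_one, one_mul, AlgHom.convMul_apply,
      ← HopfAlgebra.mul_antipode_rTensor_comul_apply (R := R) b]
    induction Coalgebra.comul (R := R) b using TensorProduct.induction_on with
    | zero => simp
    | add p q hp hq => simp only [map_add, hp, hq]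
    | tmul p q =>
      rw [Algebra.TensorProduct.lift_tmul, LinearMap.rTensor_tmul, LinearMap.mul'_apply]
      show μ ((HopfAlgebra.antipode R p ⊗ₜ[R] (1 : A)) * ((1 : A) ⊗ₜ[R] q)) = _
      simp [μ, Algebra.ofId_apply]
  have hδ0 : ∀ b ∈ RingHom.ker (Bialgebra.counitAlgHom R A), L (Λ b) = 0 := by
    intro b hb
    rw [← h, pow_two] at hb
    induction hb using Submodule.mul_induction_on' with
    | mem_mul_mem x hx y hy =>
      rw [map_mul, extendD_mul, show Algebra.TensorProduct.lift (Algebra.ofId A A) (IsScalarTower.toAlgHom R A A)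
        (fun _ _ => .all _ _) = μ from rfl, hμΛ, hμΛ, show Coalgebra.counit (R := R) x = 0 from hx,
        show Coalgebra.counit (R := R) y = 0 from hy, map_zero, zero_smul, zero_smul, add_zero]
    | add x _ y _ hx hy => rw [map_add, map_add, hx, hy, add_zero]
  have hδ : ∀ b, L (Λ b) = 0 := by
    intro b
    have h1 := hδ0 (b - algebraMap R A (Bialgebra.counitAlgHom R A b)) (by simp)
    have h2 : L (Λ (algebraMap R A (Bialgebra.counitAlgHom R A b))) = 0 := by
      rw [AlgHom.commutes, Algebra.algebraMap_eq_smul_one, LinearMap.map_smul_of_tower, extendD_one, smul_zero]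
    rwa [map_sub, map_sub, h2, sub_zero] at h1
  refine ⟨subsingleton_of_forall_eq 0 fun w => ?_⟩
  have hd : ∀ b : A, (1 : A) ⊗ₜ[A] KaehlerDifferential.D R A b = 0 := by
    intro b
    have h1 := HopfGalois.shearInv_shear (R := R) ((1 : A) ⊗ₜ[R] b)
    rw [HopfGalois.shear, Algebra.TensorProduct.lift_tmul, map_one, one_mul] at h1
    have h2 := congrArg L h1
    rw [extendD_tmul, one_smul] at h2
    rw [← h2]
    have key : ∀ t : A ⊗[R] A, L (HopfGalois.shearInv R A t) = 0 := by
      intro t
      induction t using TensorProduct.induction_on with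
      | zero => simp
      | add p q hp hq => simp only [map_add, hp, hq, add_zero]
      | tmul p q =>
        rw [show p ⊗ₜ[R] q = p • ((1 : A) ⊗ₜ[R] q) by simp [TensorProduct.smul_tmul'], map_smul, map_smul]
        exact (congrArg (p • ·) (hδ q)).trans (smul_zero p)
    exact key _
  have : ∀ w : Ω[A⁄R], (1 : A) ⊗ₜ[A] w = 0 := by
    intro w
    have : w ∈ Submodule.span A (Set.range (KaehlerDifferential.D R A)) := by
      rw [KaehlerDifferential.span_range_derivation]; trivial
    induction this using Submodule.span_induction with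
    | mem x hx => obtain ⟨b, rfl⟩ := hx; exact hd b
    | zero => exact TensorProduct.tmul_zero _ _
    | add x y _ _ hx hy => rw [TensorProduct.tmul_add, hx, hy, add_zero]
    | smul c x _ hx => rw [TensorProduct.tmul_smul, hx]; exact smul_zero c
  have := congrArg (TensorProduct.lid A Ω[A⁄R]) (this w)
  simpa using this

end Groth.HopfConn
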