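import Groth.Agent.GrpschAbsch.GrpDim
import Groth.Agent.GrpschAbsch.SmoothPoint
import Groth.Agent.GrpschAbsch.SmoothSpread
import Mathlib.AlgebraicGeometry.Group.Affine
import Mathlib.RingTheory.RingHom.Smooth
import Mathlib.RingTheory.RegularLocalRing.Defs
import Mathlib.RingTheory.HopfAlgebra.Basic

/-!
Dimension of a Hopf algebra of finite type against its cotangent space at the neutral element,
and transport of Hopf algebra structures along algebra equivalences.
-/

set_option autoImplicit false
set_option linter.style.haveILetI false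
universe u v w

open AlgebraicGeometry CategoryTheory TensorProduct

namespace Groth.HopfDim

section Cotangent

variable {k : Type u} {A : Type v} [Field k] [CommRing A] [Algebra k A]

/-- The cotangent space at a rational point, in the local ring. -/
theorem finrank_cotangentSpace (χ : A →ₐ[k] k) [(RingHom.ker χ).IsPrime] :
    Module.finrank (IsLocalRing.ResidueField (Localization.AtPrime (RingHom.ker χ)))
      (IsLocalRing.CotangentSpace (Localization.AtPrime (RingHom.ker χ))) =
    Module.finrank k (RingHom.ker χ).Cotangent := by
  set m := RingHom.ker χ with hm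
  set B := Localization.AtPrime m
  set M := IsLocalRing.maximalIdeal B with hM
  have hle : m ≤ M.comap (Algebra.algHom k A B) := fun a ha => by
    show algebraMap A B a ∈ M
    exact (IsLocalization.AtPrime.to_map_mem_maximal_iff B m a).2 ha
  let f : m.Cotangent →ₗ[k] M.Cotangent := Ideal.mapCotangent m M (Algebra.algHom k A B) hle
  have hf : ∀ x : m, f (m.toCotangent x) = M.toCotangent ⟨algebraMap A B x, hle x.2⟩ := fun x => rfl
  have hsm : ∀ s : m.primeCompl, χ s ≠ 0 := fun s h0 => s.2 (RingHom.mem_ker.2 h0)
  have hmM : m.map (algebraMap A B) = M := Localization.AtPrime.map_eq_maximalIdeal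
  have hinj : Function.Injective f := by
    rw [injective_iff_map_eq_zero]
    intro x hx
    obtain ⟨x, rfl⟩ := m.toCotangent_surjective x
    rw [hf, Ideal.toCotangent_eq_zero] at hx
    change algebraMap A B x.1 ∈ M ^ 2 at hx
    rw [← hmM, ← Ideal.map_pow,
      IsLocalization.algebraMap_mem_map_algebraMap_iff m.primeCompl] at hx
    obtain ⟨s, hs, hsx⟩ := hx
    rw [Ideal.toCotangent_eq_zero]
    have h1 : ((s : A) - algebraMap k A (χ s)) * x.1 ∈ m ^ 2 := by
      rw [pow_two]
      refine Ideal.mul_mem_mul (RingHom.mem_ker.2 ?_) x.2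
      rw [map_sub, AlgHom.commutes, Algebra.algebraMap_self_apply, sub_self]
    have h2 : algebraMap k A (χ s) * x.1 ∈ m ^ 2 := by
      have := Ideal.sub_mem _ hsx h1
      rwa [← sub_mul, sub_sub_cancel] at this
    have h3 := Ideal.mul_mem_left _ (algebraMap k A (χ s)⁻¹) h2
    rwa [← mul_assoc, ← map_mul, inv_mul_cancel₀ (hsm ⟨s, hs⟩), map_one, one_mul] at h3
  have hsurj : Function.Surjective f := fun y => by
    obtain ⟨⟨y, hy⟩, rfl⟩ := M.toCotangent_surjective y
    obtain ⟨⟨a, s⟩, has⟩ := IsLocalization.surj m.primeCompl y
    have ha : a ∈ m := by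
      rw [← IsLocalization.AtPrime.to_map_mem_maximal_iff B m a, ← has]
      exact Ideal.mul_mem_right _ _ hy
    refine ⟨m.toCotangent ⟨algebraMap k A (χ s)⁻¹ * a, Ideal.mul_mem_left _ _ ha⟩, ?_⟩
    rw [hf, Ideal.toCotangent_eq]
    show algebraMap A B (algebraMap k A (χ s)⁻¹ * a) - y ∈ M ^ 2
    rw [map_mul, ← has]
    have h1 : algebraMap A B (algebraMap k A (χ s)⁻¹) * (y * algebraMap A B s) - y =
        y * algebraMap A B (algebraMap k A (χ s)⁻¹ * ((s : A) - algebraMap k A (χ s))) := by
      rw [map_mul (algebraMap A B) _ ((s : A) - _), map_sub]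
      have h2 : algebraMap A B (algebraMap k A (χ s)⁻¹) * algebraMap A B (algebraMap k A (χ s)) = 1 := by
        rw [← map_mul, ← map_mul, inv_mul_cancel₀ (hsm s), map_one, map_one]
      linear_combination y * h2
    rw [h1, pow_two]
    refine Ideal.mul_mem_mul hy (hle (Ideal.mul_mem_left _ _ (RingHom.mem_ker.2 ?_)))
    rw [map_sub, AlgHom.commutes, Algebra.algebraMap_self_apply, sub_self]
  have hκ : Function.Bijective (algebraMap k (IsLocalRing.ResidueField B)) := by
    refine ⟨RingHom.injective _, fun z => ?_⟩
    obtain ⟨y, rfl⟩ := IsLocalRing.residue_surjective z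
    obtain ⟨⟨a, s⟩, has⟩ := IsLocalization.surj m.primeCompl y
    refine ⟨χ a * (χ s)⁻¹, ?_⟩
    show IsLocalRing.residue B (algebraMap k B (χ a * (χ s)⁻¹)) = IsLocalRing.residue B y
    rw [← sub_eq_zero, ← map_sub, IsLocalRing.residue_eq_zero_iff]
    have h1 : (algebraMap k B (χ a * (χ s)⁻¹) - y) * algebraMap A B s =
        algebraMap A B (algebraMap k A (χ a * (χ s)⁻¹) * (s : A) - a) := by
      rw [sub_mul, has, map_sub, map_mul (algebraMap A B), ← IsScalarTower.algebraMap_apply]
    refine ((IsLocalRing.maximalIdeal.isMaximal B).isPrime.mem_or_mem (h1 ▸ hle (RingHom.mem_ker.2 ?_))).resolve_right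
      fun h => s.2 ((IsLocalization.AtPrime.to_map_mem_maximal_iff B m (s : A)).1 h)
    rw [map_sub, map_mul χ, AlgHom.commutes, Algebra.algebraMap_self_apply, mul_assoc,
      inv_mul_cancel₀ (hsm s), mul_one, sub_self]
  rw [(LinearEquiv.ofBijective f ⟨hinj, hsurj⟩).finrank_eq]
  haveI : IsScalarTower k (IsLocalRing.ResidueField B) M.Cotangent := ⟨fun a b c => by
    rw [Algebra.smul_def, mul_smul, IsScalarTower.algebraMap_apply k B (IsLocalRing.ResidueField B),
      algebraMap_smul, algebraMap_smul]⟩
  have h := Module.finrank_mul_finrank k (IsLocalRing.ResidueField B) M.Cotangent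
  rw [(LinearEquiv.ofBijective (Algebra.linearMap k (IsLocalRing.ResidueField B)) hκ).finrank_eq.symm,
    Module.finrank_self, one_mul] at h
  exact h

end Cotangent

section Main

variable (k A : Type u) [Field k] [CommRing A] [HopfAlgebra k A] [Algebra.FiniteType k A]

/-- `dim A ≤ dim_k m/m²` at the neutral element, with equality exactly in the smooth case. -/
theorem main :
    ringKrullDim A ≤ (Module.finrank k (RingHom.ker (Bialgebra.counitAlgHom k A)).Cotangent : WithBot ℕ∞) ∧
      (ringKrullDim A = (Module.finrank k (RingHom.ker (Bialgebra.counitAlgHom k A)).Cotangent : WithBot ℕ∞) ↔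
        Algebra.FormallySmooth k A) := by
  haveI : IsNoetherianRing A := Algebra.FiniteType.isNoetherianRing k A
  haveI : Algebra.FinitePresentation k A := Algebra.FinitePresentation.of_finiteType.mp ‹_›
  set χ := Bialgebra.counitAlgHom k A with hχ
  set m := RingHom.ker χ with hm
  have hsurj : Function.Surjective χ := fun c => ⟨algebraMap k A c, χ.commutes c⟩
  haveI hmax : m.IsMaximal := RingHom.ker_isMaximal_of_surjective _ hsurj
  haveI : Algebra.FormallySmooth k m.ResidueField := by
    refine Algebra.FormallySmooth.of_equiv (AlgEquiv.ofBijective (Algebra.ofId k _)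
      ⟨(Algebra.ofId k m.ResidueField).injective, fun z => ?_⟩)
    obtain ⟨a, rfl⟩ := m.algebraMap_residueField_surjective z
    refine ⟨χ a, ?_⟩
    show algebraMap k _ (χ a) = _
    rw [IsScalarTower.algebraMap_apply k A, ← sub_eq_zero, ← map_sub, Ideal.algebraMap_residueField_eq_zero,
      hm, RingHom.mem_ker, map_sub, sub_eq_zero]
    exact χ.commutes _
  let G := (Spec (CommRingCat.of A)).asOver (Spec (CommRingCat.of k))
  haveI : LocallyOfFiniteType G.hom := AlgebraicGeometry.locallyOfFiniteType_specOverSpec
  let x : PrimeSpectrum A := ⟨m, inferInstance⟩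
  have hclosed : IsClosed ({x} : Set (PrimeSpectrum A)) := (PrimeSpectrum.isClosed_singleton_iff_isMaximal x).2 hmax
  have hdim : ringKrullDim (Localization.AtPrime m) = ringKrullDim A := by
    have h := GrpschAbsch.ringKrullDim_stalk_closedPoint G (g := x) hclosed
    change ringKrullDim ((Spec (CommRingCat.of A)).presheaf.stalk x) =
      topologicalKrullDim (PrimeSpectrum A) at h
    rw [ringKrullDim_eq_of_ringEquiv
      (Spec.stalkIso (CommRingCat.of A) x).commRingCatIsoToRingEquiv] at h
    rw [h]
    exact PrimeSpectrum.topologicalKrullDim_eq_ringKrullDim A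
  rw [← hdim, ← finrank_cotangentSpace χ]
  refine ⟨?_, ?_⟩
  · rw [← Nat.cast_id (Module.finrank _ _)]
    refine (ringKrullDim_le_spanFinrank_maximalIdeal _).trans (le_of_eq ?_)
    rw [IsLocalRing.spanFinrank_maximalIdeal_eq_finrank_cotangentSpace]
    rfl
  rw [eq_comm, ← IsRegularLocalRing.iff_finrank_cotangentSpace]
  constructor
  · intro h
    haveI : Algebra.IsSmoothAt k m := Calg4.isSmoothAt_of_isRegularLocalRing m
    haveI : LocallyOfFinitePresentation (Spec.map (CommRingCat.ofHom (algebraMap k A))) :=
      (HasRingHomProperty.Spec_iff (P := @LocallyOfFinitePresentation)).mpr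
        (RingHom.finitePresentation_algebraMap.mpr inferInstance)
    haveI : LocallyOfFinitePresentation G.hom := ‹_›
    have hx : x ∈ G.hom.smoothLocus := by
      refine (GrpschAbsch.mem_smoothLocus_Spec_iff (CommRingCat.ofHom (algebraMap k A)) x).2 ?_
      show @Algebra.IsSmoothAt k A _ _ (algebraMap k A).toAlgebra m _
      rwa [show (algebraMap k A).toAlgebra = (inferInstance : Algebra k A) from Algebra.algebra_ext _ _ fun _ => rfl]
    have hs := GrpschAbsch.smooth_of_mem_smoothLocus G hx
    have : (algebraMap k A).Smooth := (HasRingHomProperty.Spec_iff (P := @Smooth)).1 hs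
    rw [RingHom.smooth_algebraMap] at this
    exact this.formallySmooth
  · intro h
    haveI : Algebra.IsSmoothAt k m := by
      haveI := h
      exact Algebra.FormallySmooth.comp k A (Localization.AtPrime m)
    exact Calg4.isRegularLocalRing_of_isSmoothAt (k := k) m

end Main

section Transport

variable {k : Type u} {A₀ : Type v} {A : Type w} [CommRing k] [CommRing A₀] [Algebra k A₀] [CommRing A]
  [HopfAlgebra k A] (e : A₀ ≃ₐ[k] A)

/-- Transported comultiplication. -/
noncomputable def comul₀ : A₀ →ₐ[k] A₀ ⊗[k] A₀ :=
  (Algebra.TensorProduct.map e.symm.toAlgHom e.symm.toAlgHom).comp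
    ((Bialgebra.comulAlgHom k A).comp e.toAlgHom)

/-- Transported bialgebra. -/
@[reducible]
noncomputable def bialgebra : Bialgebra k A₀ :=
  Bialgebra.ofAlgHom (comul₀ e) ((Bialgebra.counitAlgHom k A).comp e.toAlgHom)
    (by
      apply AlgHom.ext; intro a
      have h := Coalgebra.coassoc_apply (R := k) (e a)
      have hl : ∀ z : A ⊗[k] A, Algebra.TensorProduct.map (comul₀ e) (AlgHom.id k A₀)
          (Algebra.TensorProduct.map e.symm.toAlgHom e.symm.toAlgHom z) =
          Algebra.TensorProduct.map (Algebra.TensorProduct.map e.symm.toAlgHom e.symm.toAlgHom) e.symm.toAlgHom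
            ((Coalgebra.comul (R := k) (A := A)).rTensor A z) := fun z => by
        induction z using TensorProduct.induction_on with
        | zero => simp
        | tmul x y => simp [comul₀]
        | add x y hx hy => simp [map_add, hx, hy]
      have hr : ∀ z : A ⊗[k] A, Algebra.TensorProduct.map (AlgHom.id k A₀) (comul₀ e)
          (Algebra.TensorProduct.map e.symm.toAlgHom e.symm.toAlgHom z) =
          Algebra.TensorProduct.map e.symm.toAlgHom (Algebra.TensorProduct.map e.symm.toAlgHom e.symm.toAlgHom)
            ((Coalgebra.comul (R := k) (A := A)).lTensor A z) := fun z => by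
        induction z using TensorProduct.induction_on with
        | zero => simp
        | tmul x y => simp [comul₀]
        | add x y hx hy => simp [map_add, hx, hy]
      have hass : ∀ z : (A ⊗[k] A) ⊗[k] A, Algebra.TensorProduct.assoc k k k A₀ A₀ A₀
          (Algebra.TensorProduct.map (Algebra.TensorProduct.map e.symm.toAlgHom e.symm.toAlgHom) e.symm.toAlgHom z) =
          Algebra.TensorProduct.map e.symm.toAlgHom (Algebra.TensorProduct.map e.symm.toAlgHom e.symm.toAlgHom)
            (TensorProduct.assoc k A A A z) := fun z => by
        induction z using TensorProduct.induction_on with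
        | zero => simp
        | tmul x y =>
          induction x using TensorProduct.induction_on with
          | zero => simp
          | tmul x x' => simp
          | add x x' hx hx' => rw [TensorProduct.add_tmul, map_add, map_add, hx, hx', map_add, map_add]
        | add x y hx hy => simp [map_add, hx, hy]
      show Algebra.TensorProduct.assoc k k k A₀ A₀ A₀ (Algebra.TensorProduct.map (comul₀ e) (AlgHom.id k A₀)
          (Algebra.TensorProduct.map e.symm.toAlgHom e.symm.toAlgHom (Coalgebra.comul (e a)))) =
        Algebra.TensorProduct.map (AlgHom.id k A₀) (comul₀ e)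
          (Algebra.TensorProduct.map e.symm.toAlgHom e.symm.toAlgHom (Coalgebra.comul (e a)))
      rw [hl, hr, hass, h])
    (by
      apply AlgHom.ext; intro a
      have hl : ∀ z : A ⊗[k] A, Algebra.TensorProduct.map ((Bialgebra.counitAlgHom k A).comp e.toAlgHom) (AlgHom.id k A₀)
          (Algebra.TensorProduct.map e.symm.toAlgHom e.symm.toAlgHom z) =
          Algebra.TensorProduct.map (AlgHom.id k k) e.symm.toAlgHom
            ((Coalgebra.counit (R := k) (A := A)).rTensor A z) := fun z => by
        induction z using TensorProduct.induction_on with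
        | zero => simp
        | tmul x y => simp
        | add x y hx hy => simp [map_add, hx, hy]
      show Algebra.TensorProduct.map ((Bialgebra.counitAlgHom k A).comp e.toAlgHom) (AlgHom.id k A₀)
          (Algebra.TensorProduct.map e.symm.toAlgHom e.symm.toAlgHom (Coalgebra.comul (e a))) = _
      rw [hl, Coalgebra.rTensor_counit_comul]
      simp)
    (by
      apply AlgHom.ext; intro a
      have hr : ∀ z : A ⊗[k] A, Algebra.TensorProduct.map (AlgHom.id k A₀) ((Bialgebra.counitAlgHom k A).comp e.toAlgHom)
          (Algebra.TensorProduct.map e.symm.toAlgHom e.symm.toAlgHom z) =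
          Algebra.TensorProduct.map e.symm.toAlgHom (AlgHom.id k k)
            ((Coalgebra.counit (R := k) (A := A)).lTensor A z) := fun z => by
        induction z using TensorProduct.induction_on with
        | zero => simp
        | tmul x y => simp
        | add x y hx hy => simp [map_add, hx, hy]
      show Algebra.TensorProduct.map (AlgHom.id k A₀) ((Bialgebra.counitAlgHom k A).comp e.toAlgHom)
          (Algebra.TensorProduct.map e.symm.toAlgHom e.symm.toAlgHom (Coalgebra.comul (e a))) = _
      rw [hr, Coalgebra.lTensor_counit_comul]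
      simp)

/-- Transported Hopf algebra. -/
@[reducible]
noncomputable def hopfAlgebra : HopfAlgebra k A₀ :=
  letI := bialgebra e
  HopfAlgebra.ofAlgHom (e.symm.toAlgHom.comp ((HopfAlgebra.antipodeAlgHom k A).comp e.toAlgHom))
    (by
      apply AlgHom.ext; intro a
      have hl : ∀ z : A ⊗[k] A, Algebra.TensorProduct.lift
          (e.symm.toAlgHom.comp ((HopfAlgebra.antipodeAlgHom k A).comp e.toAlgHom)) (AlgHom.id k A₀)
          (fun _ _ => Commute.all _ _) (Algebra.TensorProduct.map e.symm.toAlgHom e.symm.toAlgHom z) =
          e.symm (LinearMap.mul' k A ((HopfAlgebra.antipode k).rTensor A z)) := fun z => by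
        induction z using TensorProduct.induction_on with
        | zero => simp
        | tmul x y => simp
        | add x y hx hy => simp [map_add, hx, hy]
      show Algebra.TensorProduct.lift
          (e.symm.toAlgHom.comp ((HopfAlgebra.antipodeAlgHom k A).comp e.toAlgHom)) (AlgHom.id k A₀)
          (fun _ _ => Commute.all _ _)
          (Algebra.TensorProduct.map e.symm.toAlgHom e.symm.toAlgHom (Coalgebra.comul (e a))) = _
      rw [hl, HopfAlgebra.mul_antipode_rTensor_comul_apply]
      exact e.symm.commutes _)
    (by
      apply AlgHom.ext; intro a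
      have hr : ∀ z : A ⊗[k] A, Algebra.TensorProduct.lift (AlgHom.id k A₀)
          (e.symm.toAlgHom.comp ((HopfAlgebra.antipodeAlgHom k A).comp e.toAlgHom))
          (fun _ _ => Commute.all _ _) (Algebra.TensorProduct.map e.symm.toAlgHom e.symm.toAlgHom z) =
          e.symm (LinearMap.mul' k A ((HopfAlgebra.antipode k).lTensor A z)) := fun z => by
        induction z using TensorProduct.induction_on with
        | zero => simp
        | tmul x y => simp
        | add x y hx hy => simp [map_add, hx, hy]
      show Algebra.TensorProduct.lift (AlgHom.id k A₀)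
          (e.symm.toAlgHom.comp ((HopfAlgebra.antipodeAlgHom k A).comp e.toAlgHom))
          (fun _ _ => Commute.all _ _)
          (Algebra.TensorProduct.map e.symm.toAlgHom e.symm.toAlgHom (Coalgebra.comul (e a))) = _
      rw [hr, HopfAlgebra.mul_antipode_lTensor_comul_apply]
      exact e.symm.commutes _)

end Transport

end Groth.HopfDim
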