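import Groth.Agent.PropsBasic.HopfConnectedSeq
import Groth.Prelude.Def_CartDual2

/-!
Exactness of Cartier duality on short exact sequences of finite projective Hopf algebras.
-/

set_option autoImplicit false
set_option linter.style.haveILetI false

universe u

open TensorProduct

namespace Groth.HopfDualSeq

/-- A finite projective faithfully flat algebra has a linear retraction onto the base. -/
theorem exists_base_retraction (B A : Type*) [CommRing B] [CommRing A] [Algebra B A] [Module.Finite B A]
    [Module.Projective B A] [Module.FaithfullyFlat B A] : ∃ φ : A →ₗ[B] B, φ 1 = 1 := by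
  obtain ⟨n, p, s, -, -, hps⟩ := Module.Finite.exists_comp_eq_id_of_projective B A
  classical
  let x : Fin n → A := fun i => p (Pi.single i 1)
  let φ : Fin n → A →ₗ[B] B := fun i => LinearMap.proj i ∘ₗ s
  have hx : ∀ a, ∑ i, φ i a • x i = a := by
    intro a
    calc ∑ i, φ i a • x i = p (∑ i, s a i • Pi.single i 1) := by simp [x, φ, map_sum]
      _ = p (s a) := by
          congr 1
          ext i
          simp [Finset.sum_apply, Pi.single_apply]
      _ = a := LinearMap.congr_fun hps a
  let T : (Fin n → A) →ₗ[B] B := ∑ i, φ i ∘ₗ LinearMap.proj i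
  have hT : LinearMap.range T = ⊤ := by
    by_contra hne
    obtain ⟨m, hm, hle⟩ := Ideal.exists_le_maximal (LinearMap.range T : Ideal B) hne
    refine Module.FaithfullyFlat.submodule_ne_top (M := A) hm ?_
    refine eq_top_iff.2 fun a _ => ?_
    rw [← hx a]
    refine Submodule.sum_mem _ fun i _ => Submodule.smul_mem_smul (hle ⟨Pi.single i a, ?_⟩) trivial
    simp [T, LinearMap.sum_apply, Pi.single_apply, apply_ite]
  obtain ⟨z, hz⟩ := LinearMap.range_eq_top.1 hT 1
  refine ⟨∑ i, φ i ∘ₗ LinearMap.mulLeft B (z i), ?_⟩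
  simpa [T, LinearMap.sum_apply] using hz

/-- An injection onto the invariants is faithfully flat. -/
theorem faithfullyFlat_of_range {R : Type*} {A C : Type u} {H : Type*} [CommRing R] [CommRing A] [HopfAlgebra R A] [Module.Finite R A]
    [Module.Projective R A] [CommRing H] [HopfAlgebra R H] [Module.Finite R H] [Module.Projective R H]
    [CommRing C] [Algebra R C] (π : A →ₐc[R] H) (hπ : Function.Surjective π) (φ : C →ₐ[R] A)
    (hmem : ∀ c, φ c ∈ HopfGalois.inv π) (hbij : Function.Bijective (φ.codRestrict (HopfGalois.inv π) hmem)) :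
    φ.toRingHom.FaithfullyFlat :=
  RingHom.FaithfullyFlat.stableUnderComposition (φ.codRestrict (HopfGalois.inv π) hmem).toRingHom (algebraMap (HopfGalois.inv π) A)
    (RingHom.FaithfullyFlat.of_bijective hbij)
    (RingHom.faithfullyFlat_algebraMap_iff.2 (HopfConn.faithfullyFlat π hπ))

variable (R : Type u) [CommRing R]
  {A' A A'' : Type u} [CommRing A'] [HopfAlgebra R A'] [Module.Finite R A'] [Module.Projective R A']
  [CommRing A] [HopfAlgebra R A] [Module.Finite R A] [Module.Projective R A]
  [CommRing A''] [HopfAlgebra R A''] [Module.Finite R A''] [Module.Projective R A'']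

/-- The transpose of a faithfully flat bialgebra map is surjective. -/
theorem transpose_surjective [IsNoetherianRing R] (f : A'' →ₐc[R] A)
    (hf : (f : A'' →ₐ[R] A).toRingHom.FaithfullyFlat) :
    Function.Surjective (CartDual.transpose R f) := by
  letI : Algebra A'' A := (f : A'' →ₐ[R] A).toRingHom.toAlgebra
  haveI : IsScalarTower R A'' A := IsScalarTower.of_algebraMap_eq fun r => ((f : A'' →ₐ[R] A).commutes r).symm
  haveI : Module.FaithfullyFlat A'' A := hf
  haveI : IsNoetherianRing A'' := IsNoetherianRing.of_finite R A''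
  haveI : Module.Finite A'' A := Module.Finite.of_restrictScalars_finite R A'' A
  haveI := Module.finitePresentation_of_finite A'' A
  haveI : Module.Projective A'' A := Module.Flat.projective_of_finitePresentation
  obtain ⟨φ, hφ⟩ := exists_base_retraction A'' A
  intro y
  refine ⟨WithConv.toConv (y.ofConv ∘ₗ φ.restrictScalars R),
    WithConv.ofConv_injective (LinearMap.ext fun u => ?_)⟩
  show y.ofConv (φ (f u)) = y.ofConv u
  congr 1
  have : f u = u • (1 : A) := by
    rw [Algebra.smul_def, mul_one]
    rfl
  rw [this, map_smul, hφ, smul_eq_mul, mul_one]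

variable [Coalgebra.IsCocomm R A] [Coalgebra.IsCocomm R A'] [Coalgebra.IsCocomm R A'']

/-- The invariants of the transposed map are the forms that vanish on the kernel. -/
theorem mem_inv_transpose_iff (f : A'' →ₐc[R] A) (x : CartDual.D R A) :
    x ∈ HopfGalois.inv (CartDual.transpose R f) ↔
      ∀ a u, x (a * f u) = x a * Coalgebra.counit (R := R) u := by
  let ev : CartDual.D R A ⊗[R] CartDual.D R A'' ≃ₗ[R] Module.Dual R (A ⊗[R] A'') :=
    TensorProduct.congr (CartDual.toDual R A) (CartDual.toDual R A'') ≪≫ₗ CartDual.dualTensorEquiv R A A''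
  have hev : ∀ (y : CartDual.D R A) (z : CartDual.D R A'') (a : A) (u : A''),
      ev (y ⊗ₜ z) (a ⊗ₜ u) = y a * z u := fun y z a u => by
    simp [ev, CartDual.coe_apply]
  have h1 : ∀ (t : CartDual.D R A ⊗[R] CartDual.D R A) (a : A) (u : A''),
      ev (Algebra.TensorProduct.map (AlgHom.id R (CartDual.D R A))
        (CartDual.transpose R f : CartDual.D R A →ₐ[R] CartDual.D R A'') t) (a ⊗ₜ u) =
      CartDual.ev₂ R A t (a ⊗ₜ f u) := by
    intro t a u
    induction t using TensorProduct.induction_on with
    | zero => simp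
    | add p q hp hq => simp only [map_add, LinearMap.add_apply, hp, hq]
    | tmul p q =>
      rw [Algebra.TensorProduct.map_tmul, hev, CartDual.ev₂_tmul]
      rfl
  rw [HopfGalois.mem_inv]
  have h2 : ∀ a u, ev (HopfGalois.rho (CartDual.transpose R f) x) (a ⊗ₜ u) = x (a * f u) := by
    intro a u
    rw [HopfGalois.rho, AlgHom.comp_apply, Bialgebra.comulAlgHom_apply, h1, CartDual.ev₂_coalgebra_comul_tmul]
  have h3 : ∀ a u, ev (x ⊗ₜ (1 : CartDual.D R A'')) (a ⊗ₜ u) = x a * Coalgebra.counit (R := R) u := by
    intro a u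
    rw [hev]
    simp [LinearMap.convOne_def]
  constructor
  · intro h a u
    rw [← h2, h, h3]
  · intro h
    refine ev.injective (TensorProduct.ext' fun a u => ?_)
    rw [h2, h3, h]

/-- The invariants of the transpose of `f` are the forms coming from `A'`. -/
theorem inv_transpose (f : A'' →ₐc[R] A) (g : A →ₐc[R] A') (hg : Function.Surjective g)
    (hker : RingHom.ker (g : A →ₐ[R] A') = Ideal.map (f : A'' →ₐ[R] A) (RingHom.ker (Bialgebra.counitAlgHom R A'')))
    (x : CartDual.D R A) :
    x ∈ HopfGalois.inv (CartDual.transpose R f) ↔ ∃ y, CartDual.transpose R g y = x := by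
  rw [mem_inv_transpose_iff]
  constructor
  · intro h
    obtain ⟨s, hs⟩ := Module.projective_lifting_property (g : A →ₐ[R] A').toLinearMap LinearMap.id hg
    refine ⟨WithConv.toConv (x.ofConv ∘ₗ s), WithConv.ofConv_injective (LinearMap.ext fun a => ?_)⟩
    show x.ofConv (s (g a)) = x.ofConv a
    have hmem : s (g a) - a ∈ RingHom.ker (g : A →ₐ[R] A') := by
      rw [RingHom.mem_ker, map_sub, sub_eq_zero]
      exact LinearMap.congr_fun hs (g a)
    rw [hker] at hmem
    have key : ∀ b ∈ Ideal.map (f : A'' →ₐ[R] A) (RingHom.ker (Bialgebra.counitAlgHom R A'')),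
        ∀ c, x.ofConv (c * b) = 0 := by
      intro b hb
      refine Submodule.span_induction (p := fun b _ => ∀ c, x.ofConv (c * b) = 0) ?_ ?_ ?_ ?_ hb
      · rintro _ ⟨u, hu, rfl⟩ c
        have := h c u
        rw [show Coalgebra.counit (R := R) u = 0 from hu, mul_zero] at this
        exact this
      · intro c; simp
      · intro p q _ _ hp hq c; rw [mul_add, map_add, hp, hq, add_zero]
      · intro r p _ hp c; rw [smul_eq_mul, ← mul_assoc]; exact hp _
    have := key _ hmem 1
    rwa [one_mul, map_sub, sub_eq_zero] at this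
  · rintro ⟨y, rfl⟩ a u
    show y (g (a * f u)) = y (g a) * _
    have h1 : g (f (u - algebraMap R A'' (Coalgebra.counit (R := R) u))) = 0 := by
      have : f (u - algebraMap R A'' (Coalgebra.counit (R := R) u)) ∈ RingHom.ker (g : A →ₐ[R] A') := by
        rw [hker]
        exact Ideal.mem_map_of_mem _ (by simp)
      exact this
    have h2 : g (f u) = algebraMap R A' (Coalgebra.counit (R := R) u) := by
      rw [map_sub, map_sub, sub_eq_zero] at h1
      rw [h1]
      exact ((g : A →ₐ[R] A').comp (f : A'' →ₐ[R] A)).commutes _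
    show y.ofConv (g (a * f u)) = y.ofConv (g a) * _
    rw [map_mul, h2, mul_comm (g a), ← Algebra.smul_def, map_smul, smul_eq_mul, mul_comm]

/-- Cartier duality is exact. -/
theorem dual_exact [IsNoetherianRing R] (f : A'' →ₐc[R] A) (hf : (f : A'' →ₐ[R] A).toRingHom.FaithfullyFlat)
    (g : A →ₐc[R] A') (hg : Function.Surjective g)
    (hker : RingHom.ker (g : A →ₐ[R] A') = Ideal.map (f : A'' →ₐ[R] A) (RingHom.ker (Bialgebra.counitAlgHom R A''))) :
    (CartDual.transpose R g : CartDual.D R A' →ₐ[R] CartDual.D R A).toRingHom.FaithfullyFlat ∧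
      Function.Surjective (CartDual.transpose R f) ∧
      RingHom.ker (CartDual.transpose R f : CartDual.D R A →ₐ[R] CartDual.D R A'') =
        Ideal.map (CartDual.transpose R g : CartDual.D R A' →ₐ[R] CartDual.D R A)
          (RingHom.ker (Bialgebra.counitAlgHom R (CartDual.D R A'))) := by
  have hπ := transpose_surjective R f hf
  set π := CartDual.transpose R f
  let g' : CartDual.D R A' →ₐ[R] CartDual.D R A := (CartDual.transpose R g : CartDual.D R A' →ₐ[R] CartDual.D R A)
  have hmem : ∀ y, g' y ∈ HopfGalois.inv π := fun y => (inv_transpose R f g hg hker _).2 ⟨y, rfl⟩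
  have hinj : Function.Injective g' := by
    intro y z hyz
    refine WithConv.ofConv_injective (LinearMap.ext fun b => ?_)
    obtain ⟨a, rfl⟩ := hg b
    exact congrArg (fun w : CartDual.D R A => w a) hyz
  let E := g'.codRestrict (HopfGalois.inv π) hmem
  have hE : Function.Bijective E := by
    refine ⟨fun y z h => hinj (congrArg Subtype.val h), fun x => ?_⟩
    obtain ⟨y, hy⟩ := (inv_transpose R f g hg hker _).1 x.2
    exact ⟨y, Subtype.ext hy⟩
  refine ⟨?_, hπ, le_antisymm ?_ ?_⟩
  · exact faithfullyFlat_of_range π hπ g' hmem hE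
  · refine (HopfConn.aug_le π hπ).trans (Ideal.span_le.2 fun a ⟨ha, h0⟩ => ?_)
    obtain ⟨y, rfl⟩ := (inv_transpose R f g hg hker _).1 ha
    refine Ideal.mem_map_of_mem g' ?_
    rw [RingHom.mem_ker]
    show y.ofConv 1 = 0
    rw [← map_one g]
    exact h0
  · rw [Ideal.map_le_iff_le_comap]
    intro y hy
    refine HopfConn.aug_ge π (Ideal.subset_span ⟨hmem y, ?_⟩)
    show y.ofConv (g 1) = 0
    rw [map_one]
    exact hy

end Groth.HopfDualSeq
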