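import Mathlib

/-!
Finite commutative Hopf algebras over any ring: integrals spanning the counit, and for a surjection
`π : A → H` onto a finite projective one, `A` is finite projective over the invariants `B` and
`A ⊗_B A ≅ A ⊗ H` (Kreimer–Takeuchi for subgroups).
-/

set_option autoImplicit false
set_option linter.style.haveILetI false

universe u v w

open TensorProduct WithConv

namespace Groth.HopfGalois

section Trace

variable {C : Type*} [CommRing C] {M : Type*} [AddCommGroup M] [Module C M] {n : ℕ}
  (b : Fin n → M) (b' : Fin n → M →ₗ[C] C)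

/-- The trace with respect to a dual basis family. -/
def tr (F : M →ₗ[C] M) : C := ∑ j, b' j (F (b j))

theorem tr_comm (hb : ∀ y, ∑ j, b' j y • b j = y) (F G : M →ₗ[C] M) :
    tr b b' (F ∘ₗ G) = tr b b' (G ∘ₗ F) := by
  have key : ∀ (F G : M →ₗ[C] M), tr b b' (F ∘ₗ G) = ∑ i, ∑ j, b' j (G (b i)) * b' i (F (b j)) := by
    intro F G
    refine Finset.sum_congr rfl fun i _ => ?_
    show b' i (F (G (b i))) = _
    conv_lhs => rw [← hb (G (b i))]
    simp [map_sum]
  rw [key, key, Finset.sum_comm]
  simp [mul_comm]

theorem tr_conj (hb : ∀ y, ∑ j, b' j y • b j = y) (F : M →ₗ[C] M) (φ : M ≃ₗ[C] M) :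
    tr b b' (φ.toLinearMap ∘ₗ F ∘ₗ φ.symm.toLinearMap) = tr b b' F := by
  rw [tr_comm b b' hb, LinearMap.comp_assoc]
  congr 1
  ext x
  simp

end Trace

section Integral

variable {R : Type u} [CommRing R] {H : Type w} [CommRing H] [HopfAlgebra R H]

/-- Left integrals of a Hopf algebra, as linear forms. -/
def IsIntegralForm (l : H →ₗ[R] R) : Prop :=
  ∀ h, TensorProduct.rid R H (l.lTensor H (Coalgebra.comul (R := R) h)) = algebraMap R H (l h)

variable (R H) in
/-- The shear `a ⊗ b ↦ a b₁ ⊗ b₂`. -/
noncomputable def shear : H ⊗[R] H →ₐ[H] H ⊗[R] H :=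
  Algebra.TensorProduct.lift (Algebra.ofId H (H ⊗[R] H)) (Bialgebra.comulAlgHom R H) fun _ _ => .all _ _

variable (R H) in
/-- The inverse shear `a ⊗ b ↦ a S b₁ ⊗ b₂`. -/
noncomputable def shearInv : H ⊗[R] H →ₐ[H] H ⊗[R] H :=
  Algebra.TensorProduct.lift (Algebra.ofId H (H ⊗[R] H))
    ((toConv (Algebra.TensorProduct.includeLeft : H →ₐ[R] H ⊗[R] H))⁻¹ *
      toConv (Algebra.TensorProduct.includeRight : H →ₐ[R] H ⊗[R] H)).ofConv fun _ _ => .all _ _

theorem comul_eq_mul : toConv (Bialgebra.comulAlgHom R H) =
    toConv (Algebra.TensorProduct.includeLeft : H →ₐ[R] H ⊗[R] H) *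
      toConv (Algebra.TensorProduct.includeRight : H →ₐ[R] H ⊗[R] H) := by
  apply WithConv.ofConv_injective
  apply AlgHom.ext
  intro x
  change Coalgebra.comul (R := R) x = _
  rw [AlgHom.convMul_apply]
  induction Coalgebra.comul (R := R) x using TensorProduct.induction_on with
  | zero => simp
  | tmul p q => simp
  | add p q hp hq => simp only [map_add, ← hp, ← hq]

theorem shear_includeLeft (a : H) : shear R H (a ⊗ₜ 1) = a ⊗ₜ[R] (1 : H) := by
  simp [shear, Algebra.ofId_apply]

theorem shear_shearInv (z : H ⊗[R] H) : shear R H (shearInv R H z) = z := by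
  set L := toConv (Algebra.TensorProduct.includeLeft : H →ₐ[R] H ⊗[R] H) with hL
  set r := toConv (Algebra.TensorProduct.includeRight : H →ₐ[R] H ⊗[R] H)
  have hφL : toConv (((shear R H).restrictScalars R).comp L.ofConv) = L := by
    apply WithConv.ofConv_injective
    exact AlgHom.ext fun a => shear_includeLeft a
  have hφLi : toConv (((shear R H).restrictScalars R).comp (L⁻¹).ofConv) = L⁻¹ := by
    conv_rhs => rw [← hφL]
    rfl
  have hφr : toConv (((shear R H).restrictScalars R).comp r.ofConv) = L * r := by
    rw [← comul_eq_mul]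
    apply WithConv.ofConv_injective
    refine AlgHom.ext fun a => ?_
    simp [r, shear]
  have key : toConv (((shear R H).restrictScalars R).comp (L⁻¹ * r).ofConv) = r := by
    rw [AlgHom.comp_convMul_distrib]
    show toConv (((shear R H).restrictScalars R).comp (L⁻¹).ofConv) *
      toConv (((shear R H).restrictScalars R).comp r.ofConv) = r
    rw [hφLi, hφr]
    exact inv_mul_cancel_left L r
  induction z using TensorProduct.induction_on with
  | zero => simp
  | add x y hx hy => simp [map_add, hx, hy]
  | tmul a b =>
    have := DFunLike.congr_fun (congrArg WithConv.ofConv key) b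
    change shear R H ((L⁻¹ * r).ofConv b) = (1 : H) ⊗ₜ[R] b at this
    rw [shearInv, Algebra.TensorProduct.lift_tmul, map_mul, this]
    simp [Algebra.ofId_apply, shear]

theorem shearInv_shear (z : H ⊗[R] H) : shearInv R H (shear R H z) = z := by
  set L := toConv (Algebra.TensorProduct.includeLeft : H →ₐ[R] H ⊗[R] H) with hL
  set r := toConv (Algebra.TensorProduct.includeRight : H →ₐ[R] H ⊗[R] H)
  have hψL : toConv (((shearInv R H).restrictScalars R).comp L.ofConv) = L := by
    apply WithConv.ofConv_injective
    refine AlgHom.ext fun a => ?_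
    simp [L, shearInv, Algebra.ofId_apply]
  have hψr : toConv (((shearInv R H).restrictScalars R).comp r.ofConv) = L⁻¹ * r := by
    apply WithConv.ofConv_injective
    refine AlgHom.ext fun a => ?_
    simp [r, L, shearInv]
  have key : toConv (((shearInv R H).restrictScalars R).comp (Bialgebra.comulAlgHom R H)) = r := by
    rw [show Bialgebra.comulAlgHom R H = (L * r).ofConv from congrArg WithConv.ofConv comul_eq_mul,
      AlgHom.comp_convMul_distrib]
    show toConv (((shearInv R H).restrictScalars R).comp L.ofConv) *
      toConv (((shearInv R H).restrictScalars R).comp r.ofConv) = r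
    rw [hψL, hψr]
    exact mul_inv_cancel_left L r
  induction z using TensorProduct.induction_on with
  | zero => simp
  | add x y hx hy => simp [map_add, hx, hy]
  | tmul a b =>
    have := DFunLike.congr_fun (congrArg WithConv.ofConv key) b
    change shearInv R H (Bialgebra.comulAlgHom R H b) = (1 : H) ⊗ₜ[R] b at this
    rw [shear, Algebra.TensorProduct.lift_tmul, map_mul, this]
    simp [Algebra.ofId_apply, shearInv]

/-- `z ↦ Σ z₁ f(z₂)`. -/
noncomputable def coev (f : H →ₗ[R] R) : H →ₗ[R] H :=
  (TensorProduct.rid R H).toLinearMap ∘ₗ f.lTensor H ∘ₗ Coalgebra.comul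

theorem comul_coev (f : H →ₗ[R] R) (b : H) :
    Coalgebra.comul (R := R) (coev f b) = (coev f).lTensor H (Coalgebra.comul (R := R) b) := by
  have h1 : ∀ z : H ⊗[R] H, Coalgebra.comul (R := R) (TensorProduct.rid R H (f.lTensor H z)) =
      TensorProduct.map (LinearMap.id (R := R) (M := H)) ((TensorProduct.rid R H).toLinearMap ∘ₗ f.lTensor H)
        (TensorProduct.assoc R H H H ((Coalgebra.comul (R := R) (A := H)).rTensor H z)) := by
    intro z
    induction z using TensorProduct.induction_on with
    | zero => simp
    | add x y hx hy => simp only [map_add, hx, hy]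
    | tmul x y =>
      simp only [LinearMap.lTensor_tmul, TensorProduct.rid_tmul, map_smul, LinearMap.rTensor_tmul]
      induction Coalgebra.comul (R := R) x using TensorProduct.induction_on with
      | zero => simp
      | add p q hp hq => simp only [smul_add, TensorProduct.add_tmul, map_add, hp, hq]
      | tmul p q => simp [TensorProduct.tmul_smul]
  show Coalgebra.comul (R := R) (TensorProduct.rid R H (f.lTensor H (Coalgebra.comul (R := R) b))) = _
  rw [h1, Coalgebra.coassoc_apply]
  generalize Coalgebra.comul (R := R) b = z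
  induction z using TensorProduct.induction_on with
  | zero => simp
  | add x y hx hy => simp only [map_add, hx, hy]
  | tmul x y => simp [coev]

variable {n : ℕ} (e : Fin n → H) (e' : Fin n → H →ₗ[R] R)

/-- The form `x ↦ tr(z ↦ coev f (x z))`. -/
noncomputable def proj (f : H →ₗ[R] R) : H →ₗ[R] R :=
  ∑ j, e' j ∘ₗ coev f ∘ₗ (LinearMap.mul R H).flip (e j)

theorem proj_apply (f : H →ₗ[R] R) (x : H) : proj e e' f x = ∑ j, e' j (coev f (x * e j)) := by
  simp [proj, mul_comm]

theorem isIntegralForm_proj (he : ∀ y, ∑ j, e' j y • e j = y) (f : H →ₗ[R] R) :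
    IsIntegralForm (proj e e' f) := by
  intro x
  let E : Fin n → H ⊗[R] H := fun j => 1 ⊗ₜ e j
  let E' : Fin n → H ⊗[R] H →ₗ[H] H := fun j =>
    (AlgebraTensorModule.rid R H H).toLinearMap ∘ₗ AlgebraTensorModule.lTensor H H (e' j)
  have hE' : ∀ j a b, E' j (a ⊗ₜ b) = e' j b • a := fun j a b => by simp [E']
  have hE : ∀ y, ∑ j, E' j y • E j = y := by
    intro y
    induction y using TensorProduct.induction_on with
    | zero => simp
    | add x y hx hy => simp only [map_add, add_smul, Finset.sum_add_distrib, hx, hy]
    | tmul a b =>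
      calc ∑ j, E' j (a ⊗ₜ b) • E j = ∑ j, a ⊗ₜ[R] (e' j b • e j) := by
            refine Finset.sum_congr rfl fun j _ => ?_
            rw [hE', TensorProduct.smul_tmul', TensorProduct.tmul_smul, TensorProduct.smul_tmul']
            simp
        _ = a ⊗ₜ b := by rw [← TensorProduct.tmul_sum, he]
  let T : H ⊗[R] H →ₗ[H] H ⊗[R] H := AlgebraTensorModule.lTensor H H (coev f)
  let φ : (H ⊗[R] H) ≃ₗ[H] H ⊗[R] H :=
    (AlgEquiv.ofAlgHom (shear R H) (shearInv R H) (AlgHom.ext shear_shearInv)
      (AlgHom.ext shearInv_shear)).toLinearEquiv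
  have hφT : ∀ z, φ (T z) = T (φ z) := by
    intro z
    induction z using TensorProduct.induction_on with
    | zero => simp
    | add x y hx hy => simp [map_add, hx, hy]
    | tmul a b =>
      show shear R H (a ⊗ₜ coev f b) = (coev f).lTensor H (shear R H (a ⊗ₜ b))
      rw [shear, Algebra.TensorProduct.lift_tmul, Algebra.TensorProduct.lift_tmul,
        Bialgebra.comulAlgHom_apply, Bialgebra.comulAlgHom_apply, comul_coev]
      generalize Coalgebra.comul (R := R) b = t
      induction t using TensorProduct.induction_on with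
      | zero => simp
      | add p q hp hq => simp only [map_add, mul_add, hp, hq]
      | tmul p q => simp [Algebra.ofId_apply]
  let M : H ⊗[R] H →ₗ[H] H ⊗[R] H := T ∘ₗ LinearMap.mulLeft H ((1 : H) ⊗ₜ[R] x)
  have hconj : φ.toLinearMap ∘ₗ M ∘ₗ φ.symm.toLinearMap =
      T ∘ₗ LinearMap.mulLeft H (Coalgebra.comul (R := R) x) := by
    refine LinearMap.ext fun z => ?_
    show φ (T ((1 : H) ⊗ₜ[R] x * φ.symm z)) = T (Coalgebra.comul (R := R) x * z)
    rw [hφT]
    congr 1
    show shear R H ((1 : H) ⊗ₜ[R] x * φ.symm z) = _
    rw [map_mul, show shear R H (φ.symm z) = z from shear_shearInv z]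
    simp [shear, ← Algebra.TensorProduct.one_def]
  have h1 : tr E E' (T ∘ₗ LinearMap.mulLeft H (Coalgebra.comul (R := R) x)) =
      TensorProduct.rid R H ((proj e e' f).lTensor H (Coalgebra.comul (R := R) x)) := by
    show ∑ j, E' j (T (Coalgebra.comul (R := R) x * E j)) = _
    generalize Coalgebra.comul (R := R) x = t
    induction t using TensorProduct.induction_on with
    | zero => simp
    | add p q hp hq => simp only [add_mul, map_add, Finset.sum_add_distrib, hp, hq]
    | tmul p q =>
      simp only [E, Algebra.TensorProduct.tmul_mul_tmul, mul_one, T, AlgebraTensorModule.lTensor_tmul, hE',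
        LinearMap.lTensor_tmul, TensorProduct.rid_tmul, proj_apply, Finset.sum_smul]
  have h2 : tr E E' M = algebraMap R H (proj e e' f x) := by
    show ∑ j, E' j (T ((1 : H) ⊗ₜ[R] x * E j)) = _
    simp only [E, Algebra.TensorProduct.tmul_mul_tmul, mul_one, T, AlgebraTensorModule.lTensor_tmul, hE',
      proj_apply, map_sum, Algebra.algebraMap_eq_smul_one]
  rw [← h1, ← h2, ← hconj]
  exact tr_conj E E' hE M φ

/-- The counit is a combination of translates of integrals. -/
theorem exists_integrals [Module.Finite R H] [Module.Projective R H] :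
    ∃ (m : ℕ) (l : Fin m → H →ₗ[R] R) (h : Fin m → H), (∀ i, IsIntegralForm (l i)) ∧
      ∀ x, ∑ i, l i (h i * x) = Coalgebra.counit (R := R) x := by
  obtain ⟨n, p, s, -, -, hps⟩ := Module.Finite.exists_comp_eq_id_of_projective R H
  classical
  let e : Fin n → H := fun j => p (Pi.single j 1)
  let e' : Fin n → H →ₗ[R] R := fun j => LinearMap.proj j ∘ₗ s
  have he : ∀ y, ∑ j, e' j y • e j = y := by
    intro y
    calc ∑ j, e' j y • e j = p (∑ j, s y j • Pi.single j 1) := by simp [e, e', map_sum]
      _ = p (s y) := by
          congr 1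
          ext i
          simp [Finset.sum_apply, Pi.single_apply]
      _ = y := LinearMap.congr_fun hps y
  refine ⟨n, fun i => proj e e' (e' i), fun i => HopfAlgebra.antipode R (e i),
    fun i => isIntegralForm_proj e e' he _, fun x => ?_⟩
  -- canonical element identity
  have hcan : ∀ t : H ⊗[R] H, ∑ i, ∑ j,
      LinearMap.mul' R R (TensorProduct.map (e' j) (e' i) t) • (e j ⊗ₜ[R] e i) = t := by
    intro t
    induction t using TensorProduct.induction_on with
    | zero => simp
    | add p q hp hq => simp only [map_add, add_smul, Finset.sum_add_distrib, hp, hq]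
    | tmul a b =>
      conv_rhs => rw [← he a, ← he b]
      rw [TensorProduct.tmul_sum]
      refine Finset.sum_congr rfl fun i _ => ?_
      rw [TensorProduct.sum_tmul]
      refine Finset.sum_congr rfl fun j _ => ?_
      simp [TensorProduct.smul_tmul', TensorProduct.tmul_smul, smul_smul, mul_comm]
  let Bx : H ⊗[R] H →ₗ[R] H := (LinearMap.mulRight R x) ∘ₗ LinearMap.mul' R H ∘ₗ
    (HopfAlgebra.antipode R (A := H)).lTensor H
  have hl : ∀ i, ∀ z, (e' i) z = ∑ l, e' l z * e' i (e l) := by
    intro i z
    conv_lhs => rw [← he z]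
    simp [map_sum]
  calc ∑ i, proj e e' (e' i) (HopfAlgebra.antipode R (e i) * x)
      = ∑ i, ∑ j, e' j (coev (e' i) (Bx (e j ⊗ₜ[R] e i))) := by
        refine Finset.sum_congr rfl fun i _ => ?_
        rw [proj_apply]
        refine Finset.sum_congr rfl fun j _ => ?_
        congr 2
        simp [Bx]; ring
    _ = ∑ i, ∑ j, ∑ l, e' l (Bx (e j ⊗ₜ[R] e i)) * e' j (coev (e' i) (e l)) := by
        refine Finset.sum_congr rfl fun i _ => Finset.sum_congr rfl fun j _ => ?_
        conv_lhs => rw [← he (Bx (e j ⊗ₜ[R] e i))]
        simp [map_sum]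
    _ = ∑ l, e' l (Bx (∑ i, ∑ j, e' j (coev (e' i) (e l)) • (e j ⊗ₜ[R] e i))) := by
        simp only [map_sum, map_smul, smul_eq_mul]
        rw [Finset.sum_comm]
        conv_rhs => rw [Finset.sum_comm]
        rw [Finset.sum_comm]
        refine Finset.sum_congr rfl fun i _ => ?_
        rw [Finset.sum_comm]
        exact Finset.sum_congr rfl fun l _ => Finset.sum_congr rfl fun j _ => mul_comm _ _
    _ = ∑ l, e' l (Bx (Coalgebra.comul (R := R) (e l))) := by
        refine Finset.sum_congr rfl fun l _ => ?_
        congr 2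
        conv_rhs => rw [← hcan (Coalgebra.comul (R := R) (e l))]
        refine Finset.sum_congr rfl fun i _ => Finset.sum_congr rfl fun j _ => ?_
        congr 1
        show e' j (TensorProduct.rid R H ((e' i).lTensor H (Coalgebra.comul (R := R) (e l)))) = _
        generalize Coalgebra.comul (R := R) (e l) = t
        induction t using TensorProduct.induction_on with
        | zero => simp
        | add p q hp hq => simp only [map_add, hp, hq]
        | tmul a b => simp [mul_comm]
    _ = ∑ l, e' l (Coalgebra.counit (R := R) (e l) • x) := by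
        refine Finset.sum_congr rfl fun l _ => ?_
        congr 1
        show LinearMap.mul' R H ((HopfAlgebra.antipode R).lTensor H (Coalgebra.comul (R := R) (e l))) * x = _
        rw [HopfAlgebra.mul_antipode_lTensor_comul_apply, Algebra.smul_def]
    _ = Coalgebra.counit (R := R) x := by
        conv_rhs => rw [← he x, map_sum]
        simp [mul_comm]

end Integral

section Galois

variable {R : Type u} [CommRing R] {A : Type v} [CommRing A] [HopfAlgebra R A]
  {H : Type w} [CommRing H] [HopfAlgebra R H] (π : A →ₐc[R] H)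

/-- The coaction of `H` on `A`. -/
noncomputable def rho : A →ₐ[R] A ⊗[R] H :=
  (Algebra.TensorProduct.map (AlgHom.id R A) (π : A →ₐ[R] H)).comp (Bialgebra.comulAlgHom R A)

/-- The invariants. -/
noncomputable def inv : Subalgebra R A :=
  AlgHom.equalizer (rho π) (Algebra.TensorProduct.includeLeft : A →ₐ[R] A ⊗[R] H)

theorem mem_inv {a : A} : a ∈ inv π ↔ rho π a = a ⊗ₜ 1 := Iff.rfl

/-- `id ⊗ l` after multiplication by `1 ⊗ g`. -/
noncomputable def pairing (l : H →ₗ[R] R) : A ⊗[R] H →ₗ[A] A :=
  (AlgebraTensorModule.rid R A A).toLinearMap ∘ₗ AlgebraTensorModule.lTensor A A l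

theorem pairing_tmul (l : H →ₗ[R] R) (a : A) (h : H) : pairing l (a ⊗ₜ[R] h) = l h • a := by
  simp [pairing]

/-- The trace attached to a form. -/
noncomputable def traceMap (l : H →ₗ[R] R) : A →ₗ[R] A :=
  (pairing l).restrictScalars R ∘ₗ (rho π).toLinearMap

theorem traceMap_mem {l : H →ₗ[R] R} (hl : IsIntegralForm l) (a : A) : traceMap π l a ∈ inv π := by
  rw [mem_inv]
  have h1 : ∀ z : A ⊗[R] A, rho π (pairing l (Algebra.TensorProduct.map (AlgHom.id R A) (π : A →ₐ[R] H) z)) =
      TensorProduct.map (LinearMap.id (R := R) (M := A)) ((π : A →ₐ[R] H).toLinearMap)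
        (TensorProduct.map (LinearMap.id (R := R) (M := A)) ((TensorProduct.rid R A).toLinearMap ∘ₗ
          (l ∘ₗ (π : A →ₐ[R] H).toLinearMap).lTensor A)
          (TensorProduct.assoc R A A A ((Coalgebra.comul (R := R) (A := A)).rTensor A z))) := by
    intro z
    induction z using TensorProduct.induction_on with
    | zero => simp
    | add x y hx hy => simp only [map_add, hx, hy]
    | tmul x y =>
      simp only [Algebra.TensorProduct.map_tmul, AlgHom.id_apply, pairing_tmul, map_smul, rho,
        AlgHom.comp_apply, Bialgebra.comulAlgHom_apply, LinearMap.rTensor_tmul]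
      induction Coalgebra.comul (R := R) x using TensorProduct.induction_on with
      | zero => simp
      | add p q hp hq => simp only [smul_add, TensorProduct.add_tmul, map_add, hp, hq]
      | tmul p q => simp [TensorProduct.tmul_smul]
  have h2 : ∀ y : A, (π : A →ₐ[R] H) (TensorProduct.rid R A
      ((l ∘ₗ (π : A →ₐ[R] H).toLinearMap).lTensor A (Coalgebra.comul (R := R) y))) = algebraMap R H (l (π y)) := by
    intro y
    rw [← hl, ← CoalgHomClass.map_comp_comul_apply π y]
    generalize Coalgebra.comul (R := R) y = t
    induction t using TensorProduct.induction_on with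
    | zero => simp
    | add p q hp hq => simp only [map_add, hp, hq]
    | tmul p q => simp
  show rho π (pairing l (rho π a)) = _
  conv_lhs => arg 2; arg 2; rw [rho, AlgHom.comp_apply, Bialgebra.comulAlgHom_apply]
  rw [h1, Coalgebra.coassoc_apply]
  show _ = pairing l (rho π a) ⊗ₜ[R] (1 : H)
  rw [rho, AlgHom.comp_apply, Bialgebra.comulAlgHom_apply]
  generalize Coalgebra.comul (R := R) a = z
  induction z using TensorProduct.induction_on with
  | zero => simp
  | add x y hx hy => simp only [map_add, TensorProduct.add_tmul, hx, hy]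
  | tmul x y =>
    simp only [LinearMap.lTensor_tmul, TensorProduct.map_tmul, LinearMap.id_apply, LinearMap.comp_apply,
      LinearEquiv.coe_coe, AlgHom.toLinearMap_apply, h2, Algebra.TensorProduct.map_tmul, AlgHom.id_apply,
      pairing_tmul]
    rw [Algebra.algebraMap_eq_smul_one, TensorProduct.tmul_smul, TensorProduct.smul_tmul']
    rfl

theorem traceMap_mul {b : A} (hb : b ∈ inv π) (l : H →ₗ[R] R) (a : A) :
    traceMap π l (b * a) = b * traceMap π l a := by
  show pairing l (rho π (b * a)) = b * pairing l (rho π a)
  rw [map_mul, (mem_inv π).1 hb]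
  generalize rho π a = z
  induction z using TensorProduct.induction_on with
  | zero => simp
  | add x y hx hy => simp only [mul_add, map_add, hx, hy]
  | tmul x y => simp [pairing_tmul]

/-- `Σ (S a₁ ⊗ 1) ρ(a₂) = 1 ⊗ π a`. -/
theorem lift_antipode_rho (a : A) :
    Algebra.TensorProduct.lift
        ((Algebra.TensorProduct.includeLeft : A →ₐ[R] A ⊗[R] H).comp (HopfAlgebra.antipodeAlgHom R A)) (rho π)
        (fun _ _ => .all _ _) (Coalgebra.comul (R := R) a) = (1 : A) ⊗ₜ[R] π a := by
  let L : WithConv (A →ₐ[R] A ⊗[R] H) := toConv Algebra.TensorProduct.includeLeft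
  let r : WithConv (A →ₐ[R] A ⊗[R] H) := toConv (Algebra.TensorProduct.includeRight.comp (π : A →ₐ[R] H))
  have h : toConv (rho π) = L * r := by
    apply WithConv.ofConv_injective
    apply AlgHom.ext
    intro x
    rw [AlgHom.convMul_apply]
    show Algebra.TensorProduct.map (AlgHom.id R A) (π : A →ₐ[R] H) (Coalgebra.comul (R := R) x) = _
    induction Coalgebra.comul (R := R) x using TensorProduct.induction_on with
    | zero => simp
    | tmul p q => simp [L, r]
    | add p q hp hq => simp only [map_add, ← hp, ← hq]
  have h2 : L⁻¹ * toConv (rho π) = r := by rw [h]; exact inv_mul_cancel_left L r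
  have h3 := DFunLike.congr_fun (congrArg WithConv.ofConv h2) a
  rw [show (L⁻¹ * toConv (rho π)).ofConv a = _ from AlgHom.convMul_apply _ _ a] at h3
  exact h3

/-- A dual family of `A` over the invariants, with the data to invert the Galois map. -/
theorem exists_dual_family [Module.Finite R H] [Module.Projective R H] (hπ : Function.Surjective π) :
    ∃ (N : ℕ) (x y : Fin N → A) (l : Fin N → H →ₗ[R] R), (∀ i, IsIntegralForm (l i)) ∧
      ∀ a, ∑ i, x i * traceMap π (l i) (y i * a) = a := by
  obtain ⟨m, l, h, hl, hε⟩ := exists_integrals (R := R) (H := H)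
  choose c hc using fun j => hπ (h j)
  choose S hS using fun j => TensorProduct.exists_finset (Coalgebra.comul (R := R) (c j))
  let T := Σ j, (S j : Finset _)
  let eT := Fintype.equivFin T
  refine ⟨Fintype.card T, fun i => HopfAlgebra.antipode R (eT.symm i).2.1.1, fun i => (eT.symm i).2.1.2,
    fun i => l (eT.symm i).1, fun i => hl _, fun a => ?_⟩
  rw [Equiv.sum_comp eT.symm (fun t : T => HopfAlgebra.antipode R t.2.1.1 * traceMap π (l t.1) (t.2.1.2 * a)),
    Fintype.sum_sigma]
  have h1 : ∀ j, ∑ t : (S j : Finset _), HopfAlgebra.antipode R t.1.1 * traceMap π (l j) (t.1.2 * a) =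
      pairing (l j) (((1 : A) ⊗ₜ[R] h j) * rho π a) := by
    intro j
    rw [← hc j, ← lift_antipode_rho π (c j), hS j, map_sum, Finset.sum_mul, map_sum,
      Finset.sum_coe_sort (S j) (fun t => HopfAlgebra.antipode R t.1 * traceMap π (l j) (t.2 * a))]
    refine Finset.sum_congr rfl fun t _ => ?_
    rw [Algebra.TensorProduct.lift_tmul, mul_assoc, ← map_mul (rho π)]
    show _ * pairing (l j) (rho π (t.2 * a)) = _
    generalize rho π (t.2 * a) = z
    induction z using TensorProduct.induction_on with
    | zero => simp
    | add x y hx hy => simp only [mul_add, map_add, hx, hy]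
    | tmul x y => simp [pairing_tmul]
  simp only [h1]
  refine Eq.trans ?_ ((TensorProduct.rid_tmul a (1 : R)).trans (one_smul R a))
  have h2 : ∀ z : A ⊗[R] H, ∑ j, pairing (l j) (((1 : A) ⊗ₜ[R] h j) * z) =
      TensorProduct.rid R A ((Coalgebra.counit (R := R) (A := H)).lTensor A z) := by
    intro z
    induction z using TensorProduct.induction_on with
    | zero => simp
    | add x y hx hy => simp only [mul_add, map_add, Finset.sum_add_distrib, hx, hy]
    | tmul x y => simp [pairing_tmul, ← hε, Finset.sum_smul]
  rw [h2]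
  congr 1
  rw [rho, AlgHom.comp_apply, Bialgebra.comulAlgHom_apply]
  rw [← Coalgebra.lTensor_counit_comul (R := R) a]
  generalize Coalgebra.comul (R := R) a = z
  induction z using TensorProduct.induction_on with
  | zero => simp
  | add x y hx hy => simp only [map_add, hx, hy]
  | tmul x y => simp [CoalgHomClass.counit_comp_apply π y]

/-- The trace as a map to the invariants. -/
noncomputable def traceInv {l : H →ₗ[R] R} (hl : IsIntegralForm l) : A →ₗ[inv π] inv π where
  toFun a := ⟨traceMap π l a, traceMap_mem π hl a⟩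
  map_add' a b := Subtype.ext (map_add _ _ _)
  map_smul' b a := Subtype.ext (traceMap_mul π b.2 l a)

/-- `A` is finite over the invariants. -/
theorem finite_inv [Module.Finite R H] [Module.Projective R H] (hπ : Function.Surjective π) :
    Module.Finite (inv π) A ∧ Module.Projective (inv π) A := by
  obtain ⟨N, x, y, l, hl, hxy⟩ := exists_dual_family π hπ
  let s : A →ₗ[inv π] (Fin N → inv π) :=
    LinearMap.pi fun i => traceInv π (hl i) ∘ₗ LinearMap.mulLeft (inv π) (y i)
  let p : (Fin N → inv π) →ₗ[inv π] A := Fintype.linearCombination (inv π) x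
  have hps : p ∘ₗ s = LinearMap.id := by
    refine LinearMap.ext fun a => ?_
    show ∑ i, (s a i) • x i = a
    conv_rhs => rw [← hxy a]
    refine Finset.sum_congr rfl fun i _ => ?_
    rw [mul_comm (x i)]
    rfl
  refine ⟨Module.Finite.of_surjective p fun a => ⟨s a, LinearMap.congr_fun hps a⟩, ?_⟩
  exact Module.Projective.of_split s p hps

/-- The Galois map. -/
noncomputable def can : A ⊗[inv π] A →ₐ[A] A ⊗[R] H :=
  Algebra.TensorProduct.lift (Algebra.ofId A (A ⊗[R] H))
    ({ (rho π).toRingHom with commutes' := fun b => (mem_inv π).1 b.2 } : A →ₐ[inv π] A ⊗[R] H)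
    fun _ _ => .all _ _

theorem can_tmul (a b : A) : can π (a ⊗ₜ b) = (a ⊗ₜ[R] (1 : H)) * rho π b := by
  simp [can, Algebra.ofId_apply]

theorem can_bijective [Module.Finite R H] [Module.Projective R H] (hπ : Function.Surjective π) :
    Function.Bijective (can π) := by
  obtain ⟨N, x, y, l, hl, hxy⟩ := exists_dual_family π hπ
  refine ⟨?_, fun u => ?_⟩
  · let G : A ⊗[R] H → A ⊗[inv π] A := fun u => ∑ i, pairing (l i) (u * rho π (y i)) ⊗ₜ x i
    have hG : ∀ z, G (can π z) = z := by
      intro z
      induction z using TensorProduct.induction_on with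
      | zero => simp [G]
      | add a b ha hb =>
        simp only [G, map_add, add_mul, TensorProduct.add_tmul, Finset.sum_add_distrib] at ha hb ⊢
        rw [ha, hb]
      | tmul a b =>
        simp only [G, can_tmul]
        conv_rhs => rw [← hxy b, TensorProduct.tmul_sum]
        refine Finset.sum_congr rfl fun i _ => ?_
        have e : pairing (l i) (a ⊗ₜ[R] (1 : H) * rho π b * rho π (y i)) =
            traceInv π (hl i) (y i * b) • a := by
          rw [mul_assoc, ← map_mul, mul_comm b]
          show _ = traceMap π (l i) (y i * b) * a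
          show _ = pairing (l i) (rho π (y i * b)) * a
          generalize rho π (y i * b) = z
          induction z using TensorProduct.induction_on with
          | zero => simp
          | add p q hp hq => simp only [mul_add, add_mul, map_add, hp, hq]
          | tmul p q => simp [pairing_tmul, mul_comm a]
        rw [e, TensorProduct.smul_tmul]
        congr 1
        show traceMap π (l i) (y i * b) * x i = x i * traceMap π (l i) (y i * b)
        rw [mul_comm]
    exact fun z z' hzz => by rw [← hG z, ← hG z', hzz]
  · induction u using TensorProduct.induction_on with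
    | zero => exact ⟨0, map_zero _⟩
    | add p q hp hq =>
      obtain ⟨p', rfl⟩ := hp
      obtain ⟨q', rfl⟩ := hq
      exact ⟨p' + q', map_add _ _ _⟩
    | tmul a h =>
      obtain ⟨c, rfl⟩ := hπ h
      refine ⟨(a ⊗ₜ 1) * Algebra.TensorProduct.lift
        ((Algebra.TensorProduct.includeLeft : A →ₐ[R] A ⊗[inv π] A).comp (HopfAlgebra.antipodeAlgHom R A))
        ((Algebra.TensorProduct.includeRight (R := inv π) : A →ₐ[inv π] A ⊗[inv π] A).restrictScalars R)
        (fun _ _ => .all _ _) (Coalgebra.comul (R := R) c), ?_⟩
      rw [map_mul, can_tmul, map_one, mul_one]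
      have : ∀ t : A ⊗[R] A, can π (Algebra.TensorProduct.lift
          ((Algebra.TensorProduct.includeLeft : A →ₐ[R] A ⊗[inv π] A).comp (HopfAlgebra.antipodeAlgHom R A))
          ((Algebra.TensorProduct.includeRight (R := inv π) : A →ₐ[inv π] A ⊗[inv π] A).restrictScalars R)
          (fun _ _ => .all _ _) t) = Algebra.TensorProduct.lift
          ((Algebra.TensorProduct.includeLeft : A →ₐ[R] A ⊗[R] H).comp (HopfAlgebra.antipodeAlgHom R A)) (rho π)
          (fun _ _ => .all _ _) t := by
        intro t
        induction t using TensorProduct.induction_on with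
        | zero => simp
        | add p q hp hq => simp only [map_add, hp, hq]
        | tmul p q => simp [can_tmul]
      rw [this, lift_antipode_rho]
      simp

/-- The rank of `A` over the invariants pulls back to the rank of `H`. -/
theorem rankAtStalk_inv [Module.Finite R H] [Module.Projective R H] (hπ : Function.Surjective π)
    (Q : PrimeSpectrum A) :
    Module.rankAtStalk (R := inv π) A (Q.comap (algebraMap (inv π) A)) =
      Module.rankAtStalk H (Q.comap (algebraMap R A)) := by
  obtain ⟨hf, hp⟩ := finite_inv π hπ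
  rw [← Module.rankAtStalk_baseChange (S := A) (M := A),
    Module.rankAtStalk_eq_of_equiv (AlgEquiv.ofBijective (can π) (can_bijective π hπ)).toLinearEquiv,
    Module.rankAtStalk_baseChange]

end Galois

end Groth.HopfGalois

namespace Groth.HopfGalois

section Semilocal

variable {R : Type u} [CommRing R] {A : Type v} [CommRing A] [HopfAlgebra R A]
  {H : Type w} [CommRing H] [HopfAlgebra R H] (π : A →ₐc[R] H)

theorem finrank_residue_tensor {B : Type*} [CommRing B] (M : Type*) [AddCommGroup M] [Module B M]
    [Module.Flat B M] [Module.Finite B M] (P : Ideal B) [P.IsMaximal] :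
    Module.finrank (B ⧸ P) ((B ⧸ P) ⊗[B] M) = Module.rankAtStalk M ⟨P, inferInstance⟩ := by
  letI := Ideal.Quotient.field P
  rw [Module.rankAtStalk_eq]
  have e : P.ResidueField ⊗[B ⧸ P] ((B ⧸ P) ⊗[B] M) ≃ₗ[P.ResidueField] P.ResidueField ⊗[B] M :=
    AlgebraTensorModule.cancelBaseChange _ _ _ _ _
  rw [← Module.finrank_baseChange (R := P.ResidueField) (S := B ⧸ P) (M' := (B ⧸ P) ⊗[B] M)]
  exact e.finrank_eq

/-- Over a field, a finite Hopf algebra is free over the invariants of a quotient Hopf algebra. -/
theorem free_inv {k : Type u} [Field k] {A : Type v} [CommRing A] [HopfAlgebra k A] [Module.Finite k A]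
    {H : Type w} [CommRing H] [HopfAlgebra k H] (π : A →ₐc[k] H) (hπ : Function.Surjective π) :
    Module.Free (inv π) A ∧ Module.finrank (inv π) A = Module.finrank k H := by
  haveI : Module.Finite k H :=
    Module.Finite.of_surjective ((π : A →ₐ[k] H).toLinearMap) hπ
  haveI : Module.Finite k (inv π) := inferInstanceAs (Module.Finite k (inv π).toSubmodule)
  haveI : IsArtinianRing (inv π) := IsArtinianRing.of_finite k _
  obtain ⟨hf, hp⟩ := finite_inv π hπ
  haveI : Nontrivial A := RingHom.domain_nontrivial (Bialgebra.counitAlgHom k A).toRingHom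
  have hrk : ∀ P : PrimeSpectrum (inv π), Module.rankAtStalk A P = Module.finrank k H := by
    intro P
    obtain ⟨Q, rfl⟩ := (PrimeSpectrum.comap_surjective_iff_injective_of_finite (R := inv π) (S := A)).2
      Subtype.val_injective P
    rw [rankAtStalk_inv π hπ Q, Module.rankAtStalk_eq_finrank_of_free]
    rfl
  have hfree : Module.Free (inv π) A := Module.free_of_flat_of_finrank_eq (inv π) A (Module.finrank k H)
    fun P => by rw [finrank_residue_tensor]; exact hrk _
  refine ⟨hfree, ?_⟩
  obtain ⟨P⟩ : Nonempty (PrimeSpectrum (inv π)) := inferInstance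
  rw [← hrk P, Module.rankAtStalk_eq_finrank_of_free]
  rfl

end Semilocal

end Groth.HopfGalois

namespace Groth.HopfGalois

section BaseChangeInv

variable {R : Type u} [CommRing R] {A : Type v} [CommRing A] [HopfAlgebra R A]
  {H : Type w} [CommRing H] [HopfAlgebra R H] (π : A →ₐc[R] H)

/-- A linear retraction onto the invariants, natural enough to compute invariants after base change. -/
theorem exists_retraction [Module.Finite R H] [Module.Projective R H] (hπ : Function.Surjective π) :
    ∃ Φ : A ⊗[R] H →ₗ[R] A, (∀ a, Φ (a ⊗ₜ 1) = a) ∧ ∀ a, Φ (rho π a) ∈ inv π := by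
  obtain ⟨N, x, y, l, hl, hxy⟩ := exists_dual_family π hπ
  obtain ⟨hf, hp⟩ := finite_inv π hπ
  set J : Ideal (inv π) := Ideal.span {b | ∃ i a, (b : A) = traceMap π (l i) a}
  have hJA : J.map (algebraMap (inv π) A) = ⊤ := by
    rw [Ideal.eq_top_iff_one, ← hxy 1]
    refine Ideal.sum_mem _ fun i _ => Ideal.mul_mem_left _ _ ?_
    exact Ideal.mem_map_of_mem _ (Ideal.subset_span (s := {b : inv π | ∃ i a, (b : A) = traceMap π (l i) a})
      (show (⟨traceMap π (l i) (y i * 1), traceMap_mem π (hl i) _⟩ : inv π) ∈ _ from ⟨i, _, rfl⟩))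
  have hJ : J = ⊤ := by
    by_contra hne
    obtain ⟨m, hm, hJm⟩ := Ideal.exists_le_maximal J hne
    obtain ⟨Q, hQ⟩ := (PrimeSpectrum.comap_surjective_iff_injective_of_finite (R := inv π) (S := A)).2
      Subtype.val_injective ⟨m, hm.isPrime⟩
    refine Q.isPrime.ne_top (top_le_iff.1 ?_)
    rw [← hJA, Ideal.map_le_iff_le_comap]
    exact hJm.trans (congrArg PrimeSpectrum.asIdeal hQ).ge
  have h1 : ∀ b ∈ J, ∃ z : Fin N → A, (b : A) = ∑ i, traceMap π (l i) (z i) := by
    intro b hb
    induction hb using Submodule.span_induction with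
    | mem b hb =>
      obtain ⟨i, a, ha⟩ := hb
      classical
      refine ⟨Pi.single i a, ?_⟩
      rw [Finset.sum_eq_single i]
      · simpa using ha
      · intro j _ hj; simp [Pi.single_eq_of_ne hj]
      · simp
    | zero => exact ⟨0, by simp⟩
    | add b c _ _ hb hc =>
      obtain ⟨z, hz⟩ := hb
      obtain ⟨z', hz'⟩ := hc
      exact ⟨z + z', by simp [hz, hz', Finset.sum_add_distrib]⟩
    | smul c b _ hb =>
      obtain ⟨z, hz⟩ := hb
      refine ⟨fun i => (c : A) * z i, ?_⟩
      show (c : A) * (b : A) = _
      rw [hz, Finset.mul_sum]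
      exact Finset.sum_congr rfl fun i _ => (traceMap_mul π c.2 _ _).symm
  obtain ⟨z, hz⟩ := h1 1 (hJ ▸ Submodule.mem_top)
  let Φ : A ⊗[R] H →ₗ[R] A :=
    ∑ i, (pairing (l i)).restrictScalars R ∘ₗ LinearMap.mulLeft R (rho π (z i))
  refine ⟨Φ, fun a => ?_, fun a => ?_⟩
  · have key : ∀ i, pairing (l i) (rho π (z i) * (a ⊗ₜ[R] (1 : H))) = a * traceMap π (l i) (z i) := by
      intro i
      show _ = a * pairing (l i) (rho π (z i))
      generalize rho π (z i) = t
      induction t using TensorProduct.induction_on with
      | zero => simp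
      | add p q hp hq => simp only [add_mul, mul_add, map_add, hp, hq]
      | tmul p q => simp [pairing_tmul, mul_comm a]
    simp only [Φ, LinearMap.sum_apply, LinearMap.comp_apply, LinearMap.mulLeft_apply,
      LinearMap.restrictScalars_apply, key]
    rw [← Finset.mul_sum, ← hz]
    simp
  · simp only [Φ, LinearMap.sum_apply, LinearMap.comp_apply, LinearMap.mulLeft_apply,
      LinearMap.restrictScalars_apply]
    refine Subalgebra.sum_mem _ fun i _ => ?_
    rw [← map_mul]
    exact traceMap_mem π (hl i) _

/-- The invariants are finite projective over the base. -/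
theorem finite_projective_inv [Module.Finite R A] [Module.Projective R A] [Module.Finite R H]
    [Module.Projective R H] (hπ : Function.Surjective π) :
    Module.Finite R (inv π) ∧ Module.Projective R (inv π) := by
  obtain ⟨Φ, h1, h2⟩ := exists_retraction π hπ
  let σ : A →ₗ[R] inv π := LinearMap.codRestrict (inv π).toSubmodule (Φ ∘ₗ (rho π).toLinearMap) h2
  have hσ : σ ∘ₗ (inv π).val.toLinearMap = LinearMap.id := LinearMap.ext fun b => Subtype.ext (by
    show Φ (rho π (b : A)) = (b : A)
    rw [(mem_inv π).1 b.2, h1])
  exact ⟨Module.Finite.of_surjective σ fun b => ⟨b, LinearMap.congr_fun hσ b⟩,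
    Module.Projective.of_split (inv π).val.toLinearMap σ hσ⟩

variable (K : Type*) [Field K] [Algebra R K]

/-- Multiplicativity of dimensions after base change to a field. -/
theorem finrank_baseChange_eq_mul [Module.Finite R A] [Module.Projective R A] [Module.Finite R H]
    [Module.Projective R H] (hπ : Function.Surjective π) :
    Module.finrank K (K ⊗[R] A) = Module.finrank K (K ⊗[R] H) * Module.finrank K (K ⊗[R] inv π) := by
  obtain ⟨Φ, h1, h2⟩ := exists_retraction π hπ
  let σ : A →ₗ[R] inv π := LinearMap.codRestrict (inv π).toSubmodule (Φ ∘ₗ (rho π).toLinearMap) h2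
  let ι : inv π →ₗ[R] A := (inv π).val.toLinearMap
  have hσ : σ ∘ₗ ι = LinearMap.id := LinearMap.ext fun b => Subtype.ext (by
    show Φ (rho π (b : A)) = (b : A)
    rw [(mem_inv π).1 b.2, h1])
  have hιK : Function.Injective (ι.baseChange K) := by
    refine Function.LeftInverse.injective (g := σ.baseChange K) fun x => ?_
    rw [← LinearMap.comp_apply, ← LinearMap.baseChange_comp, hσ, LinearMap.baseChange_id]
    rfl
  let πK : K ⊗[R] A →ₐc[K] K ⊗[R] H := Bialgebra.TensorProduct.map (BialgHom.id K K) π
  have hπKt : ∀ (c : K) (a : A), πK (c ⊗ₜ a) = c ⊗ₜ π a := fun c a => rfl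
  have hπK : Function.Surjective πK := by
    intro y
    induction y using TensorProduct.induction_on with
    | zero => exact ⟨0, map_zero _⟩
    | add p q hp hq =>
      obtain ⟨p', rfl⟩ := hp
      obtain ⟨q', rfl⟩ := hq
      exact ⟨p' + q', map_add _ _ _⟩
    | tmul c h =>
      obtain ⟨a, rfl⟩ := hπ h
      exact ⟨c ⊗ₜ a, hπKt c a⟩
  -- comparison of the two tensor products
  let T : (K ⊗[R] A) ⊗[K] (K ⊗[R] H) →ₐ[K] K ⊗[R] (A ⊗[R] H) :=
    Algebra.TensorProduct.lift
      (Algebra.TensorProduct.map (AlgHom.id K K) (Algebra.TensorProduct.includeLeft : A →ₐ[R] A ⊗[R] H))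
      (Algebra.TensorProduct.map (AlgHom.id K K) (Algebra.TensorProduct.includeRight : H →ₐ[R] A ⊗[R] H))
      fun _ _ => .all _ _
  have hT : T.comp (rho πK) = Algebra.TensorProduct.map (AlgHom.id K K) (rho π) := by
    refine Algebra.TensorProduct.ext (Subsingleton.elim _ _) (AlgHom.ext fun a => ?_)
    show T (rho πK ((1 : K) ⊗ₜ[R] a)) = (1 : K) ⊗ₜ[R] rho π a
    simp only [rho, AlgHom.comp_apply, Bialgebra.comulAlgHom_apply]
    rw [show Coalgebra.comul (R := K) ((1 : K) ⊗ₜ[R] a) = AlgebraTensorModule.tensorTensorTensorComm R K R K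
      K K A A (((1 : K) ⊗ₜ[K] (1 : K)) ⊗ₜ[R] Coalgebra.comul (R := R) a) from by simp [TensorProduct.comul_def]]
    generalize Coalgebra.comul (R := R) a = t
    induction t using TensorProduct.induction_on with
    | zero => simp
    | add p q hp hq => simp only [TensorProduct.tmul_add, map_add, hp, hq]
    | tmul p q => simp [T, hπKt]
  have hrange : Subalgebra.toSubmodule (inv πK) = LinearMap.range (ι.baseChange K) := by
    refine le_antisymm (fun x hx => ?_) ?_
    · have h3 : Algebra.TensorProduct.map (AlgHom.id K K) (rho π) x =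
          Algebra.TensorProduct.map (AlgHom.id K K) (Algebra.TensorProduct.includeLeft : A →ₐ[R] A ⊗[R] H) x := by
        rw [← hT, AlgHom.comp_apply, (mem_inv πK).1 hx]
        simp [T]
      refine ⟨σ.baseChange K x, ?_⟩
      have e1 : ∀ w : K ⊗[R] A, ι.baseChange K (σ.baseChange K w) =
          Φ.baseChange K (Algebra.TensorProduct.map (AlgHom.id K K) (rho π) w) := by
        intro w
        induction w using TensorProduct.induction_on with
        | zero => simp
        | add p q hp hq => simp [map_add, hp, hq]
        | tmul p q =>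
          simp [ι, σ]
          rfl
      have e2 : ∀ w : K ⊗[R] A, Φ.baseChange K (Algebra.TensorProduct.map (AlgHom.id K K)
          (Algebra.TensorProduct.includeLeft : A →ₐ[R] A ⊗[R] H) w) = w := by
        intro w
        induction w using TensorProduct.induction_on with
        | zero => simp
        | add p q hp hq => simp only [map_add, hp, hq]
        | tmul p q => simp [h1]
      rw [e1, h3, e2]
    · rintro _ ⟨w, rfl⟩
      induction w using TensorProduct.induction_on with
      | zero => simp
      | add p q hp hq => rw [map_add]; exact add_mem hp hq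
      | tmul c b =>
        show _ ∈ inv πK
        rw [LinearMap.baseChange_tmul]
        refine (mem_inv πK).2 ?_
        have hb : Algebra.TensorProduct.map (AlgHom.id R A) (π : A →ₐ[R] H) (Coalgebra.comul (R := R) (b : A)) =
            (b : A) ⊗ₜ 1 := (mem_inv π).1 b.2
        let T' : K ⊗[R] (A ⊗[R] H) →ₐ[K] (K ⊗[R] A) ⊗[K] (K ⊗[R] H) :=
          Algebra.TensorProduct.lift (Algebra.ofId K _)
            (Algebra.TensorProduct.lift
              (((Algebra.TensorProduct.includeLeft : K ⊗[R] A →ₐ[K] (K ⊗[R] A) ⊗[K] (K ⊗[R] H)).restrictScalars R).comp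
                Algebra.TensorProduct.includeRight)
              (((Algebra.TensorProduct.includeRight : K ⊗[R] H →ₐ[K] (K ⊗[R] A) ⊗[K] (K ⊗[R] H)).restrictScalars R).comp
                Algebra.TensorProduct.includeRight)
              fun _ _ => .all _ _)
            fun _ _ => .all _ _
        have hT' : T'.comp T = AlgHom.id K _ := by
          refine Algebra.TensorProduct.ext ?_ ?_
          · refine Algebra.TensorProduct.ext (Subsingleton.elim _ _) (AlgHom.ext fun a => ?_)
            simp [T, T', ← Algebra.TensorProduct.one_def]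
          · refine Algebra.TensorProduct.ext (Subsingleton.elim _ _) (AlgHom.ext fun a => ?_)
            simp [T, T', ← Algebra.TensorProduct.one_def]
        have hTinj : Function.Injective T :=
          Function.LeftInverse.injective (g := T') fun u => DFunLike.congr_fun hT' u
        refine hTinj ?_
        show (T.comp (rho πK)) _ = _
        rw [hT]
        simp [T, ι, rho, hb]
  obtain ⟨hfree, hrank⟩ := free_inv πK hπK
  haveI : Nontrivial (K ⊗[R] A) := RingHom.domain_nontrivial (Bialgebra.counitAlgHom K _).toRingHom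
  haveI : Nontrivial (inv πK) := inferInstance
  have hfin : Module.finrank K (inv πK) = Module.finrank K (K ⊗[R] inv π) := by
    rw [← LinearMap.finrank_range_of_inj hιK, ← hrange]
    rfl
  rw [← hrank, ← hfin, mul_comm]
  exact (Module.finrank_mul_finrank K (inv πK) (K ⊗[R] A)).symm

/-- Multiplicativity of ranks. -/
theorem rankAtStalk_eq_mul [Module.Finite R A] [Module.Projective R A] [Module.Finite R H]
    [Module.Projective R H] (hπ : Function.Surjective π) (q : PrimeSpectrum R) :
    Module.rankAtStalk A q = Module.rankAtStalk H q * Module.rankAtStalk (inv π) q := by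
  obtain ⟨hf, hp⟩ := finite_projective_inv π hπ
  haveI := hf
  haveI := hp
  rw [Module.rankAtStalk_eq, Module.rankAtStalk_eq, Module.rankAtStalk_eq]
  exact finrank_baseChange_eq_mul π q.asIdeal.ResidueField hπ

end BaseChangeInv

end Groth.HopfGalois
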