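import Groth.Agent.OortTate.Field
import Groth.Agent.Misc1.SimpleGrp.Basic
import Groth.Agent.Hopf.LocalHopf
import Groth.Agent.PropsBasic.HopfDim
import Groth.Agent.S7970
import Groth.Prelude.Def_ConstGrp
import Groth.Prelude.Def_AlphaP
import Groth.Prelude.Def_CartDual

/-!
Hopf algebras of prime rank over an algebraically closed field.
-/

set_option autoImplicit false
set_option linter.style.haveILetI false

universe u v

open TensorProduct WithConv

namespace Groth.HopfPrimeRank

variable {k : Type u} [Field k] {A : Type u} [CommRing A] [HopfAlgebra k A]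

/-- The equivalence with the functions on the cyclic group given by a point of order `ℓ`. -/
theorem nonempty_constGrp {ℓ : ℕ} [Fact ℓ.Prime] {g0 : WithConv (A →ₐ[k] k)} (hg0 : orderOf g0 = ℓ)
    (hbij : Function.Bijective (fun (a : A) (j : Fin ℓ) => (g0 ^ (j : ℕ)) a)) :
    Nonempty (A ≃ₐc[k] ConstGrp.F k (Multiplicative (ZMod ℓ))) := by
  have : NeZero ℓ := ⟨(Fact.out : ℓ.Prime).ne_zero⟩
  let G := Multiplicative (ZMod ℓ)
  let χ : G → WithConv (A →ₐ[k] k) := fun z => g0 ^ z.toAdd.val
  have hχ : ∀ x y, χ x * χ y = χ (x * y) := by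
    intro x y
    show g0 ^ _ * g0 ^ _ = g0 ^ _
    rw [← pow_add, pow_eq_pow_iff_modEq, hg0, toAdd_mul, ZMod.val_add]
    exact (Nat.mod_modEq _ _).symm
  let f : A →ₐ[k] ConstGrp.F k G :=
    { toFun := fun a z => χ z a
      map_one' := funext fun z => map_one (χ z).ofConv
      map_mul' := fun a b => funext fun z => map_mul (χ z).ofConv a b
      map_zero' := funext fun z => map_zero (χ z).ofConv
      map_add' := fun a b => funext fun z => map_add (χ z).ofConv a b
      commutes' := fun r => funext fun z => (χ z).ofConv.commutes r }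
  have hf : Function.Bijective f := by
    constructor
    · intro a b h
      refine hbij.1 (funext fun j => ?_)
      have := congrFun h (Multiplicative.ofAdd ((j : ℕ) : ZMod ℓ))
      change (g0 ^ (((j : ℕ) : ZMod ℓ)).val) a = (g0 ^ (((j : ℕ) : ZMod ℓ)).val) b at this
      rwa [ZMod.val_natCast, Nat.mod_eq_of_lt j.isLt] at this
    · intro F
      obtain ⟨a, ha⟩ := hbij.2 fun j => F (Multiplicative.ofAdd ((j : ℕ) : ZMod ℓ))
      refine ⟨a, funext fun z => ?_⟩
      have := congrFun ha ⟨z.toAdd.val, ZMod.val_lt _⟩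
      simp only [ZMod.natCast_rightInverse z.toAdd, ofAdd_toAdd] at this
      exact this
  have hpair : Function.Injective (ConstGrp.pair k G) := by
    rw [injective_iff_map_eq_zero]
    intro t ht
    have key : ∀ t : ConstGrp.F k G ⊗[k] ConstGrp.F k G, t = ∑ a : G, ∑ b : G,
        ConstGrp.pair k G t (a, b) • (ConstGrp.e k a ⊗ₜ[k] ConstGrp.e k b) := by
      intro t
      induction t using TensorProduct.induction_on with
      | zero => simp
      | add x y hx hy =>
        conv_lhs => rw [hx, hy]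
        simp [map_add, add_smul, Finset.sum_add_distrib]
      | tmul x y =>
        conv_lhs => rw [ConstGrp.eq_sum_smul_e x, ConstGrp.eq_sum_smul_e y]
        rw [TensorProduct.sum_tmul]
        refine Finset.sum_congr rfl fun a _ => ?_
        rw [TensorProduct.tmul_sum]
        refine Finset.sum_congr rfl fun b _ => ?_
        rw [TensorProduct.smul_tmul_smul, ConstGrp.pair_tmul]
    rw [key t, ht]
    simp
  refine ⟨BialgEquiv.ofBijective (BialgHom.ofAlgHom f (AlgHom.ext fun a => ?_)
    (AlgHom.ext fun a => hpair (funext fun ⟨x, y⟩ => ?_))) hf⟩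
  · show χ 1 a = Coalgebra.counit a
    simp [χ, AlgHom.convOne_def]
  · show ConstGrp.pair k G (Algebra.TensorProduct.map f f (Coalgebra.comul a)) (x, y) =
      ConstGrp.pair k G (Coalgebra.comul (f a)) (x, y)
    rw [ConstGrp.pair_comul]
    show _ = χ (x * y) a
    rw [← hχ, AlgHom.convMul_def]
    show _ = Algebra.TensorProduct.lmul' k
      (Algebra.TensorProduct.map (χ x).ofConv (χ y).ofConv (Coalgebra.comul a))
    generalize Coalgebra.comul (R := k) a = t
    induction t using TensorProduct.induction_on with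
    | zero => simp
    | add p q hp hq => rw [map_add, map_add, ConstGrp.add_apply, hp, hq, map_add, map_add]
    | tmul p q =>
      rw [Algebra.TensorProduct.map_tmul, ConstGrp.pair_tmul]
      rfl

theorem isLocalRing_of_aug_nilpotent {N : ℕ} (hN : Sga3.HopfFin.aug k A ^ N = ⊥) : IsLocalRing A := by
  have : Nontrivial A := RingHom.domain_nontrivial (Bialgebra.counitAlgHom k A).toRingHom
  refine IsLocalRing.of_isUnit_or_isUnit_one_sub_self fun a => ?_
  have hnil : ∀ b : A, Bialgebra.counitAlgHom k A b = 0 → IsNilpotent b := fun b hb =>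
    ⟨N, by rw [← Ideal.mem_bot, ← hN]; exact Ideal.pow_mem_pow hb N⟩
  set c := Bialgebra.counitAlgHom k A a
  by_cases hc : c = 0
  · exact Or.inr (hnil a hc).isUnit_one_sub
  · left
    have h1 : IsNilpotent (a - algebraMap k A c) := hnil _ (by simp [c])
    have h2 := h1.isUnit_add_left_of_commute ((isUnit_iff_ne_zero.2 hc).map (algebraMap k A)) (Commute.all _ _)
    rwa [add_sub_cancel] at h2

theorem simple [IsAlgClosed k] (p : ℕ) [Fact p.Prime] [CharP k p] [Module.Finite k A] [IsLocalRing A]
    (h : Module.finrank k A = p) (I : Ideal A) (hI : I.IsHopfIdeal k) :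
    I = ⊥ ∨ I = RingHom.ker (Bialgebra.counitAlgHom k A) := by
  haveI := hI
  have hle : I ≤ RingHom.ker (Bialgebra.counitAlgHom k A) := fun a ha => hI.counit_eq_zero ha
  have hsurj : Function.Surjective (Ideal.Quotient.mkₐ k I) := Ideal.Quotient.mkₐ_surjective k I
  haveI : Module.Finite k (A ⧸ I) := Module.Finite.of_surjective (Ideal.Quotient.mkₐ k I).toLinearMap hsurj
  obtain ⟨m, hm⟩ := ComodLib.LocalHopf.exists_finrank_eq_pow (k := k) (A := A ⧸ I) p fun x hx => by
    obtain ⟨a, rfl⟩ := hsurj x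
    exact (ComodLib.LocalHopf.nil_of_isLocalRing a hx).map (Ideal.Quotient.mkₐ k I)
  rcases Nat.eq_zero_or_pos m with rfl | hm0
  · right
    refine le_antisymm hle fun a ha => ?_
    have : Nontrivial (A ⧸ I) := RingHom.domain_nontrivial (Bialgebra.counitAlgHom k (A ⧸ I)).toRingHom
    obtain ⟨c, hc⟩ := (finrank_eq_one_iff_of_nonzero' (1 : A ⧸ I) one_ne_zero).1
      (by simpa using hm) (Ideal.Quotient.mkₐ k I a)
    have h1 : a - algebraMap k A c ∈ I := by
      refine Ideal.Quotient.eq.1 ?_
      rw [show (Ideal.Quotient.mk I) a = c • (1 : A ⧸ I) from hc.symm, Algebra.smul_def, mul_one]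
      rfl
    have h2 := hle h1
    rw [RingHom.mem_ker, map_sub, RingHom.mem_ker.1 ha, AlgHom.commutes, zero_sub, neg_eq_zero] at h2
    have : c = 0 := by simpa using h2
    simpa [this] using h1
  · left
    have hlem : Module.finrank k (A ⧸ I) ≤ p :=
      h ▸ LinearMap.finrank_le_finrank_of_surjective (f := (Ideal.Quotient.mkₐ k I).toLinearMap) hsurj
    have heq : Module.finrank k (A ⧸ I) = p :=
      le_antisymm hlem (hm ▸ Nat.le_self_pow hm0.ne' p)
    have hinj := (LinearMap.injective_iff_surjective_of_finrank_eq_finrank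
      (f := (Ideal.Quotient.mkₐ k I).toLinearMap) (h.trans heq.symm)).2 hsurj
    refine (Submodule.eq_bot_iff _).2 fun a ha => hinj ?_
    rw [map_zero]
    exact Ideal.Quotient.eq_zero_iff_mem.2 ha

theorem nonempty_mu {p : ℕ} [Fact p.Prime] [Module.Finite k A] {g : A} (hg : IsGroupLikeElem k g)
    (hgp : g ^ p = 1) (hli : LinearIndependent k (fun i : Fin p => g ^ (i : ℕ)))
    (h : Module.finrank k A = p) : Nonempty (A ≃ₐc[k] MonoidAlgebra k (Multiplicative (ZMod p))) := by
  have : NeZero p := ⟨(Fact.out : p.Prime).ne_zero⟩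
  let G := Multiplicative (ZMod p)
  let m : G →* A :=
    { toFun := fun z => g ^ z.toAdd.val
      map_one' := by simp
      map_mul' := fun x y => by
        show g ^ _ = g ^ _ * g ^ _
        rw [← pow_add, toAdd_mul, ZMod.val_add]
        exact (pow_eq_pow_mod _ hgp).symm }
  let f : MonoidAlgebra k G →ₐ[k] A := MonoidAlgebra.lift k A G m
  have hf1 : ∀ z, f (MonoidAlgebra.single z 1) = g ^ z.toAdd.val := fun z => by
    simp [f, m]
  have hsurj : Function.Surjective f := by
    have hr : ∀ a, a ∈ LinearMap.range f.toLinearMap := by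
      intro a
      have hs := hli.span_eq_top_of_card_eq_finrank (by simp [h])
      have hle : Submodule.span k (Set.range fun i : Fin p => g ^ (i : ℕ)) ≤ LinearMap.range f.toLinearMap := by
        rw [Submodule.span_le]
        rintro _ ⟨i, rfl⟩
        refine ⟨MonoidAlgebra.single (Multiplicative.ofAdd ((i : ℕ) : ZMod p)) 1, ?_⟩
        show f _ = _
        rw [hf1, toAdd_ofAdd, ZMod.val_natCast, Nat.mod_eq_of_lt i.isLt]
      exact hle (hs.ge Submodule.mem_top)
    exact hr
  have hbij : Function.Bijective f := by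
    refine ⟨(LinearMap.injective_iff_surjective_of_finrank_eq_finrank (f := f.toLinearMap) ?_).2 hsurj, hsurj⟩
    rw [h, Module.finrank_eq_card_basis (MonoidAlgebra.basis G k)]
    simp [G]
  refine ⟨(BialgEquiv.ofBijective (BialgHom.ofAlgHom f ?_ ?_) hbij).symm⟩
  · refine MonoidAlgebra.algHom_ext (fun z => ?_) (Subsingleton.elim _ _)
    show Bialgebra.counitAlgHom k A (f (MonoidAlgebra.single z 1)) = _
    rw [hf1, map_pow, Bialgebra.counitAlgHom_apply, hg.counit_eq_one, one_pow]
    simp
  · refine MonoidAlgebra.algHom_ext (fun z => ?_) (Subsingleton.elim _ _)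
    show Algebra.TensorProduct.map f f (Coalgebra.comul (MonoidAlgebra.single z (1 : k))) =
      Bialgebra.comulAlgHom k A (f (MonoidAlgebra.single z 1))
    rw [hf1, map_pow, Bialgebra.comulAlgHom_apply, hg.comul_eq_tmul_self, Algebra.TensorProduct.tmul_pow,
      MonoidAlgebra.comul_single]
    simp [hf1]

theorem nonempty_alpha {p : ℕ} [Fact p.Prime] [CharP k p] [Module.Finite k A] {x : A}
    (hx : Coalgebra.comul x = x ⊗ₜ[k] (1 : A) + (1 : A) ⊗ₜ[k] x) (hxp : x ^ p = 0)
    (hli : LinearIndependent k (fun i : Fin p => x ^ (i : ℕ))) (h : Module.finrank k A = p) :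
    Nonempty (A ≃ₐc[k] AlphaP.A p k) := by
  have : NeZero p := ⟨(Fact.out : p.Prime).ne_zero⟩
  let f := AlphaP.lift p k x hxp
  have hsurj : Function.Surjective f := by
    have hr : ∀ a, a ∈ LinearMap.range f.toLinearMap := by
      intro a
      have hs := hli.span_eq_top_of_card_eq_finrank (by simp [h])
      have hle : Submodule.span k (Set.range fun i : Fin p => x ^ (i : ℕ)) ≤ LinearMap.range f.toLinearMap := by
        rw [Submodule.span_le]
        rintro _ ⟨i, rfl⟩
        exact ⟨AlphaP.x p k ^ (i : ℕ), by simp [f]⟩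
      exact hle (hs.ge Submodule.mem_top)
    exact hr
  have hbij : Function.Bijective f :=
    ⟨(LinearMap.injective_iff_surjective_of_finrank_eq_finrank (f := f.toLinearMap)
      ((AlphaP.finrank_eq p k).trans h.symm)).2 hsurj, hsurj⟩
  have hcx : Coalgebra.counit (R := k) x = 0 := by
    have h1 := congrArg (fun t => Coalgebra.counit (R := k)
      (TensorProduct.lid k A ((Coalgebra.counit (R := k)).rTensor A t))) hx
    simpa using h1
  refine ⟨(BialgEquiv.ofBijective (BialgHom.ofAlgHom f ?_ ?_) hbij).symm⟩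
  · refine AlphaP.algHom_ext ?_
    simp [f, hcx]
  · refine AlphaP.algHom_ext ?_
    simp [f, hx]

theorem isReduced_of_bijective_eval {n : ℕ} {g0 : WithConv (A →ₐ[k] k)}
    (hbij : Function.Bijective (fun (a : A) (j : Fin n) => (g0 ^ (j : ℕ)) a)) : IsReduced A :=
  isReduced_of_injective (RingHom.pi fun j : Fin n => ((g0 ^ (j : ℕ)).ofConv).toRingHom) hbij.1

/-- The classification in one universe. -/
theorem main [IsAlgClosed k] (p : ℕ) [Fact p.Prime] [CharP k p] (ℓ : ℕ) [Fact ℓ.Prime]
    (hA : Module.finrank k A = ℓ) :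
    (ℓ ≠ p → Nonempty (A ≃ₐc[k] ConstGrp.F k (Multiplicative (ZMod ℓ)))) ∧
      (ℓ = p → Nonempty (A ≃ₐc[k] ConstGrp.F k (Multiplicative (ZMod p))) ∨
        Nonempty (A ≃ₐc[k] MonoidAlgebra k (Multiplicative (ZMod p))) ∨
        Nonempty (A ≃ₐc[k] AlphaP.A p k)) := by
  haveI : Module.Finite k A := Module.finite_of_finrank_pos (hA ▸ (Fact.out : ℓ.Prime).pos)
  refine ⟨fun hne => ?_, fun he => ?_⟩
  · rcases Groth.Agent.OortTate.dichotomy hA with ⟨g0, hg0, hbij⟩ | ⟨hchar, -⟩
    · exact nonempty_constGrp hg0 hbij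
    · exact absurd (CharP.eq k hchar ‹CharP k p›) hne
  · subst he
    rcases Groth.Agent.OortTate.dichotomy hA with ⟨g0, hg0, hbij⟩ | ⟨-, N, hN⟩
    · exact Or.inl (nonempty_constGrp hg0 hbij)
    right
    haveI := isLocalRing_of_aug_nilpotent hN
    haveI : Coalgebra.IsCocomm k A := Groth.Agent.S7970.result k A ℓ Fact.out hA
    have h1 : 1 < Module.finrank k A := hA ▸ (Fact.out : ℓ.Prime).one_lt
    have hd : Module.finrank k (CartDual.D k A) = ℓ :=
      (Groth.Misc1.SimpleGrp.finrank_dual (k := k) (A := A)).trans hA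
    rcases Groth.Agent.OortTate.dichotomy (A := CartDual.D k A) hd with ⟨g0, -, hbij⟩ | ⟨-, M, hM⟩
    · obtain ⟨g, hg, hgp, hli, hrk⟩ := Groth.Misc1.SimpleGrp.mu_p (k := k) (A := A) ℓ
        (isReduced_of_bijective_eval hbij) h1 (simple ℓ hA)
      exact Or.inl (nonempty_mu hg hgp hli hrk)
    · obtain ⟨x, hx, hxp, hli, hrk⟩ := Groth.Misc1.SimpleGrp.alpha_p (k := k) (A := A) ℓ
        (isLocalRing_of_aug_nilpotent hM) h1 (simple ℓ hA)
      exact Or.inr (nonempty_alpha hx hxp hli hrk)

/-- The transported equivalence as a bialgebra equivalence. -/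
theorem nonempty_transport {k : Type u} {A₀ : Type u} {A : Type v} [CommRing k] [CommRing A₀] [Algebra k A₀]
    [CommRing A] [HopfAlgebra k A] (e : A₀ ≃ₐ[k] A) :
    letI := HopfDim.hopfAlgebra e
    Nonempty (A ≃ₐc[k] A₀) := by
  letI := HopfDim.hopfAlgebra e
  refine ⟨BialgEquiv.ofAlgEquiv e.symm ?_ ?_⟩
  · refine AlgHom.ext fun a => ?_
    show Bialgebra.counitAlgHom k A (e (e.symm a)) = _
    rw [e.apply_symm_apply]
  · refine AlgHom.ext fun a => ?_
    show _ = Algebra.TensorProduct.map e.symm.toAlgHom e.symm.toAlgHom (Coalgebra.comul (e (e.symm a)))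
    rw [e.apply_symm_apply]
    rfl

end Groth.HopfPrimeRank
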