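import Groth.Agent.Sga3.HopfFiniteGroup
import Groth.Prelude.Def_AlphaP
import Mathlib

/-!
Tangent functionals of a commutative bialgebra in characteristic `p`: binomial Leibniz rule, a
tangent functional `v` with `v ^ p = 0` or `v ^ p = v`, and the maps to `α_p` or `μ_p` they give.
-/

set_option autoImplicit false
set_option linter.style.haveILetI false

universe u v

open TensorProduct WithConv Polynomial

namespace Groth.HopfTangent

variable {k : Type u} [Field k] {A : Type v} [CommRing A] [Bialgebra k A]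

/-- A derivation at the neutral element. -/
def IsTan (w : WithConv (A →ₗ[k] k)) : Prop :=
  ∀ a b : A, w (a * b) = Coalgebra.counit (R := k) a * w b + w a * Coalgebra.counit (R := k) b

theorem IsTan.one {w : WithConv (A →ₗ[k] k)} (hw : IsTan w) : w 1 = 0 := by
  simpa using hw 1 1

theorem mul_apply' (f g : WithConv (A →ₗ[k] k)) (a : A) :
    (f * g) a = LinearMap.mul' k k (TensorProduct.map f.ofConv g.ofConv (Coalgebra.comul (R := k) a)) :=
  LinearMap.convMul_apply f g a

theorem one_apply' (a : A) : (1 : WithConv (A →ₗ[k] k)) a = Coalgebra.counit (R := k) a := by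
  simp [LinearMap.convOne_def]

/-- Binomial Leibniz rule for the convolution powers of a tangent functional. -/
theorem IsTan.pow_apply_mul {w : WithConv (A →ₗ[k] k)} (hw : IsTan w) (n : ℕ) (a b : A) :
    (w ^ n) (a * b) = ∑ i ∈ Finset.range (n + 1), (n.choose i : k) * ((w ^ i) a * (w ^ (n - i)) b) := by
  induction n generalizing a b with
  | zero => simp [one_apply', Bialgebra.counit_mul]
  | succ n ih =>
    let β : ℕ → A ⊗[k] A →ₗ[k] k := fun i =>
      LinearMap.mul' k k ∘ₗ TensorProduct.map (w ^ i).ofConv (Coalgebra.counit (R := k) (A := A))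
    let γ : ℕ → A ⊗[k] A →ₗ[k] k := fun i =>
      LinearMap.mul' k k ∘ₗ TensorProduct.map (w ^ i).ofConv w.ofConv
    have key : ∀ z y : A ⊗[k] A, LinearMap.mul' k k (TensorProduct.map (w ^ n).ofConv w.ofConv (z * y)) =
        ∑ i ∈ Finset.range (n + 1), (n.choose i : k) * (β i z * γ (n - i) y + γ i z * β (n - i) y) := by
      intro z y
      induction z using TensorProduct.induction_on with
      | zero => simp
      | add z₁ z₂ h₁ h₂ =>
        simp only [add_mul, map_add, h₁, h₂, ← Finset.sum_add_distrib]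
        exact Finset.sum_congr rfl fun i _ => by ring
      | tmul a₁ a₂ =>
        induction y using TensorProduct.induction_on with
        | zero => simp
        | add y₁ y₂ h₁ h₂ =>
          simp only [mul_add, map_add, h₁, h₂, ← Finset.sum_add_distrib]
          exact Finset.sum_congr rfl fun i _ => by ring
        | tmul b₁ b₂ =>
          simp only [Algebra.TensorProduct.tmul_mul_tmul, TensorProduct.map_tmul, LinearMap.mul'_apply, β, γ,
            LinearMap.coe_comp, Function.comp_apply]
          rw [ih, hw, Finset.sum_mul]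
          exact Finset.sum_congr rfl fun i _ => by ring
    have hβ : ∀ i (c : A), β i (Coalgebra.comul (R := k) c) = (w ^ i) c := by
      intro i c
      have : (w ^ i * 1) c = β i (Coalgebra.comul (R := k) c) := by
        rw [mul_apply']
        rfl
      rw [← this, mul_one]
    have hγ : ∀ i (c : A), γ i (Coalgebra.comul (R := k) c) = (w ^ (i + 1)) c := by
      intro i c
      rw [pow_succ, mul_apply']
      rfl
    rw [pow_succ w n, mul_apply', Bialgebra.comul_mul, key,
      Finset.sum_choose_succ_mul (fun i j => (w ^ i) a * (w ^ j) b) n, ← Finset.sum_add_distrib]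
    refine Finset.sum_congr rfl fun i hi => ?_
    rw [hβ, hβ, hγ, hγ, show n - i + 1 = n + 1 - i by rw [Finset.mem_range] at hi; omega]
    ring

theorem IsTan.pow_one_apply {w : WithConv (A →ₗ[k] k)} (hw : IsTan w) {n : ℕ} (hn : n ≠ 0) :
    (w ^ n) (1 : A) = 0 := by
  obtain ⟨m, rfl⟩ := Nat.exists_eq_succ_of_ne_zero hn
  rw [pow_succ, mul_apply', Bialgebra.comul_one, Algebra.TensorProduct.one_def]
  simp [show w.ofConv 1 = 0 from hw.one]

theorem IsTan.pow_char {w : WithConv (A →ₗ[k] k)} (hw : IsTan w) (p : ℕ) [hp : Fact p.Prime] [CharP k p] :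
    IsTan (w ^ p) := by
  intro a b
  rw [hw.pow_apply_mul, Finset.sum_range_succ, Finset.sum_eq_single_of_mem 0 (by simp [hp.out.pos])]
  · simp [one_apply', hp.out.pos]
  · intro i hi h0
    rw [(CharP.cast_eq_zero_iff k p _).2 (hp.out.dvd_choose_self h0 (Finset.mem_range.1 hi)), zero_mul]

theorem IsTan.smul {w : WithConv (A →ₗ[k] k)} (hw : IsTan w) (c : k) : IsTan (c • w) := by
  intro a b
  show c * w (a * b) = _ * (c * w b) + c * w a * _
  rw [hw]; ring

theorem IsTan.add {w w' : WithConv (A →ₗ[k] k)} (hw : IsTan w) (hw' : IsTan w') : IsTan (w + w') := by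
  intro a b
  show w (a * b) + w' (a * b) = _ * (w b + w' b) + (w a + w' a) * _
  rw [hw, hw']; ring

theorem isTan_zero : IsTan (0 : WithConv (A →ₗ[k] k)) := fun a b => by
  show (0 : k) = _ * 0 + 0 * _
  simp

theorem IsTan.sum {ι : Type*} (s : Finset ι) (w : ι → WithConv (A →ₗ[k] k)) (hw : ∀ i ∈ s, IsTan (w i)) :
    IsTan (∑ i ∈ s, w i) :=
  Finset.sum_induction w IsTan (fun _ _ => IsTan.add) isTan_zero hw

/-- A nonzero tangent functional with `v ^ p = 0` or `v ^ p = v`. -/
theorem exists_pow_char_eq [IsAlgClosed k] [Module.Finite k A] (p : ℕ) [hp : Fact p.Prime] [CharP k p]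
    {w : WithConv (A →ₗ[k] k)} (hw : IsTan w) (hw0 : w ≠ 0) :
    ∃ v : WithConv (A →ₗ[k] k), IsTan v ∧ v ≠ 0 ∧ (v ^ p = 0 ∨ v ^ p = v) := by
  classical
  by_contra hcon
  push Not at hcon
  haveI : Module.Finite k (WithConv (A →ₗ[k] k)) :=
    Module.Finite.equiv (WithConv.linearEquiv k (A →ₗ[k] k)).symm
  let x : ℕ → WithConv (A →ₗ[k] k) := fun i => w ^ (p ^ i)
  have hx : ∀ i, IsTan (x i) ∧ x i ≠ 0 := by
    intro i
    induction i with
    | zero => simpa [x] using ⟨hw, hw0⟩
    | succ i ih =>
      have e : x (i + 1) = x i ^ p := by simp only [x, ← pow_mul, ← pow_succ]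
      rw [e]
      exact ⟨ih.1.pow_char p, (hcon _ ih.1 ih.2).1⟩
  have hex : ∃ n, ¬ LinearIndependent k (fun i : Fin n => x i) :=
    ⟨Module.finrank k (WithConv (A →ₗ[k] k)) + 1, fun h => by
      simpa using h.fintype_card_le_finrank⟩
  have hn0 : Nat.find hex ≠ 0 := fun h => Nat.find_spec hex (h ▸ linearIndependent_empty_type)
  obtain ⟨n, hn⟩ := Nat.exists_eq_succ_of_ne_zero hn0
  have hnLI : LinearIndependent k (fun i : Fin n => x i) :=
    not_not.1 (Nat.find_min hex (by omega))
  have hspan : x n ∈ Submodule.span k (Set.range fun i : Fin n => x i) := by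
    have h := Nat.find_spec hex
    rw [hn, linearIndependent_finSucc'] at h
    by_contra h'
    exact h ⟨hnLI, h'⟩
  obtain ⟨c, hc⟩ := (Submodule.mem_span_range_iff_exists_fun k).1 hspan
  obtain ⟨m, rfl⟩ : ∃ m, n = m + 1 := by
    rcases Nat.eq_zero_or_pos n with rfl | h
    · exact absurd (by simpa using hspan) (hx 0).2
    · exact ⟨n - 1, by omega⟩
  let a : ℕ → k := fun i => if h : i < m + 1 then c ⟨i, h⟩ else 0
  have ha : x (m + 1) = ∑ i ∈ Finset.range (m + 1), a i • x i := by
    rw [← hc, ← Fin.sum_univ_eq_sum_range (fun i => a i • x i)]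
    refine Finset.sum_congr rfl fun i _ => ?_
    rw [show a i = c i from dif_pos i.isLt]
  let R : ℕ → k[X] := fun i => Nat.rec (C (a 0) * X ^ p) (fun j Rj => Rj ^ p + C (a (j + 1)) * X ^ p) i
  have hR : ∀ i, X ^ p ∣ R i ∧ (R i = 0 → ∀ j ≤ i, a j = 0) := by
    intro i
    induction i with
    | zero =>
      refine ⟨dvd_mul_left _ _, fun h j hj => ?_⟩
      rw [Nat.le_zero.1 hj]
      simpa [R, X_ne_zero] using h
    | succ i ih =>
      refine ⟨dvd_add (dvd_pow ih.1 hp.out.ne_zero) (dvd_mul_left _ _), fun h => ?_⟩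
      change R i ^ p + C (a (i + 1)) * X ^ p = 0 at h
      obtain ⟨S, hS⟩ := ih.1
      have hco : (R i ^ p).coeff p = 0 := by
        rw [hS, mul_pow, ← pow_mul, coeff_X_pow_mul', if_neg]
        nlinarith [hp.out.two_le]
      have h1 : a (i + 1) = 0 := by
        have := congrArg (fun q => q.coeff p) h
        simpa [hco] using this
      intro j hj
      rcases Nat.le_succ_iff.1 hj with hj | rfl
      · refine ih.2 ?_ j hj
        rw [h1, map_zero, zero_mul, add_zero] at h
        exact pow_eq_zero_iff hp.out.ne_zero |>.1 h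
      · exact h1
  obtain ⟨S, hS⟩ := (hR m).1
  have hS0 : S ≠ 0 := by
    intro h
    refine (hx (m + 1)).2 (ha.trans (Finset.sum_eq_zero fun i hi => ?_))
    rw [(hR m).2 (by rw [hS, h, mul_zero]) i (by simpa [Nat.lt_succ_iff] using hi), zero_smul]
  let g : k[X] := X ^ (p - 1) * S - 1
  have hp1 : p - 1 ≠ 0 := by have := hp.out.two_le; omega
  have hg : 0 < g.degree := by
    by_contra hdeg
    rw [not_lt] at hdeg
    have e := Polynomial.eq_C_of_degree_le_zero hdeg
    have h0 : g.coeff 0 = -1 := by simp [g, coeff_X_pow_mul', hp1.symm]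
    rw [h0, map_neg, map_one] at e
    have : X ^ (p - 1) * S = 0 := by simpa [g, sub_eq_iff_eq_add] using e
    rcases mul_eq_zero.1 this with h | h
    · exact pow_ne_zero _ X_ne_zero h
    · exact hS0 h
  obtain ⟨t, ht⟩ := IsAlgClosed.exists_root g hg.ne'
  have ht1 : t ^ (p - 1) * S.eval t = 1 := by
    simpa [g, IsRoot, sub_eq_zero] using ht
  have ht0 : t ≠ 0 := by rintro rfl; simp [zero_pow hp1] at ht1
  let b : ℕ → k := fun i => (R i).eval t
  have hb0 : b 0 = a 0 * t ^ p := by simp [b, R]
  have hbs : ∀ i, b (i + 1) = b i ^ p + a (i + 1) * t ^ p := fun i => by simp [b, R]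
  have hbm : b m = t := by
    show (R m).eval t = t
    rw [hS, eval_mul, eval_pow, eval_X]
    calc t ^ p * S.eval t = t * (t ^ (p - 1) * S.eval t) := by
          rw [← mul_assoc, ← pow_succ', Nat.sub_add_cancel hp.out.one_le]
      _ = t := by rw [ht1, mul_one]
  let v : WithConv (A →ₗ[k] k) := ∑ i ∈ Finset.range (m + 1), b i • x i
  have hv : IsTan v := IsTan.sum _ _ fun i _ => (hx i).1.smul _
  have hv0 : v ≠ 0 := by
    intro h0
    have h1 : ∑ i : Fin (m + 1), b i • x i = 0 := by
      rw [Fin.sum_univ_eq_sum_range (fun i => b i • x i)]; exact h0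
    exact ht0 (hbm ▸ Fintype.linearIndependent_iff.1 hnLI (fun i => b i) h1 ⟨m, by omega⟩)
  refine (hcon v hv hv0).2 ?_
  have hQ : v = aeval w (∑ i ∈ Finset.range (m + 1), C (b i) * X ^ p ^ i) := by
    simp [v, x, Algebra.smul_def]
  have hvp : v ^ p = ∑ i ∈ Finset.range (m + 1), (b i ^ p) • x (i + 1) := by
    rw [hQ, ← map_pow, sum_pow_char, map_sum]
    refine Finset.sum_congr rfl fun i _ => ?_
    rw [mul_pow, ← C_pow, ← pow_mul, ← pow_succ, map_mul, aeval_C, map_pow (aeval w) X, aeval_X,
      Algebra.smul_def]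
  rw [hvp, Finset.sum_range_succ, hbm, ha, Finset.smul_sum]
  show _ = ∑ i ∈ Finset.range (m + 1), b i • x i
  simp only [Finset.sum_range_succ' _ m, hb0, hbs, add_smul, Finset.sum_add_distrib, smul_smul,
    mul_comm (t ^ p)]
  abel

/-- A tangent functional killed by the `p`-th power gives a map onto `α_p`. -/
theorem exists_alpha (p : ℕ) [hp : Fact p.Prime] [CharP k p]
    {v : WithConv (A →ₗ[k] k)} (hv : IsTan v) (hv0 : v ≠ 0) (hvp : v ^ p = 0) :
    ∃ f : A →ₐc[k] AlphaP.A p k, Function.Surjective f := by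
  classical
  have hhigh : ∀ n, p ≤ n → v ^ n = 0 := fun n hn => pow_eq_zero_of_le hn hvp
  have hfac : ∀ n, n < p → (n.factorial : k) ≠ 0 := fun n hn h => by
    rw [CharP.cast_eq_zero_iff k p, hp.out.dvd_factorial] at h
    omega
  let c : ℕ → A → k := fun i a => (i.factorial : k)⁻¹ * (v ^ i) a
  let L : A →ₗ[k] AlphaP.A p k :=
    ∑ i ∈ Finset.range p, ((i.factorial : k)⁻¹ • (v ^ i).ofConv).smulRight (AlphaP.x p k ^ i)
  have hL : ∀ a, L a = ∑ i ∈ Finset.range p, c i a • AlphaP.x p k ^ i := by
    intro a
    simp [L, c]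
  have hchoose : ∀ n, n < p → ∀ i ≤ n,
      (n.factorial : k)⁻¹ * (n.choose i : k) = (i.factorial : k)⁻¹ * ((n - i).factorial : k)⁻¹ := by
    intro n hn i hi
    have h1 := hfac n hn
    have h2 := hfac i (by omega)
    have h3 := hfac (n - i) (by omega)
    field_simp
    rw [← Nat.choose_mul_factorial_mul_factorial hi]
    push_cast; ring
  have hflip : ∀ {M : Type u} [AddCommMonoid M] (F : ℕ → ℕ → M), (∀ i j, p ≤ i + j → F i j = 0) →
      ∑ n ∈ Finset.range p, ∑ i ∈ Finset.range (n + 1), F i (n - i) =
        ∑ i ∈ Finset.range p, ∑ j ∈ Finset.range p, F i j := by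
    intro M _ F hF
    rw [Finset.sum_range_diag_flip]
    refine Finset.sum_congr rfl fun i _ => Finset.sum_subset (by simp) fun j _ hj => hF i j ?_
    simp only [Finset.mem_range, not_lt] at hj
    omega
  have hmul : ∀ a b, L (a * b) = L a * L b := by
    intro a b
    rw [hL, hL a, hL b, Finset.sum_mul_sum,
      ← hflip (fun i j => c i a • AlphaP.x p k ^ i * (c j b • AlphaP.x p k ^ j)) fun i j hij => by
        rw [smul_mul_smul_comm, ← pow_add, AlphaP.x_pow_of_le p k hij, smul_zero]]
    refine Finset.sum_congr rfl fun n hn => ?_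
    simp only [c, hv.pow_apply_mul, Finset.mul_sum, Finset.sum_smul]
    refine Finset.sum_congr rfl fun i hi => ?_
    rw [Finset.mem_range] at hi hn
    rw [smul_mul_smul_comm, ← pow_add, Nat.add_sub_cancel' (by omega)]
    congr 1
    rw [← mul_assoc, hchoose n hn i (by omega)]
    ring
  have hone : L 1 = 1 := by
    rw [hL, Finset.sum_eq_single_of_mem 0 (by simp [hp.out.pos])]
    · simp [c, one_apply']
    · intro i _ hi
      simp [c, hv.pow_one_apply hi]
  let f : A →ₐ[k] AlphaP.A p k := AlgHom.ofLinearMap L hone hmul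
  have hf : ∀ a, f a = ∑ i ∈ Finset.range p, c i a • AlphaP.x p k ^ i := hL
  refine ⟨BialgHom.ofAlgHom f (AlgHom.ext fun a => ?_) (AlgHom.ext fun a => ?_), ?_⟩
  · show Bialgebra.counitAlgHom k (AlphaP.A p k) (f a) = Coalgebra.counit a
    rw [hf, map_sum, Finset.sum_eq_single_of_mem 0 (by simp [hp.out.pos])]
    · simp [c, one_apply']
    · intro i _ hi
      simp [zero_pow hi]
  · show Algebra.TensorProduct.map f f (Coalgebra.comul a) = Bialgebra.comulAlgHom k _ (f a)
    have hz : ∀ z : A ⊗[k] A, Algebra.TensorProduct.map f f z =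
        ∑ i ∈ Finset.range p, ∑ j ∈ Finset.range p,
          ((i.factorial : k)⁻¹ * (j.factorial : k)⁻¹ *
            LinearMap.mul' k k (TensorProduct.map (v ^ i).ofConv (v ^ j).ofConv z)) •
          ((AlphaP.x p k ^ i) ⊗ₜ[k] (AlphaP.x p k ^ j)) := by
      intro z
      induction z using TensorProduct.induction_on with
      | zero => simp
      | add x y hx hy => simp [map_add, hx, hy, mul_add, add_smul, Finset.sum_add_distrib]
      | tmul x y =>
        rw [Algebra.TensorProduct.map_tmul, hf, hf, TensorProduct.sum_tmul]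
        refine Finset.sum_congr rfl fun i _ => ?_
        rw [TensorProduct.tmul_sum]
        refine Finset.sum_congr rfl fun j _ => ?_
        rw [TensorProduct.smul_tmul_smul, TensorProduct.map_tmul, LinearMap.mul'_apply]
        congr 1
        show _ = _ * ((v ^ i) x * (v ^ j) y)
        ring
    rw [hz, hf, map_sum]
    simp_rw [← mul_apply', ← pow_add]
    rw [← hflip (fun i j => ((i.factorial : k)⁻¹ * (j.factorial : k)⁻¹ * (v ^ (i + j)) a) •
      ((AlphaP.x p k ^ i) ⊗ₜ[k] (AlphaP.x p k ^ j))) fun i j hij => by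
        rw [hhigh _ hij]
        show (_ * _ * (0 : k)) • _ = 0
        rw [mul_zero, zero_smul]]
    refine Finset.sum_congr rfl fun n hn => ?_
    rw [map_smul, map_pow, Bialgebra.comulAlgHom_apply, AlphaP.comul_x, add_pow, Finset.smul_sum]
    refine Finset.sum_congr rfl fun i hi => ?_
    rw [Finset.mem_range] at hi hn
    rw [Algebra.TensorProduct.tmul_pow, Algebra.TensorProduct.tmul_pow, one_pow, one_pow,
      Algebra.TensorProduct.tmul_mul_tmul, mul_one, one_mul, Nat.add_sub_cancel' (by omega),
      ← nsmul_eq_mul', ← Nat.cast_smul_eq_nsmul k, smul_smul]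
    congr 1
    simp only [c]
    rw [← hchoose n hn i (by omega)]
    ring
  · show Function.Surjective L
    have hve : ∃ a : A, v a = 1 := by
      obtain ⟨a, ha⟩ : ∃ a, v a ≠ 0 := by
        by_contra h
        push Not at h
        exact hv0 (WithConv.ofConv_injective (LinearMap.ext h))
      refine ⟨(v a)⁻¹ • a, ?_⟩
      show v.ofConv _ = 1
      rw [map_smul, smul_eq_mul]
      exact inv_mul_cancel₀ ha
    obtain ⟨a, ha⟩ := hve
    let a' := a - algebraMap k A (Coalgebra.counit (R := k) a)
    have ha' : v a' = 1 ∧ Coalgebra.counit (R := k) a' = 0 := by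
      refine ⟨?_, by simp [a']⟩
      show v.ofConv _ = 1
      rw [map_sub, Algebra.algebraMap_eq_smul_one, map_smul, show v.ofConv 1 = 0 from hv.one]
      simpa using ha
    set y := f a' with hy
    have hsplit : ∃ r, y = AlphaP.x p k * (1 + AlphaP.x p k * r) := by
      obtain ⟨q, hq⟩ : ∃ q, p = q + 2 := ⟨p - 2, by have := hp.out.two_le; omega⟩
      refine ⟨∑ i ∈ Finset.range q, c (i + 2) a' • AlphaP.x p k ^ i, ?_⟩
      rw [hy, hf, show Finset.range p = Finset.range (q + 1 + 1) by rw [hq],
        Finset.sum_range_succ', Finset.sum_range_succ', mul_add, Finset.mul_sum, Finset.mul_sum, mul_one]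
      simp only [c, pow_zero, one_apply', ha'.2, zero_add, pow_one, Nat.factorial_one, Nat.factorial_zero,
        Nat.cast_one, inv_one, one_mul, zero_smul, add_zero, ha'.1, one_smul]
      rw [add_comm]
      congr 1
      refine Finset.sum_congr rfl fun i _ => ?_
      rw [mul_smul_comm, mul_smul_comm, ← pow_succ', ← pow_succ']
    obtain ⟨r, hr⟩ := hsplit
    have hyp : y ^ p = 0 := by rw [hr, mul_pow, AlphaP.x_pow, zero_mul]
    have hnz : y ^ (p - 1) ≠ 0 := by
      have hu : IsUnit (1 + AlphaP.x p k * r) := by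
        rw [add_comm]
        exact ((Commute.all _ r).isNilpotent_mul_right ⟨p, AlphaP.x_pow p k⟩).isUnit_add_one
      rw [hr, mul_pow]
      intro h0
      rw [(hu.pow (p - 1)).mul_left_eq_zero] at h0
      have := (AlphaP.basis p k).ne_zero ⟨p - 1, by have := hp.out.pos; omega⟩
      exact this (by simpa using h0)
    have hLI : LinearIndependent k (fun i : Fin p => y ^ (i : ℕ)) := by
      rw [Fintype.linearIndependent_iff]
      intro g hg i
      by_contra hgi
      have hex : ∃ n, ∃ h : n < p, g ⟨n, h⟩ ≠ 0 := ⟨i, i.isLt, hgi⟩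
      obtain ⟨hlt, hne⟩ := Nat.find_spec hex
      have h2 := congrArg (· * y ^ (p - 1 - Nat.find hex)) hg
      simp only [Finset.sum_mul, smul_mul_assoc, ← pow_add, zero_mul] at h2
      rw [Finset.sum_eq_single ⟨Nat.find hex, hlt⟩] at h2
      · rw [show Nat.find hex + (p - 1 - Nat.find hex) = p - 1 by omega] at h2
        exact hne ((smul_eq_zero.1 h2).resolve_right hnz)
      · intro j _ hj
        rcases lt_or_ge (j : ℕ) (Nat.find hex) with hl | hl
        · have := Nat.find_min hex hl
          push Not at this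
          rw [show g j = 0 from this j.isLt, zero_smul]
        · have : (j : ℕ) ≠ Nat.find hex := fun e => hj (Fin.ext e)
          rw [pow_eq_zero_of_le (by omega) hyp, smul_zero]
      · simp
    have htop := hLI.span_eq_top_of_card_eq_finrank (by rw [AlphaP.finrank_eq, Fintype.card_fin])
    intro z
    have hle : Submodule.span k (Set.range fun i : Fin p => y ^ (i : ℕ)) ≤ LinearMap.range L := by
      rw [Submodule.span_le]
      rintro _ ⟨i, rfl⟩
      exact ⟨a' ^ (i : ℕ), (map_pow f a' i).trans rfl⟩
    exact hle (htop.ge Submodule.mem_top)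

/-- A tangent functional fixed by the `p`-th power gives a map onto `μ_p`. -/
theorem exists_mu (p : ℕ) [hp : Fact p.Prime] [CharP k p]
    {v : WithConv (A →ₗ[k] k)} (hv : IsTan v) (hv0 : v ≠ 0) (hvp : v ^ p = v) :
    ∃ f : A →ₐc[k] MonoidAlgebra k (Multiplicative (ZMod p)), Function.Surjective f := by
  classical
  let ι : ZMod p →+* k := ZMod.castHom dvd_rfl k
  let P : ZMod p → k[X] := fun c => 1 - (X - C (ι c)) ^ (p - 1)
  let e : ZMod p → WithConv (A →ₗ[k] k) := fun c => aeval v (P c)
  have hp1 : p - 1 ≠ 0 := by have := hp.out.two_le; omega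
  have hP : ∀ c d, (P c).eval (ι d) = if d = c then 1 else 0 := by
    intro c d
    simp only [P, eval_sub, eval_one, eval_pow, eval_X, eval_C, ← map_sub, ← map_pow]
    split_ifs with h
    · simp [h, zero_pow hp1]
    · rw [ZMod.pow_card_sub_one_eq_one (sub_ne_zero.2 h), map_one, sub_self]
  have hvan : ∀ Q : k[X], (∀ d, Q.eval (ι d) = 0) → aeval v Q = 0 := by
    intro Q hQ
    have hmon : (X ^ p - X : k[X]).Monic := monic_X_pow_sub (degree_X_le.trans_lt (by exact_mod_cast hp.out.one_lt))
    have hdecomp := modByMonic_add_div Q (X ^ p - X : k[X])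
    have hroot : ∀ d, (X ^ p - X : k[X]).eval (ι d) = 0 := fun d => by
      rw [eval_sub, eval_pow, eval_X, ← map_pow, ZMod.pow_card, sub_self]
    have hr : Q %ₘ (X ^ p - X) = 0 := by
      refine eq_zero_of_natDegree_lt_card_of_eval_eq_zero _ ι.injective (fun d => ?_) ?_
      · have := congrArg (eval (ι d)) hdecomp
        simpa [hroot, hQ] using this
      · rw [ZMod.card]
        have hne : (X ^ p - X : k[X]) ≠ 1 := fun h => by
          have h' := congrArg (eval (ι 0)) h
          rw [hroot, eval_one] at h'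
          exact zero_ne_one h'
        exact (natDegree_modByMonic_lt Q hmon hne).trans_eq (natDegree_eq_of_degree_eq_some (by
          rw [degree_sub_eq_left_of_degree_lt] <;> simp [hp.out.one_lt]))
    rw [← hdecomp, hr, zero_add, map_mul, map_sub, map_pow, aeval_X, hvp, sub_self, zero_mul]
  have hlag : ∀ Q : k[X], aeval v Q = ∑ c, Q.eval (ι c) • e c := by
    intro Q
    have h := hvan (Q - ∑ c, C (Q.eval (ι c)) * P c) fun d => by simp [eval_finset_sum, hP]
    rw [map_sub, sub_eq_zero, map_sum] at h
    rw [h]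
    exact Finset.sum_congr rfl fun c _ => by rw [map_mul, aeval_C, ← Algebra.smul_def]
  have horth : ∀ i j, e i * e j = if i = j then e i else 0 := by
    intro i j
    show aeval v (P i) * aeval v (P j) = _
    rw [← map_mul, hlag]
    simp only [eval_mul, hP]
    split_ifs with h
    · subst h; simp
    · refine Finset.sum_eq_zero fun c _ => ?_
      split_ifs <;> simp_all
  have hbil : ∀ (Q : k[X]) (a b : A), (aeval v Q) (a * b) =
      ∑ i, ∑ j, Q.eval (ι i + ι j) * (e i a * e j b) := by
    intro Q a b
    have hpow : ∀ (n : ℕ) (a : A), (v ^ n) a = ∑ i, ι i ^ n * e i a := by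
      intro n a
      have h := congrArg (fun φ : WithConv (A →ₗ[k] k) => φ a) (hlag (X ^ n))
      simpa [WithConv.ofConv_sum, LinearMap.sum_apply] using h
    induction Q using Polynomial.induction_on' with
    | add q r hq hr =>
      rw [map_add]
      show (aeval v q) (a * b) + (aeval v r) (a * b) = _
      simp only [hq, hr, eval_add, add_mul, Finset.sum_add_distrib]
    | monomial n s =>
      rw [aeval_monomial, ← Algebra.smul_def]
      show s * (v ^ n) (a * b) = _
      rw [hv.pow_apply_mul]
      simp only [hpow, eval_monomial, add_pow, Finset.mul_sum, Finset.sum_mul]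
      conv_rhs => rw [Finset.sum_comm]
      rw [Finset.sum_comm]
      refine Finset.sum_congr rfl fun i _ => ?_
      rw [Finset.sum_comm]
      exact Finset.sum_congr rfl fun j _ => Finset.sum_congr rfl fun l _ => by ring
  have hemul : ∀ c (a b : A), e c (a * b) = ∑ i, e i a * e (c - i) b := by
    intro c a b
    show (aeval v (P c)) (a * b) = _
    rw [hbil]
    refine Finset.sum_congr rfl fun i _ => ?_
    simp only [← map_add, hP, add_comm i _, ← eq_sub_iff_add_eq, ite_mul, one_mul, zero_mul,
      Finset.sum_ite_eq', Finset.mem_univ, if_true]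
  have hsum : ∑ c, e c = 1 := by
    have := hlag 1
    simpa using this.symm
  have hvsum : ∑ c, ι c • e c = v := by
    have := hlag X
    simpa using this.symm
  have he1 : ∀ c, e c (1 : A) = if c = 0 then 1 else 0 := by
    intro c
    show (aeval v (P c)) (1 : A) = _
    have : (aeval v (P c)) (1 : A) = (P c).eval (ι 0) := by
      generalize P c = Q
      induction Q using Polynomial.induction_on' with
      | add q r hq hr => rw [map_add, eval_add, ← hq, ← hr]; rfl
      | monomial n s =>
        rw [aeval_monomial, ← Algebra.smul_def]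
        show s * (v ^ n) (1 : A) = _
        rcases Nat.eq_zero_or_pos n with rfl | hn
        · simp
        · simp [hv.pow_one_apply hn.ne', zero_pow hn.ne']
    rw [this, hP]
    simp [eq_comm]
  have he0 : e 0 ≠ 0 := by
    intro h
    have := he1 0
    rw [h, if_pos rfl] at this
    exact zero_ne_one this
  have hne : ∀ c, e c ≠ 0 := by
    obtain ⟨c0, hc0, hce⟩ : ∃ c0 : ZMod p, c0 ≠ 0 ∧ e c0 ≠ 0 := by
      by_contra h
      push Not at h
      refine hv0 (hvsum ▸ Finset.sum_eq_zero fun c _ => ?_)
      rcases eq_or_ne c 0 with rfl | hc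
      · simp
      · rw [h c hc, smul_zero]
    have hadd : ∀ i j, e i ≠ 0 → e j ≠ 0 → e (i + j) ≠ 0 := by
      intro i j hi hj h0
      obtain ⟨b, hb⟩ : ∃ b, e j b ≠ 0 := by
        by_contra h
        push Not at h
        exact hj (WithConv.ofConv_injective (LinearMap.ext h))
      have h1 : ∑ i', e (i + j - i') b • e i' = 0 := by
        refine WithConv.ofConv_injective (LinearMap.ext fun a => ?_)
        have := hemul (i + j) a b
        rw [h0] at this
        simpa [WithConv.ofConv_sum, LinearMap.sum_apply, mul_comm] using this.symm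
      have h2 := congrArg (e i * ·) h1
      simp only [Finset.mul_sum, mul_smul_comm, horth, smul_ite, smul_zero, Finset.sum_ite_eq,
        Finset.mem_univ, if_true, mul_zero, add_sub_cancel_left] at h2
      exact hi ((smul_eq_zero.1 h2).resolve_left hb)
    intro c
    have hn : ∀ n : ℕ, e (n • c0) ≠ 0 := by
      intro n
      induction n with
      | zero => simpa using he0
      | succ n ih => rw [succ_nsmul]; exact hadd _ _ ih hce
    have := hn (c * c0⁻¹).val
    rwa [nsmul_eq_mul, ZMod.natCast_rightInverse, mul_assoc, inv_mul_cancel₀ hc0, mul_one] at this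
  let σ : ZMod p → MonoidAlgebra k (Multiplicative (ZMod p)) := fun c =>
    MonoidAlgebra.single (Multiplicative.ofAdd c) 1
  have hσ : ∀ i j, σ i * σ j = σ (i + j) := fun i j => by simp [σ, MonoidAlgebra.single_mul_single]
  let L : A →ₗ[k] MonoidAlgebra k (Multiplicative (ZMod p)) := ∑ c, (e c).ofConv.smulRight (σ c)
  have hL : ∀ a, L a = ∑ c, e c a • σ c := by
    intro a
    simp [L]
  have hone : L 1 = 1 := by
    rw [hL]
    simp [he1, σ, MonoidAlgebra.one_def]
  have hmul : ∀ a b, L (a * b) = L a * L b := by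
    intro a b
    rw [hL, hL, hL, Finset.sum_mul_sum]
    simp only [smul_mul_smul_comm, hσ, hemul, Finset.sum_smul]
    rw [Finset.sum_comm]
    refine Finset.sum_congr rfl fun i _ => Fintype.sum_equiv (Equiv.subRight i) _ _ fun c => ?_
    simp
  let f : A →ₐ[k] MonoidAlgebra k (Multiplicative (ZMod p)) := AlgHom.ofLinearMap L hone hmul
  have hf : ∀ a, f a = ∑ c, e c a • σ c := hL
  refine ⟨BialgHom.ofAlgHom f (AlgHom.ext fun a => ?_) (AlgHom.ext fun a => ?_), ?_⟩
  · show Bialgebra.counitAlgHom k _ (f a) = Coalgebra.counit a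
    rw [hf, map_sum, ← one_apply', ← hsum]
    simp [σ, WithConv.ofConv_sum, LinearMap.sum_apply]
  · show Algebra.TensorProduct.map f f (Coalgebra.comul a) = Bialgebra.comulAlgHom k _ (f a)
    have hz : ∀ z : A ⊗[k] A, Algebra.TensorProduct.map f f z =
        ∑ i, ∑ j, LinearMap.mul' k k (TensorProduct.map (e i).ofConv (e j).ofConv z) • (σ i ⊗ₜ[k] σ j) := by
      intro z
      induction z using TensorProduct.induction_on with
      | zero => simp
      | add x y hx hy => simp [map_add, hx, hy, add_smul, Finset.sum_add_distrib]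
      | tmul x y =>
        rw [Algebra.TensorProduct.map_tmul, hf, hf, TensorProduct.sum_tmul]
        refine Finset.sum_congr rfl fun i _ => ?_
        rw [TensorProduct.tmul_sum]
        refine Finset.sum_congr rfl fun j _ => ?_
        rw [TensorProduct.smul_tmul_smul, TensorProduct.map_tmul, LinearMap.mul'_apply]
    rw [hz, hf, map_sum]
    simp only [← mul_apply', horth, map_smul]
    refine Finset.sum_congr rfl fun i _ => ?_
    rw [Finset.sum_eq_single i]
    · simp [σ, MonoidAlgebra.comul_single]
    · intro j _ hj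
      rw [if_neg (Ne.symm hj)]
      exact zero_smul k _
    · simp
  · show Function.Surjective L
    rw [← LinearMap.dualMap_injective_iff, ← LinearMap.ker_eq_bot, LinearMap.ker_eq_bot']
    intro φ hφ
    have h1 : ∑ c, φ (σ c) • e c = 0 := by
      refine WithConv.ofConv_injective (LinearMap.ext fun a => ?_)
      have := LinearMap.congr_fun hφ a
      simpa [WithConv.ofConv_sum, LinearMap.sum_apply, hL, mul_comm] using this
    refine MonoidAlgebra.lhom_ext' fun g => LinearMap.ext_ring ?_
    have h2 := congrArg (e g.toAdd * ·) h1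
    simp only [Finset.mul_sum, mul_smul_comm, horth, smul_ite, smul_zero, Finset.sum_ite_eq,
      Finset.mem_univ, if_true, mul_zero] at h2
    exact (smul_eq_zero.1 h2).resolve_right (hne _)

end Groth.HopfTangent

namespace Groth.HopfTangent

variable {k : Type u} [Field k] [IsAlgClosed k] {A : Type u} [CommRing A] [HopfAlgebra k A] [Module.Finite k A]

/-- A non-reduced finite Hopf algebra has a nonzero tangent functional. -/
theorem exists_isTan (hA : ¬ IsReduced A) : ∃ w : WithConv (A →ₗ[k] k), IsTan w ∧ w ≠ 0 := by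
  obtain ⟨ι, _, g, N, hN0, -, -, hzero⟩ := Sga3.HopfFin.exists_decomp k A
  set m := Sga3.HopfFin.aug k A with hm
  have hne : ¬ m ≤ m ^ 2 := by
    intro h
    have hpow : ∀ n, 1 ≤ n → m ^ n = m := by
      have hmm : m * m = m := le_antisymm Ideal.mul_le_left (by rwa [← pow_two])
      intro n hn
      induction n, hn using Nat.le_induction with
      | base => exact pow_one _
      | succ n _ ih => rw [pow_succ, ih, hmm]
    refine hA ⟨fun a ha => hzero a fun i => ?_⟩
    have hai : a ∈ RingHom.ker (g i).ofConv :=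
      RingHom.mem_ker.2 (ha.map (g i).ofConv).eq_zero
    have h1 : (RingHom.ker (g i).ofConv ^ N).map (Sga3.HopfFin.translateEquiv k A (g i)).toRingEquiv =
        (RingHom.ker (g i).ofConv).map (Sga3.HopfFin.translateEquiv k A (g i)).toRingEquiv := by
      rw [Ideal.map_pow, Sga3.HopfFin.map_ker_translateEquiv]
      exact hpow N hN0
    have h2 := Ideal.mem_map_of_mem (Sga3.HopfFin.translateEquiv k A (g i)).toRingEquiv hai
    rw [← h1, Ideal.mem_map_of_equiv] at h2
    obtain ⟨b, hb, hbe⟩ := h2
    exact (Sga3.HopfFin.translateEquiv k A (g i)).injective hbe ▸ hb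
  obtain ⟨a₀, ha₀, ha₀'⟩ := Set.not_subset.1 hne
  have hεm : ∀ x ∈ m, Coalgebra.counit (R := k) x = 0 := fun x hx => hx
  let B : Submodule k A := (m ^ 2).restrictScalars k ⊔ k ∙ (1 : A)
  have hB : a₀ ∉ B := by
    intro h
    obtain ⟨z, hz, c, hc, e⟩ := Submodule.mem_sup.1 h
    obtain ⟨c, rfl⟩ := Submodule.mem_span_singleton.1 hc
    have h0 := congrArg (Coalgebra.counit (R := k)) e
    rw [map_add, map_smul, hεm z (Ideal.pow_le_self two_ne_zero hz), hεm a₀ ha₀, Bialgebra.counit_one,
      zero_add, smul_eq_mul, mul_one] at h0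
    rw [h0, zero_smul, add_zero] at e
    exact ha₀' (e ▸ hz)
  obtain ⟨ξ, hξ0, hξ⟩ := Submodule.exists_le_ker_of_notMem hB
  refine ⟨toConv ξ, fun a b => ?_, fun h => hξ0 ?_⟩
  · have h1 : ξ 1 = 0 := hξ (Submodule.mem_sup_right (Submodule.mem_span_singleton_self _))
    have hsub : ∀ x, x - algebraMap k A (Coalgebra.counit (R := k) x) ∈ m := fun x => by
      rw [hm, Sga3.HopfFin.aug, RingHom.mem_ker, map_sub, AlgHom.commutes]
      exact sub_self _
    have h2 : ξ ((a - algebraMap k A (Coalgebra.counit (R := k) a)) *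
        (b - algebraMap k A (Coalgebra.counit (R := k) b))) = 0 :=
      hξ (Submodule.mem_sup_left (show _ ∈ m ^ 2 by rw [pow_two]; exact Ideal.mul_mem_mul (hsub a) (hsub b)))
    simp only [Algebra.algebraMap_eq_smul_one, sub_mul, mul_sub, smul_mul_assoc, mul_smul_comm, one_mul,
      mul_one, map_sub, map_smul, h1, smul_eq_mul, mul_zero, sub_zero] at h2
    show ξ (a * b) = _ * ξ b + ξ a * _
    linear_combination h2
  · exact congrArg (fun φ : WithConv (A →ₗ[k] k) => φ a₀) h

theorem main (p : ℕ) [Fact p.Prime] [CharP k p] (hA : ¬ IsReduced A) :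
    (∃ f : A →ₐc[k] MonoidAlgebra k (Multiplicative (ZMod p)), Function.Surjective f) ∨
      (∃ f : A →ₐc[k] AlphaP.A p k, Function.Surjective f) := by
  obtain ⟨w, hw, hw0⟩ := exists_isTan (k := k) hA
  obtain ⟨v, hv, hv0, h | h⟩ := exists_pow_char_eq p hw hw0
  · exact Or.inr (exists_alpha p hv hv0 h)
  · exact Or.inl (exists_mu p hv hv0 h)

end Groth.HopfTangent
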