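import Groth.Agent.ReducedNormal.Basic

/-!
# Rings integrally closed in a finite product of normal domains

`B → C` injective and integrally closed, `φ i : C → K i` jointly injective with separating
idempotents: the minimal primes of `B` are the kernels of `φ i`, and the localizations of `B` at
primes are integrally closed domains if quotients `b'/b` integral over `B` lift to `C`.
-/

set_option autoImplicit false
set_option linter.style.haveILetI false

universe u

open Polynomial

namespace Groth.PropsBasic.IdempotentNormal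

variable {B C : Type u} [CommRing B] [CommRing C] (ι : B →+* C) (hinj : Function.Injective ι)
  (hic : ∀ c : C, ι.IsIntegralElem c → c ∈ Set.range ι)
  {I : Type u} [Finite I] (K : I → Type u) [∀ i, Field (K i)] (φ : ∀ i, C →+* K i)
  (hφ : ∀ c : C, (∀ i, φ i c = 0) → c = 0)
  (hsep : ∀ i, ∃ c : C, φ i c = 1 ∧ ∀ j, j ≠ i → φ j c = 0)

/-- The prime of `B` attached to a factor. -/
def q (i : I) : Ideal B := RingHom.ker ((φ i).comp ι)

omit [Finite I] in
lemma q_isPrime (i : I) : (q ι K φ i).IsPrime := RingHom.ker_isPrime _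

omit [Finite I] in
include hinj hic hφ hsep in
lemma exists_idem (i : I) : ∃ e : B, φ i (ι e) = 1 ∧ (∀ j, j ≠ i → φ j (ι e) = 0) ∧
    ∀ b ∈ q ι K φ i, e * b = 0 := by
  obtain ⟨c, hc1, hc0⟩ := hsep i
  have hcc : c * c - c = 0 := hφ _ fun j => by
    rcases eq_or_ne j i with rfl | h <;> simp [*]
  haveI := ((φ i).comp ι).domain_nontrivial
  obtain ⟨e, rfl⟩ := hic c ⟨X ^ 2 - X, monic_X_pow_sub (by rw [degree_X]; norm_num), by
    simpa [pow_two] using hcc⟩
  refine ⟨e, hc1, hc0, fun b hb => hinj ?_⟩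
  rw [map_zero]
  refine hφ _ fun j => ?_
  rcases eq_or_ne j i with rfl | h
  · rw [map_mul, map_mul, (RingHom.mem_ker.mp hb : φ j (ι b) = 0), mul_zero]
  · rw [map_mul, map_mul, hc0 j h, zero_mul]

omit [Finite I] in
include hinj hic hφ hsep in
lemma q_le_injective {i j : I} (h : q ι K φ i ≤ q ι K φ j) : i = j := by
  by_contra hne
  obtain ⟨e, he1, he0, -⟩ := exists_idem ι hinj hic K φ hφ hsep j
  have h0 : e ∈ q ι K φ i := he0 i hne
  exact one_ne_zero (he1.symm.trans (h h0 : φ j (ι e) = 0))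

include hinj hφ in
lemma exists_q_le (p : Ideal B) [p.IsPrime] : ∃ i, q ι K φ i ≤ p := by
  haveI := Fintype.ofFinite I
  refine ((‹p.IsPrime›).inf_le' (s := (Finset.univ : Finset I)) (f := q ι K φ)).mp
    (fun b hb => ?_) |>.imp fun i h => h.2
  rw [show b = 0 from hinj (by
    rw [map_zero]
    exact hφ _ fun i => Submodule.mem_finsetInf.mp hb i (Finset.mem_univ i))]
  exact p.zero_mem

include hinj hic hφ hsep in
lemma eq_q_of_le {p : Ideal B} [p.IsPrime] {i : I} (h : p ≤ q ι K φ i) : p = q ι K φ i := by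
  obtain ⟨j, hj⟩ := exists_q_le ι hinj K φ hφ p
  obtain rfl := q_le_injective ι hinj hic K φ hφ hsep (hj.trans h)
  exact le_antisymm h hj

include hinj hic hφ hsep in
theorem isIntegrallyClosed_localization
    (hlift : ∀ (i : I) (a b : B) (P : B[X]), P.Monic → φ i (ι b) ≠ 0 →
      φ i (ι ((P.scaleRoots b).eval a)) = 0 →
      ∃ c : C, φ i (ι b) * φ i c = φ i (ι a) ∧ ∀ j, j ≠ i → φ j c = 0)
    (p : Ideal B) [p.IsPrime] :
    IsDomain (Localization.AtPrime p) ∧ IsIntegrallyClosed (Localization.AtPrime p) := by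
  obtain ⟨i, hi⟩ := exists_q_le ι hinj K φ hφ p
  obtain ⟨e, he1, he0, heq⟩ := exists_idem ι hinj hic K φ hφ hsep i
  have hep : e ∉ p := fun h => by
    have : 1 - e ∈ q ι K φ i := by
      show φ i (ι (1 - e)) = 0
      rw [map_sub, map_one, map_sub, map_one, he1, sub_self]
    exact (‹p.IsPrime›).ne_top
      ((Ideal.eq_top_iff_one _).mpr (by simpa using add_mem (hi this) h))
  haveI := q_isPrime ι K φ i
  haveI : IsIntegrallyClosed (B ⧸ q ι K φ i) := by
    refine (isIntegrallyClosed_iff (FractionRing (B ⧸ q ι K φ i))).mpr fun {x} hx => ?_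
    obtain ⟨a, ⟨s, hs⟩, hxs⟩ := IsLocalization.exists_mk'_eq (nonZeroDivisors (B ⧸ q ι K φ i)) x
    obtain ⟨a, rfl⟩ := Ideal.Quotient.mk_surjective a
    obtain ⟨b, rfl⟩ := Ideal.Quotient.mk_surjective s
    obtain ⟨P₀, hP₀, hP₀x⟩ := hx
    obtain ⟨P, hP, -, hPm⟩ := Polynomial.lifts_and_degree_eq_and_monic
      ((Polynomial.mem_lifts _).mpr (Polynomial.map_surjective (Ideal.Quotient.mk (q ι K φ i))
        Ideal.Quotient.mk_surjective P₀)) hP₀
    let θ : B →+* FractionRing (B ⧸ q ι K φ i) :=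
      (algebraMap (B ⧸ q ι K φ i) _).comp (Ideal.Quotient.mk (q ι K φ i))
    have hθ : θ b * x = θ a := by
      rw [← hxs, mul_comm]
      exact IsLocalization.mk'_spec _ _ _
    have hPx : eval₂ θ x P = 0 := by
      rw [← eval₂_map, hP]; exact hP₀x
    have h1 : θ ((P.scaleRoots b).eval a) = 0 := by
      rw [← eval₂_at_apply, ← hθ, scaleRoots_eval₂_mul, hPx, mul_zero]
    have h1' : Ideal.Quotient.mk (q ι K φ i) ((P.scaleRoots b).eval a) = 0 :=
      IsFractionRing.to_map_eq_zero_iff.mp h1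
    have h2 : φ i (ι ((P.scaleRoots b).eval a)) = 0 := Ideal.Quotient.eq_zero_iff_mem.mp h1'
    have hb : φ i (ι b) ≠ 0 := fun h => nonZeroDivisors.ne_zero hs
      (Ideal.Quotient.eq_zero_iff_mem.mpr h)
    obtain ⟨c, hc, hc0⟩ := hlift i a b P hPm hb h2
    -- `c` is integral over `B`
    have h3 : φ i (eval₂ ι c P) = 0 := by
      rw [Polynomial.hom_eval₂]
      have h4 : ((φ i).comp ι) ((P.scaleRoots b).eval a) = 0 := h2
      rw [← eval₂_at_apply,
        show ((φ i).comp ι) a = ((φ i).comp ι) b * φ i c from hc.symm,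
        scaleRoots_eval₂_mul] at h4
      exact (mul_eq_zero.mp h4).resolve_left (pow_ne_zero _ hb)
    obtain ⟨d, hd⟩ := hic c ⟨X * P, monic_X.mul hPm, by
      rw [eval₂_mul, eval₂_X]
      refine hφ _ fun j => ?_
      rcases eq_or_ne j i with rfl | h
      · rw [map_mul, h3, mul_zero]
      · rw [map_mul, hc0 j h, zero_mul]⟩
    refine ⟨Ideal.Quotient.mk _ d, ?_⟩
    have h5 : θ b * θ d = θ a := by
      rw [← map_mul]
      have hk : Ideal.Quotient.mk (q ι K φ i) (b * d) = Ideal.Quotient.mk (q ι K φ i) a := by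
        rw [Ideal.Quotient.eq]
        show φ i (ι (b * d - a)) = 0
        rw [map_sub, map_mul, hd, map_sub, map_mul, hc, sub_self]
      show algebraMap _ _ (Ideal.Quotient.mk (q ι K φ i) (b * d)) = _
      rw [hk]
      rfl
    refine mul_left_cancel₀ (a := θ b) ?_ (h5.trans hθ.symm)
    exact fun h => nonZeroDivisors.ne_zero hs
      ((IsFractionRing.to_map_eq_zero_iff (K := FractionRing (B ⧸ q ι K φ i))).mp h)
  obtain ⟨q', hq', ⟨eqv⟩⟩ := Groth.ReducedNormal.nonempty_localization_equiv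
    (Ideal.Quotient.mk (q ι K φ i)) Ideal.Quotient.mk_surjective p e hep
    (fun z hz => heq z (Ideal.Quotient.eq_zero_iff_mem.mp hz))
  haveI := hq'
  haveI : IsDomain (Localization.AtPrime q') :=
    IsLocalization.isDomain_localization (Ideal.primeCompl_le_nonZeroDivisors q')
  haveI : IsIntegrallyClosed (Localization.AtPrime q') :=
    isIntegrallyClosed_of_isLocalization _ q'.primeCompl (Ideal.primeCompl_le_nonZeroDivisors q')
  exact ⟨eqv.symm.toMulEquiv.isDomain _, IsIntegrallyClosed.of_equiv eqv⟩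

end Groth.PropsBasic.IdempotentNormal
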