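import Mathlib
import Groth.Prelude.Def_Found
import Groth.Agent.Calg4.Japanese

/-!
# N-2 is a local property for domains
-/

universe u

open CategoryTheory AlgebraicGeometry TopologicalSpace

set_option backward.isDefEq.respectTransparency.types false

namespace Groth.PropsBasic.JapaneseLocal

open CAlg

theorem isN2_of_isLocalization {R : Type u} [CommRing R] [IsDomain R] (M : Submonoid R) (S : Type u)
    [CommRing S] [IsDomain S] [Algebra R S] [IsLocalization M S] (h : IsN2 R) : IsN2 S := by
  intro L _ _ _ _ hfin
  let K := FractionRing S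
  have hK : IsFractionRing R K := Groth.Calg4.isFractionRing_comp R M S K
  let _ : Algebra R L := ((algebraMap S L).comp (algebraMap R S)).toAlgebra
  have : IsScalarTower R S L := IsScalarTower.of_algebraMap_eq' rfl
  have : IsScalarTower R K L := IsScalarTower.of_algebraMap_eq fun r => by
    rw [IsScalarTower.algebraMap_apply R S L, IsScalarTower.algebraMap_apply R S K,
      IsScalarTower.algebraMap_apply S K L]
  exact Groth.Calg4.finite_ic_of_isLocalization M S L (Groth.Calg4.finite_ic_of_isN2 h K L)

theorem isN2_of_equiv {R : Type u} [CommRing R] [IsDomain R] {S : Type u} [CommRing S] [IsDomain S]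
    (e : R ≃+* S) (h : IsN2 R) : IsN2 S := by
  let _ := e.toRingHom.toAlgebra
  have : IsLocalization (⊥ : Submonoid R) S :=
    { map_units := fun y => by
        rw [(Submonoid.mem_bot).mp y.2, map_one]; exact isUnit_one
      surj := fun z => ⟨⟨e.symm z, 1⟩, by
        rw [OneMemClass.coe_one, map_one, mul_one]; exact (e.apply_symm_apply z).symm⟩
      exists_of_eq := fun {x y} hxy => ⟨1, by rw [show x = y from e.injective hxy]⟩ }
  exact isN2_of_isLocalization ⊥ S h

theorem isN2_of_span {R : Type u} [CommRing R] [IsDomain R] (s : Finset R)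
    (hs : Ideal.span (s : Set R) = ⊤)
    (h : ∀ f ∈ s, f ≠ 0 → ∀ (S : Type u) [CommRing S] [IsDomain S] [Algebra R S]
      [IsLocalization.Away f S], IsN2 S) : IsN2 R := by
  intro L _ _ _ _ hfin
  refine Groth.Calg4.finite_ic_of_span (fun f : s => (f : R)) (by simpa using hs) fun f => ?_
  by_cases hf : (f : R) = 0
  · left
    rw [hf, map_zero]
  · right
    have hle : Submonoid.powers (f : R) ≤ nonZeroDivisors R :=
      le_nonZeroDivisors_of_noZeroDivisors fun h0 => by
        obtain ⟨n, hn⟩ := h0
        exact hf (eq_zero_of_pow_eq_zero hn)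
    let S := Localization.Away (f : R)
    have : IsDomain S := IsLocalization.isDomain_localization hle
    let K := FractionRing R
    have hu : IsUnit (algebraMap R K f) :=
      (IsFractionRing.injective R K |>.ne_iff' (map_zero _)).2 hf |>.isUnit
    let _ : Algebra S K := (IsLocalization.Away.lift (f : R) hu).toAlgebra
    have : IsScalarTower R S K := IsScalarTower.of_algebraMap_eq fun r =>
      (IsLocalization.Away.lift_eq (f : R) hu r).symm
    have : IsFractionRing S K :=
      IsFractionRing.isFractionRing_of_isDomain_of_isLocalization (Submonoid.powers (f : R)) S K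
    let _ : Algebra S L := ((algebraMap K L).comp (algebraMap S K)).toAlgebra
    have : IsScalarTower S K L := IsScalarTower.of_algebraMap_eq' rfl
    have : IsScalarTower R S L := IsScalarTower.of_algebraMap_eq fun r => by
      rw [IsScalarTower.algebraMap_apply S K L, ← IsScalarTower.algebraMap_apply R S K,
        ← IsScalarTower.algebraMap_apply R K L]
    exact Groth.Calg4.fgAway_of_isLocalizationAway (f : R) S
      (Groth.Calg4.finite_ic_of_isN2 (h f f.2 hf S) K L)

variable (X : Scheme.{u}) [IsIntegral X]

/-- N-2 spreads from a cover to all affine opens. -/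
theorem isN2_of_cover {ι : Type u} (U : ι → X.Opens) [∀ i, Nonempty (U i)] (hU : iSup U = ⊤)
    (haff : ∀ i, IsAffineOpen (U i)) (hJ : ∀ i, IsN2 Γ(X, U i)) (V : X.Opens) [Nonempty V]
    (hV : IsAffineOpen V) : IsN2 Γ(X, V) := by
  suffices ∀ W : X.affineOpens, ∀ hW : Nonempty W.1, @IsN2 Γ(X, W.1) _ inferInstance from
    this ⟨V, hV⟩ inferInstance
  intro W
  induction W using of_affine_open_cover (fun i => (⟨U i, haff i⟩ : X.affineOpens)) hU with
  | basicOpen W f hW =>
    intro hne
    obtain ⟨⟨x, hx⟩⟩ := hne
    have : Nonempty W.1 := ⟨⟨x, X.basicOpen_le f hx⟩⟩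
    have : Nonempty (X.affineBasicOpen f).1 := ⟨⟨x, hx⟩⟩
    have : Nonempty (X.basicOpen f) := ⟨⟨x, hx⟩⟩
    have := W.2.isLocalization_basicOpen f
    exact isN2_of_isLocalization (Submonoid.powers f) Γ(X, X.basicOpen f) (hW inferInstance)
  | openCover W s hs hW =>
    intro hne
    refine isN2_of_span s hs fun f hf hf0 S _ _ _ _ => ?_
    have : Nonempty (X.basicOpen f) := by
      by_contra h
      exact hf0 ((basicOpen_eq_bot_iff f).1 (eq_bot_iff.2 fun x hx => (h ⟨⟨x, hx⟩⟩).elim))
    have := W.2.isLocalization_basicOpen f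
    have : Nonempty (X.affineBasicOpen f).1 := ‹Nonempty (X.basicOpen f)›
    exact isN2_of_equiv
      (IsLocalization.algEquiv (Submonoid.powers f) Γ(X, X.basicOpen f) S).toRingEquiv
      (hW ⟨f, hf⟩ inferInstance)
  | hU i => exact fun _ => hJ i

end Groth.PropsBasic.JapaneseLocal
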