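import Mathlib

/-!
# Jouanolou's trick for quasi-affine schemes
-/

universe u

open CategoryTheory CategoryTheory.Limits AlgebraicGeometry TopologicalSpace

set_option backward.isDefEq.respectTransparency.types false

namespace Groth.PropsBasic.Jouanolou

variable {X : Scheme.{u}} {m : ℕ} (f : Fin m → Γ(X, ⊤))

/-- The polynomial ring on `a₁, …, aₘ, t` modulo `∑ aᵢ fᵢ = 1`. -/
noncomputable abbrev rel : MvPolynomial (Option (Fin m)) Γ(X, ⊤) :=
  ∑ i, MvPolynomial.X (some i) * MvPolynomial.C (f i) - 1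

/-- The coordinate ring of the torsor. -/
abbrev Ring' : Type u := MvPolynomial (Option (Fin m)) Γ(X, ⊤) ⧸ Ideal.span {rel f}

theorem basicOpen_subset_range {X : Scheme.{u}} [X.IsQuasiAffine] (r : Γ(X, ⊤))
    (hr : IsAffineOpen (X.basicOpen r)) (y : Spec Γ(X, ⊤))
    (hy : y ∈ PrimeSpectrum.basicOpen r) : y ∈ Set.range X.toSpecΓ := by
  have := isLocalization_basicOpen_of_qcqs isCompact_univ isQuasiSeparated_univ r
  let _ : Algebra Γ(X, ⊤) Γ(X, X.basicOpen r) := (X.presheaf.map (homOfLE le_top).op).hom.toAlgebra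
  have hloc : IsLocalization.Away r Γ(X, X.basicOpen r) := this
  have : y ∈ Set.range (Spec.map (X.presheaf.map (homOfLE (le_top : X.basicOpen r ≤ ⊤)).op)) := by
    change y ∈ Set.range (PrimeSpectrum.comap (algebraMap Γ(X, ⊤) Γ(X, X.basicOpen r)))
    rw [PrimeSpectrum.localization_away_comap_range Γ(X, X.basicOpen r) r]
    exact hy
  obtain ⟨z, rfl⟩ := this
  refine ⟨(X.basicOpen r).ι (hr.isoSpec.inv z), ?_⟩
  have h := Scheme.Opens.toSpecΓ_SpecMap_presheaf_map_top (X.basicOpen r)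
  have h2 := congrArg (fun φ : (X.basicOpen r).toScheme ⟶ _ => φ (hr.isoSpec.inv z)) h
  simp only [Scheme.Hom.comp_apply] at h2
  rw [← h2]
  congr 1
  exact congr($(hr.isoSpec.inv_hom_id) z)

theorem exists_torsor [X.IsQuasiAffine] (hf : ∀ x : X, ∃ i, x ∈ X.basicOpen (f i))
    (haff : ∀ i, IsAffineOpen (X.basicOpen (f i))) :
    ∃ (T : Scheme.{u}) (_ : IsAffine T) (p : T ⟶ X) (α : Fin m → Γ(T, ⊤)) (τ : Γ(T, ⊤)),
      ∑ i, α i * p.appTop (f i) = 1 ∧
      (∀ (Y : Scheme.{u}) (h : Y ⟶ X) (a : Fin m → Γ(Y, ⊤)) (t : Γ(Y, ⊤)),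
        ∑ i, a i * h.appTop (f i) = 1 →
          ∃ k : Y ⟶ T, k ≫ p = h ∧ (∀ i, k.appTop (α i) = a i) ∧ k.appTop τ = t) ∧
      (∀ (Y : Scheme.{u}) (k₁ k₂ : Y ⟶ T), k₁ ≫ p = k₂ ≫ p →
        (∀ i, k₁.appTop (α i) = k₂.appTop (α i)) → k₁.appTop τ = k₂.appTop τ → k₁ = k₂) := by
  let C := Ring' f
  let ι : Γ(X, ⊤) ⟶ CommRingCat.of C :=
    CommRingCat.ofHom ((Ideal.Quotient.mk (Ideal.span {rel f})).comp MvPolynomial.C)
  let T := Spec (CommRingCat.of C)
  let Φ : CommRingCat.of C ⟶ Γ(T, ⊤) := (Scheme.ΓSpecIso (CommRingCat.of C)).inv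
  let γ : Option (Fin m) → Γ(T, ⊤) := fun o => Φ (Ideal.Quotient.mk _ (MvPolynomial.X o))
  have hrel : ∑ i, γ (some i) * Φ (ι (f i)) = 1 := by
    have h : Ideal.Quotient.mk (Ideal.span {rel f}) (rel f) = 0 :=
      Ideal.Quotient.eq_zero_iff_mem.2 (Ideal.mem_span_singleton_self _)
    rw [rel, map_sub, sub_eq_zero, map_one, map_sum] at h
    have h1 := congrArg Φ h
    rw [map_one, map_sum] at h1
    simpa [γ, ι, map_mul] using h1
  -- the map to `X`
  let q : T ⟶ Spec Γ(X, ⊤) := Spec.map ι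
  have hrange : Set.range q ⊆ Set.range X.toSpecΓ := by
    rintro _ ⟨z, rfl⟩
    obtain ⟨i, hi⟩ : ∃ i, ι (f i) ∉ (z : PrimeSpectrum C).asIdeal := by
      by_contra h
      push Not at h
      apply (z : PrimeSpectrum C).isPrime.ne_top
      rw [Ideal.eq_top_iff_one]
      have h' : Ideal.Quotient.mk (Ideal.span {rel f}) (rel f) = 0 :=
        Ideal.Quotient.eq_zero_iff_mem.2 (Ideal.mem_span_singleton_self _)
      rw [rel, map_sub, sub_eq_zero, map_one, map_sum] at h'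
      rw [← h']
      exact Submodule.sum_mem _ fun j _ => by rw [map_mul]; exact Ideal.mul_mem_left _ _ (h j)
    have himg : X.toSpecΓ ''ᵁ X.basicOpen (f i) = PrimeSpectrum.basicOpen (f i) := by
      refine le_antisymm ?_ ?_
      · rw [← X.toSpecΓ_preimage_basicOpen]
        exact X.toSpecΓ.image_preimage_le _
      · intro y hy
        have hmem : y ∈ Set.range X.toSpecΓ :=
          Groth.PropsBasic.Jouanolou.basicOpen_subset_range (f i) (haff i) y hy
        obtain ⟨x, rfl⟩ := hmem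
        exact ⟨x, by rw [← X.toSpecΓ_preimage_basicOpen]; exact hy, rfl⟩
    have hz : q z ∈ X.toSpecΓ ''ᵁ X.basicOpen (f i) := by rw [himg]; exact hi
    exact Set.image_subset_range _ _ hz
  let p : T ⟶ X := IsOpenImmersion.lift X.toSpecΓ q hrange
  have hp : p ≫ X.toSpecΓ = q := IsOpenImmersion.lift_fac _ _ _
  have hpf : ∀ r : Γ(X, ⊤), p.appTop r = Φ (ι r) := by
    intro r
    have h := congrArg (fun φ : T ⟶ Spec Γ(X, ⊤) =>
      φ.appTop ((Scheme.ΓSpecIso Γ(X, ⊤)).inv r)) hp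
    simp only [Scheme.Hom.comp_appTop, CommRingCat.comp_apply, Scheme.toSpecΓ_appTop] at h
    have e1 : (Scheme.ΓSpecIso Γ(X, ⊤)).hom ((Scheme.ΓSpecIso Γ(X, ⊤)).inv r) = r :=
      congr($((Scheme.ΓSpecIso Γ(X, ⊤)).inv_hom_id) r)
    rw [e1] at h
    rw [h]
    exact (congr($(Scheme.ΓSpecIso_inv_naturality ι) r)).symm
  refine ⟨T, inferInstance, p, fun i => γ (some i), γ none, by simpa [hpf] using hrel, ?_, ?_⟩
  · intro Y h a t hat
    let ψ : MvPolynomial (Option (Fin m)) Γ(X, ⊤) →+* Γ(Y, ⊤) :=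
      MvPolynomial.eval₂Hom h.appTop.hom fun o => o.elim t a
    have hψ : ∀ r ∈ Ideal.span {rel f}, ψ r = 0 := by
      intro r hr
      obtain ⟨c, rfl⟩ := Ideal.mem_span_singleton'.1 hr
      simp only [map_mul, rel, map_sub, map_sum, map_one, ψ, MvPolynomial.eval₂Hom_X',
        MvPolynomial.eval₂Hom_C, Option.elim_some]
      rw [hat, sub_self, mul_zero]
    let φ : CommRingCat.of C ⟶ Γ(Y, ⊤) := CommRingCat.ofHom (Ideal.Quotient.lift _ ψ hψ)
    let k : Y ⟶ T := Y.toSpecΓ ≫ Spec.map φ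
    have hk : ∀ c : C, k.appTop (Φ c) = φ c := by
      intro c
      simp only [k, Scheme.Hom.comp_appTop, CommRingCat.comp_apply, Φ]
      have := congr($(Scheme.ΓSpecIso_inv_naturality φ) c)
      simp only [CommRingCat.comp_apply] at this
      erw [← this]
      rw [Scheme.toSpecΓ_appTop]
      exact congr($((Scheme.ΓSpecIso Γ(Y, ⊤)).inv_hom_id) _)
    refine ⟨k, ?_, fun i => ?_, ?_⟩
    · rw [← cancel_mono X.toSpecΓ, Category.assoc, hp, Scheme.toSpecΓ_naturality]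
      simp only [k, q, Category.assoc, ← Spec.map_comp]
      congr 2
      ext r
      exact (Ideal.Quotient.lift_mk _ ψ hψ).trans (MvPolynomial.eval₂Hom_C _ _ r)
    · rw [hk]
      exact (Ideal.Quotient.lift_mk _ ψ hψ).trans (MvPolynomial.eval₂Hom_X' _ _ _)
    · rw [hk]
      exact (Ideal.Quotient.lift_mk _ ψ hψ).trans (MvPolynomial.eval₂Hom_X' _ _ _)
  · intro Y k₁ k₂ hk hα hτ
    refine ext_of_isAffine ?_
    rw [← cancel_epi Φ]
    apply CommRingCat.hom_ext
    apply Ideal.Quotient.ringHom_ext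
    apply MvPolynomial.ringHom_ext
    · intro r
      change k₁.appTop (Φ (ι r)) = k₂.appTop (Φ (ι r))
      rw [← hpf, ← CommRingCat.comp_apply, ← CommRingCat.comp_apply, ← Scheme.Hom.comp_appTop,
        ← Scheme.Hom.comp_appTop, hk]
    · intro o
      cases o with
      | none => exact hτ
      | some i => exact hα i

end Groth.PropsBasic.Jouanolou
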