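import Groth.Agent.Calg8.Horrocks.Splitting

/-!
# From an isomorphism over Laurent series to a lattice over the polynomial ring

Helper library (no milestone statements here).
-/

set_option linter.style.haveILetI false

universe u

open Polynomial
open scoped TensorProduct

namespace Groth.PropsBasic

section Lattice

variable {S : Type u} [CommRing S] {F G : Type u} [AddCommGroup F] [Module S F]
  [AddCommGroup G] [Module S G]

/-- A linear isomorphism after base change from maps whose composites become the identity. -/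
noncomputable def baseChangeEquiv (T : Type u) [CommRing T] [Algebra S T] (f : F →ₗ[S] G)
    (f' : G →ₗ[S] F) (c : T) (h1 : c • LinearMap.baseChange T (f ∘ₗ f') = LinearMap.id)
    (h2 : c • LinearMap.baseChange T (f' ∘ₗ f) = LinearMap.id) :
    (T ⊗[S] F) ≃ₗ[T] (T ⊗[S] G) :=
  LinearEquiv.ofLinearMap (LinearMap.baseChange T f) (c • LinearMap.baseChange T f')
    (by rw [LinearMap.comp_smul, ← LinearMap.baseChange_comp, h1])
    (by rw [LinearMap.smul_comp, ← LinearMap.baseChange_comp, h2])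

theorem baseChange_one_sub_smul (T : Type u) [CommRing T] [Algebra S T] (x : S)
    (hx : algebraMap S T x = 0) (u : Module.End S F) :
    LinearMap.baseChange T (1 - x • u) = LinearMap.id := by
  refine TensorProduct.AlgebraTensorModule.ext fun t a => ?_
  simp [← algebraMap_smul T x, hx]

/-- Given maps in both directions whose composites are `x ^ k (1 - x W)`, the module generated by
the image and `x ^ k G` is finite projective, agrees with `F` modulo `x` and with `G` away from
`x`. -/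
theorem exists_lattice [Module.Finite S F] [Module.Finite S G] [Module.Projective S F]
    [Module.Projective S G] (x : S) (hx : x ∈ nonZeroDivisors S) (k : ℕ) (g : F →ₗ[S] G)
    (h : G →ₗ[S] F) (W : Module.End S G) (W' : Module.End S F)
    (hgh : g ∘ₗ h = x ^ k • (1 - x • W)) (hhg : h ∘ₗ g = x ^ k • (1 - x • W')) :
    ∃ (P : Submodule S G), Module.Finite S P ∧ Module.Projective S P ∧
      (∀ (T : Type u) [CommRing T] [Algebra S T], algebraMap S T x = 0 →
        Nonempty ((T ⊗[S] F) ≃ₗ[T] (T ⊗[S] P))) ∧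
      ∀ (T : Type u) [CommRing T] [Algebra S T], IsUnit (algebraMap S T x) →
        Nonempty ((T ⊗[S] P) ≃ₗ[T] (T ⊗[S] G)) := by
  have hreg : ∀ (m : ℕ) {E : Type u} [AddCommGroup E] [Module S E] [Module.Projective S E]
      {a b : E}, x ^ m • a = x ^ m • b → a = b := by
    intro m E _ _ _ a b hab
    refine (Module.Flat.isSMulRegular_of_nonZeroDivisors (pow_mem hx m) : IsSMulRegular E (x ^ m)) hab
  have hcomm : g ∘ₗ W' = W ∘ₗ g := by
    refine LinearMap.ext fun a => hreg (k + 1) ?_
    have h1 := congrArg g (LinearMap.congr_fun hhg a)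
    have h2 := LinearMap.congr_fun hgh (g a)
    simp only [LinearMap.comp_apply, LinearMap.smul_apply, LinearMap.sub_apply,
      Module.End.one_apply, map_smul, map_sub, smul_sub] at h1 h2 ⊢
    rw [h1, smul_smul, smul_smul, ← pow_succ] at h2
    exact sub_right_injective h2
  let Φ : F × G →ₗ[S] G := g.coprod (x ^ k • LinearMap.id)
  let P : Submodule S G := LinearMap.range Φ
  have hmem : ∀ (a : F) (b : G), g a + x ^ k • b ∈ P := fun a b => ⟨(a, b), rfl⟩
  have hq : ∀ p : P, ∃ q : F, x ^ k • q = h p := by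
    rintro ⟨-, ⟨a, b⟩, rfl⟩
    refine ⟨a - x • W' a + h b, ?_⟩
    show _ = h (g a + x ^ k • b)
    have h1 : h (g a) = x ^ k • (a - x • W' a) := LinearMap.congr_fun hhg a
    rw [smul_add, map_add, map_smul, h1]
  choose q hq using hq
  let qL : P →ₗ[S] F :=
    { toFun := q
      map_add' := fun a b => hreg k (by rw [smul_add, hq, hq, hq, Submodule.coe_add, map_add])
      map_smul' := fun c a => hreg k (by
        rw [RingHom.id_apply, hq, Submodule.coe_smul, map_smul, ← hq, smul_comm]) }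
  have hgq : ∀ p : P, g (q p) = (p : G) - x • W p := fun p => hreg k (by
    rw [← map_smul, hq]
    exact LinearMap.congr_fun hgh p)
  let gP : F →ₗ[S] P := LinearMap.codRestrict P g fun a => by simpa using hmem a 0
  have hWmem : ∀ p : P, W p ∈ P := by
    rintro ⟨-, ⟨a, b⟩, rfl⟩
    show W (g a + x ^ k • b) ∈ P
    rw [map_add, map_smul, show W (g a) = g (W' a) from (LinearMap.congr_fun hcomm a).symm]
    exact hmem _ _
  let WP : Module.End S P := LinearMap.codRestrict P (W ∘ₗ P.subtype) hWmem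
  let Y : Module.End S G := ∑ i ∈ Finset.range k, (x • W) ^ i
  let Y' : Module.End S F := ∑ i ∈ Finset.range k, (x • W') ^ i
  have hpow : ∀ (i : ℕ) (a : F), g (((x • W') ^ i) a) = ((x • W) ^ i) (g a) := by
    intro i
    induction i with
    | zero => intro a; rfl
    | succ i ih =>
      intro a
      rw [pow_succ, pow_succ, Module.End.mul_apply, Module.End.mul_apply, ih, LinearMap.smul_apply,
        LinearMap.smul_apply, map_smul, show g (W' a) = W (g a) from LinearMap.congr_fun hcomm a]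
  have hY : ∀ a : F, g (Y' a) = Y (g a) := fun a => by
    simp only [Y, Y', LinearMap.coe_sum, Finset.sum_apply, map_sum, hpow]
  have hYu : Y * (1 - x • W) = 1 - x ^ k • W ^ k := by
    rw [geom_sum_mul_neg, _root_.smul_pow]
  let s : P →ₗ[S] F × G := (Y' ∘ₗ qL).prod ((W ^ k) ∘ₗ P.subtype)
  have hs : Φ.rangeRestrict ∘ₗ s = LinearMap.id := by
    refine LinearMap.ext fun p => Subtype.ext ?_
    show g (Y' (q p)) + x ^ k • (W ^ k) p = (p : G)
    rw [hY, hgq]
    have := LinearMap.congr_fun hYu (p : G)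
    simp only [Module.End.mul_apply, LinearMap.sub_apply, LinearMap.smul_apply,
      Module.End.one_apply] at this
    rw [this, sub_add_cancel]
  refine ⟨P, Module.Finite.of_surjective Φ.rangeRestrict Φ.surjective_rangeRestrict,
    Module.Projective.of_split s Φ.rangeRestrict hs, fun T _ _ hT => ?_, fun T _ _ hT => ?_⟩
  · refine ⟨baseChangeEquiv T gP qL 1 ?_ ?_⟩
    · have : gP ∘ₗ qL = 1 - x • WP := LinearMap.ext fun p => Subtype.ext (hgq p)
      rw [one_smul, this, baseChange_one_sub_smul T x hT]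
    · have : qL ∘ₗ gP = 1 - x • W' := LinearMap.ext fun a => hreg k (by
        show x ^ k • q (gP a) = _
        rw [hq]
        exact LinearMap.congr_fun hhg a)
      rw [one_smul, this, baseChange_one_sub_smul T x hT]
  · let cP : G →ₗ[S] P := LinearMap.codRestrict P (x ^ k • LinearMap.id) fun b => by
      simpa using hmem 0 b
    obtain ⟨v, hv⟩ := hT
    have hu : (↑(v⁻¹ ^ k) : T) * algebraMap S T (x ^ k) = 1 := by
      rw [map_pow, ← hv, ← Units.val_pow_eq_pow_val, ← Units.val_mul, inv_pow, inv_mul_cancel,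
        Units.val_one]
    refine ⟨baseChangeEquiv T P.subtype cP (↑(v⁻¹ ^ k) : T) ?_ ?_⟩
    · have : P.subtype ∘ₗ cP = x ^ k • LinearMap.id := rfl
      rw [this, LinearMap.baseChange_smul, ← algebraMap_smul T (x ^ k), smul_smul, hu, one_smul,
        LinearMap.baseChange_id]
    · have : cP ∘ₗ P.subtype = x ^ k • LinearMap.id := LinearMap.ext fun p => Subtype.ext rfl
      rw [this, LinearMap.baseChange_smul, ← algebraMap_smul T (x ^ k), smul_smul, hu, one_smul,
        LinearMap.baseChange_id]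

end Lattice

section Matrices

open Groth.Calg8.Horrocks

variable {R : Type u} [CommRing R]

theorem exists_shift (x : LaurentSeries R) : ∃ (a : ℕ) (f : PowerSeries R),
    HahnSeries.single (a : ℤ) (1 : R) * x = HahnSeries.ofPowerSeries ℤ R f := by
  refine ⟨(-x.order).toNat, PowerSeries.X ^ (x.order + (-x.order).toNat).toNat *
    x.powerSeriesPart, ?_⟩
  refine (congrArg (HahnSeries.single ((-x.order).toNat : ℤ) (1 : R) * ·)
    (LaurentSeries.single_order_mul_powerSeriesPart x).symm).trans ?_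
  rw [← mul_assoc, HahnSeries.single_mul_single, mul_one, map_mul, HahnSeries.ofPowerSeries_X_pow]
  congr 3
  omega

theorem exists_matrix_shift {p q : ℕ} (A : Matrix (Fin p) (Fin q) (LaurentSeries R)) :
    ∃ (a : ℕ) (A' : Matrix (Fin p) (Fin q) (PowerSeries R)),
      A'.map (HahnSeries.ofPowerSeries ℤ R) = HahnSeries.single (a : ℤ) (1 : R) • A := by
  classical
  choose a f hf using fun ij : Fin p × Fin q => exists_shift (A ij.1 ij.2)
  let N := Finset.univ.sup a
  refine ⟨N, Matrix.of fun i j => PowerSeries.X ^ (N - a (i, j)) * f (i, j),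
    Matrix.ext fun i j => ?_⟩
  rw [Matrix.map_apply, Matrix.of_apply, Matrix.smul_apply, smul_eq_mul, map_mul,
    HahnSeries.ofPowerSeries_X_pow, ← hf, ← mul_assoc, HahnSeries.single_mul_single, mul_one]
  congr 3
  have : a (i, j) ≤ N := Finset.le_sup (Finset.mem_univ _)
  omega

/-- Truncations of matrices satisfying `A E B = X ^ k D` satisfy it modulo `X ^ (k + 1)`. -/
theorem exists_trunc_relation {p q : ℕ} (k : ℕ) (A : Matrix (Fin p) (Fin q) (PowerSeries R))
    (B : Matrix (Fin q) (Fin p) (PowerSeries R)) (E : Matrix (Fin q) (Fin q) R)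
    (D : Matrix (Fin p) (Fin p) R)
    (h : A * E.map PowerSeries.C * B = (PowerSeries.X : PowerSeries R) ^ k • D.map PowerSeries.C) :
    ∃ Z : Matrix (Fin p) (Fin p) R[X],
      A.map (PowerSeries.trunc (k + 1)) * E.map C * B.map (PowerSeries.trunc (k + 1)) =
        (X : R[X]) ^ k • D.map C + (X : R[X]) ^ (k + 1) • Z := by
  let I : Ideal (PowerSeries R) := Ideal.span {(PowerSeries.X : PowerSeries R) ^ (k + 1)}
  let π := Ideal.Quotient.mk I
  let φ : R[X] →+* PowerSeries R ⧸ I := π.comp Polynomial.coeToPowerSeries.ringHom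
  have htr : ∀ f : PowerSeries R, φ (PowerSeries.trunc (k + 1) f) = π f := fun f => by
    refine (Ideal.Quotient.mk_eq_mk_iff_sub_mem _ _).2 (Ideal.mem_span_singleton.2
      (PowerSeries.X_pow_dvd_iff.2 fun m hm => ?_))
    simp [Polynomial.coeff_coe, PowerSeries.coeff_trunc, hm]
  have hC : ∀ r : R, φ (C r) = π (PowerSeries.C r) := fun r => by simp [φ]
  have hX : φ X = π PowerSeries.X := by simp [φ]
  let L := A.map (PowerSeries.trunc (k + 1)) * E.map C * B.map (PowerSeries.trunc (k + 1))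
  have hAB : L.map φ = ((X : R[X]) ^ k • D.map C).map φ := by
    rw [Matrix.map_smul' φ _ _ (map_mul φ), map_pow, hX]
    simp only [L, Matrix.map_mul, Matrix.map_map]
    rw [show (φ : R[X] → PowerSeries R ⧸ I) ∘ (C : R → R[X]) = π ∘ (PowerSeries.C : R → PowerSeries R)
        from funext hC,
      show (φ : R[X] → PowerSeries R ⧸ I) ∘ (PowerSeries.trunc (k + 1)) = (π : PowerSeries R → _)
        from funext htr]
    rw [← Matrix.map_map (f := (PowerSeries.C : R → PowerSeries R)),
      ← Matrix.map_map (f := (PowerSeries.C : R → PowerSeries R)), ← Matrix.map_mul,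
      ← Matrix.map_mul, h, Matrix.map_smul' π _ _ (map_mul π), map_pow]
  have hdvd : ∀ i j, (X : R[X]) ^ (k + 1) ∣ L i j - ((X : R[X]) ^ k • D.map C) i j := by
    intro i j
    have h1 := congrFun (congrFun hAB i) j
    simp only [Matrix.map_apply] at h1
    rw [← sub_eq_zero, ← map_sub] at h1
    have h2 := Ideal.mem_span_singleton.1 (Ideal.Quotient.eq_zero_iff_mem.1 h1)
    rw [PowerSeries.X_pow_dvd_iff] at h2
    refine Polynomial.X_pow_dvd_iff.2 fun d hd => ?_
    simpa using h2 d hd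
  choose Z hZ using hdvd
  refine ⟨Matrix.of Z, Matrix.ext fun i j => ?_⟩
  show L i j = ((X : R[X]) ^ k • D.map C) i j + X ^ (k + 1) * Z i j
  rw [← hZ]
  ring

variable {M N : Type u} [AddCommGroup M] [Module R M] [AddCommGroup N] [Module R N] {p q : ℕ}

theorem bc_comp_eq (ιM : M →ₗ[R] (Fin q → R)) (ρM : (Fin q → R) →ₗ[R] M)
    (ιN : N →ₗ[R] (Fin p → R)) (ρN : (Fin p → R) →ₗ[R] N) (hN : ρN ∘ₗ ιN = LinearMap.id)
    (k : ℕ) (A : Matrix (Fin p) (Fin q) R[X]) (B : Matrix (Fin q) (Fin p) R[X])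
    (Z : Matrix (Fin p) (Fin p) R[X])
    (h : A * (LinearMap.toMatrix' (ιM ∘ₗ ρM)).map C * B =
      (X : R[X]) ^ k • (LinearMap.toMatrix' (ιN ∘ₗ ρN)).map C + (X : R[X]) ^ (k + 1) • Z) :
    (bcOut R[X] ρN ∘ₗ Matrix.toLin' A ∘ₗ bcIn R[X] ιM) ∘ₗ
        (bcOut R[X] ρM ∘ₗ Matrix.toLin' B ∘ₗ bcIn R[X] ιN) =
      (X : R[X]) ^ k • (1 - (X : R[X]) • -(bcOut R[X] ρN ∘ₗ Matrix.toLin' Z ∘ₗ bcIn R[X] ιN)) := by
  have hE : bcIn R[X] ιM ∘ₗ bcOut R[X] ρM =
      Matrix.toLin' ((LinearMap.toMatrix' (ιM ∘ₗ ρM)).map C) := bcIn_comp_bcOut R[X] ιM ρM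
  have hD : bcOut R[X] ρN ∘ₗ Matrix.toLin' ((LinearMap.toMatrix' (ιN ∘ₗ ρN)).map C) ∘ₗ
      bcIn R[X] ιN = LinearMap.id := by
    rw [show Matrix.toLin' ((LinearMap.toMatrix' (ιN ∘ₗ ρN)).map C) =
      bcIn R[X] ιN ∘ₗ bcOut R[X] ρN from (bcIn_comp_bcOut R[X] ιN ρN).symm]
    rw [LinearMap.comp_assoc, bcOut_comp_bcIn R[X] ιN ρN hN, LinearMap.comp_id,
      bcOut_comp_bcIn R[X] ιN ρN hN]
  calc (bcOut R[X] ρN ∘ₗ Matrix.toLin' A ∘ₗ bcIn R[X] ιM) ∘ₗ
        (bcOut R[X] ρM ∘ₗ Matrix.toLin' B ∘ₗ bcIn R[X] ιN)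
      = bcOut R[X] ρN ∘ₗ Matrix.toLin' (A * (LinearMap.toMatrix' (ιM ∘ₗ ρM)).map C * B) ∘ₗ
          bcIn R[X] ιN := by
        rw [Matrix.toLin'_mul, Matrix.toLin'_mul, ← hE]
        simp only [LinearMap.comp_assoc]
    _ = _ := by
        rw [h, map_add, map_smul, map_smul, LinearMap.add_comp, LinearMap.smul_comp,
          LinearMap.smul_comp, LinearMap.comp_add, LinearMap.comp_smul, LinearMap.comp_smul, hD]
        refine LinearMap.ext fun v => ?_
        simp [pow_succ, mul_smul]

theorem laurent_shift_rel {L : Type u} [CommRing L] [Algebra R L] (eL : L ≃ₐ[R] LaurentSeries R)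
    (ιM : M →ₗ[R] (Fin q → R)) (ρM : (Fin q → R) →ₗ[R] M) (hM : ρM ∘ₗ ιM = LinearMap.id)
    (ιN : N →ₗ[R] (Fin p → R)) (ρN : (Fin p → R) →ₗ[R] N)
    (e : L ⊗[R] M ≃ₗ[L] L ⊗[R] N) (a b : ℕ)
    (A' : Matrix (Fin p) (Fin q) (PowerSeries R)) (B' : Matrix (Fin q) (Fin p) (PowerSeries R))
    (hA : A'.map (HahnSeries.ofPowerSeries ℤ R) = HahnSeries.single (a : ℤ) (1 : R) •
      (LinearMap.toMatrix' (bcIn L ιN ∘ₗ e.toLinearMap ∘ₗ bcOut L ρM)).map eL)
    (hB : B'.map (HahnSeries.ofPowerSeries ℤ R) = HahnSeries.single (b : ℤ) (1 : R) •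
      (LinearMap.toMatrix' (bcIn L ιM ∘ₗ e.symm.toLinearMap ∘ₗ bcOut L ρN)).map eL) :
    A' * (LinearMap.toMatrix' (ιM ∘ₗ ρM)).map PowerSeries.C * B' =
      (PowerSeries.X : PowerSeries R) ^ (a + b) •
        (LinearMap.toMatrix' (ιN ∘ₗ ρN)).map PowerSeries.C := by
  let ω := HahnSeries.ofPowerSeries ℤ R
  refine Matrix.map_injective (f := ω) HahnSeries.ofPowerSeries_injective ?_
  beta_reduce
  rw [Matrix.map_smul' ω _ _ (map_mul ω), Matrix.map_mul, Matrix.map_mul, hA, hB, Matrix.map_map,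
    Matrix.map_map, map_pow, HahnSeries.ofPowerSeries_X]
  have hCω : (ω : PowerSeries R → LaurentSeries R) ∘ (PowerSeries.C : R → PowerSeries R) =
      (eL : L → LaurentSeries R) ∘ (algebraMap R L) := funext fun r => by
    simp only [Function.comp_apply, AlgEquiv.commutes]
    simp [ω, HahnSeries.algebraMap_apply', HahnSeries.C_apply]
  rw [hCω, ← Matrix.map_map (f := (algebraMap R L : R → L)),
    ← Matrix.map_map (f := (algebraMap R L : R → L)), ← toMatrix'_bcIn_comp_bcOut,
    ← toMatrix'_bcIn_comp_bcOut, Matrix.smul_mul, Matrix.smul_mul, Matrix.mul_smul, smul_smul,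
    ← Matrix.map_mul, ← Matrix.map_mul, ← LinearMap.toMatrix'_comp, ← LinearMap.toMatrix'_comp,
    HahnSeries.single_mul_single, one_mul, HahnSeries.single_pow]
  congr 1
  · simp
  · refine congrArg (fun m => Matrix.map m eL) (congrArg LinearMap.toMatrix' ?_)
    refine LinearMap.ext fun v => ?_
    have h1 : ∀ z, bcOut L ρM (bcIn L ιM z) = z := fun z =>
      LinearMap.congr_fun (bcOut_comp_bcIn L ιM ρM hM) z
    simp [h1]

end Matrices

end Groth.PropsBasic
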