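import Mathlib
import Groth.Agent.Calg1.ProjDescent
import Groth.Agent.PropsBasic.FPSections

/-!
# Projectivity of modules is local on the spectrum
-/

universe u

open CategoryTheory AlgebraicGeometry TopologicalSpace TensorProduct

namespace Groth.PropsBasic.ProjectiveLocal

/-- A finite product of localisations covering the spectrum is faithfully flat. -/
theorem faithfullyFlat_pi {R : Type u} [CommRing R] (s : Finset R) (hs : Ideal.span (s : Set R) = ⊤)
    (Rp : s → Type u) [∀ g, CommRing (Rp g)] [∀ g, Algebra R (Rp g)]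
    [∀ g : s, IsLocalization.Away g.1 (Rp g)] : Module.FaithfullyFlat R (∀ g, Rp g) := by
  have : ∀ g, Module.Flat R (Rp g) := fun g => IsLocalization.flat (Rp g) (Submonoid.powers g.1)
  have : Module.Flat R (∀ g, Rp g) := by
    classical
    exact Module.Flat.of_linearEquiv (DirectSum.linearEquivFunOnFintype R s Rp).symm
  refine Module.FaithfullyFlat.of_comap_surjective fun p => ?_
  obtain ⟨g, hg, hgp⟩ : ∃ g ∈ s, g ∉ p.asIdeal := by
    by_contra h
    push Not at h
    exact p.isPrime.ne_top (eq_top_iff.2 (hs ▸ Ideal.span_le.2 h))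
  have : IsLocalization.Away g (Rp ⟨g, hg⟩) :=
    inferInstanceAs (IsLocalization.Away ((⟨g, hg⟩ : s) : R) (Rp ⟨g, hg⟩))
  obtain ⟨q, hq⟩ : p ∈ Set.range (PrimeSpectrum.comap (algebraMap R (Rp ⟨g, hg⟩))) := by
    rw [PrimeSpectrum.localization_away_comap_range (Rp ⟨g, hg⟩) g]
    exact hgp
  exact ⟨PrimeSpectrum.comap (Pi.evalRingHom Rp ⟨g, hg⟩) q, hq⟩

/-- Projectivity is local for a covering by principal opens. -/
theorem projective_of_span {R : Type u} [CommRing R] {A : Type u} [AddCommGroup A] [Module R A]
    (s : Finset R) (hs : Ideal.span (s : Set R) = ⊤)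
    (Rp : s → Type u) [∀ g, CommRing (Rp g)] [∀ g, Algebra R (Rp g)]
    [∀ g : s, IsLocalization.Away g.1 (Rp g)]
    (H : ∀ g, Module.Projective (Rp g) (Rp g ⊗[R] A)) : Module.Projective R A := by
  classical
  let S := ∀ g, Rp g
  have := faithfullyFlat_pi s hs Rp
  suffices Module.Projective S (S ⊗[R] A) from Groth.Calg1.projective_descent (S := S) A
  let π : (A →₀ R) →ₗ[R] A := Finsupp.linearCombination R id
  have hπ : Function.Surjective π := fun a => ⟨Finsupp.single a 1, by simp [π]⟩
  have hlift : ∀ g, ∃ σ : (Rp g ⊗[R] A) →ₗ[Rp g] (Rp g ⊗[R] (A →₀ R)),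
      (π.baseChange (Rp g)) ∘ₗ σ = LinearMap.id :=
    fun g => Module.projective_lifting_property _ _
      (LinearMap.lTensor_surjective (Rp g) hπ)
  choose σ hσ using hlift
  let τ : ∀ g, S →ₗ[R] Rp g := fun g => LinearMap.proj g
  let j : ∀ g, Rp g →ₗ[R] S := fun g => LinearMap.single R Rp g
  have hj : ∀ g (a : S) (r : Rp g), j g (τ g a * r) = a * j g r := by
    intro g a r
    funext i
    change Pi.single (M := Rp) g (a g * r) i = a i * Pi.single (M := Rp) g r i
    rcases eq_or_ne i g with rfl | hne
    · simp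
    · simp [Pi.single_eq_of_ne hne]
  let F : (S ⊗[R] A) → (S ⊗[R] (A →₀ R)) := fun z =>
    ∑ g, (j g).rTensor _ (σ g ((τ g).rTensor A z))
  have h1 : ∀ g (a : S) (z : S ⊗[R] A),
      (τ g).rTensor A (a • z) = τ g a • (τ g).rTensor A z := by
    intro g a z
    induction z using TensorProduct.induction_on with
    | zero => simp
    | tmul b m =>
      simp [TensorProduct.smul_tmul', τ]
      rfl
    | add x y hx hy => simp [hx, hy]
  have h2 : ∀ g (a : S) (w : Rp g ⊗[R] (A →₀ R)),
      (j g).rTensor _ (τ g a • w) = a • (j g).rTensor _ w := by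
    intro g a w
    induction w using TensorProduct.induction_on with
    | zero => simp
    | tmul b m => simp [TensorProduct.smul_tmul', hj]
    | add x y hx hy => simp [hx, hy]
  let σS : (S ⊗[R] A) →ₗ[S] (S ⊗[R] (A →₀ R)) :=
    { toFun := F
      map_add' := fun x y => by simp [F, Finset.sum_add_distrib]
      map_smul' := fun a z => by simp [F, h1, h2, Finset.smul_sum] }
  refine Module.Projective.of_split σS (π.baseChange S) (LinearMap.ext fun z => ?_)
  simp only [LinearMap.comp_apply, LinearMap.id_apply]
  change π.baseChange S (F z) = z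
  have h3 : ∀ g w, π.baseChange S ((j g).rTensor _ w) =
      (j g).rTensor A (π.baseChange (Rp g) w) := by
    intro g w
    induction w using TensorProduct.induction_on with
    | zero => simp
    | tmul b m => simp
    | add x y hx hy => simp [hx, hy]
  have h4 : ∀ g, π.baseChange (Rp g) (σ g ((τ g).rTensor A z)) = (τ g).rTensor A z :=
    fun g => congr($(hσ g) ((τ g).rTensor A z))
  simp only [F, map_sum, h3, h4]
  clear h3 h4
  induction z using TensorProduct.induction_on with
  | zero => simp
  | tmul b m =>
    simp only [LinearMap.rTensor_tmul, ← TensorProduct.sum_tmul]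
    exact congrArg (· ⊗ₜ[R] m) (Finset.univ_sum_single b)
  | add x y hx hy =>
    conv_rhs => rw [← hx, ← hy]
    simp only [map_add, Finset.sum_add_distrib]

end Groth.PropsBasic.ProjectiveLocal
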