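import Mathlib
import Groth.Agent.PropsBasic.ProjectiveLocal
import Groth.Agent.QCohMod.PullbackSections

/-!
# Quasi-coherent modules with projective sections on affine opens
-/

universe u

open CategoryTheory AlgebraicGeometry TopologicalSpace TensorProduct

set_option backward.isDefEq.respectTransparency.types false

namespace Groth.PropsBasic.ProjectiveLocal

open Groth.QCohMod Groth.PropsBasic.FPSections

variable {X : Scheme.{u}}

theorem exists_equiv_basicOpen (F : X.Modules) [F.IsQuasicoherent] {U : X.Opens}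
    (hU : IsAffineOpen U) (g : Γ(X, U)) :
    letI := resModule F g
    Nonempty (Γ(X, X.basicOpen g) ⊗[Γ(X, U)] Γ(F, U) ≃ₗ[Γ(X, X.basicOpen g)] Γ(F, X.basicOpen g)) := by
  let _ := resModule F g
  have := isScalarTower_resModule F g
  have := hU.isLocalization_basicOpen g
  have := isLocalizedModule_resₗ F hU g
  exact ⟨(IsLocalizedModule.isBaseChange (Submonoid.powers g) Γ(X, X.basicOpen g) (resₗ F g)).equiv⟩

theorem projective_basicOpen (F : X.Modules) [F.IsQuasicoherent] {U : X.Opens}
    (hU : IsAffineOpen U) (g : Γ(X, U)) (h : Module.Projective Γ(X, U) Γ(F, U)) :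
    Module.Projective Γ(X, X.basicOpen g) Γ(F, X.basicOpen g) := by
  let _ := resModule F g
  obtain ⟨e⟩ := exists_equiv_basicOpen F hU g
  exact Module.Projective.of_equiv e

theorem projective_of_basicOpens (F : X.Modules) [F.IsQuasicoherent] {U : X.Opens}
    (hU : IsAffineOpen U) (s : Finset Γ(X, U)) (hs : Ideal.span (s : Set Γ(X, U)) = ⊤)
    (h : ∀ g : s, Module.Projective Γ(X, X.basicOpen g.1) Γ(F, X.basicOpen g.1)) :
    Module.Projective Γ(X, U) Γ(F, U) := by
  have : ∀ g : s, IsLocalization.Away g.1 Γ(X, X.basicOpen g.1) :=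
    fun g => hU.isLocalization_basicOpen g.1
  refine projective_of_span s hs (fun g : s => Γ(X, X.basicOpen g.1)) fun g => ?_
  let _ := resModule F g.1
  obtain ⟨e⟩ := exists_equiv_basicOpen F hU g.1
  have := h g
  exact Module.Projective.of_equiv e.symm

/-- Projectivity of sections spreads from an affine cover. -/
theorem projective_of_cover (F : X.Modules) [F.IsQuasicoherent] {ι : Type*} (U : ι → X.Opens)
    (hU : iSup U = ⊤) (haff : ∀ i, IsAffineOpen (U i))
    (h : ∀ i, Module.Projective Γ(X, U i) Γ(F, U i)) {V : X.Opens} (hV : IsAffineOpen V) :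
    Module.Projective Γ(X, V) Γ(F, V) := by
  suffices ∀ W : X.affineOpens, Module.Projective Γ(X, W.1) Γ(F, W.1) from this ⟨V, hV⟩
  intro W
  induction W using of_affine_open_cover (fun i => (⟨U i, haff i⟩ : X.affineOpens)) hU with
  | basicOpen W f hW => exact projective_basicOpen F W.2 f hW
  | openCover W s hs hW => exact projective_of_basicOpens F W.2 s hs hW
  | hU i => exact h i

theorem projective_pullback {Y : Scheme.{u}} (f : X ⟶ Y) (G : Y.Modules) [G.IsQuasicoherent]
    (hG : ∀ V : Y.Opens, IsAffineOpen V → Module.Projective Γ(Y, V) Γ(G, V)) {U : X.Opens}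
    (hU : IsAffineOpen U) :
    Module.Projective Γ(X, U) Γ((Scheme.Modules.pullback f).obj G, U) := by
  have hcov : ∀ x : X, ∃ (W : Y.Opens) (U : X.Opens),
      IsAffineOpen W ∧ IsAffineOpen U ∧ x ∈ U ∧ U ≤ f ⁻¹ᵁ W := fun x => by
    obtain ⟨W, hW, hxW, -⟩ := exists_isAffineOpen_mem_and_subset
      (x := f x) (U := (⊤ : Y.Opens)) trivial
    obtain ⟨V, hV, hxV, hVW⟩ := exists_isAffineOpen_mem_and_subset
      (x := x) (U := f ⁻¹ᵁ W) hxW
    exact ⟨W, V, hW, hV, hxV, hVW⟩
  choose W V hW hV hxV hle using hcov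
  refine projective_of_cover _ V (eq_top_iff.2 fun x _ => Opens.mem_iSup.2 ⟨x, hxV x⟩) hV
    (fun x => ?_) hU
  let _ := sectionsAlg f (hle x)
  have := hG (W x) (hW x)
  exact Module.Projective.of_equiv (pullSecEquiv f G (hle x) (hW x) (hV x))

end Groth.PropsBasic.ProjectiveLocal
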