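import Groth.Agent.PropsBasic.TorsionlessReflexive
import Mathlib.RingTheory.LocalProperties.Reduced
import Mathlib.RingTheory.Filtration
import Mathlib.RingTheory.Localization.AtPrime.Basic
import Mathlib.RingTheory.Ideal.MinimalPrime.Basic
import Mathlib.RingTheory.Ideal.Height

/-!
# Reflexive modules with trivial endomorphism ring over reduced rings of dimension at most one

Helper library (no milestone statements here).
-/

set_option linter.style.haveILetI false
set_option linter.unusedSectionVars false

universe u

namespace Groth.PropsBasic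

open IsLocalRing

section Local

variable {R : Type u} [CommRing R] [IsLocalRing R] [IsNoetherianRing R] [IsReduced R]
variable {M : Type u} [AddCommGroup M] [Module R M]

omit [IsNoetherianRing R] [IsReduced R] in
theorem eq_zero_of_forall_mul_apply_eq_zero (hev : Function.Injective (Module.Dual.eval R M))
    (hend : Function.Injective (algebraMap R (Module.End R M))) {a : R}
    (h : ∀ (f : M →ₗ[R] R) (m : M), a * f m = 0) : a = 0 := by
  refine hend (LinearMap.ext fun m => hev ?_)
  rw [map_zero, Module.algebraMap_end_apply, LinearMap.zero_apply, map_zero]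
  refine LinearMap.ext fun f => ?_
  simp [h f m]

omit [IsNoetherianRing R] [IsReduced R] in
/-- An endomorphism of the dual of a reflexive module with scalar endomorphisms is scalar. -/
theorem exists_scalar_dual_end (hev : Function.Bijective (Module.Dual.eval R M))
    (hend : Function.Surjective (algebraMap R (Module.End R M)))
    (φ : Module.Dual R M →ₗ[R] Module.Dual R M) :
    ∃ r : R, ∀ (f : M →ₗ[R] R) (m : M), φ f m = r * f m := by
  let e : M ≃ₗ[R] Module.Dual R (Module.Dual R M) := LinearEquiv.ofBijective _ hev
  obtain ⟨r, hr⟩ := hend (e.symm.toLinearMap ∘ₗ φ.dualMap ∘ₗ e.toLinearMap)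
  refine ⟨r, fun f m => ?_⟩
  have h1 : e.symm (φ.dualMap (e m)) = r • m := (LinearMap.congr_fun hr m).symm
  rw [LinearEquiv.symm_apply_eq, map_smul] at h1
  exact LinearMap.congr_fun h1 f

/-- A reflexive module with trivial endomorphism ring over a reduced Noetherian local ring of
dimension at most one is free of rank one. -/
theorem exists_bijective_of_end (hdim : ringKrullDim R ≤ 1)
    (hev : Function.Bijective (Module.Dual.eval R M))
    (hend : Function.Bijective (algebraMap R (Module.End R M))) :
    ∃ f : M →ₗ[R] R, Function.Bijective f := by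
  by_cases hsurj : ∃ (f : M →ₗ[R] R) (m : M), IsUnit (f m)
  · obtain ⟨f, m, hu⟩ := hsurj
    obtain ⟨u, hu⟩ := hu
    have h1 : f ((↑u⁻¹ : R) • m) = 1 := by rw [map_smul, smul_eq_mul, ← hu, Units.inv_mul]
    set m0 := (↑u⁻¹ : R) • m with hm0
    obtain ⟨r, hr⟩ := hend.2 (f.smulRight m0)
    have hr' : ∀ x, r • x = f x • m0 := fun x => LinearMap.congr_fun hr x
    have hr1 : r = 1 := by
      have := congrArg f (hr' m0)
      simpa [h1] using this
    refine ⟨f, fun a b hab => ?_, fun a => ⟨a • m0, by rw [map_smul, h1, smul_eq_mul, mul_one]⟩⟩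
    rw [← one_smul R a, ← one_smul R b, ← hr1, hr', hr', hab]
  push Not at hsurj
  exfalso
  have hm : ∀ (f : M →ₗ[R] R) (m : M), f m ∈ maximalIdeal R := fun f m => hsurj f m
  have key : ∀ {a : R}, (∀ (f : M →ₗ[R] R) (m : M), a * f m = 0) → a = 0 :=
    eq_zero_of_forall_mul_apply_eq_zero hev.1 hend.1
  obtain ⟨x, hxm, hx⟩ : ∃ x ∈ maximalIdeal R, x ∈ nonZeroDivisors R := by
    by_contra hcon
    push Not at hcon
    have hmin : ∃ p ∈ minimalPrimes R, maximalIdeal R ≤ p := by
      have hfin := minimalPrimes.finite_of_isNoetherianRing R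
      have hsub : (maximalIdeal R : Set R) ⊆ ⋃ p ∈ hfin.toFinset, ((p : Ideal R) : Set R) := by
        intro y hy
        have hy' : ∃ z : R, z ≠ 0 ∧ z * y = 0 := by
          have := hcon y hy
          rw [mem_nonZeroDivisors_iff_right] at this
          push Not at this
          obtain ⟨z, hz, hz0⟩ := this
          exact ⟨z, hz0, hz⟩
        obtain ⟨z, hz0, hz⟩ := hy'
        have : ∃ p ∈ minimalPrimes R, z ∉ p := by
          by_contra hall
          push Not at hall
          apply hz0
          have h2 : z ∈ nilradical R := by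
            rw [nilradical, ← Ideal.sInf_minimalPrimes, Submodule.mem_sInf]
            exact fun p hp => hall p hp
          rwa [nilradical_eq_zero, Ideal.zero_eq_bot, Submodule.mem_bot] at h2
        obtain ⟨p, hp, hzp⟩ := this
        refine Set.mem_biUnion (hfin.mem_toFinset.2 hp) ?_
        exact ((hp.1.1).mem_or_mem (hz ▸ zero_mem p)).resolve_left hzp
      obtain ⟨p, hp, hle⟩ := (Ideal.subset_union_prime (maximalIdeal R) (maximalIdeal R)
        fun q hq _ _ => (hfin.mem_toFinset.1 hq).1.1).1 hsub
      exact ⟨p, hfin.mem_toFinset.1 hp, hle⟩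
    obtain ⟨p, hp, hle⟩ := hmin
    have hunique : ∀ q : Ideal R, q.IsPrime → q = maximalIdeal R := fun q hq => by
      have h1 : q ≤ maximalIdeal R := le_maximalIdeal hq.ne_top
      exact le_antisymm h1 (hle.trans (hp.2 ⟨hq, bot_le⟩ (h1.trans hle)))
    have h1 : (1 : R) = 0 := key fun f m => by
      have : f m ∈ nilradical R := by
        rw [nilradical_eq_sInf, Submodule.mem_sInf]
        exact fun q hq => (hunique q hq) ▸ hm f m
      rw [nilradical_eq_zero, Ideal.zero_eq_bot, Submodule.mem_bot] at this
      rw [this, mul_zero]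
    exact one_ne_zero h1
  have hreg : ∀ {a : R}, x * a = 0 → a = 0 := fun {a} h =>
    mem_nonZeroDivisors_iff_right.1 hx a (by rwa [mul_comm])
  by_cases hprinc : ∃ y : R, maximalIdeal R = Ideal.span {y}
  · obtain ⟨y, hy⟩ := hprinc
    have hyreg : ∀ {a : R}, y * a = 0 → a = 0 := fun {a} h => by
      obtain ⟨c, rfl⟩ := Ideal.mem_span_singleton.1 (hy ▸ hxm)
      refine hreg ?_
      rw [mul_right_comm, h, zero_mul]
    have hpow : ∀ (n : ℕ) (f : M →ₗ[R] R) (m : M), f m ∈ maximalIdeal R ^ n := by
      intro n
      induction n with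
      | zero => simp
      | succ n ih =>
        intro f m
        have hf : ∀ m, ∃ c, f m = y * c := fun m => Ideal.mem_span_singleton.1 (hy ▸ hm f m)
        choose c hc using hf
        let g : M →ₗ[R] R :=
          { toFun := c
            map_add' := fun a b => by
              refine sub_eq_zero.1 (hyreg ?_)
              rw [mul_sub, mul_add, ← hc, ← hc, ← hc, map_add, sub_self]
            map_smul' := fun r a => by
              refine sub_eq_zero.1 (hyreg ?_)
              simp only [RingHom.id_apply, smul_eq_mul]
              rw [mul_sub, mul_left_comm, ← hc, ← hc, map_smul, smul_eq_mul, sub_self] }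
        rw [hc m, pow_succ', hy]
        exact Ideal.mul_mem_mul (Ideal.mem_span_singleton_self y) (hy ▸ ih g m)
    have hzero : ∀ (f : M →ₗ[R] R) (m : M), f m = 0 := fun f m => by
      have : f m ∈ ⨅ n, maximalIdeal R ^ n := Ideal.mem_iInf.2 fun n => hpow n f m
      rwa [Ideal.iInf_pow_eq_bot_of_isLocalRing _ (maximalIdeal.isMaximal R).ne_top,
        Submodule.mem_bot] at this
    exact one_ne_zero (key (a := (1 : R)) fun f m => by rw [hzero f m, mul_zero])
  obtain ⟨z, hzx, hz⟩ : ∃ z, z ∉ Ideal.span {x} ∧ ∀ y ∈ maximalIdeal R, z * y ∈ Ideal.span {x} := by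
    have hrad : maximalIdeal R ≤ (Ideal.span {x}).radical := by
      rw [Ideal.radical_eq_sInf]
      refine le_sInf fun q ⟨hq, hqp⟩ => ?_
      haveI := hqp
      have hnotmin : q ∉ minimalPrimes R := fun hmin =>
        Set.disjoint_left.1 (Ideal.disjoint_nonZeroDivisors_of_mem_minimalPrimes hmin)
          (hq (Ideal.mem_span_singleton_self x)) hx
      have h1 : q ≤ maximalIdeal R := le_maximalIdeal hqp.ne_top
      rcases eq_or_lt_of_le h1 with h | h
      · exact h.ge
      exfalso
      obtain ⟨p, hp, hpq⟩ := Ideal.exists_minimalPrimes_le (bot_le : (⊥ : Ideal R) ≤ q)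
      have hlt : p < q := lt_of_le_of_ne hpq fun he => hnotmin (he ▸ hp)
      haveI := hp.1.1
      have h2 := Ideal.height_strict_mono_of_isPrime hlt
      have h3 := Ideal.height_strict_mono_of_isPrime h
      have h4 : ((maximalIdeal R).height : WithBot ℕ∞) ≤ 1 :=
        (Ideal.height_le_ringKrullDim_of_ne_top (maximalIdeal.isMaximal R).ne_top).trans hdim
      have h5 : (maximalIdeal R).height ≤ 1 := by exact_mod_cast h4
      have h6 : q.height = 0 := Order.lt_one_iff.1 (lt_of_lt_of_le h3 h5)
      rw [h6] at h2
      exact not_lt_zero h2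
    obtain ⟨n, hn⟩ := Ideal.exists_pow_le_of_le_radical_of_fg hrad
      (IsNoetherian.noetherian _)
    have hne : ¬ maximalIdeal R ^ 0 ≤ Ideal.span {x} := by
      rw [pow_zero, Ideal.one_eq_top, top_le_iff]
      intro h
      exact (maximalIdeal.isMaximal R).ne_top
        (top_le_iff.1 (h ▸ (Ideal.span_singleton_le_iff_mem _).2 hxm))
    classical
    have hex : ∃ n, maximalIdeal R ^ n ≤ Ideal.span {x} := ⟨n, hn⟩
    obtain ⟨j, hj⟩ : ∃ j, Nat.find hex = j + 1 := by
      refine Nat.exists_eq_succ_of_ne_zero fun h => hne ?_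
      simpa [h] using Nat.find_spec hex
    obtain ⟨z, hzj, hzx⟩ := Set.not_subset.1 (Nat.find_min hex (m := j) (by omega))
    refine ⟨z, hzx, fun y hy => (Nat.find_spec hex) ?_⟩
    rw [hj, pow_succ]
    exact Ideal.mul_mem_mul hzj hy
  have hw : ∀ y : maximalIdeal R, ∃ w, z * (y : R) = x * w := fun y =>
    Ideal.mem_span_singleton.1 (hz y y.2)
  choose w hw using hw
  let e : maximalIdeal R →ₗ[R] R :=
    { toFun := w
      map_add' := fun a b => by
        refine sub_eq_zero.1 (hreg ?_)
        rw [mul_sub, mul_add, ← hw, ← hw, ← hw, Submodule.coe_add, mul_add, sub_self]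
      map_smul' := fun r a => by
        refine sub_eq_zero.1 (hreg ?_)
        simp only [RingHom.id_apply, smul_eq_mul]
        rw [mul_sub, mul_left_comm, ← hw, ← hw, Submodule.coe_smul, smul_eq_mul]
        ring }
  have hswap : ∀ a b : maximalIdeal R, (a : R) * e b = (b : R) * e a := fun a b => by
    have h : (a : R) • b = (b : R) • a := Subtype.ext (mul_comm _ _)
    simpa [map_smul] using congrArg e h
  have hem : ∀ a : maximalIdeal R, e a ∈ maximalIdeal R := by
    intro a
    by_contra hu
    rw [IsLocalRing.notMem_maximalIdeal] at hu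
    refine hprinc ⟨(a : R), le_antisymm (fun b hb => ?_) ((Ideal.span_singleton_le_iff_mem _).2 a.2)⟩
    obtain ⟨v, hv⟩ := hu
    refine Ideal.mem_span_singleton.2 ⟨e ⟨b, hb⟩ * (↑v⁻¹ : R), ?_⟩
    rw [← mul_assoc, hswap a ⟨b, hb⟩, ← hv]
    simp
  let φ : Module.Dual R M →ₗ[R] Module.Dual R M :=
    { toFun := fun f => e ∘ₗ LinearMap.codRestrict (maximalIdeal R) f (hm f)
      map_add' := fun f g => LinearMap.ext fun m => by
        simp only [LinearMap.add_apply, LinearMap.comp_apply, ← map_add]
        rfl
      map_smul' := fun r f => LinearMap.ext fun m => by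
        simp only [LinearMap.comp_apply, RingHom.id_apply, LinearMap.smul_apply]
        rw [← LinearMap.map_smul e]
        rfl }
  obtain ⟨r, hr⟩ := exists_scalar_dual_end hev hend.2 φ
  have hex : e ⟨x, hxm⟩ = r * x := by
    refine sub_eq_zero.1 (key fun f m => ?_)
    have h1 := hswap ⟨f m, hm f m⟩ ⟨x, hxm⟩
    have h2 : e ⟨f m, hm f m⟩ = r * f m := hr f m
    rw [h2] at h1
    simp only at h1
    rw [sub_mul, mul_comm (e _), h1]
    ring
  have hzr : z = x * r := by
    refine sub_eq_zero.1 (hreg ?_)
    have h1 : z * x = x * e ⟨x, hxm⟩ := hw ⟨x, hxm⟩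
    rw [hex] at h1
    linear_combination h1
  exact hzx (Ideal.mem_span_singleton.2 ⟨r, hzr⟩)

end Local

section Localization

variable {S : Type u} [CommRing S] [IsNoetherianRing S]
variable {M : Type u} [AddCommGroup M] [Module S M] [Module.Finite S M]

local notation "L" => fun T => LocalizedModule.mkLinearMap T M

theorem localization_end_bijective (T : Submonoid S)
    (h : Function.Bijective (algebraMap S (Module.End S M))) :
    Function.Bijective
      (algebraMap (Localization T) (Module.End (Localization T) (LocalizedModule T M))) := by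
  haveI := Module.finitePresentation_of_finite S M
  let mk := LocalizedModule.mkLinearMap T M
  constructor
  · rw [injective_iff_map_eq_zero]
    intro a ha
    obtain ⟨⟨b, s⟩, rfl⟩ := IsLocalization.mk'_surjective T a |>.imp (fun _ h => h)
    have h0 : ∀ m, mk (b • m) = 0 := fun m => by
      have h1 := LinearMap.congr_fun ha (mk m)
      rw [Module.algebraMap_end_apply, LinearMap.zero_apply] at h1
      rw [map_smul, ← algebraMap_smul (Localization T), ← IsLocalization.mk'_spec' _ b s,
        mul_smul, h1, smul_zero]
    have h1 : mk ∘ₗ (algebraMap S (Module.End S M) b) = mk ∘ₗ 0 := LinearMap.ext fun m => by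
      simp [h0 m]
    obtain ⟨t, ht⟩ := Module.Finite.exists_smul_of_comp_eq_of_isLocalizedModule T mk _ _ h1
    have h2 : (t : S) * b = 0 := h.1 (LinearMap.ext fun m => by
      have := LinearMap.congr_fun ht m
      simpa [mul_smul, Submonoid.smul_def, smul_comm b (t : S)] using this)
    exact (IsLocalization.mk'_eq_zero_iff b s).2 ⟨t, h2⟩
  · intro u
    obtain ⟨g, s, hs⟩ := Module.FinitePresentation.exists_lift_of_isLocalizedModule T mk
      ((u.restrictScalars S) ∘ₗ mk)
    obtain ⟨a, rfl⟩ := h.2 g
    refine ⟨IsLocalization.mk' (Localization T) a s, LinearMap.restrictScalars_injective S ?_⟩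
    refine IsLocalizedModule.ext T mk (IsLocalizedModule.map_units mk) (LinearMap.ext fun m => ?_)
    have h1 : mk (a • m) = (s : S) • u (mk m) := LinearMap.congr_fun hs m
    show IsLocalization.mk' (Localization T) a s • mk m = u (mk m)
    refine (IsLocalization.map_units (Localization T) s).smul_left_cancel.1 ?_
    rw [← mul_smul, IsLocalization.mk'_spec', algebraMap_smul, algebraMap_smul, ← map_smul, h1]

theorem localization_eval_bijective (T : Submonoid S)
    (h : Function.Bijective (Module.Dual.eval S M)) :
    Function.Bijective (Module.Dual.eval (Localization T) (LocalizedModule T M)) := by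
  haveI := Module.finitePresentation_of_finite S M
  let Q := Localization T
  let mk := LocalizedModule.mkLinearMap T M
  have hext : ∀ f : M →ₗ[S] S, ∃ F : Module.Dual Q (LocalizedModule T M),
      ∀ m, F (mk m) = algebraMap S Q (f m) := fun f =>
    ⟨IsLocalizedModule.mapExtendScalars T mk (Algebra.linearMap S Q) Q f, fun m =>
      IsLocalizedModule.map_apply T mk (Algebra.linearMap S Q) f m⟩
  choose F hF using hext
  constructor
  · rw [← LinearMap.ker_eq_bot, LinearMap.ker_eq_bot']
    intro v hv
    obtain ⟨⟨m, s⟩, hms⟩ := IsLocalizedModule.surj T mk v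
    have hms' : mk m = (s : S) • v := hms.symm
    have h0 : ∀ f : M →ₗ[S] S, algebraMap S Q (f m) = 0 := fun f => by
      have h1 : F f v = 0 := LinearMap.congr_fun hv (F f)
      rw [← hF, hms', LinearMap.map_smul_of_tower, h1, smul_zero]
    have h1 : (Algebra.linearMap S Q) ∘ₗ (Module.Dual.eval S M m) = (Algebra.linearMap S Q) ∘ₗ 0 :=
      LinearMap.ext fun f => by simp [h0 f]
    obtain ⟨t, ht⟩ := Module.Finite.exists_smul_of_comp_eq_of_isLocalizedModule T
      (Algebra.linearMap S Q) _ _ h1
    have h2 : (t : S) • m = 0 := h.1 (by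
      rw [map_smul, map_zero]
      simpa [Submonoid.smul_def] using ht)
    refine (IsLocalizedModule.smul_injective mk s) ?_
    show s • v = s • (0 : LocalizedModule T M)
    rw [smul_zero, Submonoid.smul_def, ← hms']
    exact (IsLocalizedModule.eq_zero_iff T mk).2 ⟨t, h2⟩
  · intro Ψ
    let Φ : Module.Dual S M →ₗ[S] Q :=
      (Ψ.restrictScalars S) ∘ₗ
        (IsLocalizedModule.mapExtendScalars T mk (Algebra.linearMap S Q) Q)
    haveI : Module.FinitePresentation S (Module.Dual S M) := Module.finitePresentation_of_finite S _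
    obtain ⟨g, s, hs⟩ := Module.FinitePresentation.exists_lift_of_isLocalizedModule T
      (Algebra.linearMap S Q) Φ
    obtain ⟨m, rfl⟩ := h.2 g
    refine ⟨IsLocalization.mk' Q 1 s • mk m, LinearMap.ext fun G => ?_⟩
    obtain ⟨⟨f, t⟩, hft⟩ := IsLocalizedModule.surj T
      (IsLocalizedModule.mapExtendScalars T mk (Algebra.linearMap S Q) Q) G
    simp only at hft
    have h1 : algebraMap S Q (f m) = (s : S) • Φ f := LinearMap.congr_fun hs f
    have h2 : algebraMap S Q (f m) = (t : S) • G (mk m) := by
      have h4 : IsLocalizedModule.mapExtendScalars T mk (Algebra.linearMap S Q) Q f (mk m) =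
          algebraMap S Q (f m) := IsLocalizedModule.map_apply T mk (Algebra.linearMap S Q) f m
      rw [← h4, ← hft]
      rfl
    have h3 : Φ f = (t : S) • Ψ G := by
      show Ψ _ = _
      rw [← hft, Submonoid.smul_def, LinearMap.map_smul_of_tower]
    rw [h3, h2] at h1
    show G (IsLocalization.mk' Q 1 s • mk m) = Ψ G
    rw [map_smul, smul_eq_mul]
    have hst : algebraMap S Q (t : S) * G (mk m) =
        algebraMap S Q (s : S) * (algebraMap S Q (t : S) * Ψ G) := by
      simpa only [Algebra.smul_def] using h1
    refine (IsLocalization.map_units Q t).mul_left_cancel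
      ((IsLocalization.map_units Q s).mul_left_cancel ?_)
    have hu : algebraMap S Q (s : S) * IsLocalization.mk' Q 1 s = 1 := by
      rw [IsLocalization.mk'_spec', map_one]
    rw [← hst, mul_left_comm, ← mul_assoc (algebraMap S Q (s : S)), hu, one_mul]

theorem nonempty_localized_equiv_iff (hdim : ringKrullDim S ≤ 1) [IsReduced S]
    (hev : Function.Bijective (Module.Dual.eval S M)) :
    (∀ (P : Ideal S) (_ : P.IsPrime),
        Nonempty (LocalizedModule P.primeCompl M ≃ₗ[Localization.AtPrime P] Localization.AtPrime P)) ↔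
      Function.Bijective (algebraMap S (Module.End S M)) := by
  constructor
  · intro h
    constructor
    · rw [injective_iff_map_eq_zero]
      intro a ha
      by_contra ha0
      have hne : Ideal.torsionOf S S a ≠ ⊤ := fun ht => ha0 (by
        have h1 : (1 : S) ∈ Ideal.torsionOf S S a := ht ▸ Submodule.mem_top
        simpa using h1)
      obtain ⟨P, hP, hle⟩ := Ideal.exists_le_maximal _ hne
      obtain ⟨e⟩ := h P hP.isPrime
      obtain ⟨⟨m, s⟩, hms⟩ := IsLocalizedModule.surj P.primeCompl
        (LocalizedModule.mkLinearMap P.primeCompl M) (e.symm 1)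
      have h1 : (algebraMap S (Localization.AtPrime P) a) • e.symm 1 = 0 := by
        rw [algebraMap_smul]
        refine IsLocalizedModule.smul_injective (LocalizedModule.mkLinearMap P.primeCompl M) s ?_
        show s • a • e.symm 1 = s • (0 : LocalizedModule P.primeCompl M)
        rw [smul_zero, Submonoid.smul_def, smul_comm, ← Submonoid.smul_def, hms, ← map_smul]
        have : a • m = 0 := LinearMap.congr_fun ha m
        rw [this, map_zero]
      have h2 := congrArg e h1
      rw [map_smul, LinearEquiv.apply_symm_apply, smul_eq_mul, mul_one, map_zero] at h2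
      obtain ⟨t, ht⟩ := (IsLocalization.map_eq_zero_iff P.primeCompl _ a).1 h2
      exact t.2 (hle (by simpa [Ideal.mem_torsionOf_iff] using ht))
    · intro u
      let I : Ideal S :=
        { carrier := {a | ∃ r : S, a • u = algebraMap S (Module.End S M) r}
          add_mem' := fun {a b} ⟨r, hr⟩ ⟨q, hq⟩ => ⟨r + q, by rw [add_smul, hr, hq, map_add]⟩
          zero_mem' := ⟨0, by rw [zero_smul, map_zero]⟩
          smul_mem' := fun c a ⟨r, hr⟩ => ⟨c * r, by
            rw [smul_eq_mul, mul_smul, hr, map_mul, Algebra.smul_def]⟩ }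
      suffices hI : I = ⊤ by
        obtain ⟨r, hr⟩ : (1 : S) ∈ I := hI ▸ Submodule.mem_top
        exact ⟨r, by rw [← hr, one_smul]⟩
      by_contra hI
      obtain ⟨P, hP, hle⟩ := Ideal.exists_le_maximal I hI
      haveI := hP.isPrime
      obtain ⟨e⟩ := h P hP.isPrime
      let mk := LocalizedModule.mkLinearMap P.primeCompl M
      let U := IsLocalizedModule.mapExtendScalars P.primeCompl mk mk (Localization.AtPrime P) u
      obtain ⟨⟨c, s⟩, hc⟩ := IsLocalization.mk'_surjective P.primeCompl (e (U (e.symm 1)))
        |>.imp (fun _ h => h)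
      have h1 : mk ∘ₗ ((s : S) • u) = mk ∘ₗ (algebraMap S (Module.End S M) c) := by
        refine LinearMap.ext fun m => ?_
        have hU : U (mk m) = mk (u m) := IsLocalizedModule.map_apply P.primeCompl mk mk u m
        have hm' : mk m = e (mk m) • e.symm 1 := e.injective (by simp)
        have hc' : IsLocalization.mk' (Localization.AtPrime P) c s = e (U (e.symm 1)) := hc
        have h2 : e (mk (u m)) = e (mk m) * IsLocalization.mk' _ c s := by
          conv_lhs => rw [← hU, hm', map_smul, map_smul, smul_eq_mul, ← hc']
        apply e.injective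
        simp only [LinearMap.comp_apply, LinearMap.smul_apply, Module.algebraMap_end_apply,
          map_smul]
        rw [← algebraMap_smul (Localization.AtPrime P) (s : S),
          ← algebraMap_smul (Localization.AtPrime P) c, map_smul, map_smul, smul_eq_mul, smul_eq_mul,
          h2]
        rw [mul_left_comm, IsLocalization.mk'_spec', mul_comm]
      haveI := Module.finitePresentation_of_finite S M
      obtain ⟨t, ht⟩ := Module.Finite.exists_smul_of_comp_eq_of_isLocalizedModule P.primeCompl
        mk _ _ h1
      have h3 : (t : S) * (s : S) ∈ I := ⟨(t : S) * c, by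
        rw [mul_smul]
        simpa [Submonoid.smul_def, Algebra.smul_def, map_mul] using ht⟩
      exact (hP.isPrime.mem_or_mem (hle h3)).elim t.2 s.2
  · intro h P hP
    haveI := hP
    obtain ⟨f, hf⟩ := exists_bijective_of_end
      (by rw [IsLocalization.AtPrime.ringKrullDim_eq_height P (Localization.AtPrime P)]
          exact (Ideal.height_le_ringKrullDim_of_ne_top hP.ne_top).trans hdim)
      (localization_eval_bijective P.primeCompl hev) (localization_end_bijective P.primeCompl h)
    exact ⟨LinearEquiv.ofBijective f hf⟩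

end Localization

end Groth.PropsBasic
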