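import Mathlib
import Groth.Agent.Calg5.SplitCover

/-!
# Finite algebras embed, after a finite free extension, into unions of sections
-/

set_option autoImplicit false
universe u

namespace Groth.PropsBasic.SplitUnion

open Polynomial TensorProduct

/-- If finitely many elements of an `S`-algebra are roots of split monic polynomials, they lie in the image of a
finite free `S`-algebra whose spectrum is covered by the sections given by the roots. -/
theorem exists_cover {S B : Type u} [CommRing S] [CommRing B] [Algebra S B] :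
    ∀ (l : List (B × S[X] × Multiset S)),
    (∀ t ∈ l, t.2.1.Monic ∧ aeval t.1 t.2.1 = 0 ∧ t.2.1 = (t.2.2.map fun a => X - C a).prod) →
    ∃ (R : Type u) (_ : CommRing R) (_ : Algebra S R), Module.Finite S R ∧ Module.Free S R ∧
      ∃ (ψ : R →ₐ[S] B) (E : List (R →ₐ[S] S)), (∀ t ∈ l, t.1 ∈ ψ.range) ∧
        ∀ q : Ideal R, q.IsPrime → ∃ e ∈ E, RingHom.ker e ≤ q
  | [], _ => ⟨S, inferInstance, inferInstance, inferInstance, inferInstance, Algebra.ofId S B, [AlgHom.id S S],
      by simp, fun q _ => ⟨_, List.mem_singleton_self _, fun x hx => by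
        have : x = 0 := hx
        subst this
        exact q.zero_mem⟩⟩
  | (b, p, s) :: l, hl => by
    obtain ⟨R, _, _, h1, h2, ψ, E, hE1, hE2⟩ := exists_cover l fun t ht => hl t (List.mem_cons_of_mem _ ht)
    obtain ⟨hp, hb, hs⟩ := hl (b, p, s) List.mem_cons_self
    let pR := p.map (algebraMap S R)
    haveI : Module.Finite R (AdjoinRoot pR) := (hp.map _).finite_adjoinRoot
    haveI : Module.Free R (AdjoinRoot pR) := (hp.map _).free_adjoinRoot
    haveI : Module.Finite S (AdjoinRoot pR) := Module.Finite.trans R _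
    haveI : Module.Free S (AdjoinRoot pR) := Module.Free.trans (R := S) (S := R)
    have h0 : ∀ (T : Type u) [CommRing T] [Algebra S T] (g : R →ₐ[S] T) (x : T),
        aeval x p = 0 → pR.eval₂ g x = 0 := by
      intro T _ _ g x hx
      rw [show pR.eval₂ g x = p.eval₂ ((g : R →+* T).comp (algebraMap S R)) x from eval₂_map _ _ _,
        g.comp_algebraMap]
      exact hx
    have hroot : ∀ a ∈ s, aeval a p = 0 := fun a ha => by
      simp only at hs
      rw [hs, aeval_def, eval₂_multiset_prod, Multiset.map_map]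
      exact Multiset.prod_eq_zero (Multiset.mem_map.2 ⟨a, ha, by simp⟩)
    let ext : ∀ (e : R →ₐ[S] S) (a : {x // x ∈ s}), AdjoinRoot pR →ₐ[S] S := fun e a =>
      AdjoinRoot.liftAlgHom pR e a.1 (h0 S e a.1 (hroot a.1 a.2))
    let ψ' : AdjoinRoot pR →ₐ[S] B := AdjoinRoot.liftAlgHom pR ψ b (h0 B ψ b hb)
    refine ⟨AdjoinRoot pR, inferInstance, inferInstance, inferInstance, inferInstance, ψ',
      (E.map fun e => s.attach.toList.map (ext e)).flatten, ?_, ?_⟩
    · intro t ht
      rcases List.mem_cons.1 ht with rfl | ht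
      · exact ⟨AdjoinRoot.root pR, by simp [ψ']⟩
      · obtain ⟨x, hx⟩ := hE1 t ht
        exact ⟨AdjoinRoot.of pR x, by simpa [ψ'] using hx⟩
    · intro q hq
      obtain ⟨e, he, hek⟩ := hE2 (q.comap (AdjoinRoot.of pR)) inferInstance
      have hprod : (s.map fun a => AdjoinRoot.root pR - AdjoinRoot.of pR (algebraMap S R a)).prod ∈ q := by
        have key : ∀ (T : Type u) [CommRing T] (f : R →+* T) (x : T),
            pR.eval₂ f x = (s.map fun a => x - f (algebraMap S R a)).prod := fun T _ f x => by
          simp only at hs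
          rw [show pR.eval₂ f x = (p.map (algebraMap S R)).eval₂ f x from rfl, hs, Polynomial.map_multiset_prod,
            eval₂_multiset_prod, Multiset.map_map, Multiset.map_map]
          congr 1
          refine Multiset.map_congr rfl fun a _ => ?_
          simp
        rw [← key _ (AdjoinRoot.of pR) (AdjoinRoot.root pR), AdjoinRoot.eval₂_root]
        exact q.zero_mem
      obtain ⟨_, ha', haq⟩ := (hq.multiset_prod_mem_iff_exists_mem _).1 hprod
      obtain ⟨a, ha, rfl⟩ := Multiset.mem_map.1 ha'
      refine ⟨ext e ⟨a, ha⟩, List.mem_flatten.2 ⟨_, List.mem_map.2 ⟨e, he, rfl⟩,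
        List.mem_map.2 ⟨⟨a, ha⟩, by simp, rfl⟩⟩, fun x hx => ?_⟩
      induction x using AdjoinRoot.induction_on with
      | ih g =>
        have hg : e (g.eval (algebraMap S R a)) = 0 := by
          refine Eq.trans (Polynomial.eval₂_at_apply (e : R →+* S) _).symm ?_
          simpa [ext, AdjoinRoot.liftAlgHom_mk] using hx
        have h1 : AdjoinRoot.of pR (g.eval (algebraMap S R a)) ∈ q := hek hg
        obtain ⟨w, hw⟩ := X_sub_C_dvd_sub_C_eval (a := algebraMap S R a) (p := g)
        have h2 : AdjoinRoot.mk pR g = (AdjoinRoot.root pR - AdjoinRoot.of pR (algebraMap S R a)) *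
            AdjoinRoot.mk pR w + AdjoinRoot.of pR (g.eval (algebraMap S R a)) := by
          rw [← AdjoinRoot.mk_X, ← AdjoinRoot.mk_C (f := pR) (algebraMap S R a), ← map_sub, ← map_mul, ← hw,
            ← AdjoinRoot.mk_C (f := pR) (g.eval (algebraMap S R a)), ← map_add]
          simp
        rw [h2]
        exact q.add_mem (q.mul_mem_right _ haq) h1

/-- A finite algebra becomes, after a finite free faithful extension, a quotient of a finite free algebra whose
spectrum is a union of sections. -/
theorem exists_extension (A B : Type u) [CommRing A] [CommRing B] [Algebra A B] [Module.Finite A B] :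
    ∃ (S : Type u) (_ : CommRing S) (_ : Algebra A S), Module.Finite A S ∧ Module.Free A S ∧
      Function.Injective (algebraMap A S) ∧
      ∃ (R : Type u) (_ : CommRing R) (_ : Algebra S R), Module.Finite S R ∧ Module.Free S R ∧
        ∃ (ψ : R →+* B ⊗[A] S) (E : List (R →ₐ[S] S)), Function.Surjective ψ ∧
          ψ.comp (algebraMap S R) = (Algebra.TensorProduct.includeRight : S →ₐ[A] B ⊗[A] S).toRingHom ∧
          ∀ q : Ideal R, q.IsPrime → ∃ e ∈ E, RingHom.ker e ≤ q := by
  classical
  obtain ⟨g, hg⟩ := Module.Finite.fg_top (R := A) (M := B)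
  have hint : ∀ b : B, ∃ p : A[X], p.Monic ∧ aeval b p = 0 := fun b => Algebra.IsIntegral.isIntegral b
  choose p hpm hp0 using hint
  obtain ⟨S, _, _, h1, h2, h3, h4⟩ := Groth.Calg5.SplitCover.exists_split_list A (g.toList.map p)
    (fun f hf => by obtain ⟨b, -, rfl⟩ := List.mem_map.1 hf; exact hpm b)
  have h4' : ∀ b : {b // b ∈ g}, ∃ s : Multiset S, (p b).map (algebraMap A S) = (s.map fun a => X - C a).prod :=
    fun b => h4 _ (List.mem_map.2 ⟨b, Finset.mem_toList.2 b.2, rfl⟩)
  choose sr hsr using h4'
  letI : Algebra S (B ⊗[A] S) := Algebra.TensorProduct.rightAlgebra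
  obtain ⟨R, _, _, k1, k2, ψ, E, hψ, hE⟩ := exists_cover (S := S) (B := B ⊗[A] S)
    (g.attach.toList.map fun (b : {x // x ∈ g}) => (b.1 ⊗ₜ[A] (1 : S), (p b).map (algebraMap A S), sr b)) (fun t ht => by
      obtain ⟨b, -, rfl⟩ := List.mem_map.1 ht
      refine ⟨(hpm b).map _, ?_, hsr b⟩
      rw [show (b.1 ⊗ₜ[A] (1 : S)) = (Algebra.TensorProduct.includeLeft : B →ₐ[A] B ⊗[A] S) b.1 from rfl,
        aeval_map_algebraMap, aeval_algHom_apply, hp0, map_zero])
  refine ⟨S, inferInstance, inferInstance, h1, h2, h3, R, inferInstance, inferInstance, k1, k2, ψ.toRingHom, E,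
    fun z => ?_, ψ.comp_algebraMap, hE⟩
  show z ∈ ψ.range
  induction z with
  | zero => exact ψ.range.zero_mem
  | add x y hx hy => exact ψ.range.add_mem hx hy
  | tmul b s =>
    have hb : b ∈ Submodule.span A (g : Set B) := hg ▸ Submodule.mem_top
    induction hb using Submodule.span_induction with
    | mem x hx =>
      rw [show x ⊗ₜ[A] s = (x ⊗ₜ[A] (1 : S)) * algebraMap S (B ⊗[A] S) s by
        show _ = _ * ((1 : B) ⊗ₜ[A] s)
        simp]
      exact ψ.range.mul_mem (hψ _ (List.mem_map.2 ⟨⟨x, hx⟩, by simp, rfl⟩)) (ψ.range.algebraMap_mem s)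
    | zero => rw [TensorProduct.zero_tmul]; exact ψ.range.zero_mem
    | add x y _ _ hx hy => rw [TensorProduct.add_tmul]; exact ψ.range.add_mem hx hy
    | smul a x _ hx =>
      rw [← TensorProduct.smul_tmul', Algebra.smul_def]
      refine ψ.range.mul_mem ?_ hx
      rw [show algebraMap A (B ⊗[A] S) a = algebraMap S (B ⊗[A] S) (algebraMap A S a) by
        exact ((Algebra.TensorProduct.includeRight : S →ₐ[A] B ⊗[A] S).commutes a).symm]
      exact ψ.range.algebraMap_mem _

end Groth.PropsBasic.SplitUnion
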