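import Mathlib
import Groth.Agent.RefRank.ClosedPoints

/-!
# Stalks at generalizations; specializing to closed points
-/

universe u

open CategoryTheory AlgebraicGeometry TopologicalSpace

set_option backward.isDefEq.respectTransparency.types false

namespace Groth.PropsBasic

variable {X : Scheme.{u}}

/-- The stalk at a generalization is a localization of the stalk at a prime. -/
theorem exists_ringEquiv_localization_of_specializes {x y : X} (h : x ⤳ y) :
    ∃ (p : Ideal (X.presheaf.stalk y)) (_ : p.IsPrime),
      Nonempty (X.presheaf.stalk x ≃+* Localization.AtPrime p) := by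
  obtain ⟨_, ⟨V, hV, rfl⟩, hyV, -⟩ :=
    X.isBasis_affineOpens.exists_subset_of_mem_open (Set.mem_univ y) isOpen_univ
  have hxV : x ∈ (V : X.Opens) := h.mem_open V.2 hyV
  let px := (IsAffineOpen.primeIdealOf hV ⟨x, hxV⟩).asIdeal
  let py := (IsAffineOpen.primeIdealOf hV ⟨y, hyV⟩).asIdeal
  algebraize [(X.presheaf.germ V x hxV).hom, (X.presheaf.germ V y hyV).hom]
  have : IsLocalization.AtPrime (X.presheaf.stalk x) px :=
    IsAffineOpen.isLocalization_stalk hV ⟨x, hxV⟩
  have : IsLocalization.AtPrime (X.presheaf.stalk y) py :=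
    IsAffineOpen.isLocalization_stalk hV ⟨y, hyV⟩
  have hle : px ≤ py := by
    have := Topology.IsEmbedding.subtypeVal.isInducing.specializes_iff
      (x := (⟨x, hxV⟩ : V)) (y := ⟨y, hyV⟩) |>.1 h
    exact (PrimeSpectrum.le_iff_specializes _ _).2
      (this.map (IsAffineOpen.isoSpec hV).hom.continuous)
  let p := px.map (algebraMap Γ(X, V) (X.presheaf.stalk y))
  have hd : Disjoint (py.primeCompl : Set Γ(X, V)) px :=
    Set.disjoint_left.2 fun a ha ha' => ha (hle ha')
  have hp : p.IsPrime := IsLocalization.isPrime_of_isPrime_disjoint py.primeCompl _ px inferInstance hd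
  refine ⟨p, hp, ?_⟩
  have hc : p.comap (algebraMap Γ(X, V) (X.presheaf.stalk y)) = px :=
    IsLocalization.comap_map_of_isPrime_disjoint py.primeCompl _ inferInstance hd
  have h2 : IsLocalization.AtPrime (Localization.AtPrime p)
      (p.comap (algebraMap Γ(X, V) (X.presheaf.stalk y))) :=
    IsLocalization.isLocalization_isLocalization_atPrime_isLocalization py.primeCompl _ p
  simp only [hc] at h2
  exact ⟨(IsLocalization.algEquiv px.primeCompl _ _).toRingEquiv⟩

/-- In a locally Noetherian scheme every point specializes to a closed point. -/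
theorem exists_specializes_isClosed [IsLocallyNoetherian X] (x : X) :
    ∃ y : X, x ⤳ y ∧ IsClosed ({y} : Set X) := by
  obtain ⟨y, hy, hc⟩ := Groth.RefRank.exists_isClosed_singleton (isClosed_closure (s := {x}))
    ⟨x, subset_closure (Set.mem_singleton x)⟩
  exact ⟨y, specializes_iff_mem_closure.2 hy, hc⟩

end Groth.PropsBasic
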