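import Groth.Prelude.Def_CAlg
import Groth.Agent.Gorenstein.Regular
import Groth.Agent.EGA41Two.DimIntegral
import Mathlib.RingTheory.Localization.Finiteness
import Mathlib.RingTheory.LocalProperties.Reduced
import Mathlib.RingTheory.PrincipalIdealDomain
import Mathlib.LinearAlgebra.FreeModule.PID
import Mathlib.LinearAlgebra.Dual.Lemmas
import Mathlib.RingTheory.SimpleModule.InjectiveProjective

/-!
# Torsionless and reflexive modules: finite free reduced algebras over a PID, Gorenstein curves

Helper library (no milestone statements here).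
-/

set_option linter.style.haveILetI false

universe u

open CategoryTheory

namespace Groth.PropsBasic

open GrothGoren

section Torsionless

variable {S : Type u} [CommRing S] [IsNoetherianRing S]
variable {M : Type u} [AddCommGroup M] [Module S M] [Module.Finite S M]

theorem exists_injective_pi (h : Function.Injective (Module.Dual.eval S M)) :
    ∃ (n : ℕ) (f : M →ₗ[S] (Fin n → S)), Function.Injective f := by
  obtain ⟨n, g, hg⟩ := Module.Finite.exists_fin' S (Module.Dual S M)
  refine ⟨n, LinearMap.pi fun i => g (Pi.single i 1), ?_⟩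
  rw [← LinearMap.ker_eq_bot, LinearMap.ker_eq_bot']
  intro x hx
  apply h
  rw [map_zero]
  ext φ
  obtain ⟨c, rfl⟩ := hg φ
  have : Module.Dual.eval S M x ∘ₗ g = 0 :=
    LinearMap.pi_ext' fun i => LinearMap.ext_ring (congrFun hx i)
  exact LinearMap.congr_fun this c

end Torsionless

section PID

variable {Λ : Type u} [CommRing Λ] [IsDomain Λ] [IsPrincipalIdealRing Λ]
variable {S : Type u} [CommRing S] [Algebra Λ S] [Module.Finite Λ S]
variable {M : Type u} [AddCommGroup M] [Module S M] [Module Λ M] [IsScalarTower Λ S M]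
  [Module.Finite S M]

theorem free_of_torsionless [Module.Free Λ S] (h : Function.Injective (Module.Dual.eval S M)) :
    Module.Free Λ M := by
  haveI : IsNoetherianRing S := isNoetherian_of_tower Λ (isNoetherian_of_isNoetherianRing_of_finite Λ S)
  haveI : Module.Finite Λ M := Module.Finite.trans S M
  obtain ⟨n, f, hf⟩ := exists_injective_pi h
  haveI : Module.IsTorsionFree Λ M :=
    hf.moduleIsTorsionFree (f.restrictScalars Λ) (fun r m => (f.restrictScalars Λ).map_smul r m)
  infer_instance

theorem torsionless_of_free [IsReduced S] [Module.Free Λ M] :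
    Function.Injective (Module.Dual.eval S M) := by
  haveI : IsNoetherianRing S := isNoetherian_of_tower Λ (isNoetherian_of_isNoetherianRing_of_finite Λ S)
  let T := Algebra.algebraMapSubmonoid S (nonZeroDivisors Λ)
  let Q := Localization T
  letI : Algebra (FractionRing Λ) Q := localizationAlgebra (nonZeroDivisors Λ) S
  haveI : Module.Finite (FractionRing Λ) Q :=
    Module.Finite.of_isLocalizedModule (nonZeroDivisors Λ)
      (IsScalarTower.toAlgHom Λ S Q).toLinearMap
  haveI : IsArtinianRing Q := IsArtinianRing.of_finite (FractionRing Λ) Q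
  haveI : IsSemisimpleRing Q := IsArtinianRing.isSemisimpleRing_of_isReduced Q
  let V := LocalizedModule T M
  haveI : Module.Projective Q V := Module.projective_of_isSemisimpleRing Q V
  rw [← LinearMap.ker_eq_bot, LinearMap.ker_eq_bot']
  intro m hm
  by_contra hm0
  have hV : LocalizedModule.mkLinearMap T M m ≠ 0 := by
    intro h0
    obtain ⟨⟨t, l, hl, rfl⟩, ht⟩ := (IsLocalizedModule.eq_zero_iff T _).1 h0
    apply hm0
    have h2 : (algebraMap Λ S l) • m = 0 := ht
    rw [algebraMap_smul] at h2
    exact (smul_eq_zero.1 h2).resolve_left (nonZeroDivisors.ne_zero hl)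
  obtain ⟨φ, hφ⟩ : ∃ φ : Module.Dual Q V, φ (LocalizedModule.mkLinearMap T M m) ≠ 0 := by
    by_contra hcon
    push Not at hcon
    exact hV ((Module.forall_dual_apply_eq_zero_iff Q _).1 hcon)
  haveI : Module.FinitePresentation S M := Module.finitePresentation_of_finite S M
  obtain ⟨h, s, hs⟩ := Module.FinitePresentation.exists_lift_of_isLocalizedModule T
    (Algebra.linearMap S Q) ((φ.restrictScalars S) ∘ₗ LocalizedModule.mkLinearMap T M)
  have h1 : algebraMap S Q (h m) = (s : S) • φ (LocalizedModule.mkLinearMap T M m) :=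
    LinearMap.congr_fun hs m
  have h2 : h m = 0 := LinearMap.congr_fun hm h
  rw [h2, map_zero, Algebra.smul_def] at h1
  exact hφ ((IsLocalization.map_units Q s).mul_right_eq_zero.1 h1.symm)

theorem ringKrullDim_le_one [Module.Free Λ S] [Nontrivial S] : ringKrullDim S ≤ 1 := by
  haveI : Algebra.IsIntegral Λ S := Algebra.IsIntegral.of_finite Λ S
  have hinj : Function.Injective (algebraMap Λ S) := by
    rw [injective_iff_map_eq_zero]
    intro a ha
    obtain ⟨x, hx⟩ := exists_ne (0 : S)
    have : a • x = 0 := by rw [Algebra.smul_def, ha, zero_mul]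
    exact (smul_eq_zero.1 this).resolve_right hx
  rw [← Groth.EGA41Two.ringKrullDim_eq_of_isIntegral_of_injective hinj]
  exact Ring.krullDimLE_iff.1 inferInstance

end PID

section Reflexive

variable {S : Type u} [CommRing S]

theorem restrict_surjective {A B C : Type u} [AddCommGroup A] [Module S A] [AddCommGroup B]
    [Module S B] [AddCommGroup C] [Module S C] {f : A →ₗ[S] B} {g : B →ₗ[S] C}
    (hex : Function.Exact f g) (hf : Function.Injective f) (hg : Function.Surjective g)
    (hC : ExtZ S C S 1) (u : A →ₗ[S] S) : ∃ v : B →ₗ[S] S, v ∘ₗ f = u := by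
  obtain ⟨y, hy⟩ := Abelian.Ext.contravariant_sequence_exact₁ (seqCx_shortExact f g hex hf hg)
    (ModuleCat.of S S) (Abelian.Ext.mk₀ (ModuleCat.ofHom u)) (n₁ := 1) (by omega)
    (Subsingleton.elim (h := hC) _ _)
  obtain ⟨v, rfl⟩ := (Abelian.Ext.mk₀_bijective _ _).2 y
  rw [Abelian.Ext.mk₀_comp_mk₀] at hy
  exact ⟨v.hom, congrArg ModuleCat.Hom.hom ((Abelian.Ext.mk₀_bijective _ _).1 hy)⟩

theorem extZ_one_of_injective_pi (hS : InjLT S S 2) {M : Type u} [AddCommGroup M] [Module S M]
    {n : ℕ} (f : M →ₗ[S] (Fin n → S)) (hf : Function.Injective f) : ExtZ S M S 1 :=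
  extZ_contra_left (LinearMap.exact_map_mkQ_range f) hf (Submodule.mkQ_surjective _)
    extZ_of_projective (hS.extZ _ le_rfl)

/-- Over a ring of self-injective dimension at most one, finite torsionless modules are reflexive. -/
theorem isReflexive_of_torsionless [IsNoetherianRing S] (hS : InjLT S S 2) {M : Type u}
    [AddCommGroup M] [Module S M] [Module.Finite S M]
    (h : Function.Injective (Module.Dual.eval S M)) : Module.IsReflexive S M := by
  refine ⟨⟨h, fun ψ => ?_⟩⟩
  obtain ⟨n, ι, hι⟩ := exists_injective_pi h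
  have hExt := extZ_one_of_injective_pi hS ι hι
  obtain ⟨m, π, hπ⟩ := Module.Finite.exists_fin' S M
  let N := LinearMap.ker π
  have hex : Function.Exact N.subtype π := LinearMap.exact_subtype_ker_map π
  have hr : Function.Surjective N.subtype.dualMap := fun u => by
    obtain ⟨v, hv⟩ := restrict_surjective hex (Submodule.injective_subtype _) hπ hExt u
    exact ⟨v, hv⟩
  obtain ⟨k, g, hg⟩ := Module.Finite.exists_fin' S N
  let j : Module.Dual S N →ₗ[S] (Fin k → S) := LinearMap.pi fun i =>
    Module.Dual.eval S N (g (Pi.single i 1))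
  have hj : Function.Injective j := by
    rw [← LinearMap.ker_eq_bot, LinearMap.ker_eq_bot']
    intro u hu
    refine LinearMap.ext fun x => ?_
    obtain ⟨c, rfl⟩ := hg x
    have : u ∘ₗ g = 0 := LinearMap.pi_ext' fun i => LinearMap.ext_ring (congrFun hu i)
    exact LinearMap.congr_fun this c
  have hex2 : Function.Exact π.dualMap N.subtype.dualMap := by
    intro v
    constructor
    · intro hv
      have hle : LinearMap.ker π ≤ LinearMap.ker v := fun x hx =>
        LinearMap.congr_fun hv ⟨x, hx⟩
      refine ⟨(LinearMap.ker π).liftQ v hle ∘ₗ (π.quotKerEquivOfSurjective hπ).symm.toLinearMap,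
        LinearMap.ext fun x => ?_⟩
      have hx : (π.quotKerEquivOfSurjective hπ).symm (π x) = Submodule.Quotient.mk x := by
        rw [LinearEquiv.symm_apply_eq]
        rfl
      simp [LinearMap.dualMap_apply, hx]
    · rintro ⟨w, rfl⟩
      refine LinearMap.ext fun x => ?_
      show w (π x.1) = 0
      rw [show π x.1 = 0 from x.2, map_zero]
  obtain ⟨Ψ, hΨ⟩ := restrict_surjective hex2 (LinearMap.dualMap_injective_of_surjective hπ) hr
    (extZ_one_of_injective_pi hS j hj) ψ
  obtain ⟨x, hx⟩ := (Module.bijective_dual_eval S (Fin m → S)).2 Ψ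
  refine ⟨π x, LinearMap.ext fun f => ?_⟩
  have := LinearMap.congr_fun hΨ f
  rw [← hx] at this
  exact this

end Reflexive

end Groth.PropsBasic
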