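import Groth.Agent.PropsBasic.UnivHomeoTower

/-!
# Universal homeomorphisms from adjoining one root
-/

set_option autoImplicit false
set_option linter.style.haveILetI false
universe u
open CategoryTheory AlgebraicGeometry

namespace Groth.PropsBasic.UH

variable {A B : Type u} [CommRing A] [CommRing B] [Algebra A B]

theorem adjoin_root_singleton_eq_top (I : Ideal (Polynomial A)) :
    Algebra.adjoin A {x : Polynomial A ⧸ I | x ∈ [Ideal.Quotient.mk I Polynomial.X]} = ⊤ := by
  have h : {x : Polynomial A ⧸ I | x ∈ [Ideal.Quotient.mk I Polynomial.X]} =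
      Ideal.Quotient.mkₐ A I '' {Polynomial.X} := by simp
  rw [h, ← AlgHom.map_adjoin, Polynomial.adjoin_X, Algebra.map_top,
    AlgHom.range_eq_top]
  exact Ideal.Quotient.mk_surjective

theorem comap_surjective_of_lifts (φ : A →+* B)
    (h : ∀ (K : Type u) [Field K] [IsAlgClosed K] (g : A →+* K),
      ∃ G : B →+* K, G.comp φ = g) : Function.Surjective (PrimeSpectrum.comap φ) := by
  intro p
  obtain ⟨G, hG⟩ := h (AlgebraicClosure p.asIdeal.ResidueField)
    ((algebraMap _ _).comp (algebraMap A p.asIdeal.ResidueField))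
  haveI : (RingHom.ker G).IsPrime := RingHom.ker_isPrime G
  refine ⟨⟨RingHom.ker G, inferInstance⟩, PrimeSpectrum.ext ?_⟩
  rw [PrimeSpectrum.comap_asIdeal, RingHom.comap_ker, hG,
    RingHom.ker_comp_of_injective _ (algebraMap p.asIdeal.ResidueField (AlgebraicClosure p.asIdeal.ResidueField)).injective,
    Ideal.ker_algebraMap_residueField]

/-- Valid singleton. -/
theorem valid_singleton {P : Subalgebra A B → B → Prop}
    (hP : ∀ C D : Subalgebra A B, C ≤ D → ∀ x, P C x → P D x) {x : B} (h : P ⊥ x) :
    Valid P [x] := by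
  intro i
  have hx : [x].get i = x := List.mem_singleton.mp (List.get_mem _ i)
  rw [hx]
  exact hP _ _ bot_le _ h

end Groth.PropsBasic.UH
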