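import Groth.Agent.PropsBasic.UnivHomeoTower

/-!
# Filtered colimits and universal homeomorphisms of affine schemes
-/

set_option autoImplicit false
set_option linter.style.haveILetI false
universe u
open CategoryTheory AlgebraicGeometry

namespace Groth.PropsBasic.UH

section Family

variable {A B : Type u} [CommRing A] [CommRing B] {J : Type u} {Bj : J → Type u}
  [∀ j, CommRing (Bj j)] (f : ∀ j, A →+* Bj j) (g : ∀ j, Bj j →+* B) {φ : A →+* B}
  (hg : ∀ j, (g j).comp (f j) = φ) (hsurj : ∀ b, ∃ j x, g j x = b)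

include hg hsurj

theorem isIntegral_of_family (h : ∀ j, (f j).IsIntegral) : φ.IsIntegral := by
  intro b
  obtain ⟨j, x, rfl⟩ := hsurj b
  obtain ⟨P, hP, hP'⟩ := h j x
  refine ⟨P, hP, ?_⟩
  rw [← hg j, ← Polynomial.hom_eval₂, hP', map_zero]

theorem ui_of_family (h : ∀ j, UI (f j)) : UI φ := by
  intro K _ g₁ g₂ e
  ext b
  obtain ⟨j, x, rfl⟩ := hsurj b
  exact RingHom.congr_fun (h j K (g₁.comp (g j)) (g₂.comp (g j))
    (by rw [RingHom.comp_assoc, RingHom.comp_assoc, hg j, e])) x

theorem rt_of_family (h : ∀ j, RT (f j)) : RT φ := by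
  intro q hq b
  obtain ⟨j, x, rfl⟩ := hsurj b
  obtain ⟨a, s, hs, hm⟩ := h j (q.comap (g j)) (Ideal.IsPrime.comap _) x
  rw [Ideal.mem_comap, ← RingHom.comp_apply, hg j] at hs
  rw [Ideal.mem_comap, map_sub, map_mul, ← RingHom.comp_apply, hg j, ← RingHom.comp_apply, hg j]
    at hm
  exact ⟨a, s, hs, hm⟩

end Family

variable (A : CommRingCat.{u}) {J : Type u} [SmallCategory J] [IsFiltered J]
  (F : J ⥤ Under A) (c : Limits.Cocone F) (hc : Limits.IsColimit c)

attribute [local instance] IsFiltered.isConnected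

/-- The colimit cocone of underlying types. -/
noncomputable def isColimitForget :
    Limits.IsColimit ((Under.forget A ⋙ CategoryTheory.forget CommRingCat.{u}).mapCocone c) :=
  Limits.isColimitOfPreserves (Under.forget A ⋙ CategoryTheory.forget CommRingCat.{u}) hc

include hc

theorem colimit_jointly_surjective (b : c.pt.right) : ∃ j x, (c.ι.app j).right x = b := by
  obtain ⟨j, x, hx⟩ := Limits.Types.jointly_surjective_of_isColimit (isColimitForget A F c hc) b
  exact ⟨j, x, hx⟩

theorem comap_surjective_of_colimit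
    (h : ∀ j, Function.Surjective (PrimeSpectrum.comap (F.obj j).hom.hom)) :
    Function.Surjective (PrimeSpectrum.comap c.pt.hom.hom) := by
  intro p
  have hw : ∀ j, (c.ι.app j).right.hom.comp (F.obj j).hom.hom = c.pt.hom.hom := fun j => by
    have := congr($(Under.w (c.ι.app j)).hom)
    rwa [CommRingCat.hom_comp] at this
  have hF : ∀ {i j : J} (t : i ⟶ j),
      (F.map t).right.hom.comp (F.obj i).hom.hom = (F.obj j).hom.hom := fun t => by
    have := congr($(Under.w (F.map t)).hom)
    rwa [CommRingCat.hom_comp] at this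
  refine Set.mem_range.mp ((PrimeSpectrum.mem_range_comap_iff _).mpr (le_antisymm ?_ Ideal.le_comap_map))
  intro s hs
  have key : ∀ b ∈ p.asIdeal.map c.pt.hom.hom, ∃ j, ∃ x ∈ p.asIdeal.map (F.obj j).hom.hom,
      (c.ι.app j).right x = b := by
    intro b hb
    induction hb using Submodule.span_induction with
    | mem b hb =>
      obtain ⟨a, ha, rfl⟩ := hb
      let j : J := Classical.arbitrary J
      exact ⟨j, _, Ideal.mem_map_of_mem _ ha, RingHom.congr_fun (hw j) a⟩
    | zero => exact ⟨Classical.arbitrary J, 0, Ideal.zero_mem _, map_zero _⟩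
    | add b b' _ _ hb hb' =>
      obtain ⟨j, x, hx, rfl⟩ := hb
      obtain ⟨j', x', hx', rfl⟩ := hb'
      refine ⟨IsFiltered.max j j', (F.map (IsFiltered.leftToMax j j')).right x +
        (F.map (IsFiltered.rightToMax j j')).right x', Ideal.add_mem _ ?_ ?_, ?_⟩
      · have := Ideal.mem_map_of_mem (F.map (IsFiltered.leftToMax j j')).right.hom hx
        rwa [Ideal.map_map, hF] at this
      · have := Ideal.mem_map_of_mem (F.map (IsFiltered.rightToMax j j')).right.hom hx'
        rwa [Ideal.map_map, hF] at this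
      · rw [map_add, ← ConcreteCategory.comp_apply, ← ConcreteCategory.comp_apply,
          ← Under.comp_right, ← Under.comp_right, c.w, c.w]
    | smul r b _ hb =>
      obtain ⟨j, x, hx, rfl⟩ := hb
      obtain ⟨i, y, rfl⟩ := colimit_jointly_surjective A F c hc r
      refine ⟨IsFiltered.max j i, (F.map (IsFiltered.rightToMax j i)).right y *
        (F.map (IsFiltered.leftToMax j i)).right x, Ideal.mul_mem_left _ _ ?_, ?_⟩
      · have := Ideal.mem_map_of_mem (F.map (IsFiltered.leftToMax j i)).right.hom hx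
        rwa [Ideal.map_map, hF] at this
      · rw [map_mul, ← ConcreteCategory.comp_apply, ← ConcreteCategory.comp_apply,
          ← Under.comp_right, ← Under.comp_right, c.w, c.w]
        rfl
  obtain ⟨j, x, hx, hxs⟩ := key _ hs
  have : (c.ι.app j).right x = (c.ι.app j).right ((F.obj j).hom s) := by
    rw [hxs]; exact (RingHom.congr_fun (hw j) s).symm
  obtain ⟨k, t, t', htt⟩ := (Limits.Types.FilteredColimit.isColimit_eq_iff _ (isColimitForget A F c hc)).mp this
  obtain ⟨q, hq⟩ := h k p
  have hm : (F.obj k).hom.hom s ∈ p.asIdeal.map (F.obj k).hom.hom := by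
    have h1 := Ideal.mem_map_of_mem (F.map t).right.hom hx
    rw [Ideal.map_map, hF] at h1
    have h2 : (F.map t).right x = (F.map t').right ((F.obj j).hom s) := htt
    have h4 := RingHom.congr_fun (hF t') s
    rw [RingHom.comp_apply] at h4
    rw [← h4]
    exact h2 ▸ h1
  have h3 : p.asIdeal.map (F.obj k).hom.hom ≤ q.asIdeal :=
    Ideal.map_le_iff_le_comap.mpr (le_of_eq (congrArg PrimeSpectrum.asIdeal hq).symm)
  rw [← hq]
  exact h3 hm

end Groth.PropsBasic.UH
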