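import Groth.Agent.PropsBasic.UnivHomeoTower

/-!
# Suprema of subalgebras inducing universal homeomorphisms
-/

set_option autoImplicit false
set_option linter.style.haveILetI false
universe u
open CategoryTheory AlgebraicGeometry

namespace Groth.PropsBasic.UH

variable {A B : Type u} [CommRing A] [CommRing B] [Algebra A B]

theorem sSup_le_of_forall {S : Set (Subalgebra A B)} {T : Subalgebra A (sSup S : Subalgebra A B)}
    (h : ∀ D (hD : D ∈ S) (d : D), Subalgebra.inclusion (le_sSup hD) d ∈ T)
    (x : (sSup S : Subalgebra A B)) : x ∈ T := by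
  have : (sSup S : Subalgebra A B) ≤ T.map (sSup S : Subalgebra A B).val :=
    sSup_le fun D hD d hd => ⟨_, h D hD ⟨d, hd⟩, rfl⟩
  obtain ⟨y, hy, hyx⟩ := this x.2
  rwa [show x = y from Subtype.ext hyx.symm]

theorem uh_sSup (S : Set (Subalgebra A B))
    (h : ∀ D ∈ S, (algebraMap A D).IsIntegral ∧ UI (algebraMap A D)) :
    (algebraMap A (sSup S : Subalgebra A B)).IsIntegral ∧
      UI (algebraMap A (sSup S : Subalgebra A B)) := by
  refine ⟨fun x => ?_, fun K _ g₁ g₂ e => RingHom.ext fun x => ?_⟩
  · exact sSup_le_of_forall (T := integralClosure A (sSup S : Subalgebra A B))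
      (fun D hD d => (IsIntegral.map (Subalgebra.inclusion (le_sSup hD)) ((h D hD).1 d) :)) x
  · refine mem_eqSub.mp (sSup_le_of_forall (T := eqSub A g₁ g₂ e) (fun D hD d => ?_) x)
    refine mem_eqSub.mpr (RingHom.congr_fun ((h D hD).2 K
      (g₁.comp (Subalgebra.inclusion (le_sSup hD)).toRingHom)
      (g₂.comp (Subalgebra.inclusion (le_sSup hD)).toRingHom) ?_) d)
    exact RingHom.ext fun a => RingHom.congr_fun e a

theorem rt_sSup (S : Set (Subalgebra A B)) (h : ∀ D ∈ S, RT (algebraMap A D)) :
    RT (algebraMap A (sSup S : Subalgebra A B)) := by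
  intro q hq x
  refine sSup_le_of_forall (T := rtAlg A q) (fun D hD d => ?_) x
  obtain ⟨a, s, hs, hm⟩ := h D hD (q.comap (Subalgebra.inclusion (le_sSup hD)).toRingHom)
    (Ideal.IsPrime.comap _) d
  rw [Ideal.mem_comap] at hs hm
  exact ⟨a, s, hs, by simpa using hm⟩

theorem uh_range {C : Type u} [CommRing C] [Algebra A C] (g : C →ₐ[A] B)
    (hi : (algebraMap A C).IsIntegral) (hu : UI (algebraMap A C)) :
    (algebraMap A g.range).IsIntegral ∧ UI (algebraMap A g.range) := by
  have e : g.rangeRestrict.toRingHom.comp (algebraMap A C) = algebraMap A g.range :=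
    g.rangeRestrict.comp_algebraMap
  refine ⟨fun y => ?_, e ▸ hu.comp (UI.of_surjective g.rangeRestrict_surjective)⟩
  obtain ⟨c, rfl⟩ := g.rangeRestrict_surjective y
  exact IsIntegral.map g.rangeRestrict (hi c)

theorem rt_range {C : Type u} [CommRing C] [Algebra A C] (g : C →ₐ[A] B)
    (hr : RT (algebraMap A C)) : RT (algebraMap A g.range) := by
  have e : g.rangeRestrict.toRingHom.comp (algebraMap A C) = algebraMap A g.range :=
    g.rangeRestrict.comp_algebraMap
  exact e ▸ hr.comp (RT.of_surjective g.rangeRestrict_surjective)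

end Groth.PropsBasic.UH
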