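import Groth.Prelude.Def_FlatCA
import Groth.Agent.Calg5.WeakAss
import Mathlib.RingTheory.Unramified.LocalStructure
import Mathlib.RingTheory.Localization.BaseChange
import Mathlib.RingTheory.LocalRing.Module
import Mathlib.RingTheory.Ideal.GoingUp
import Mathlib.RingTheory.TensorProduct.Quotient

/-!
Weakly associated primes along flat quasi-finite and finite algebras.
-/

set_option autoImplicit false
set_option linter.style.haveILetI false
universe u

open TensorProduct Submodule
open scoped Pointwise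

namespace Groth.WeakAssFinite

open Groth.Calg5

variable {A B : Type u} [CommRing A] [CommRing B] [Algebra A B]

/-- A weakly associated prime of `M` gives those lying over it, for flat quasi-finite algebras. -/
theorem mem_weakAss_tensor_of [Module.Flat A B] {M : Type u} [AddCommGroup M] [Module A M]
    {p : Ideal A} [p.IsPrime] {t : Ideal B} [t.IsPrime] [t.LiesOver p] [Algebra.QuasiFiniteAt A t]
    (h : p ∈ FlatCA.weakAss A M) : t ∈ FlatCA.weakAss B (B ⊗[A] M) := by
  obtain ⟨-, m, hm⟩ := mem_weakAss_iff.1 h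
  have hp := isWA_iff_mem_minimalPrimes.1 hm
  set I := (span A {m}).annihilator with hI
  have hker : ∀ b : B, b • ((1 : B) ⊗ₜ[A] m) = 0 → b ∈ I.map (algebraMap A B) := by
    intro b hb
    let g : (A ⧸ I) →ₗ[A] M := Submodule.liftQ I (LinearMap.toSpanSingleton A M m)
      fun a ha => mem_ann.1 ha
    have hg : Function.Injective g := by
      rw [← LinearMap.ker_eq_bot]
      refine Submodule.ker_liftQ_eq_bot _ _ _ fun a ha => mem_ann.2 ?_
      simpa using ha
    have h1 : b ⊗ₜ[A] (Submodule.Quotient.mk (1 : A) : A ⧸ I) = 0 := by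
      apply Module.Flat.lTensor_preserves_injective_linearMap (M := B) g hg
      rw [map_zero, LinearMap.lTensor_tmul]
      show b ⊗ₜ[A] ((1 : A) • m) = 0
      rw [one_smul, show b ⊗ₜ[A] m = b • ((1 : B) ⊗ₜ[A] m) by rw [smul_tmul', smul_eq_mul, mul_one]]
      exact hb
    have h2 := congrArg (TensorProduct.tensorQuotEquivQuotSMul B I) h1
    rw [map_zero] at h2
    erw [TensorProduct.tensorQuotEquivQuotSMul_tmul_mk] at h2
    rw [one_smul, Submodule.Quotient.mk_eq_zero, Ideal.smul_top_eq_map] at h2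
    exact h2
  refine mem_weakAss_of_isWA (m := (1 : B) ⊗ₜ[A] m) (isWA_iff_mem_minimalPrimes.2 ?_)
  refine ⟨⟨inferInstance, fun b hb => ?_⟩, fun Q hQ hQt => ?_⟩
  · refine (Ideal.map_le_iff_le_comap.2 ?_) (hker b (mem_ann.1 hb))
    rw [← Ideal.under_def, ← Ideal.over_def t p]
    exact hp.1.2
  · haveI := hQ.1
    have hIQ : I ≤ Q.comap (algebraMap A B) := fun a ha => hQ.2 (mem_ann.2 (by
      rw [algebraMap_smul, smul_tmul', ← mul_one (a • (1 : B)), smul_mul_assoc, one_mul, smul_tmul,
        mem_ann.1 ha, tmul_zero]))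
    have hle : Q.comap (algebraMap A B) ≤ p := (Ideal.comap_mono hQt).trans
      (by rw [← Ideal.under_def, ← Ideal.over_def t p])
    have heq : Q.under A = t.under A := by
      rw [← Ideal.over_def t p]
      exact le_antisymm hle (hp.2 ⟨Ideal.IsPrime.comap _, hIQ⟩ hle)
    exact (Algebra.QuasiFiniteAt.eq_of_le_of_under_eq (R := A) hQt heq).ge

/-- Weakly associated primes push forward along finite algebras. -/
theorem mem_weakAss_of_finite [Module.Finite A B] {N : Type u} [AddCommGroup N] [Module B N]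
    [Module A N] [IsScalarTower A B N] {p : Ideal A} [p.IsPrime] {t : Ideal B} [t.IsPrime]
    [ht : t.LiesOver p] (h : t ∈ FlatCA.weakAss B N) : p ∈ FlatCA.weakAss A N := by
  classical
  obtain ⟨-, x, hx⟩ := mem_weakAss_iff.1 h
  set S := (Algebra.QuasiFinite.finite_primesOver (S := B) p).toFinset.erase t with hS
  obtain ⟨a, hat, ha⟩ : ∃ a ∈ t, ∀ q ∈ S, a ∉ q := by
    by_contra hcon
    push Not at hcon
    have hsub : (t : Set B) ⊆ ⋃ q ∈ (↑S : Set (Ideal B)), (q : Set B) := fun a ha => by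
      obtain ⟨q, hq, haq⟩ := hcon a ha
      exact Set.mem_biUnion hq haq
    obtain ⟨q, hq, htq⟩ := (Ideal.subset_union_prime (f := id) t t fun q hq _ _ =>
      ((Set.Finite.mem_toFinset _).1 (Finset.mem_of_mem_erase hq)).1).1 hsub
    have hqp := (Set.Finite.mem_toFinset _).1 (Finset.mem_of_mem_erase hq)
    haveI := hqp.1
    refine (Finset.ne_of_mem_erase hq) (Algebra.QuasiFinite.eq_of_le_of_under_eq (R := A) t q htq ?_).symm
    exact (Ideal.over_def t p).symm.trans hqp.2.1
  obtain ⟨g, hg, n, hn⟩ := hx.2 a hat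
  have hz : IsWA t (g • x) := hx.smul hg
  have hanz : a ^ n • (g • x) = 0 := by rw [smul_smul, mul_comm]; exact hn
  set z := g • x
  refine mem_weakAss_of_isWA (m := z) (isWA_iff_mem_minimalPrimes.2 ?_)
  have hJt := isWA_iff_mem_minimalPrimes.1 hz
  rw [ann_restrict (R := A) (S := B) z]
  set J := (span B {z}).annihilator
  refine ⟨⟨inferInstance, ?_⟩, fun P hP hPp => ?_⟩
  · rw [Ideal.over_def t p]
    exact Ideal.comap_mono hJt.1.2
  · haveI := hP.1
    obtain ⟨Q, hJQ, hQ, hQP⟩ := Ideal.exists_ideal_over_prime_of_isIntegral P J hP.2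
    obtain ⟨Q', hQQ', hQ', hQ'p⟩ := Ideal.exists_ideal_over_prime_of_isIntegral p Q (hQP.trans_le hPp)
    have hQ't : Q' = t := by
      by_contra hne
      have hmem : Q' ∈ S := Finset.mem_erase.2 ⟨hne, (Set.Finite.mem_toFinset _).2 ⟨hQ', ⟨hQ'p.symm⟩⟩⟩
      exact ha Q' hmem (hQ'.mem_of_pow_mem n (hQQ' (hJQ (mem_ann.2 hanz))))
    subst hQ't
    have hQt : Q' ≤ Q := hJt.2 ⟨hQ, hJQ⟩ hQQ'
    have : Q = Q' := le_antisymm hQQ' hQt
    subst this
    exact (hQ'p.symm.trans hQP).le

/-- For finite flat algebras, the prime below a weakly associated prime of `B ⊗ M` is one of `M`. -/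
theorem mem_weakAss_of_tensor [Module.Finite A B] [Module.Flat A B] {M : Type u} [AddCommGroup M]
    [Module A M] {p : Ideal A} [p.IsPrime] {t : Ideal B} [t.IsPrime] [t.LiesOver p]
    (h : t ∈ FlatCA.weakAss B (B ⊗[A] M)) : p ∈ FlatCA.weakAss A M := by
  classical
  have h1 : p ∈ FlatCA.weakAss A (B ⊗[A] M) := mem_weakAss_of_finite h
  have hd : Disjoint (p.primeCompl : Set A) (p : Set A) :=
    Set.disjoint_left.2 fun a ha hap => ha hap
  let Ap := Localization.AtPrime p
  rw [mem_weakAss_localized_iff p.primeCompl (TensorProduct.mk A Ap (B ⊗[A] M) 1) hd] at h1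
  rw [mem_weakAss_localized_iff p.primeCompl (TensorProduct.mk A Ap M 1) hd]
  haveI : Module.Free Ap (Ap ⊗[A] B) := Module.free_of_flat_of_isLocalRing
  let β := Module.Free.chooseBasis Ap (Ap ⊗[A] B)
  let e : Ap ⊗[A] (B ⊗[A] M) ≃ₗ[Ap] (Module.Free.ChooseBasisIndex Ap (Ap ⊗[A] B) →₀ Ap ⊗[A] M) :=
    (AlgebraTensorModule.distribBaseChange A Ap B M).trans (TensorProduct.equivFinsuppOfBasisLeft β)
  obtain ⟨-, z, hz1, hz2⟩ := mem_weakAss_iff.1 h1
  have key : ∃ i, ∀ a : A, a • e z i = 0 → a ∈ p := by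
    by_contra hcon
    push Not at hcon
    choose s hs hsp using hcon
    refine Ideal.IsPrime.prod_mem_iff.not.2 (fun ⟨i, _, hi⟩ => hsp i hi)
      (hz1 (∏ i ∈ (e z).support, s i) ?_)
    refine e.injective ?_
    rw [show e ((∏ i ∈ (e z).support, s i) • z) = (∏ i ∈ (e z).support, s i) • e z from
      (e.restrictScalars A).map_smul _ _, map_zero]
    ext i
    rw [Finsupp.smul_apply, Finsupp.zero_apply]
    by_cases hi : i ∈ (e z).support
    · obtain ⟨c, hc⟩ := Finset.dvd_prod_of_mem s hi
      rw [hc, mul_comm, mul_smul, hs i, smul_zero]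
    · rw [Finsupp.notMem_support_iff.1 hi, smul_zero]
  obtain ⟨i, hi⟩ := key
  refine mem_weakAss_of_isWA (m := e z i) ⟨hi, fun a ha => ?_⟩
  obtain ⟨s, hs, n, hn⟩ := hz2 a ha
  refine ⟨s, hs, n, ?_⟩
  rw [← Finsupp.smul_apply, show (s * a ^ n) • e z = e ((s * a ^ n) • z) from
    ((e.restrictScalars A).map_smul _ _).symm, hn, map_zero, Finsupp.zero_apply]

/-- Invariance under localisation of the algebra. -/
theorem mem_weakAss_tensor_iff_of_isLocalization (S : Type u) [CommRing S] [Algebra B S] [Algebra A S]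
    [IsScalarTower A B S] (T : Submonoid B) [IsLocalization T S] {M : Type u} [AddCommGroup M]
    [Module A M] (t : Ideal S) [t.IsPrime] :
    t ∈ FlatCA.weakAss S (S ⊗[A] M) ↔ t.comap (algebraMap B S) ∈ FlatCA.weakAss B (B ⊗[A] M) := by
  have hd : Disjoint (T : Set B) (t.comap (algebraMap B S) : Set B) :=
    (IsLocalization.disjoint_under_iff T S t).2 (Ideal.IsPrime.ne_top inferInstance)
  rw [mem_weakAss_localized_iff T
    (AlgebraTensorModule.rTensor A M (Algebra.linearMap B S)) hd,
    weakAss_eq_image_of_isLocalization (R := B) (S := S) T]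
  constructor
  · exact fun h => ⟨t, h, rfl⟩
  · rintro ⟨Q, hQ, hQt⟩
    have hle : ∀ {P P' : Ideal S}, P.comap (algebraMap B S) = P'.comap (algebraMap B S) → P = P' :=
      fun {P P'} hPP' => by
        rw [← IsLocalization.map_under T S P, ← IsLocalization.map_under T S P']
        exact congrArg _ hPP'
    exact hle hQt ▸ hQ

end Groth.WeakAssFinite
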